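import Cfsg.Agent.OddOrder.PF12.Facts

/-!
# The results of the local analysis used in the final contradiction (Peterfalvi 10-14)
-/

set_option autoImplicit false
set_option linter.unusedSectionVars false

namespace CfsgLib.OddOrder

open Cfsg
open Subgroup (centralizer normalizer)

universe u

/-- `BG16Facts` together with the further results of BG 14-16 that the endgame uses. -/
structure FTFacts (G : Type u) [Group G] : Prop extends BG16Facts G where
  /-- `M_F = M_σ` unless `U = 1` (part of S1357). -/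
  fitting_sigma : ∀ M K U : Subgroup G, IsCoatom M → IsSigmaDecomposition M K U →
    fittingHallOf M ≠ sigmaCore M → U = ⊥
  /-- The Sylow subgroups of a complement of `M_F` (part of S1390). -/
  complSylow : ∀ M U : Subgroup G, IsCoatom M → IsTypeI M →
    IsComplIn (fittingHallOf M) U M →
      ∀ p : ℕ, p.Prime → ∀ P : Sylow p U,
        IsMulCommutative (P : Subgroup U) ∧ PRankLE p 2 (P : Subgroup U)
  /-- Every prime divisor of `|G|` is in some `σ(M)` (part of S1378). -/
  sigma_cover : ∀ p : ℕ, p.Prime → p ∣ Nat.card G → ∃ M : Subgroup G, IsCoatom M ∧ p ∈ sigma M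
  /-- A supporting subgroup of Type II supports a Frobenius group (part of S1391). -/
  supporting_II : ∀ M : Subgroup G, IsCoatom M → ∀ x ∈ supportA M,
    ¬ centralizer ({x} : Set G) ≤ M → ∀ L : Subgroup G, IsCoatom L →
      centralizer ({x} : Set G) ≤ L → IsOfTypeII L →
        ∃ E : Subgroup ↥M, IsFrobeniusComplement E ∧
          frobeniusKernel E = ((fittingHall ↥M : Subgroup ↥M) : Set ↥M)
  /-- The sets `M̃` of non-conjugate maximal subgroups are disjoint (S1379). -/
  tilde_disjoint : ∀ M N : Subgroup G, IsCoatom M → IsCoatom N →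
    (∀ g : G, N ≠ M.map (MulAut.conj g).toMonoidHom) →
    tildeOf M ((sigmaCore M : Set G) \ {1}) ∩ tildeOf N ((sigmaCore N : Set G) \ {1}) = ∅
  /-- With `κ` empty everywhere the sets `M̃` cover `G#` (S1379). -/
  tilde_cover : (∀ M : Subgroup G, IsCoatom M → kappa M = ∅) →
    ∀ g : G, g ≠ 1 → ∃ M : Subgroup G, IsCoatom M ∧ g ∈ tildeOf M ((sigmaCore M : Set G) \ {1})
  /-- The covering by the sets `Ñ` and the conjugates of `Ẑ` (S1379). -/
  tilde_zhat : ∀ M K U : Subgroup G, IsCoatom M → IsSigmaDecomposition M K U → K ≠ ⊥ →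
    (∀ g : G, g ≠ 1 → (∃ N : Subgroup G, IsCoatom N ∧ g ∈ tildeOf N ((sigmaCore N : Set G) \ {1})) ∨
        ∃ y : G, ∃ z ∈ ((↑(K ⊔ (sigmaCore M ⊓ centralizer (K : Set G))) : Set G) \
          ((K : Set G) ∪ ↑(sigmaCore M ⊓ centralizer (K : Set G)))), g = y * z * y⁻¹) ∧
      ∀ N : Subgroup G, IsCoatom N → ∀ y : G,
        ∀ z ∈ ((↑(K ⊔ (sigmaCore M ⊓ centralizer (K : Set G))) : Set G) \
          ((K : Set G) ∪ ↑(sigmaCore M ⊓ centralizer (K : Set G)))),
          y * z * y⁻¹ ∉ tildeOf N ((sigmaCore N : Set G) \ {1})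
  /-- For `U = 1` the group `K*` has prime order (S1373). -/
  primeKstar : ∀ M K U : Subgroup G, IsCoatom M → IsSigmaDecomposition M K U → K ≠ ⊥ → U = ⊥ →
    (Nat.card ↥(sigmaCore M ⊓ centralizer (K : Set G))).Prime
  /-- The configuration of two maximal subgroups of type P (S1385). -/
  exceptional : (∀ M : Subgroup G, IsCoatom M → IsTypeI M) ∨
    ∃ W₁ W₂ S T : Subgroup G, IsSelfNormalizingCyclic W₁ W₂ ∧ IsCoatom S ∧ IsCoatom T ∧
      IsComplIn ⁅S, S⁆ W₁ S ∧ IsComplIn ⁅T, T⁆ W₂ T ∧ S ⊓ T = W₁ ⊔ W₂ ∧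
      (IsOfTypeII S ∨ IsOfTypeII T) ∧
      (IsOfTypeII S ∨ IsOfTypeIII S ∨ IsOfTypeIV S ∨ IsOfTypeV S) ∧
      (IsOfTypeII T ∨ IsOfTypeIII T ∨ IsOfTypeIV T ∨ IsOfTypeV T) ∧
      ∀ M : Subgroup G, IsCoatom M → IsTypeI M ∨ ∃ g : G,
        M = S.map (MulAut.conj g).toMonoidHom ∨ M = T.map (MulAut.conj g).toMonoidHom

/-- The facts of section 12, given the result on the subgroups of type P. -/
theorem FTFacts.toPF12 {G : Type u} [Group G] (F : FTFacts G)
    (hP : ∀ L W₁ U W₂ : Subgroup G, IsCoatom L → IsTypePWith L W₁ U W₂ → ¬ IsOfTypeII L →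
      IsMulCommutative U ∧ (Nat.card W₁).Prime ∧ (Nat.card W₂).Prime ∧
        Nat.card W₂ < Nat.card W₁ ∧ IsElementaryAbelian (Nat.card W₂) (fittingHallOf L) ∧
        Nat.card (fittingHallOf L) = Nat.card W₂ ^ Nat.card W₁ ∧
        U ⊓ centralizer (fittingHallOf L : Set G) = ⊥) : PF12Facts G :=
  { F with typeP := hP }

end CfsgLib.OddOrder
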