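import Cfsg.Agent.OddOrder.PF10.Pair
import Cfsg.Agent.OddOrder.PF12.Results

/-!
# A pair of subgroups of type P exists

If every maximal subgroup were of Type I then the hypothesis of Peterfalvi section 12 on the
subgroups of type P would hold vacuously, so (12.17) applies.
-/

set_option autoImplicit false

namespace CfsgLib.OddOrder

open Cfsg

universe u

variable {G : Type u} [Group G] [Fintype G]

/-- Not every maximal subgroup is of Type I. -/
theorem FTFacts.not_all_typeI (hG : IsMinSimpleOddOrder G) (F : FTFacts G) :
    ¬ ∀ M : Subgroup G, IsCoatom M → IsTypeI M := fun hall => by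
  obtain ⟨M, hM, hnI⟩ := (F.toPF12 fun L _ _ _ hL hP _ =>
    (F.not_I_of_data hG hL hP (hall L hL)).elim).exists_not_typeI' hG F.tilde_cover
  exact hnI (hall M hM)

/-- There is a pair of subgroups of type P. -/
theorem FTFacts.exists_pair' (hG : IsMinSimpleOddOrder G) (F : FTFacts G) :
    ∃ S T W₁ U W₂ V : Subgroup G, FTPair S T W₁ U W₂ V :=
  (F.exists_pair hG).resolve_left (F.not_all_typeI hG)

end CfsgLib.OddOrder
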