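import Cfsg.Agent.OddOrder.PF10.DadeTools
import Cfsg.Agent.Coherence.Induced
import Cfsg.Agent.Coherence.Irr

/-!
# The mean of `θ(1) (θ(1) ζ - Ind θ)` over a stable set of irreducible characters

The mass argument of Peterfalvi (10.9) and section 14: a signed irreducible `X` with
`⟨X, τ (θ(1) ζ - Ind θ)⟩ = θ(1)` carries all but `|L : K| / Σ θ(1)²` of its norm on the support.
-/

set_option autoImplicit false
set_option linter.style.haveILetI false
set_option linter.unusedSectionVars false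

namespace CfsgLib.OddOrder

open Cfsg CfsgLib.Characters CfsgLib.Coherence CfsgLib.OddOrderChar
open scoped ComplexConjugate

universe u

variable {G : Type u} [Group G] [Fintype G] {A : Set G} {L : Subgroup G} [Fintype L]
  {H : G → Subgroup G} (K : Subgroup ↥L) [K.Normal]

noncomputable local instance fintypeSubMean (S : Subgroup ↥L) : Fintype S := Fintype.ofFinite S

/-- Restriction of the weighted sum of the induced characters of a stable set. -/
theorem res_sum_ind {Θ : Finset (↥K → ℂ)} (hst : ∀ θ ∈ Θ, ∀ g : ↥L, conjBy K θ g ∈ Θ) (h : ↥K) :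
    ∑ θ ∈ Θ, θ 1 * indFun K θ h = (K.index : ℂ) * ∑ θ ∈ Θ, θ 1 * θ h := by
  classical
  have hg : ∀ g : ↥L, ∑ θ ∈ Θ, θ 1 * conjBy K θ g h = ∑ θ ∈ Θ, θ 1 * θ h := by
    intro g
    refine Finset.sum_bij (fun θ _ => conjBy K θ g) (fun θ hθ => hst θ hθ g)
      (fun a _ b _ e => conjBy_injective K g e) (fun b hb => ⟨conjBy K b g⁻¹, hst b hb g⁻¹, ?_⟩)
      fun θ _ => by rw [Coherence.conjBy_one_apply]
    rw [conjBy_mul, inv_mul_cancel, conjBy_one]
  simp only [indFun_normal_apply, Finset.mul_sum]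
  rw [Finset.sum_comm]
  rw [← Finset.mul_sum]
  calc ∑ g : ↥L, ∑ θ ∈ Θ, θ 1 * ((Nat.card K : ℂ)⁻¹ * conjBy K θ g h)
      = ∑ g : ↥L, (Nat.card K : ℂ)⁻¹ * ∑ θ ∈ Θ, θ 1 * θ h :=
        Finset.sum_congr rfl fun g _ => by
          rw [← hg g, Finset.mul_sum]
          exact Finset.sum_congr rfl fun θ _ => by ring
    _ = (K.index : ℂ) * ∑ θ ∈ Θ, θ 1 * θ h := by
        rw [Finset.sum_const, Finset.card_univ, nsmul_eq_mul, Fintype.card_eq_nat_card,
          ← K.index_mul_card, Nat.cast_mul, mul_assoc, mul_inv_cancel_left₀ natCard_ne_zero]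

/-- `‖Σ θ(1) Ind θ‖² = |L : K| Σ θ(1)²`. -/
theorem ci_sum_ind_self {Θ : Finset (↥K → ℂ)} (hirr : ∀ θ ∈ Θ, IsIrrCharacter ↥K θ)
    (hst : ∀ θ ∈ Θ, ∀ g : ↥L, conjBy K θ g ∈ Θ) :
    classInner (∑ θ ∈ Θ, θ 1 • indFun K θ) (∑ θ ∈ Θ, θ 1 • indFun K θ) =
      (K.index : ℂ) * ∑ θ ∈ Θ, θ 1 ^ 2 := by
  classical
  set S := ∑ θ ∈ Θ, θ 1 • indFun K θ with hS
  have hcl : IsClassFunction ↥L S := fun a b => by
    simp only [hS, Finset.sum_apply, Pi.smul_apply, OddOrderChar.isClassFunction_ind K _ a b]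
  have hres : (fun x : ↥K => S x) = (K.index : ℂ) • ∑ θ ∈ Θ, θ 1 • θ := by
    funext x
    simp only [hS, Finset.sum_apply, Pi.smul_apply, smul_eq_mul]
    exact res_sum_ind K hst x
  conv_lhs => arg 2; rw [hS]
  rw [ci_sum_left, Finset.mul_sum]
  refine Finset.sum_congr rfl fun θ hθ => ?_
  rw [ci_smul_left, classInner_indFun_left K θ hcl, hres, ci_smul_right, Complex.conj_natCast,
    ci_sum_right, Finset.sum_eq_single θ]
  · rw [ci_smul_right, classInner_isIrr_self (hirr θ hθ)]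
    obtain ⟨d, -, hd⟩ := exists_degree_pos (hirr θ hθ)
    rw [hd, Complex.conj_natCast]
    ring
  · intro φ hφ hne
    rw [ci_smul_right, classInner_isIrr_ne (hirr θ hθ) (hirr φ hφ) (Ne.symm hne), mul_zero]
  · exact fun h => absurd hθ h

/-- The mass lemma. -/
theorem gMass_compl_le_of_mean (hD : DadeHypothesis A L H) {Θ : Finset (↥K → ℂ)}
    (hirr : ∀ θ ∈ Θ, IsIrrCharacter ↥K θ) (hst : ∀ θ ∈ Θ, ∀ g : ↥L, conjBy K θ g ∈ Θ)
    {θ₀ : ↥K → ℂ} (h₀ : θ₀ ∈ Θ) (hlin : θ₀ 1 = 1) (hζ : IsIrrCharacter ↥L (indFun K θ₀))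
    {X : G → ℂ} (hX : sqNorm X = 1)
    (hsupp : ∀ θ ∈ Θ, ∀ x : ↥L, (x : G) ∉ A → (θ 1 • indFun K θ₀ - indFun K θ) x = 0)
    (hval : ∀ θ ∈ Θ, indFun K θ ≠ indFun K θ₀ →
      classInner X (dadeIsometry A L H (θ 1 • indFun K θ₀ - indFun K θ)) = θ 1) :
    gMass (dadeSupp A H)ᶜ X ≤ (K.index : ℝ) / ∑ θ ∈ Θ, (θ 1).re ^ 2 := by
  classical
  set ζ := indFun K θ₀ with hζdef
  set D : ℝ := ∑ θ ∈ Θ, (θ 1).re ^ 2 with hDdef
  have hdeg : ∀ θ ∈ Θ, ∃ e : ℕ, θ 1 = e := fun θ hθ =>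
    (exists_degree_pos (hirr θ hθ)).imp fun _ h => h.2
  have hDC : (∑ θ ∈ Θ, θ 1 ^ 2) = (D : ℂ) := by
    rw [hDdef, Complex.ofReal_sum]
    refine Finset.sum_congr rfl fun θ hθ => ?_
    obtain ⟨e, he⟩ := hdeg θ hθ
    rw [he]; simp
  -- the members inducing `ζ`
  have hfib : Θ.filter (fun θ => indFun K θ = ζ) = conjOrbit K θ₀ := by
    ext θ
    rw [Finset.mem_filter]
    constructor
    · rintro ⟨hθ, he⟩
      exact conjOrbit_eq_of_ind_eq K (hirr θ₀ h₀) (hirr θ hθ) he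
    · intro h
      obtain ⟨g, rfl⟩ := (mem_conjOrbit K).1 h
      exact ⟨hst θ₀ h₀ g, indFun_conjBy K θ₀ g⟩
  have horb : (conjOrbit K θ₀).card = K.index := by
    have h1 := Coherence.card_orbit_mul_stab K θ₀
    have h2 := Coherence.ci_ind_self K (hirr θ₀ h₀)
    rw [classInner_isIrr_self hζ, eq_comm, div_eq_one_iff_eq natCard_ne_zero] at h2
    have h3 : stabCard K θ₀ = Nat.card K := by exact_mod_cast h2
    rw [h3, ← K.index_mul_card] at h1
    exact Nat.eq_of_mul_eq_mul_right Nat.card_pos h1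
  have hone : ∀ θ ∈ conjOrbit K θ₀, θ 1 = 1 := by
    intro θ h
    obtain ⟨g, rfl⟩ := (mem_conjOrbit K).1 h
    rw [Coherence.conjBy_one_apply, hlin]
  have hDpos : 0 < D := by
    refine lt_of_lt_of_le ?_ (Finset.single_le_sum (fun θ _ => sq_nonneg ((θ 1).re)) h₀)
    rw [hlin]; simp
  have hkD : (K.index : ℝ) ≤ D := by
    refine le_trans (le_of_eq ?_) (Finset.sum_le_sum_of_subset_of_nonneg
      (Finset.filter_subset (fun θ => indFun K θ = ζ) Θ) fun θ _ _ => sq_nonneg _)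
    rw [hfib, Finset.sum_congr rfl (g := fun _ => (1 : ℝ)) (fun θ h => by rw [hone θ h]; simp)]
    simp [horb]
  set ψ : ↥L → ℂ := (D : ℂ)⁻¹ • ∑ θ ∈ Θ, θ 1 • (θ 1 • ζ - indFun K θ) with hψ
  have hψcl : IsClassFunction ↥L ψ := fun a b => by
    simp only [hψ, Pi.smul_apply, Finset.sum_apply, Pi.sub_apply, hζdef,
      OddOrderChar.isClassFunction_ind K _ a b]
  have hψs : ∀ x : ↥L, (x : G) ∉ A → ψ x = 0 := fun x hx => by
    rw [hψ, Pi.smul_apply, Finset.sum_apply, Finset.sum_eq_zero, smul_zero]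
    exact fun θ hθ => by rw [Pi.smul_apply, hsupp θ hθ x hx, smul_zero]
  have hDne : (D : ℂ) ≠ 0 := Complex.ofReal_ne_zero.2 hDpos.ne'
  have hψ' : ψ = ζ - (D : ℂ)⁻¹ • ∑ θ ∈ Θ, θ 1 • indFun K θ := by
    rw [hψ, Finset.sum_congr rfl (g := fun θ => (θ 1 ^ 2) • ζ - θ 1 • indFun K θ) (fun θ _ => by
      rw [smul_sub, smul_smul, sq]), Finset.sum_sub_distrib, ← Finset.sum_smul, hDC, smul_sub,
      smul_smul, inv_mul_cancel₀ hDne, one_smul]
  have hζS : classInner ζ (∑ θ ∈ Θ, θ 1 • indFun K θ) = (K.index : ℂ) := by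
    rw [ci_sum_right, ← Finset.sum_filter_add_sum_filter_not Θ (fun θ => indFun K θ = ζ), hfib,
      Finset.sum_congr rfl (g := fun _ => (1 : ℂ)) (fun θ h => by
        rw [ci_smul_right, hone θ h, map_one, one_mul,
          show indFun K θ = ζ from (Finset.mem_filter.1 (hfib.ge h)).2, classInner_isIrr_self hζ]),
      Finset.sum_eq_zero (s := Θ.filter fun θ => ¬indFun K θ = ζ), add_zero, Finset.sum_const,
      nsmul_one, horb]
    intro θ hθ
    obtain ⟨hθΘ, hne⟩ := Finset.mem_filter.1 hθ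
    rw [ci_smul_right]
    refine mul_eq_zero_of_right _ ?_
    rw [← ci_conj]
    refine (map_eq_zero _).2 ?_
    refine classInner_ind_ind_eq_zero K (hirr θ₀ h₀) (hirr θ hθΘ) fun g hg => hne ?_
    rw [hg, indFun_conjBy]
  have hSS : classInner (∑ θ ∈ Θ, θ 1 • indFun K θ) (∑ θ ∈ Θ, θ 1 • indFun K θ) =
      (K.index : ℂ) * (D : ℂ) := by rw [ci_sum_ind_self K hirr hst, hDC]
  have hnorm : sqNorm ψ = 1 - (K.index : ℝ) / D := by
    have h1 : classInner ψ ψ = ((1 - (K.index : ℝ) / D : ℝ) : ℂ) := by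
      rw [hψ', ci_sub_left, ci_sub_right, ci_sub_right, ci_smul_left, ci_smul_left,
        ci_smul_right, ci_smul_right, classInner_isIrr_self hζ, hζS, hSS,
        ← ci_conj ζ (∑ θ ∈ Θ, θ 1 • indFun K θ), hζS, map_inv₀, Complex.conj_ofReal,
        Complex.conj_natCast]
      push_cast
      field_simp
      ring
    rw [sqNorm, h1, Complex.ofReal_re]
  have ht : classInner X (dadeIsometry A L H ψ) = ((1 - (K.index : ℝ) / D : ℝ) : ℂ) := by
    rw [hψ, dade_smul, ci_smul_right, map_inv₀, Complex.conj_ofReal, dade_sum, ci_sum_right,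
      ← Finset.sum_filter_add_sum_filter_not Θ (fun θ => indFun K θ = ζ),
      Finset.sum_eq_zero (s := Θ.filter fun θ => indFun K θ = ζ), zero_add,
      Finset.sum_congr rfl (g := fun θ => θ 1 ^ 2) (fun θ hθ => by
        obtain ⟨hθΘ, hne⟩ := Finset.mem_filter.1 hθ
        obtain ⟨e, he⟩ := hdeg θ hθΘ
        rw [dade_smul, ci_smul_right, hval θ hθΘ hne, he, Complex.conj_natCast, sq])]
    · have h2 := Finset.sum_filter_add_sum_filter_not Θ (fun θ => indFun K θ = ζ) (fun θ => θ 1 ^ 2)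
      rw [hfib, Finset.sum_congr rfl (g := fun _ => (1 : ℂ)) (fun θ h => by rw [hone θ h, one_pow]),
        Finset.sum_const, nsmul_one, horb, hDC] at h2
      rw [show (∑ θ ∈ Θ.filter (fun θ => ¬indFun K θ = ζ), θ 1 ^ 2) = (D : ℂ) - (K.index : ℂ) from
        eq_sub_of_add_eq' h2]
      push_cast
      field_simp
    · intro θ hθ
      obtain ⟨-, he⟩ := Finset.mem_filter.1 hθ
      rw [hone θ (hfib.le hθ), one_smul, one_smul, he, sub_self, dade_zero]
      simp [classInner]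
  have hC := gMass_ge_of_dade hD subset_rfl (hD.conj_mem) hψcl hψs X
  rw [ht, hnorm, Complex.normSq_ofReal] at hC
  have hsum := gMass_add_compl (dadeSupp A H) X
  rw [hX] at hsum
  rcases eq_or_lt_of_le ((div_le_one hDpos).2 hkD) with he | hlt
  · rw [he]; linarith [gMass_nonneg (dadeSupp A H) X]
  · have := le_of_mul_le_mul_right hC (sub_pos.2 hlt)
    linarith

end CfsgLib.OddOrder
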