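import Cfsg.Agent.OddOrder.PF10.LambdaTau
import Cfsg.Agent.OddOrder.PF10.Mean

/-!
# Masses of the columns on and off the support of `(HC)#`

* `LamSide.exists_K0`: `K0 = ⟨col 0, τ (Ind 1 - μ_j)⟩` is odd; `LamSide.K0_dvd`: it is divisible by
  `a` when the centralisers of the elements of `(HC)#` lie in `M`.
* `LamSide.gMass_col_ge`, `LamSide.gMass_col_ge'`: the mass of `col 0` on the support.
* `LamSide.gMass_ineq`, `LamSide.gMass_ineq'`: the inequality of (14.x).
-/

set_option autoImplicit false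
set_option linter.style.haveILetI false
set_option linter.unusedSectionVars false

namespace CfsgLib.OddOrder

open Cfsg CfsgLib.Characters CfsgLib.Coherence CfsgLib.OddOrderChar
open Subgroup (centralizer normalizer)
open scoped ComplexConjugate

universe u

/-- A function invariant under a group of prime order, divisible by the prime at the fixed points,
sums to a multiple of the prime. -/
theorem exists_sum_eq_prime_mul {P X : Type*} [Group P] [Fintype X] [MulAction P X] [Finite P]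
    (hP : (Nat.card P).Prime) (f : X → ℂ) (hinv : ∀ (w : P) x, f (w • x) = f x)
    (hint : ∀ x, IsIntegral ℤ (f x))
    (hfix : ∀ x, (∀ w : P, w • x = x) →
      ∃ t : ℂ, IsIntegral ℤ t ∧ f x = (Nat.card P : ℂ) * t) :
    ∃ t : ℂ, IsIntegral ℤ t ∧ ∑ x, f x = (Nat.card P : ℂ) * t := by
  classical
  letI : Fintype P := Fintype.ofFinite P
  let Q := MulAction.orbitRel.Quotient P X
  letI : Fintype Q := Fintype.ofFinite _
  have hterm : ∀ q : Q, ∃ t : ℂ, IsIntegral ℤ t ∧
      ∑ x ∈ Finset.univ.filter (fun x => Quotient.mk (MulAction.orbitRel P X) x = q), f x =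
        (Nat.card P : ℂ) * t := by
    intro q
    induction q using Quotient.inductionOn with
    | h x =>
      have hset : (Finset.univ.filter fun y => Quotient.mk (MulAction.orbitRel P X) y =
          Quotient.mk (MulAction.orbitRel P X) x) = (MulAction.orbit P x).toFinset := by
        ext y
        rw [Finset.mem_filter, Set.mem_toFinset, Quotient.eq]
        exact ⟨fun h => h.2, fun h => ⟨Finset.mem_univ _, h⟩⟩
      have hconst : ∀ y ∈ (MulAction.orbit P x).toFinset, f y = f x := fun y hy => by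
        obtain ⟨w, rfl⟩ := Set.mem_toFinset.1 hy
        exact hinv w x
      rw [hset, Finset.sum_congr rfl hconst, Finset.sum_const, nsmul_eq_mul, Set.toFinset_card]
      have hdvd : Fintype.card (MulAction.orbit P x) ∣ Nat.card P :=
        ⟨_, (MulAction.card_orbit_mul_card_stabilizer_eq_card_group P x).trans
          Nat.card_eq_fintype_card.symm |>.symm⟩
      rcases (Nat.dvd_prime hP).1 hdvd with h1 | h1
      · obtain ⟨t, ht, hte⟩ := hfix x fun w => by
          obtain ⟨⟨y, hy⟩, hu⟩ := Fintype.card_eq_one_iff.1 h1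
          have e1 := congrArg Subtype.val (hu ⟨w • x, MulAction.mem_orbit x w⟩)
          have e2 := congrArg Subtype.val (hu ⟨x, MulAction.mem_orbit_self x⟩)
          exact e1.trans e2.symm
        exact ⟨t, ht, by rw [h1, Nat.cast_one, one_mul, hte]⟩
      · exact ⟨f x, hint x, by rw [h1]⟩
  choose t ht hte using hterm
  refine ⟨∑ q, t q, IsIntegral.sum _ fun q _ => ht q, ?_⟩
  rw [Finset.mul_sum, ← Finset.sum_fiberwise Finset.univ
    (fun x => Quotient.mk (MulAction.orbitRel P X) x) f]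
  exact Finset.sum_congr rfl fun q _ => hte q

variable {G : Type u} [Group G] [Fintype G] {M W₁ U W₂ : Subgroup G} [Fintype M]

noncomputable local instance fintypeSubLambdaMass (S : Subgroup ↥M) : Fintype S := Fintype.ofFinite S

/-- `Λ` as a finset of functions. -/
noncomputable def lamFins (M U : Subgroup G) : Finset (↥(baseHC M U) → ℂ) :=
  haveI : Finite ↥(lamChars M U) := Subtype.finite
  (Set.toFinite ((fun θ : ↥(baseHC M U) →* ℂˣ => fun x => (θ x : ℂ)) '' lamChars M U)).toFinset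

theorem mem_lamFins {φ : ↥(baseHC M U) → ℂ} :
    φ ∈ lamFins M U ↔ ∃ θ ∈ lamChars M U, (fun x => (θ x : ℂ)) = φ := by
  rw [lamFins, Set.Finite.mem_toFinset]
  rfl

theorem card_lamFins : (lamFins M U).card = Nat.card ↥(lamChars M U) := by
  rw [lamFins, ← Set.ncard_eq_toFinset_card _ (Set.toFinite _), Set.ncard_image_of_injective, Nat.card_coe_set_eq]
  exact fun a b e => MonoidHom.ext fun x => Units.ext (congrFun e x)

theorem lamFins_one {φ : ↥(baseHC M U) → ℂ} (h : φ ∈ lamFins M U) : φ 1 = 1 := by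
  obtain ⟨θ, -, rfl⟩ := mem_lamFins.1 h
  simp

namespace LamSide

variable {χ : (↥(W₁ ⊔ W₂) →* ℂˣ) → (G → ℂ)} {μ : (↥(W₁ ⊔ W₂) →* ℂˣ) → (↥M → ℂ)}
  {δ : (↥(W₁ ⊔ W₂) →* ℂˣ) → ℤ} (h : LamSide M W₁ U W₂ χ μ δ)
include h

theorem lam_pos : 0 < Nat.card ↥(lamChars M U) := by
  haveI : Finite ↥(lamChars M U) := Subtype.finite
  obtain ⟨θ, hθ, -⟩ := h.exists_muSum
  exact Nat.card_pos_iff.2 ⟨⟨θ, hθ⟩, inferInstance⟩

theorem lamFins_stable [(baseHC M U).Normal] :
    ∀ φ ∈ lamFins M U, ∀ g : ↥M, conjBy (baseHC M U) φ g ∈ lamFins M U := by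
  intro φ hφ g
  obtain ⟨θ, hθ, rfl⟩ := mem_lamFins.1 hφ
  refine mem_lamFins.2 ⟨_, h.conj_regular hθ g, funext fun x => ?_⟩
  rw [conjBy_apply]
  exact congrArg (fun z => (θ z : ℂ)) (Subtype.ext (MulAut.conjNormal_apply _ _))

theorem regular_ne_one : (1 : ↥(baseHC M U) →* ℂˣ) ∉ lamChars M U := by
  intro h1
  have hle : U ≤ centU M U := fun v hv => h1 v hv fun _ _ _ _ => rfl
  exact absurd (Subgroup.relIndex_eq_one.2 hle) h.one_lt_u.ne'

theorem ci_lamInd_one_one : classInner (lamInd M U 1) (fun _ => 1) = 1 := by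
  rw [lamInd_def, classInner_indFun_left (baseHC M U) _ (fun _ _ => rfl)]
  simp only [MonoidHom.one_apply, Units.val_one]
  exact classInner_isIrr_self Characters.isIrr_one

theorem conjFun_col (l : rightHat W₁ W₂) : conjFun (col χ l) = col χ l⁻¹ := by
  funext g
  simp only [conjFun, col, Finset.sum_apply, map_sum]
  refine Fintype.sum_bijective (fun k : leftHat W₁ W₂ => k⁻¹)
    (Function.Involutive.bijective leftHat_inv_inv) _ _ fun k => ?_
  rw [h.ti.eta_conj]
  rfl

theorem col_one_real : conjFun (col χ 1) = col χ 1 := by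
  rw [h.conjFun_col, show (1 : rightHat W₁ W₂)⁻¹ = 1 from
    Subtype.ext (inv_one (G := ↥(W₁ ⊔ W₂) →* ℂˣ))]

theorem col_sqNorm (l : rightHat W₁ W₂) : Coherence.sqNorm (col χ l) = (Nat.card W₁ : ℝ) := by
  classical
  rw [Coherence.sqNorm, h.ci_col_col, if_pos rfl, Complex.natCast_re]

theorem ci_col_one (l : rightHat W₁ W₂) [Decidable ((1 : rightHat W₁ W₂) = l)] :
    classInner (col χ l) (fun _ => 1) = if (1 : rightHat W₁ W₂) = l then 1 else 0 := by
  rw [← eta_one_one h.ti, h.ci_col_eta]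

/-- `K0` is odd. -/
theorem exists_K0 : ∃ K0 : ℤ, Odd K0 ∧ ∀ j : rightHat W₁ W₂, j ≠ 1 →
    classInner (col χ 1) (tauM M (lamInd M U 1 - muSum μ j)) = K0 := by
  classical
  obtain ⟨θ₁, -, -, j₀, hj₀, -⟩ := h.exists_muSum
  set X : rightHat W₁ W₂ → G → ℂ :=
    fun j => tauM M (lamInd M U 1 - muSum μ j) + col χ j with hX
  have hXeq : ∀ j : rightHat W₁ W₂, j ≠ 1 → X j = X j₀ := fun j hj => by
    simp only [hX, h.tau_beta_shift 1 hj₀ hj]
    abel
  have hgen : IsGeneralizedCharacter G (X j₀) :=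
    Coherence.isGen_add (h.tau_beta_gen 1 hj₀) (h.ti.col_gen j₀)
  have hj₀i : j₀⁻¹ ≠ 1 := fun e => hj₀ (by
    rw [← rightHat_inv_inv j₀, e]
    exact Subtype.ext (inv_one (G := ↥(W₁ ⊔ W₂) →* ℂˣ)))
  have hreal : conjFun (X j₀) = X j₀ := by
    have e1 : conjFun (X j₀) =
        conjFun (tauM M (lamInd M U 1 - muSum μ j₀)) + conjFun (col χ j₀) := by
      funext g; simp [hX, conjFun]
    have e2 : conjFun (lamInd M U 1 - muSum μ j₀) = lamInd M U 1 - muSum μ j₀⁻¹ := by
      rw [h.muSum_conj]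
      have e3 : conjFun (lamInd M U (1 : ↥(baseHC M U) →* ℂˣ)) = lamInd M U 1 := by
        rw [← h.lamInd_inv]
        exact congrArg (lamInd M U) (MonoidHom.ext fun x => by simp)
      funext g
      have e4 := congrFun e3 g
      simp only [conjFun] at e4
      simp [conjFun, e4]
    rw [e1, h.tau_conj, e2, h.conjFun_col]
    exact hXeq _ hj₀i
  have hone : classInner (X j₀) (fun _ => 1) = 1 := by
    simp only [hX]
    rw [ci_add_left, h.tau_ci_one (Coherence.isClassFunction_of_isGen (Coherence.isGen_sub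
      (lamInd_gen 1) (h.muSum_gen j₀))) (h.supp0 (h.beta_supp 1 hj₀)), ci_sub_left,
      h.ci_lamInd_one_one, h.muSum_ci_one hj₀, h.ci_col_one, if_neg (Ne.symm hj₀), sub_zero, add_zero]
  obtain ⟨K0, hK, hodd⟩ := odd_ci_of_real h.oddG (h.ti.col_gen 1) hgen h.col_one_real hreal
    (by rw [h.ci_col_one, if_pos rfl]) hone
  refine ⟨K0, hodd, fun j hj => ?_⟩
  rw [← hK, ← hXeq j hj, hX, ci_add_right, h.ci_col_col, if_neg hj, add_zero]

/-- With the centralisers of `(HC)#` in `M`, `a` divides `K0`. -/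
theorem K0_dvd (hcent : ∀ x ∈ lamSet M U, centralizer ({x} : Set G) ≤ M) {K0 : ℤ}
    (hK : ∀ j : rightHat W₁ W₂, j ≠ 1 →
      classInner (col χ 1) (tauM M (lamInd M U 1 - muSum μ j)) = K0) :
    (Nat.card W₁ : ℤ) ∣ K0 := by
  classical
  haveI := h.baseHC_normal
  obtain ⟨θ, -, hfix, l, hl, e⟩ := h.exists_muSum
  have hcl := Coherence.isClassFunction_of_isGen
    (Coherence.isGen_sub (lamInd_gen (1 : ↥(baseHC M U) →* ℂˣ)) (h.muSum_gen l))
  have hs := h.beta_supp (1 : ↥(baseHC M U) →* ℂˣ) hl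
  choose z hz using fun g => h.ti.col_int g
  -- reciprocity
  have h1 : classInner (tauM M (lamInd M U 1 - muSum μ l)) (col χ 1) = (K0 : ℂ) := by
    rw [← ci_conj, hK l hl, map_intCast]
  rw [classInner_dade_res h.dade hcl (h.supp0 hs) (fun x _ hne => supportR_eq_bot
      (hcent _ (by_contra fun hc => hne (hs x hc))))
      (Coherence.isClassFunction_of_isGen (h.ti.col_gen 1)), ← e, ci_sub_left, lamInd_def,
    lamInd_def,
    classInner_indFun_left (baseHC M U) _ (fun a b => Coherence.isClassFunction_of_isGen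
      (h.ti.col_gen 1) (a : G) (b : G)),
    classInner_indFun_left (baseHC M U) _ (fun a b => Coherence.isClassFunction_of_isGen
      (h.ti.col_gen 1) (a : G) (b : G)), ← ci_sub_left] at h1
  -- the action of `W₁` on `HC`
  let φ : ↥W₁ →* MulAut ↥(baseHC M U) :=
    MulAut.conjNormal.comp (Subgroup.inclusion (TypeP.W₁_le h.data))
  letI : MulAction ↥W₁ ↥(baseHC M U) := MulAction.compHom _ φ
  have hsmul : ∀ (w : ↥W₁) (x : ↥(baseHC M U)),
      (((w • x : ↥(baseHC M U)) : ↥M) : G) = (w : G) * ((x : ↥M) : G) * (w : G)⁻¹ := fun w x => by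
    show (((MulAut.conjNormal _ x : ↥(baseHC M U)) : ↥M) : G) = _
    rw [MulAut.conjNormal_apply]
    rfl
  set F : ↥(baseHC M U) → ℂ := fun x => (1 - (θ x : ℂ)) * (z ((x : ↥M) : G) : ℂ) with hF
  have hint : ∀ x : ↥(baseHC M U), IsIntegral ℤ ((θ x : ℂ)) := fun x =>
    Characters.gen_isIntegral (Coherence.isGen_of_isIrr (isIrr_linChar θ)) x
  obtain ⟨t, ht, hsum⟩ := exists_sum_eq_prime_mul (P := ↥W₁) h.prime₁ F
    (fun w x => by
      have e1 : θ (w • x) = θ x := hfix w w.2 x (w • x) (hsmul w x)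
      have e2 : (z (((w • x : ↥(baseHC M U)) : ↥M) : G) : ℂ) = (z ((x : ↥M) : G) : ℂ) := by
        rw [← hz, ← hz, hsmul]
        exact Coherence.isClassFunction_of_isGen (h.ti.col_gen 1) _ _
      simp only [hF, e1, e2])
    (fun x => ((isIntegral_one).sub (hint x)).mul (isIntegral_algebraMap (x := z _)))
    (fun x hx => by
      by_cases hx1 : x = 1
      · exact ⟨0, isIntegral_zero, by simp [hF, hx1]⟩
      have hmem : ((x : ↥M) : G) ∈ ⁅M, M⁆ ⊓ centralizer (W₁ : Set G) := by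
        refine ⟨h.HC_le_derived x.2, Subgroup.mem_centralizer_iff.2 fun w hw => ?_⟩
        have := hsmul ⟨w, hw⟩ x
        rw [hx ⟨w, hw⟩] at this
        exact (eq_mul_inv_iff_mul_eq.1 this).symm
      rw [TypeP.derived_inf_centralizer_W₁ h.data] at hmem
      obtain ⟨v, hv, hdv⟩ := h.ti.col_dvd ⟨_, Subgroup.mem_sup_right hmem⟩ hmem fun e' =>
        hx1 (Subtype.ext (Subtype.ext (congrArg Subtype.val e' :)))
      obtain ⟨c, hc⟩ := hdv
      refine ⟨(1 - (θ x : ℂ)) * (c : ℂ), ((isIntegral_one).sub (hint x)).mul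
        (isIntegral_algebraMap (x := c)), ?_⟩
      have e2 : (z ((x : ↥M) : G) : ℂ) = ((Nat.card W₁ : ℤ) * c : ℤ) := by
        rw [← hz, ← hc]; exact hv
      simp only [hF, e2]
      push_cast
      ring)
  have h2 : (Nat.card W₁ : ℂ) * t = ((Nat.card ↥(baseHC M U) * K0 : ℤ) : ℂ) := by
    rw [← hsum]
    push_cast
    rw [← h1, classInner, ← mul_assoc, mul_inv_cancel₀ (Nat.cast_ne_zero.2 Nat.card_pos.ne'),
      one_mul]
    refine Finset.sum_congr rfl fun x _ => ?_
    simp only [hF, hz, Pi.sub_apply, MonoidHom.one_apply, Units.val_one, map_intCast]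
  obtain ⟨v, hv⟩ := PRational.exists_int_of_isIntegral_of_mul ht Nat.card_pos.ne' h2
  have h3 : (Nat.card W₁ : ℤ) * v = (Nat.card ↥(baseHC M U) : ℤ) * K0 := by
    rw [hv] at h2
    exact_mod_cast h2
  have hcop : IsCoprime (Nat.card W₁ : ℤ) (Nat.card ↥(baseHC M U) : ℤ) := by
    refine Nat.isCoprime_iff_coprime.2 (h.base.hall.coprime_dvd_right ?_)
    rw [← h.base.card_derIn]
    exact Subgroup.card_dvd_of_le h.baseHC_le_derIn
  exact hcop.dvd_of_dvd_mul_left ⟨v, h3.symm⟩

/-- The mass of `col 0` on the support of `(HC)#`. -/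
theorem gMass_col_ge_K0 {K0 : ℤ}
    (hK : ∀ j : rightHat W₁ W₂, j ≠ 1 →
      classInner (col χ 1) (tauM M (lamInd M U 1 - muSum μ j)) = K0) :
    (K0 : ℝ) ^ 2 / (Nat.card W₁ * (centU M U).relIndex U *
      (1 + 1 / (Nat.card ↥(lamChars M U) : ℝ))) ≤
      gMass (dadeSupp (lamSet M U) (supportR M)) (col χ 1) := by
  classical
  haveI := h.baseHC_normal
  set L := Nat.card ↥(lamChars M U) with hLdef
  have hLpos : 0 < L := h.lam_pos
  have hLC : (L : ℂ) ≠ 0 := Nat.cast_ne_zero.2 hLpos.ne'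
  set ψ : ↥M → ℂ :=
    (L : ℂ)⁻¹ • ∑ φ ∈ lamFins M U, (lamInd M U 1 - indFun (baseHC M U) φ) with hψ
  have hψcl : IsClassFunction ↥M ψ := fun a b => by
    simp only [hψ, Pi.smul_apply, Finset.sum_apply, Pi.sub_apply,
      OddOrderChar.isClassFunction_ind _ _ a b, lamInd_cf (1 : ↥(baseHC M U) →* ℂˣ) a b]
  have hψs : ∀ x : ↥M, (x : G) ∉ lamSet M U → ψ x = 0 := fun x hx => by
    rw [hψ, Pi.smul_apply, Finset.sum_apply, Finset.sum_eq_zero, smul_zero]
    intro φ hφ
    obtain ⟨θ, -, rfl⟩ := mem_lamFins.1 hφ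
    exact h.lam_supp 1 θ x hx
  have hterm : ∀ φ ∈ lamFins M U,
      classInner (col χ 1) (tauM M (lamInd M U 1 - indFun (baseHC M U) φ)) = (K0 : ℂ) := by
    intro φ hφ
    obtain ⟨θ, hθ, rfl⟩ := mem_lamFins.1 hφ
    rw [← lamInd_def]
    rcases h.lamInd_cases hθ with ⟨hi, -⟩ | ⟨l, hl, e⟩
    · obtain ⟨f, ε, m, j, E⟩ := h.exists_lamExt ⟨θ, hθ, hi⟩
      have e' : tauM M (lamInd M U 1 - lamInd M U θ) =
          tauM M (lamInd M U 1 - muSum μ j) - tauM M (lamInd M U θ - muSum μ j) := by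
        simp only [tauM]
        rw [← dade_sub]
        exact congrArg _ (by abel)
      have hf0 : classInner (col χ 1) (f θ) = 0 := by
        rw [← ci_conj, col, ci_sum_right,
          Finset.sum_eq_zero fun k _ => E.orth θ hθ hi k 1, map_zero]
      rw [e', E.tau θ hθ hi, ci_sub_right, hK j E.j_ne, ci_add_right, ci_smul_right, hf0,
        h.ci_col_col, if_neg E.m_ne]
      simp
    · rw [e]; exact hK l hl
  have ht : classInner (col χ 1) (tauM M ψ) = (K0 : ℂ) := by
    rw [tauM, hψ, dade_smul, dade_sum, ci_smul_right, ci_sum_right, Finset.sum_congr rfl hterm,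
      Finset.sum_const, card_lamFins, nsmul_eq_mul, map_inv₀, Complex.conj_natCast, ← mul_assoc,
      inv_mul_cancel₀ hLC, one_mul]
  set S : ↥M → ℂ := ∑ φ ∈ lamFins M U, φ 1 • indFun (baseHC M U) φ with hS
  have hψ' : ψ = lamInd M U 1 - (L : ℂ)⁻¹ • S := by
    rw [hψ, hS, Finset.sum_sub_distrib, smul_sub, Finset.sum_const, card_lamFins,
      ← Nat.cast_smul_eq_nsmul ℂ, smul_smul, inv_mul_cancel₀ hLC, one_smul]
    congr 1
    congr 1
    exact Finset.sum_congr rfl fun φ hφ => by rw [lamFins_one hφ, one_smul]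
  have hone : classInner (lamInd M U 1) (lamInd M U 1) =
      ((Nat.card W₁ * (centU M U).relIndex U : ℕ) : ℂ) := by
    rw [lamInd_def, Coherence.ci_ind_self (baseHC M U)
      (isIrr_linChar (1 : ↥(baseHC M U) →* ℂˣ)), ← h.index_baseHC]
    have : Coherence.stabCard (baseHC M U) (fun x => ((1 : ↥(baseHC M U) →* ℂˣ) x : ℂ)) =
        Nat.card ↥M :=
      Nat.card_congr (Equiv.subtypeUnivEquiv fun g => funext fun x => rfl)
    rw [this, ← (baseHC M U).index_mul_card, Nat.cast_mul,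
      mul_div_assoc, div_self (Nat.cast_ne_zero.2 Nat.card_pos.ne'), mul_one]
  have h1S : classInner (lamInd M U 1) S = 0 := by
    rw [hS, ci_sum_right]
    refine Finset.sum_eq_zero fun φ hφ => ?_
    obtain ⟨θ, hθ, rfl⟩ := mem_lamFins.1 hφ
    rw [ci_smul_right, lamInd_def,
      classInner_ind_ind_eq_zero (baseHC M U) (isIrr_linChar θ) (isIrr_linChar 1), mul_zero]
    intro g hg
    refine h.regular_ne_one ?_
    have : θ = 1 := by
      refine MonoidHom.ext fun x => Units.ext ?_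
      have h2 := congrFun hg ⟨g⁻¹ * x * g, by
        simpa using h.baseHC_normal.conj_mem _ x.2 g⁻¹⟩
      rw [conjBy_apply] at h2
      rw [show x = ⟨g * (g⁻¹ * x * g) * g⁻¹, by simp [mul_assoc]⟩ from
        Subtype.ext (by group)]
      exact h2.symm
    exact this ▸ hθ
  have hSS : classInner S S = ((Nat.card W₁ * (centU M U).relIndex U * L : ℕ) : ℂ) := by
    rw [hS, ci_sum_ind_self (baseHC M U) (fun φ hφ => by
      obtain ⟨θ, -, rfl⟩ := mem_lamFins.1 hφ
      exact isIrr_linChar θ) h.lamFins_stable, h.index_baseHC,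
      Finset.sum_congr rfl (g := fun _ => (1 : ℂ)) (fun φ hφ => by rw [lamFins_one hφ, one_pow]),
      Finset.sum_const, card_lamFins, nsmul_one]
    push_cast
    ring
  set A : ℝ := (Nat.card W₁ : ℝ) * (centU M U).relIndex U with hA
  have hnorm : Coherence.sqNorm ψ = A * (1 + 1 / (L : ℝ)) := by
    have h2 : classInner ψ ψ = ((A * (1 + 1 / (L : ℝ)) : ℝ) : ℂ) := by
      rw [hψ', ci_sub_left, ci_sub_right, ci_sub_right, ci_smul_left, ci_smul_left, ci_smul_right,
        ci_smul_right, hone, h1S, hSS, ← ci_conj (lamInd M U 1) S, h1S, map_zero, map_inv₀,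
        Complex.conj_natCast, hA]
      push_cast
      field_simp
      ring
    rw [Coherence.sqNorm, h2, Complex.ofReal_re]
  have hC := gMass_ge_of_dade h.dade h.lamSet_subset0 h.lamSet_conj hψcl hψs (col χ 1)
  rw [← tauM, ht, hnorm, Complex.normSq_intCast] at hC
  have hApos : 0 < A := by
    have := h.one_lt_u
    have := h.three_le_a
    positivity
  rw [div_le_iff₀ (mul_pos hApos (by positivity))]
  simpa [sq, hA] using hC

/-- With the centralisers in `M`: the mass of `col 0` on the support is at least `a / (u (1 + 1/L))`. -/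
theorem gMass_col_ge (hcent : ∀ x ∈ lamSet M U, centralizer ({x} : Set G) ≤ M) :
    (Nat.card W₁ : ℝ) / ((centU M U).relIndex U * (1 + 1 / (Nat.card ↥(lamChars M U) : ℝ))) ≤
      gMass (dadeSupp (lamSet M U) (supportR M)) (col χ 1) := by
  obtain ⟨K0, hodd, hK⟩ := h.exists_K0
  obtain ⟨c, rfl⟩ := h.K0_dvd hcent hK
  have hc : (1 : ℝ) ≤ (c : ℝ) ^ 2 := by
    have hc0 : c ≠ 0 := fun e => by
      rw [e, mul_zero] at hodd
      exact absurd hodd (by decide)
    have : (1 : ℤ) ≤ c ^ 2 := by nlinarith [mul_self_pos.2 hc0]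
    exact_mod_cast this
  refine le_trans ?_ (h.gMass_col_ge_K0 hK)
  have := h.one_lt_u
  have hu : (0 : ℝ) < (centU M U).relIndex U := by exact_mod_cast (by omega : 0 < (centU M U).relIndex U)
  have ha : (0 : ℝ) < Nat.card W₁ := by exact_mod_cast Nat.card_pos
  have hL : (0 : ℝ) < 1 + 1 / (Nat.card ↥(lamChars M U) : ℝ) := by positivity
  rw [div_le_div_iff₀ (mul_pos hu hL) (mul_pos (mul_pos ha hu) hL)]
  push_cast
  nlinarith [mul_nonneg (mul_nonneg (mul_nonneg ha.le ha.le) (mul_pos hu hL).le) (sub_nonneg.2 hc)]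

/-- Without hypothesis: at least `1 / (a u (1 + 1/L))`. -/
theorem gMass_col_ge' :
    1 / ((Nat.card W₁ : ℝ) * (centU M U).relIndex U *
      (1 + 1 / (Nat.card ↥(lamChars M U) : ℝ))) ≤
      gMass (dadeSupp (lamSet M U) (supportR M)) (col χ 1) := by
  obtain ⟨K0, hodd, hK⟩ := h.exists_K0
  refine le_trans ?_ (h.gMass_col_ge_K0 hK)
  have hc0 : K0 ≠ 0 := fun e => by
    rw [e] at hodd
    exact absurd hodd (by decide)
  have : (1 : ℤ) ≤ K0 ^ 2 := by nlinarith [mul_self_pos.2 hc0]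
  exact div_le_div_of_nonneg_right (by exact_mod_cast this) (by positivity)

/-- Off the support every column outside the first has mass at most `a u / L`. -/
theorem gMass_col_compl_le (hL : HasLam M U) {l : rightHat W₁ W₂} (hl : l ≠ 1) :
    gMass (dadeSupp (lamSet M U) (supportR M))ᶜ (col χ l) ≤
      (Nat.card W₁ : ℝ) * (centU M U).relIndex U / (Nat.card ↥(lamChars M U) : ℝ) := by
  classical
  haveI := h.baseHC_normal
  obtain ⟨f, ε, m, j, E⟩ := h.exists_lamExt hL
  obtain ⟨θ₀, hθ₀, hi₀⟩ := hL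
  have hX : Coherence.sqNorm (f θ₀) = 1 := by
    rw [Coherence.sqNorm, E.inner_eq θ₀ hθ₀ θ₀ hθ₀ hi₀ rfl, Complex.one_re]
  have hb := gMass_compl_le_of_mean (baseHC M U) h.dadeLam (Θ := lamFins M U)
    (fun φ hφ => by obtain ⟨θ, -, rfl⟩ := mem_lamFins.1 hφ; exact isIrr_linChar θ) h.lamFins_stable
    (θ₀ := fun x => (θ₀ x : ℂ)) (mem_lamFins.2 ⟨θ₀, hθ₀, rfl⟩) (by simp) hi₀ hX
    (fun φ hφ x hx => by
      obtain ⟨θ, -, rfl⟩ := mem_lamFins.1 hφ
      simp only [map_one, Units.val_one, one_smul]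
      exact h.lam_supp θ₀ θ x hx)
    (fun φ hφ hne => by
      obtain ⟨θ, hθ, rfl⟩ := mem_lamFins.1 hφ
      simp only [map_one, Units.val_one, one_smul]
      rw [← lamInd_def, ← lamInd_def,
        ← h.tau_lam (Coherence.isClassFunction_of_isGen (Coherence.isGen_sub (lamInd_gen θ₀)
          (lamInd_gen θ))) (h.lam_supp θ₀ θ)]
      rcases h.lamInd_cases hθ with ⟨hi, -⟩ | ⟨i, hi, e⟩
      · have e' : tauM M (lamInd M U θ₀ - lamInd M U θ) = f θ₀ - f θ := by
          have e0 := congrArg₂ (· - ·) (E.tau θ₀ hθ₀ hi₀) (E.tau θ hθ hi)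
          simp only [tauM] at e0 ⊢
          rw [← dade_sub, sub_sub_sub_cancel_right, add_sub_add_right_eq_sub] at e0
          exact e0
        rw [e', ci_sub_right, E.inner_eq θ₀ hθ₀ θ₀ hθ₀ hi₀ rfl,
          E.inner_ne θ₀ hθ₀ θ hθ hi₀ hi (Ne.symm hne), sub_zero]
      · have hf : ∀ x, classInner (f θ₀) (col χ x) = 0 := fun x => by
          rw [col, ci_sum_right]
          exact Finset.sum_eq_zero fun k _ => E.orth θ₀ hθ₀ hi₀ k x
        rw [e, h.tau_ext E hθ₀ hi₀ hi, ci_add_right, ci_add_right, ci_smul_right, ci_sub_right,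
          hf, hf, hf, E.inner_eq θ₀ hθ₀ θ₀ hθ₀ hi₀ rfl]
        simp)
  rw [Finset.sum_congr rfl (g := fun _ => (1 : ℝ)) (fun φ hφ => by simp [lamFins_one hφ]),
    Finset.sum_const, card_lamFins, nsmul_one, h.index_baseHC, Nat.cast_mul] at hb
  refine le_trans (le_of_eq ?_) hb
  unfold gMass
  congr 1
  refine Finset.sum_congr rfl fun g hg => ?_
  have hg' : g ∉ dadeSupp (lamSet M U) (supportR M) := by simpa using hg
  have h1 := h.tau_off (Coherence.isClassFunction_of_isGen (Coherence.isGen_sub (lamInd_gen θ₀)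
    (h.muSum_gen j))) (h.beta_supp θ₀ E.j_ne) hg'
  rw [E.tau θ₀ hθ₀ hi₀, Pi.add_apply, Pi.smul_apply, smul_eq_mul,
    h.col_eq_off E.m_ne hl hg'] at h1
  rw [eq_neg_of_add_eq_zero_left h1, Complex.normSq_neg, Complex.normSq_mul]
  rcases E.sign with s | s <;> simp [s]

/-- The inequality, with the mass of `col 0` on the support as loss. -/
theorem gMass_ineq_col (hL : HasLam M U) {Z : Set G}
    (hZ : ∀ g ∈ Z, g ∉ dadeSupp (lamSet M U) (supportR M) ∧ g ∉ vConj W₁ W₂ ∧
      (orderOf g).Coprime (Nat.card W₁)) :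
    gMass Z (fun _ => 1) ≤
      (Nat.card W₁ : ℝ) * (centU M U).relIndex U / (Nat.card ↥(lamChars M U) : ℝ) +
        1 / (Nat.card W₁ : ℝ) -
        gMass (dadeSupp (lamSet M U) (supportR M)) (col χ 1) / (Nat.card W₁ : ℝ) ^ 2 := by
  classical
  obtain ⟨θ, -, -, l, hl, -⟩ := h.exists_muSum
  set T := dadeSupp (lamSet M U) (supportR M) with hT
  set Z₁ := {g | g ∈ Z ∧ col χ l g ≠ 0} with hZ₁
  set Z₀ := {g | g ∈ Z ∧ col χ l g = 0} with hZ₀
  have hsplit : Z = Z₁ ∪ Z₀ := by
    ext g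
    simp only [hZ₁, hZ₀, Set.mem_union, Set.mem_setOf_eq]
    tauto
  have hdisj : Disjoint Z₁ Z₀ := Set.disjoint_left.2 fun g h1 h2 => h1.2 h2.2
  have ha : (0 : ℝ) < Nat.card W₁ := by exact_mod_cast Nat.card_pos
  have h₁ : gMass Z₁ (fun _ => 1) ≤ (Nat.card W₁ : ℝ) * (centU M U).relIndex U /
      (Nat.card ↥(lamChars M U) : ℝ) := by
    refine le_trans ?_ (h.gMass_col_compl_le hL hl)
    refine le_trans ?_ (gMass_mono (S := Z₁) (fun g hg => (hZ g hg.1).1) _)
    rw [← one_mul (gMass Z₁ fun _ => 1)]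
    refine gMass_ge_of_forall fun g hg => ?_
    obtain ⟨z, hz⟩ := h.col_int_off hl (hZ g hg.1).1
    rw [hz, Complex.normSq_intCast]
    have hz0 : z ≠ 0 := fun e => hg.2 (by rw [hz, e, Int.cast_zero])
    have : (1 : ℤ) ≤ z * z := mul_self_pos.2 hz0
    exact_mod_cast this
  have h₀ : (Nat.card W₁ : ℝ) ^ 2 * gMass Z₀ (fun _ => 1) ≤
      (Nat.card W₁ : ℝ) - gMass T (col χ 1) := by
    have hsum := gMass_add_compl T (col χ 1)
    rw [h.col_sqNorm] at hsum
    refine le_trans ?_ (le_of_eq (eq_sub_of_add_eq' hsum))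
    refine le_trans ?_ (gMass_mono (S := Z₀) (fun g hg => (hZ g hg.1).1) _)
    refine gMass_ge_of_forall fun g hg => ?_
    obtain ⟨z, hz, hodd⟩ := h.ti.col_odd (hZ g hg.1).2.2
    have h1 := h.ti.col_eq_off l (g := g) fun x w e => mem_vConj_or (hZ g hg.1).2.1 x w e
    rw [hg.2, hz] at h1
    have h2 : (Nat.card W₁ : ℂ) * (1 - eta χ 1 l g) = (z : ℂ) := by linear_combination h1
    obtain ⟨v, hv⟩ := PRational.exists_int_of_isIntegral_of_mul
      (isIntegral_one.sub (Characters.gen_isIntegral (h.ti.eta_gen 1 l) g)) Nat.card_pos.ne' h2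
    rw [hv] at h2
    have h3 : z = (Nat.card W₁ : ℤ) * v := by exact_mod_cast h2.symm
    have hv0 : v ≠ 0 := fun e => by
      rw [h3, e, mul_zero] at hodd
      exact absurd hodd (by decide)
    have h4 : (Nat.card W₁ : ℤ) ^ 2 ≤ z * z := by
      rw [h3]
      nlinarith [mul_self_pos.2 hv0, sq_nonneg (Nat.card W₁ : ℤ)]
    rw [hz, Complex.normSq_intCast]
    exact_mod_cast h4
  rw [hsplit, gMass_union hdisj]
  have h5 : gMass Z₀ (fun _ => 1) ≤
      1 / (Nat.card W₁ : ℝ) - gMass T (col χ 1) / (Nat.card W₁ : ℝ) ^ 2 := by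
    rw [show (1 : ℝ) / (Nat.card W₁ : ℝ) - gMass T (col χ 1) / (Nat.card W₁ : ℝ) ^ 2 =
      ((Nat.card W₁ : ℝ) - gMass T (col χ 1)) / (Nat.card W₁ : ℝ) ^ 2 from by field_simp,
      le_div_iff₀ (by positivity), mul_comm]
    exact h₀
  linarith

/-- The inequality. -/
theorem gMass_ineq (hL : HasLam M U) {Z : Set G}
    (hZ : ∀ g ∈ Z, g ∉ dadeSupp (lamSet M U) (supportR M) ∧ g ∉ vConj W₁ W₂ ∧
      (orderOf g).Coprime (Nat.card W₁)) :
    gMass Z (fun _ => 1) ≤
      (Nat.card W₁ : ℝ) * (centU M U).relIndex U / (Nat.card ↥(lamChars M U) : ℝ) +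
        1 / (Nat.card W₁ : ℝ) := by
  refine le_trans (h.gMass_ineq_col hL hZ) (sub_le_self _ ?_)
  exact div_nonneg (gMass_nonneg _ _) (by positivity)

/-- The inequality when the centralisers of `(HC)#` lie in `M`. -/
theorem gMass_ineq' (hL : HasLam M U) (hcent : ∀ x ∈ lamSet M U, centralizer ({x} : Set G) ≤ M)
    {Z : Set G}
    (hZ : ∀ g ∈ Z, g ∉ dadeSupp (lamSet M U) (supportR M) ∧ g ∉ vConj W₁ W₂ ∧
      (orderOf g).Coprime (Nat.card W₁)) :
    gMass Z (fun _ => 1) ≤
      (Nat.card W₁ : ℝ) * (centU M U).relIndex U / (Nat.card ↥(lamChars M U) : ℝ) +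
        1 / (Nat.card W₁ : ℝ) -
        1 / ((Nat.card W₁ : ℝ) * (centU M U).relIndex U *
          (1 + 1 / (Nat.card ↥(lamChars M U) : ℝ))) := by
  refine le_trans (h.gMass_ineq_col hL hZ) (sub_le_sub_left ?_ _)
  have ha : (0 : ℝ) < Nat.card W₁ := by exact_mod_cast Nat.card_pos
  rw [le_div_iff₀ (by positivity)]
  refine le_trans (le_of_eq ?_) (h.gMass_col_ge hcent)
  field_simp

end LamSide

end CfsgLib.OddOrder
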