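import Cfsg.Agent.OddOrder.PF10.TopMake
import Cfsg.Agent.OddOrder.PF10.LambdaMass

/-!
# The configuration of the final contradiction and the masses used there (Peterfalvi 14)

`TopConfig` collects what Peterfalvi sections 10-13 give on the pair of subgroups of type P.
`TopConfig.exists_col_mass` is the lower bound for the first column on the support of `S_F #`;
`gMass_rest_col` the one on the region away from `S`, `T` and a third subgroup `L`.
-/

set_option autoImplicit false
set_option linter.style.haveILetI false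
set_option linter.unusedSectionVars false

namespace CfsgLib.OddOrder

open Cfsg CfsgLib.Characters CfsgLib.Coherence CfsgLib.OddOrderChar
open Subgroup (centralizer normalizer)

universe u

variable {G : Type u} [Group G]

/-- The pair of subgroups of type P as left by Peterfalvi 10-13: `q = |W₁| < p = |W₂|`, `S_F` and `T_F`
elementary abelian of orders `p ^ q` and `q ^ p`, `T` full with trivial `C_V(T_F)`, and the
alternatives for `U`. -/
structure TopConfig (S T W₁ U W₂ V : Subgroup G) : Prop extends FTPair S T W₁ U W₂ V where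
  lt : Nat.card W₁ < Nat.card W₂
  typeT' : IsOfTypeII T ∨ IsOfTypeIII T ∨ IsOfTypeIV T
  elemS : IsElementaryAbelian (Nat.card W₂) (fittingHallOf S)
  cardS : Nat.card (fittingHallOf S) = Nat.card W₂ ^ Nat.card W₁
  centS : U ⊓ centralizer (fittingHallOf S : Set G) = ⊥
  elemT : IsElementaryAbelian (Nat.card W₁) (fittingHallOf T)
  cardT : Nat.card (fittingHallOf T) = Nat.card W₁ ^ Nat.card W₂
  fullT : Nat.card V * (Nat.card W₁ - 1) = Nat.card W₁ ^ Nat.card W₂ - 1
  fpfT : ∀ x ∈ V, x ≠ 1 → fittingHallOf T ⊓ centralizer ({x} : Set G) = ⊥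
  altS : ((∀ x ∈ U, x ≠ 1 → fittingHallOf S ⊓ centralizer ({x} : Set G) = ⊥) ∧
      ∃ e, (e = 1 ∨ e = Nat.card W₁) ∧
        Nat.card U * e * (Nat.card W₂ - 1) = Nat.card W₂ ^ Nat.card W₁ - 1) ∨
    (Nat.card W₁ = 3 ∧ Nat.card U = ((Nat.card W₂ - 1) / 2) ^ 2 ∧
      ∃ x ∈ U, x ≠ 1 ∧ fittingHallOf S ⊓ centralizer ({x} : Set G) ≠ ⊥)

variable [Fintype G] {S T W₁ U W₂ V L : Subgroup G}

namespace FTFacts

variable (hG : IsMinSimpleOddOrder G) (F : FTFacts G)
include hG F

/-- A lower bound on each `Ñ` gives one on their union. -/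
theorem gMass_tildes_le {f : G → ℂ} {P : Subgroup G → Prop} (hP : ∀ N, P N → IsCoatom N)
    (hf : ∀ N, P N → gMass (tildeOf N (sigmaSet N)) (fun _ => 1) ≤ gMass (tildeOf N (sigmaSet N)) f) :
    gMass {g | ∃ N, P N ∧ g ∈ tildeOf N (sigmaSet N)} (fun _ => 1) ≤
      gMass {g | ∃ N, P N ∧ g ∈ tildeOf N (sigmaSet N)} f := by
  classical
  set 𝒩 : Finset (Subgroup G) := (Set.toFinite {N : Subgroup G | P N}).toFinset with h𝒩
  have hmem : ∀ N ∈ 𝒩, P N := fun N hN => by simpa [h𝒩] using hN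
  have hset : {g | ∃ N, P N ∧ g ∈ tildeOf N (sigmaSet N)} = ⋃ N ∈ 𝒩, tildeOf N (sigmaSet N) := by
    ext g
    simp [h𝒩]
  rw [hset]
  clear hset h𝒩
  clear_value 𝒩
  induction 𝒩 using Finset.induction_on with
  | empty => simp [gMass]
  | @insert N 𝒩 _ ih =>
    have hN := hmem N (Finset.mem_insert_self N 𝒩)
    have hmem' := fun M hM => hmem M (Finset.mem_insert_of_mem hM)
    rw [Finset.set_biUnion_insert]
    by_cases hrep : ∃ M ∈ 𝒩, ∃ x : G, N = M.map (MulAut.conj x).toMonoidHom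
    · obtain ⟨M, hM, x, rfl⟩ := hrep
      have hsub : tildeOf M (sigmaSet M) ⊆ ⋃ x ∈ 𝒩, tildeOf x (sigmaSet x) :=
        fun z hz => Set.mem_iUnion₂.2 ⟨M, hM, hz⟩
      rw [F.tilde_map hG (hP M (hmem' M hM)), Set.union_eq_self_of_subset_left hsub]
      exact ih hmem'
    push Not at hrep
    have hd : Disjoint (tildeOf N (sigmaSet N)) (⋃ M ∈ 𝒩, tildeOf M (sigmaSet M)) :=
      Set.disjoint_iUnion₂_right.2 fun M hM => (Set.disjoint_iff_inter_eq_empty.2
        (F.tilde_disjoint M N (hP M (hmem' M hM)) (hP N hN) (hrep M hM))).symm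
    rw [gMass_union hd, gMass_union hd]
    exact add_le_add (hf N hN) (ih hmem')

/-- A lower bound for the absolute square of the means gives one for the mass on `Ñ`. -/
theorem gMass_tilde_ge {N : Subgroup G} (hN : IsCoatom N) {f : G → ℂ} (hf : IsClassFunction G f)
    (hmean : ∀ a ∈ sigmaSet N, ∃ z : ℤ, cosetMean f a (supportR N a) = z ∧ Odd z) :
    gMass (tildeOf N (sigmaSet N)) (fun _ => 1) ≤ gMass (tildeOf N (sigmaSet N)) f := by
  classical
  letI : Fintype N := Fintype.ofFinite _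
  have hD := F.dade_sigma hG hN
  rw [← dadeSupp_eq_tildeOf, gMass_dadeSupp_one hD, ← one_mul ((_ : ℝ) / _)]
  refine gMass_dadeSupp_ge hD hf fun a ha => ?_
  obtain ⟨z, hz, hodd⟩ := hmean a ha
  rw [hz, Complex.normSq_intCast]
  have h0 : z ≠ 0 := fun e => by simp [e] at hodd
  have : (1 : ℤ) ≤ z * z := by nlinarith [mul_self_pos.2 h0]
  exact_mod_cast this

end FTFacts

/-- A maximal subgroup conjugate neither to `S` nor to `T` nor to `L`. -/
def IsRest (S T L N : Subgroup G) : Prop :=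
  IsCoatom N ∧ (∀ x : G, N ≠ S.map (MulAut.conj x).toMonoidHom) ∧
    (∀ x : G, N ≠ T.map (MulAut.conj x).toMonoidHom) ∧ ∀ x : G, N ≠ L.map (MulAut.conj x).toMonoidHom

/-- The union of the `Ñ` for such `N`. -/
def restRegion (S T L : Subgroup G) : Set G :=
  {g | ∃ N, IsRest S T L N ∧ g ∈ tildeOf N (sigmaSet N)}

namespace FTPair

variable (h : FTPair S T W₁ U W₂ V) (hG : IsMinSimpleOddOrder G) (F : FTFacts G)
  (hL : IsCoatom L) (hS : ∀ x : G, L ≠ S.map (MulAut.conj x).toMonoidHom)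
  (hT : ∀ x : G, L ≠ T.map (MulAut.conj x).toMonoidHom)
include h hG F hL hS hT

theorem tilde_subset_far : tildeOf L (sigmaSet L) ⊆ farRegion S T :=
  fun _ hg => ⟨L, hL, hS, hT, hg⟩

theorem rest_disjoint : Disjoint (restRegion S T L) (tildeOf L (sigmaSet L)) :=
  Set.disjoint_left.2 fun g ⟨N, hN, hg⟩ hgL => Set.eq_empty_iff_forall_notMem.1
    (F.tilde_disjoint L N hL hN.1 hN.2.2.2) g ⟨hgL, hg⟩

theorem rest_union : restRegion S T L ∪ tildeOf L (sigmaSet L) = farRegion S T := by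
  refine Set.Subset.antisymm (Set.union_subset (fun g ⟨N, hN, hg⟩ => ⟨N, hN.1, hN.2.1, hN.2.2.1, hg⟩)
    (h.tilde_subset_far hG F hL hS hT)) fun g ⟨N, hN, hNS, hNT, hg⟩ => ?_
  by_cases hc : ∃ x : G, N = L.map (MulAut.conj x).toMonoidHom
  · obtain ⟨x, rfl⟩ := hc
    exact Or.inr (F.tilde_map hG hL x ▸ hg)
  · push Not at hc
    exact Or.inl ⟨N, ⟨hN, hNS, hNT, hc⟩, hg⟩

theorem gMass_rest : gMass (restRegion S T L) (fun _ => 1) = gMass (farRegion S T) (fun _ => 1) -
    ((Nat.card (sigmaCore L) : ℝ) - 1) / Nat.card L := by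
  rw [← h.rest_union hG F hL hS hT, gMass_union (h.rest_disjoint hG F hL hS hT),
    h.gMass_tilde hG F hL, add_sub_cancel_right]

theorem gMass_rest_col {χ : (↥(W₁ ⊔ W₂) →* ℂˣ) → (G → ℂ)} (hχ : TIData W₁ W₂ χ) :
    gMass (restRegion S T L) (fun _ => 1) ≤ gMass (restRegion S T L) (col χ 1) :=
  F.gMass_tildes_le hG (fun _ hN => hN.1) fun _ hN => h.gMass_col_tilde hG F hχ hN.1
    (h.coprime_sigma_W hG F hN.1 hN.2.1 hN.2.2.1).1

end FTPair

namespace TopConfig

variable (h : TopConfig S T W₁ U W₂ V) (hG : IsMinSimpleOddOrder G) (F : FTFacts G)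
include h hG F

theorem prime_q : (Nat.card W₁).Prime := h.toFTPair.prime_W₁ hG F

theorem prime_p : (Nat.card W₂).Prime := h.toFTPair.prime_W₂ hG F h.typeT'

theorem three_le_q : 3 ≤ Nat.card W₁ := by
  have h2 := (h.prime_q hG F).two_le
  have hodd := minSimple_odd_subgroup hG W₁
  obtain ⟨a, ha⟩ := hodd
  omega

theorem add_two_le : Nat.card W₁ + 2 ≤ Nat.card W₂ := by
  obtain ⟨a, ha⟩ := minSimple_odd_subgroup hG W₁
  obtain ⟨b, hb⟩ := minSimple_odd_subgroup hG W₂
  have := h.lt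
  omega

theorem five_le_p : 5 ≤ Nat.card W₂ := by
  have := h.three_le_q hG F
  have := h.add_two_le hG F
  omega

theorem sigma_S : fittingHallOf S = sigmaCore S := (h.toFTPair.core_S hG F).1

/-- The sides and the family: the first column on the support of `S_F #`. -/
theorem exists_col_mass [Fintype S] [Fintype T] :
    ∃ χ, TIData W₁ W₂ χ ∧
      (Nat.card W₁ : ℝ) * ((Nat.card W₂ : ℝ) - 1) / ((Nat.card U : ℝ) * Nat.card W₂) ≤
        gMass (tildeOf S (sigmaSet S)) (col χ 1) := by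
  classical
  obtain ⟨χ, hχ, ⟨μ, δ, hs⟩, -⟩ := h.toFTPair.exists_sides hG F
  have hl : LamSide S W₁ U W₂ χ μ δ :=
    { toSide := hs
      data := h.dataS
      prime₁ := h.prime_q hG F
      prime₂ := h.prime_p hG F
      U_ne := h.toFTPair.U_ne hG F
      elem := h.elemS
      card_H := h.cardS
      derived_U := (TypeP.derived_U_le_kernel h.dataS).trans inf_le_right }
  have hcu : (centU S U).relIndex U = Nat.card U := by
    rw [centU, h.centS, Subgroup.relIndex_bot_left]
  have hset : lamSet S U = sigmaSet S := by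
    rw [lamSet, centU, h.centS, sup_bot_eq, h.sigma_S hG F]
  have hcent : ∀ x ∈ lamSet S U, centralizer ({x} : Set G) ≤ S := fun x hx =>
    F.toBG16Facts.typeII_centralizer_le hG h.coatomS h.typeII (hl.lamSet_subset0 hx)
  have hm := hl.gMass_col_ge hcent
  rw [hcu, hset, dadeSupp_eq_tildeOf] at hm
  refine ⟨χ, hχ, le_trans ?_ hm⟩
  have hcard : Nat.card W₂ - 1 ≤ Nat.card ↥(lamChars S U) := by
    haveI : Finite ↥(lamChars S U) := Subtype.finite
    choose θ hθ hθe using fun l : {l : rightHat W₁ W₂ // l ≠ 1} => hl.exists_lam_muSum l.2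
    have hinj : Function.Injective (fun l => (⟨θ l, hθ l⟩ : ↥(lamChars S U))) := fun a b e =>
      Subtype.ext (hl.muSum_inj (((hθe a).symm.trans (congrArg (lamInd S U) (congrArg Subtype.val e :))).trans (hθe b)))
    refine le_trans (le_of_eq ?_) (Nat.card_le_card_of_injective _ hinj)
    rw [Nat.card_eq_fintype_card (α := {l : rightHat W₁ W₂ // l ≠ 1}), Fintype.card_subtype_compl,
      Fintype.card_subtype_eq, hχ.card_right]
  have hp : (1 : ℝ) < Nat.card W₂ := by exact_mod_cast (h.prime_p hG F).one_lt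
  have hc' : (Nat.card W₂ : ℝ) - 1 ≤ (Nat.card ↥(lamChars S U) : ℝ) := by
    have : (Nat.card W₂ : ℝ) ≤ (Nat.card ↥(lamChars S U) : ℝ) + 1 := by exact_mod_cast (by omega)
    linarith
  have hu : (0 : ℝ) < Nat.card U := by exact_mod_cast Nat.card_pos
  have hL : (0 : ℝ) < (Nat.card ↥(lamChars S U) : ℝ) := by linarith
  have hq : (0 : ℝ) < Nat.card W₁ := by exact_mod_cast Nat.card_pos
  rw [div_le_div_iff₀ (by positivity) (by positivity), mul_one_add, mul_one_div]
  have hkey : ((Nat.card W₂ : ℝ) - 1) * ((Nat.card U : ℝ) + Nat.card U / Nat.card ↥(lamChars S U)) ≤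
      (Nat.card U : ℝ) * Nat.card W₂ := by
    have h1 : ((Nat.card W₂ : ℝ) - 1) * ((Nat.card U : ℝ) / Nat.card ↥(lamChars S U)) ≤ Nat.card U := by
      rw [mul_div_assoc', div_le_iff₀ hL]
      nlinarith
    nlinarith
  calc _ = (Nat.card W₁ : ℝ) *
        (((Nat.card W₂ : ℝ) - 1) * ((Nat.card U : ℝ) + Nat.card U / Nat.card ↥(lamChars S U))) := by ring
    _ ≤ _ := mul_le_mul_of_nonneg_left hkey hq.le

/-- `|U| > 2q + 1`. -/
theorem U_gt : 2 * Nat.card W₁ + 1 < Nat.card U := by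
  have hq := h.three_le_q hG F
  have hp := h.five_le_p hG F
  have hlt := h.add_two_le hG F
  rcases h.altS with ⟨-, e, he, heq⟩ | ⟨hq3, hu, -⟩
  · by_contra hle
    push Not at hle
    have h1 : Nat.card U * e * (Nat.card W₂ - 1) ≤
        (2 * Nat.card W₁ + 1) * Nat.card W₁ * (Nat.card W₂ - 1) := by
      refine Nat.mul_le_mul_right _ (Nat.mul_le_mul hle ?_)
      rcases he with rfl | rfl <;> omega
    rw [heq] at h1
    have h4 : (2 * Nat.card W₁ + 1) * Nat.card W₁ * (Nat.card W₂ - 1) + 1 <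
        Nat.card W₂ ^ Nat.card W₁ := by
      refine lt_of_le_of_lt (Nat.add_le_add_right (Nat.mul_le_mul_left _ (Nat.sub_le _ 1)) 1) ?_
      rcases Nat.eq_or_lt_of_le hq with hq3 | hq4
      · rw [← hq3, pow_succ, sq]
        nlinarith
      · refine lt_of_lt_of_le ?_ (Nat.pow_le_pow_right (show 0 < Nat.card W₂ by omega) hq4)
        have h5 : (2 * Nat.card W₁ + 1) * Nat.card W₁ ≤ 3 * (Nat.card W₂ * Nat.card W₂) := by nlinarith
        have h6 : 3 * (Nat.card W₂ * Nat.card W₂) * Nat.card W₂ + 1 <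
            Nat.card W₂ ^ (Nat.succ 3) := by
          rw [show Nat.card W₂ ^ (Nat.succ 3) =
            Nat.card W₂ * (Nat.card W₂ * Nat.card W₂ * Nat.card W₂) by ring]
          have : 0 < Nat.card W₂ * Nat.card W₂ * Nat.card W₂ := by positivity
          nlinarith
        nlinarith
    omega
  · obtain ⟨a, ha⟩ := minSimple_odd_subgroup hG U
    obtain ⟨c, hc⟩ := minSimple_odd_subgroup hG W₂
    rw [hu, hc] at ha
    rw [hu, hc, hq3]
    have h2 : (2 * c + 1 - 1) / 2 = c := by omega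
    rw [h2] at ha ⊢
    rcases Nat.lt_or_ge c 3 with h3 | h3
    · interval_cases c <;> omega
    · nlinarith

end TopConfig

end CfsgLib.OddOrder
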