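import Cfsg.Agent.OddOrder.PF10.PairFull
import Cfsg.Agent.OddOrder.PF10.TopMass
import Cfsg.Agent.OddOrder.PF10.NotAllI

/-!
# The configuration left by Peterfalvi 10-13

Given that no member of a pair is of Type V: the statement on the subgroups of type P used in
section 12, hence the Frobenius structure of the subgroups of Type I, and a `TopConfig`.
-/

set_option autoImplicit false
set_option linter.style.haveILetI false
set_option linter.unusedSectionVars false

open scoped commutatorElement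

namespace CfsgLib.OddOrder

open Cfsg
open Subgroup (centralizer normalizer)

universe u

variable {G : Type u} [Group G] [Fintype G]

namespace FTFacts

variable (hG : IsMinSimpleOddOrder G) (F : FTFacts G)
  (hV : ∀ S T W₁ U W₂ V : Subgroup G, FTPair S T W₁ U W₂ V → ¬ IsOfTypeV T)
include hG F hV

/-- The facts on the subgroups of type P not of Type II (Peterfalvi (11.x), (13.x)). -/
theorem typeP_facts {L W₁ U W₂ : Subgroup G} (hL : IsCoatom L) (hP : IsTypePWith L W₁ U W₂)
    (hII : ¬ IsOfTypeII L) :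
    IsMulCommutative U ∧ (Nat.card W₁).Prime ∧ (Nat.card W₂).Prime ∧
      Nat.card W₂ < Nat.card W₁ ∧ IsElementaryAbelian (Nat.card W₂) (fittingHallOf L) ∧
      Nat.card (fittingHallOf L) = Nat.card W₂ ^ Nat.card W₁ ∧
      U ⊓ centralizer (fittingHallOf L : Set G) = ⊥ := by
  obtain ⟨S, U', h⟩ := F.pair_of_bad hG hL hP hII
  have hv := hV _ _ _ _ _ _ h
  obtain ⟨hlt, hel, hcard, -⟩ := h.typeT_III_IV hG F hII hv
  obtain ⟨hC, -, -⟩ := h.T_full hG F hv hlt
  refine ⟨⟨⟨fun a b => Subtype.ext ?_⟩⟩, h.prime_W₂ hG F (h.typeT_ne_V hG F hv),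
    h.prime_W₁ hG F, hlt, hel, hcard, hC⟩
  have hc : ⁅(a : G), (b : G)⁆ ∈ U ⊓ centralizer (fittingHallOf L : Set G) :=
    ⟨U.commutator_le_self (Subgroup.commutator_mem_commutator a.2 b.2),
      typeP_commutator_U hP (Subgroup.commutator_mem_commutator a.2 b.2)⟩
  rw [hC, Subgroup.mem_bot] at hc
  exact commutatorElement_eq_one_iff_mul_comm.1 hc

/-- The facts of section 12. -/
theorem toPF12' : PF12Facts G :=
  F.toPF12 fun _ _ _ _ hL hP hII => F.typeP_facts hG hV hL hP hII

/-- Every maximal subgroup of Type I is a Frobenius group. -/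
theorem typeI_frobenius {M : Subgroup G} (hM : IsCoatom M) (hI : IsTypeI M) :
    ∀ x ∈ fittingHallOf M, x ≠ 1 → M ⊓ centralizer ({x} : Set G) ≤ fittingHallOf M :=
  (F.toPF12' hG hV).typeI_is_frobenius hG hM hI

/-- The final configuration. -/
theorem exists_topConfig : ∃ S T W₁ U W₂ V : Subgroup G, TopConfig S T W₁ U W₂ V := by
  -- a pair with `|W₁| < |W₂|`
  obtain ⟨S, T, W₁, U, W₂, V, h, hlt⟩ : ∃ S T W₁ U W₂ V : Subgroup G,
      FTPair S T W₁ U W₂ V ∧ Nat.card W₁ < Nat.card W₂ := by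
    obtain ⟨S, T, W₁, U, W₂, V, h⟩ := F.exists_pair' hG
    rcases lt_trichotomy (Nat.card W₁) (Nat.card W₂) with e | e | e
    · exact ⟨_, _, _, _, _, _, h, e⟩
    · exfalso
      have h3 := h.coprime_W
      rw [e, Nat.coprime_self] at h3
      have h4 := (h.prime_W₁ hG F).one_lt
      omega
    · by_cases hII : IsOfTypeII T
      · exact ⟨_, _, _, _, _, _, h.swap hII, e⟩
      · exact absurd (h.typeT_III_IV hG F hII (hV _ _ _ _ _ _ h)).1 (not_lt.2 e.le)
  have hv := hV _ _ _ _ _ _ h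
  have hT := h.typeT_ne_V hG F hv
  obtain ⟨hD, hfpf, hfull⟩ := h.T_full hG F hv hlt
  obtain ⟨hC, halt⟩ := h.S_cases hG F hv hlt
  refine ⟨S, T, W₁, U, W₂, V, { h with
    lt := hlt, typeT' := hT,
    elemS := TypeP.elementary_typeII h.dataS h.typeII (h.prime_W₂ hG F hT),
    cardS := TypeP.card_typeII h.dataS h.typeII,
    centS := hC,
    elemT := (h.elementary_T hG F hv).1,
    cardT := (h.elementary_T hG F hv).2,
    fullT := hfull, fpfT := hfpf, altS := ?_ }⟩
  rcases halt with ⟨hf, e⟩ | ⟨hf, -, e⟩ | h3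
  · exact Or.inl ⟨hf, 1, Or.inl rfl, by rw [mul_one]; exact e⟩
  · exact Or.inl ⟨hf, Nat.card W₁, Or.inr rfl, by rw [← e]; ring⟩
  · exact Or.inr h3

end FTFacts

end CfsgLib.OddOrder
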