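import Cfsg.Agent.OddOrderChar.CyclicTIRational
import Cfsg.Agent.Coherence.Virtual
import Cfsg.Agent.Characters.Generalized

/-!
# Galois fixed values, and averages of a virtual character over a coset of a centralising subgroup
-/

set_option autoImplicit false
set_option linter.style.haveILetI false
set_option linter.unusedSectionVars false

namespace CfsgLib.OddOrder

open Cfsg CfsgLib.Characters CfsgLib.OddOrderChar
open scoped ComplexConjugate

universe u

/-- An integral combination of `n`-th roots of unity fixed by every `k`-th power map is an integer. -/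
theorem int_of_galois_fixed {ι : Type*} (s : Finset ι) (n : ℕ) [NeZero n] {z : ℂ}
    (c : ι → ℤ) (μ : ι → ℂ) (hz : z = ∑ i ∈ s, (c i : ℂ) * μ i) (hμ : ∀ i ∈ s, μ i ^ n = 1)
    (hfix : ∀ (σ : ℂ ≃+* ℂ) (k : ℕ), k.Coprime n → (∀ w : ℂ, w ^ n = 1 → σ w = w ^ k) → σ z = z) :
    ∃ v : ℤ, z = v := by
  classical
  have hint : IsIntegral ℤ z := by
    rw [hz]
    refine IsIntegral.sum _ fun i hi => (isIntegral_algebraMap (x := c i)).mul ?_
    refine IsIntegral.of_pow (NeZero.pos n) ?_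
    rw [hμ i hi]
    exact isIntegral_one
  have hall : ∀ a : (ZMod n)ˣ, ∑ i ∈ s, (c i : ℂ) * μ i ^ (a : ZMod n).val = z := by
    intro a
    obtain ⟨σ, hσ⟩ := GaloisConj.exists_ringEquiv_pow n _ (ZMod.val_coe_unit_coprime a)
    refine Eq.trans ?_ (hfix σ _ (ZMod.val_coe_unit_coprime a) hσ)
    rw [hz, map_sum]
    exact Finset.sum_congr rfl fun i hi => by rw [map_mul, map_intCast, hσ _ (hμ i hi)]
  choose t ht using fun i : {i // i ∈ s} => exists_int_units_sum n (hμ i.1 i.2)
  refine PRational.exists_int_of_isIntegral_of_mul hint (b := Fintype.card (ZMod n)ˣ)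
    Fintype.card_ne_zero (a := ∑ i : {i // i ∈ s}, c i.1 * t i) ?_
  rw [← Finset.card_univ, ← nsmul_eq_mul, ← Finset.sum_const,
    ← Finset.sum_congr rfl fun a _ => hall a, Finset.sum_comm, ← Finset.sum_coe_sort s]
  push_cast
  refine Finset.sum_congr rfl fun i _ => ?_
  rw [← Finset.mul_sum, ht i]

variable {G : Type u} [Group G] [Fintype G]

open Classical in
/-- The average of `χ` over `a R`. -/
noncomputable def cosetMean (χ : G → ℂ) (a : G) (R : Subgroup G) : ℂ :=
  (Nat.card R : ℂ)⁻¹ * ∑ u : R, χ (a * u)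

theorem cosetMean_of_const {χ : G → ℂ} {a : G} {R : Subgroup G}
    (h : ∀ u ∈ R, χ (a * u) = χ a) : cosetMean χ a R = χ a := by
  classical
  unfold cosetMean
  rw [Finset.sum_congr rfl (s₁ := (Finset.univ : Finset R)) (g := fun _ => χ a)
    (fun u _ => h u u.2), Finset.sum_const,
    Finset.card_univ, Fintype.card_eq_nat_card, nsmul_eq_mul, ← mul_assoc,
    inv_mul_cancel₀ (Nat.cast_ne_zero.2 Nat.card_pos.ne'), one_mul]

theorem cosetMean_bot (χ : G → ℂ) (a : G) : cosetMean χ a ⊥ = χ a :=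
  cosetMean_of_const fun u hu => by rw [Subgroup.mem_bot.1 hu, mul_one]

open Classical in
/-- Cauchy's inequality on a coset. -/
theorem normSq_cosetMean_le (χ : G → ℂ) (a : G) (R : Subgroup G) :
    (Nat.card R : ℝ) * Complex.normSq (cosetMean χ a R) ≤ ∑ u : R, Complex.normSq (χ (a * u)) := by
  set S := ∑ u : R, Complex.normSq (χ (a * u))
  have hn : (0 : ℝ) < Nat.card R := by exact_mod_cast Nat.card_pos
  have h1 : ‖∑ u : R, χ (a * u)‖ ^ 2 ≤ (Nat.card R : ℝ) * S := by
    refine le_trans (pow_le_pow_left₀ (norm_nonneg _) (norm_sum_le _ _) 2) ?_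
    refine le_trans sq_sum_le_card_mul_sum_sq (le_of_eq ?_)
    rw [Finset.card_univ, Fintype.card_eq_nat_card]
    congr 1
    exact Finset.sum_congr rfl fun u _ => (Complex.normSq_eq_norm_sq _).symm
  rw [Complex.normSq_eq_norm_sq, cosetMean, norm_mul, norm_inv, Complex.norm_natCast, mul_pow]
  have h2 := mul_le_mul_of_nonneg_left h1 (inv_nonneg.2 hn.le)
  calc (Nat.card R : ℝ) * ((Nat.card R : ℝ)⁻¹ ^ 2 * ‖∑ u : R, χ (a * u)‖ ^ 2)
      = (Nat.card R : ℝ)⁻¹ * ‖∑ u : R, χ (a * u)‖ ^ 2 := by field_simp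
    _ ≤ (Nat.card R : ℝ)⁻¹ * ((Nat.card R : ℝ) * S) := h2
    _ = S := by field_simp

/-- The average of a virtual character over `a R`, for `R` centralising `a`, is an integral
combination of powers of roots of unity of order dividing that of `a`. -/
theorem cosetMean_expansion {χ : G → ℂ} (hχ : IsGeneralizedCharacter G χ) {a : G} {R : Subgroup G}
    (hR : R ≤ Subgroup.centralizer ({a} : Set G)) :
    ∃ (ι : Type u) (_ : Fintype ι) (c : ι → ℤ) (μ : ι → ℂ), (∀ i, μ i ^ orderOf a = 1) ∧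
      cosetMean χ a R = ∑ i, (c i : ℂ) * μ i := by
  classical
  set A := Subgroup.zpowers a
  have hcomm : ∀ (x : A) (u : R), Commute (A.subtype x) (R.subtype u) := by
    rintro ⟨_, m, rfl⟩ ⟨u, hu⟩
    exact (Commute.zpow_left (Subgroup.mem_centralizer_singleton_iff.1 (hR hu)).symm m)
  set f : ↥A × ↥R →* G := A.subtype.noncommCoprod R.subtype hcomm with hf
  have hgen := isGen_comp f hχ
  set ψ : A → ℂ := fun x => (Nat.card R : ℂ)⁻¹ * ∑ u : R, χ ((x : G) * u) with hψ
  have hψcl : IsClassFunction A ψ := fun x y => by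
    have : y * x * y⁻¹ = x := by
      rw [_root_.mul_comm' y x, mul_inv_cancel_right]
    show ψ (y * x * y⁻¹) = ψ x
    rw [this]
  have hcoef : ∀ θ : IrrCharacter A, ∃ z : ℤ, classInner ψ θ.1 = z := by
    intro θ
    obtain ⟨z, hz⟩ := Coherence.ci_int hgen (isGen_of_isCharacter
      (isCharacter_comp (MonoidHom.fst ↥A ↥R) (isCharacter_of_isIrr θ.2)))
    refine ⟨z, hz ▸ ?_⟩
    simp only [classInner, hψ, Nat.card_prod, Nat.cast_mul, mul_inv, Fintype.sum_prod_type]
    rw [Finset.mul_sum, Finset.mul_sum]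
    refine Finset.sum_congr rfl fun x _ => ?_
    simp only [hf, MonoidHom.noncommCoprod_apply, MonoidHom.coe_fst, Subgroup.coe_subtype,
      ← Finset.sum_mul]
    ring
  choose c hc using hcoef
  have hexp : ψ ⟨a, Subgroup.mem_zpowers a⟩ = ∑ θ : IrrCharacter A, (c θ : ℂ) * θ.1 ⟨a, Subgroup.mem_zpowers a⟩ := by
    have h := congrFun (classFunction_expansion hψcl) ⟨a, Subgroup.mem_zpowers a⟩
    simpa [Finset.sum_apply, hc] using h
  have hev : ∀ θ : IrrCharacter A, ∃ (d : ℕ) (μ : Fin d → ℂ), (∀ i, μ i ^ orderOf a = 1) ∧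
      θ.1 ⟨a, Subgroup.mem_zpowers a⟩ = ∑ i, μ i := by
    intro θ
    obtain ⟨d, ρ, hρ⟩ := isCharacter_of_isIrr θ.2
    obtain ⟨μ, hμ, hj, -⟩ := exists_eigenvalues ρ (⟨a, Subgroup.mem_zpowers a⟩ : A)
    refine ⟨_, μ, fun i => ?_, ?_⟩
    · rw [← Subgroup.orderOf_mk a (Subgroup.mem_zpowers a)]; exact hμ i
    · rw [← hρ]
      simpa using hj 1
  choose d μ hμ hμs using hev
  refine ⟨Σ θ : IrrCharacter A, Fin (d θ), inferInstance, fun p => c p.1, fun p => μ p.1 p.2,
    fun p => hμ p.1 p.2, ?_⟩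
  show ψ ⟨a, Subgroup.mem_zpowers a⟩ = _
  rw [hexp, Fintype.sum_sigma]
  exact Finset.sum_congr rfl fun θ _ => by rw [hμs θ, Finset.mul_sum]

end CfsgLib.OddOrder
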