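import Cfsg.Agent.OddOrder.PF7.Parity
import Cfsg.Agent.Coherence.Virtual

/-!
# Orthonormal families: the inequality of Bessel and the case of equality
-/

set_option autoImplicit false
set_option linter.unusedSectionVars false

namespace CfsgLib.OddOrder

open Cfsg ComplexConjugate CfsgLib.Characters CfsgLib.Coherence

universe u

variable {G : Type u} [Group G] [Fintype G]

/-- An orthonormal family of class functions. -/
def IsOrtho {κ : Type*} (v : κ → G → ℂ) : Prop :=
  (∀ k, classInner (v k) (v k) = 1) ∧ ∀ k l, k ≠ l → classInner (v k) (v l) = 0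

variable {κ κ' : Type*}

theorem IsOrtho.sum {v : κ → G → ℂ} {v' : κ' → G → ℂ} (h : IsOrtho v) (h' : IsOrtho v')
    (hx : ∀ k k', classInner (v k) (v' k') = 0) : IsOrtho (Sum.elim v v') := by
  refine ⟨fun k => ?_, fun k l hne => ?_⟩
  · rcases k with k | k
    exacts [h.1 k, h'.1 k]
  · rcases k with k | k <;> rcases l with l | l
    · exact h.2 k l fun e => hne (e ▸ rfl)
    · exact hx k l
    · show classInner (v' k) (v l) = 0
      rw [← ci_conj, hx, map_zero]
    · exact h'.2 k l fun e => hne (e ▸ rfl)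

variable [Fintype κ]

theorem IsOrtho.bessel {v : κ → G → ℂ} (h : IsOrtho v) (β : G → ℂ) :
    ∑ k, Complex.normSq (classInner β (v k)) ≤ sqNorm β :=
  bessel_family v h.1 h.2 β

theorem IsOrtho.ci_sum {v : κ → G → ℂ} (h : IsOrtho v) (c : κ → ℂ) (l : κ) :
    classInner (∑ k, c k • v k) (v l) = c l := by
  rw [ci_sum_left, Finset.sum_eq_single l]
  · rw [ci_smul_left, h.1, mul_one]
  · exact fun k _ hk => by rw [ci_smul_left, h.2 k l hk, mul_zero]
  · exact fun hl => absurd (Finset.mem_univ l) hl

/-- The case of equality in Bessel's inequality. -/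
theorem IsOrtho.expansion {v : κ → G → ℂ} (h : IsOrtho v) {β : G → ℂ}
    (hge : sqNorm β ≤ ∑ k, Complex.normSq (classInner β (v k))) :
    β = ∑ k, classInner β (v k) • v k := by
  set γ := ∑ k, classInner β (v k) • v k with hγ
  have h1 : classInner γ β = ((∑ k, Complex.normSq (classInner β (v k)) : ℝ) : ℂ) := by
    rw [hγ, ci_sum_left, Complex.ofReal_sum]
    refine Finset.sum_congr rfl fun k _ => ?_
    rw [ci_smul_left, ← ci_conj β (v k), Complex.mul_conj]
  have h2 : classInner γ γ = ((∑ k, Complex.normSq (classInner β (v k)) : ℝ) : ℂ) := by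
    conv_lhs => arg 2; rw [hγ]
    rw [ci_sum_right, Complex.ofReal_sum]
    refine Finset.sum_congr rfl fun k _ => ?_
    rw [ci_smul_right, hγ, h.ci_sum, mul_comm, Complex.mul_conj]
  refine sub_eq_zero.1 (sqNorm_eq_zero_iff.1 (le_antisymm ?_ (sqNorm_nonneg _)))
  rw [sqNorm, ci_sub_left, ci_sub_right, ci_sub_right, ← ci_conj γ β, h1, h2, Complex.conj_ofReal]
  simp only [sub_self, sub_zero, Complex.sub_re, Complex.ofReal_re]
  have : (classInner β β).re = sqNorm β := rfl
  linarith

end CfsgLib.OddOrder
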