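import Cfsg.Agent.OddOrder.PF10.Tables
import Cfsg.Agent.OddOrder.PF10.Galois
import Cfsg.Agent.OddOrder.PF10.Ortho
import Cfsg.Agent.OddOrderChar.CyclicTIExistence

/-!
# The cyclic TI family as a table: Galois action, column sums and their values

`eta χ k l = χ (k * l)` for `k` trivial on `W₂` and `l` trivial on `W₁`; `col χ l = ∑ k, eta χ k l`.
-/

set_option autoImplicit false
set_option linter.style.haveILetI false
set_option linter.unusedSectionVars false

namespace CfsgLib.OddOrder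

open Cfsg CfsgLib.Characters CfsgLib.Coherence CfsgLib.OddOrderChar
open scoped ComplexConjugate

universe u

variable {G : Type u} [Group G] [Fintype G] {W₁ W₂ : Subgroup G}

instance finite_homUnits {W : Type*} [Group W] [Finite W] : Finite (W →* ℂˣ) := by
  haveI : NeZero (Nat.card W) := ⟨Nat.card_pos.ne'⟩
  refine Finite.of_injective
    (fun f : W →* ℂˣ => fun w => (⟨f w, (mem_rootsOfUnity _ _).2
      (by rw [← map_pow, pow_card_eq_one', map_one])⟩ : rootsOfUnity (Nat.card W) ℂ)) fun f g h => ?_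
  exact MonoidHom.ext fun w => congrArg Subtype.val (congrFun h w)

noncomputable instance fintypeLeftHat : Fintype (leftHat W₁ W₂) := Fintype.ofFinite _
noncomputable instance fintypeRightHat : Fintype (rightHat W₁ W₂) := Fintype.ofFinite _
noncomputable instance fintypeJoin : Fintype ↥(W₁ ⊔ W₂) := Fintype.ofFinite _

instance : One (leftHat W₁ W₂) := ⟨⟨1, fun _ _ => rfl⟩⟩
instance : One (rightHat W₁ W₂) := ⟨⟨1, fun _ _ => rfl⟩⟩
instance : Inv (leftHat W₁ W₂) := ⟨fun k => ⟨k.1⁻¹, fun w hw => by simp [k.2 w hw]⟩⟩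
instance : Inv (rightHat W₁ W₂) := ⟨fun l => ⟨l.1⁻¹, fun w hw => by simp [l.2 w hw]⟩⟩

theorem leftHat_coe_one : ((1 : leftHat W₁ W₂) : ↥(W₁ ⊔ W₂) →* ℂˣ) = 1 := rfl
theorem rightHat_coe_one : ((1 : rightHat W₁ W₂) : ↥(W₁ ⊔ W₂) →* ℂˣ) = 1 := rfl
theorem leftHat_coe_inv (k : leftHat W₁ W₂) :
    ((k⁻¹ : leftHat W₁ W₂) : ↥(W₁ ⊔ W₂) →* ℂˣ) = k.1⁻¹ := rfl
theorem rightHat_coe_inv (l : rightHat W₁ W₂) :
    ((l⁻¹ : rightHat W₁ W₂) : ↥(W₁ ⊔ W₂) →* ℂˣ) = l.1⁻¹ := rfl

theorem leftHat_inv_inv (k : leftHat W₁ W₂) : k⁻¹⁻¹ = k := Subtype.ext (inv_inv k.1)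
theorem rightHat_inv_inv (l : rightHat W₁ W₂) : l⁻¹⁻¹ = l := Subtype.ext (inv_inv l.1)

/-- The standing hypothesis on `W = W₁ × W₂` and its family. -/
structure TIData (W₁ W₂ : Subgroup G) (χ : (↥(W₁ ⊔ W₂) →* ℂˣ) → (G → ℂ)) : Prop where
  snc : IsSelfNormalizingCyclic W₁ W₂
  odd : Odd (Nat.card ↥(W₁ ⊔ W₂))
  fam : IsCyclicTIFamily W₁ W₂ χ

theorem exists_tiData (hW : IsSelfNormalizingCyclic W₁ W₂) (hodd : Odd (Nat.card ↥(W₁ ⊔ W₂))) :
    ∃ χ, TIData W₁ W₂ χ :=
  (exists_cyclicTIFamily hW hodd).imp fun _ h => ⟨hW, hodd, h⟩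

/-- `η_{kl}`. -/
def eta (χ : (↥(W₁ ⊔ W₂) →* ℂˣ) → (G → ℂ)) (k : leftHat W₁ W₂) (l : rightHat W₁ W₂) : G → ℂ :=
  χ (k.1 * l.1)

/-- The column `l`. -/
noncomputable def col (χ : (↥(W₁ ⊔ W₂) →* ℂˣ) → (G → ℂ)) (l : rightHat W₁ W₂) : G → ℂ :=
  ∑ k : leftHat W₁ W₂, eta χ k l

/-- The table of `ψ`, as integers (meaningful for virtual characters). -/
noncomputable def coefT (χ : (↥(W₁ ⊔ W₂) →* ℂˣ) → (G → ℂ)) (ψ : G → ℂ) (k : leftHat W₁ W₂)
    (l : rightHat W₁ W₂) : ℤ :=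
  ⌊(classInner ψ (eta χ k l)).re⌋

/-- The Galois action on linear characters. -/
def galHom {W : Type*} [Group W] (σ : ℂ ≃+* ℂ) (ω : W →* ℂˣ) : W →* ℂˣ :=
  (Units.map (σ : ℂ →* ℂ)).comp ω

theorem galHom_apply {W : Type*} [Group W] (σ : ℂ ≃+* ℂ) (ω : W →* ℂˣ) (w : W) :
    (galHom σ ω w : ℂ) = σ (ω w : ℂ) := rfl

theorem galHom_mul {W : Type*} [Group W] (σ : ℂ ≃+* ℂ) (ω ω' : W →* ℂˣ) :
    galHom σ (ω * ω') = galHom σ ω * galHom σ ω' :=
  MonoidHom.ext fun w => Units.ext (by simp [galHom_apply])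

variable {χ : (↥(W₁ ⊔ W₂) →* ℂˣ) → (G → ℂ)}

theorem eta_one_one (h : TIData W₁ W₂ χ) : eta χ 1 1 = fun _ => (1 : ℂ) := by
  show χ (1 * 1) = _
  rw [show (1 : ↥(W₁ ⊔ W₂) →* ℂˣ) * 1 = 1 from MonoidHom.ext fun w => one_mul _, h.fam.map_one]

namespace TIData

variable (h : TIData W₁ W₂ χ)
include h

theorem factor : FactorPair W₁ W₂ := factorPair_of_snc h.snc

theorem card_left : Fintype.card (leftHat W₁ W₂) = Nat.card W₁ := by
  rw [← Nat.card_eq_fintype_card, h.factor.card_leftHat]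

theorem card_right : Fintype.card (rightHat W₁ W₂) = Nat.card W₂ := by
  rw [← Nat.card_eq_fintype_card, h.factor.card_rightHat]

theorem three_le_left : 3 ≤ Fintype.card (leftHat W₁ W₂) := by
  rw [h.card_left]; exact (snc_card_bounds h.snc h.odd).1

theorem three_le_right : 3 ≤ Fintype.card (rightHat W₁ W₂) := by
  rw [h.card_right]; exact (snc_card_bounds h.snc h.odd).2.1

theorem hat_inj {k k' : leftHat W₁ W₂} {l l' : rightHat W₁ W₂} (e : k.1 * l.1 = k'.1 * l'.1) :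
    k = k' ∧ l = l' := by
  have := h.factor.hatEquiv.injective (a₁ := (k, l)) (a₂ := (k', l')) e
  exact ⟨congrArg Prod.fst this, congrArg Prod.snd this⟩

theorem eta_signed (k : leftHat W₁ W₂) (l : rightHat W₁ W₂) : IsSignedIrr (eta χ k l) :=
  h.fam.irr_or_neg _

theorem eta_gen (k : leftHat W₁ W₂) (l : rightHat W₁ W₂) :
    IsGeneralizedCharacter G (eta χ k l) := by
  rcases h.eta_signed k l with h1 | h1
  · exact Coherence.isGen_of_isIrr h1
  · rw [← neg_neg (eta χ k l)]; exact Coherence.isGen_neg (Coherence.isGen_of_isIrr h1)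

theorem eta_cf (k : leftHat W₁ W₂) (l : rightHat W₁ W₂) : IsClassFunction G (eta χ k l) :=
  (h.eta_signed k l).isClassFunction

theorem eta_ortho :
    IsOrtho (fun p : leftHat W₁ W₂ × rightHat W₁ W₂ => eta χ p.1 p.2) := by
  refine ⟨fun p => by simp [eta, h.fam.orthonormal], fun p p' hne => ?_⟩
  show classInner (χ (p.1.1 * p.2.1)) (χ (p'.1.1 * p'.2.1)) = 0
  rw [h.fam.orthonormal, if_neg]
  intro e
  obtain ⟨h1, h2⟩ := h.hat_inj e
  exact hne (Prod.ext h1 h2)

theorem col_gen (l : rightHat W₁ W₂) : IsGeneralizedCharacter G (col χ l) :=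
  Coherence.isGen_sum _ _ fun k _ => h.eta_gen k l

theorem coefT_spec {ψ : G → ℂ} (hψ : IsGeneralizedCharacter G ψ) (k : leftHat W₁ W₂)
    (l : rightHat W₁ W₂) : classInner ψ (eta χ k l) = (coefT χ ψ k l : ℂ) := by
  obtain ⟨z, hz⟩ := ci_int hψ (h.eta_gen k l)
  simp [coefT, hz]

theorem coefT_one_one {ψ : G → ℂ} (hψ : IsGeneralizedCharacter G ψ) {z : ℤ}
    (hz : classInner ψ (fun _ => 1) = z) : coefT χ ψ 1 1 = z := by
  have := h.coefT_spec hψ 1 1
  rw [eta_one_one h, hz] at this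
  exact_mod_cast this.symm

/-- A virtual character vanishing on `V` has an additive table. -/
theorem additive {ψ : G → ℂ} (hψ : IsGeneralizedCharacter G ψ)
    (hV : ∀ w : ↥(W₁ ⊔ W₂), (w : G) ∉ W₁ → (w : G) ∉ W₂ → ψ w = 0) :
    AdditiveAt (coefT χ ψ) 1 1 := by
  intro k l
  have h1 := tiFamily_relation h.snc h.fam (Coherence.isClassFunction_of_isGen hψ) hV k l
  have e : ∀ (a : leftHat W₁ W₂) (b : rightHat W₁ W₂), classInner ψ (χ (a.1 * b.1)) = (coefT χ ψ a b : ℂ) :=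
    fun a b => h.coefT_spec hψ a b
  have e1 : χ 1 = χ ((1 : leftHat W₁ W₂).1 * (1 : rightHat W₁ W₂).1) :=
    congrArg χ (MonoidHom.ext fun w => (one_mul _).symm)
  have e2 : χ k.1 = χ (k.1 * (1 : rightHat W₁ W₂).1) :=
    congrArg χ (MonoidHom.ext fun w => (mul_one _).symm)
  have e3 : χ l.1 = χ ((1 : leftHat W₁ W₂).1 * l.1) :=
    congrArg χ (MonoidHom.ext fun w => (one_mul _).symm)
  rw [e1, e2, e3, e, e, e, e] at h1
  have h2 : coefT χ ψ 1 1 + coefT χ ψ k l = coefT χ ψ k 1 + coefT χ ψ 1 l := by exact_mod_cast h1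
  linarith

theorem normSq_coefT {ψ : G → ℂ} (hψ : IsGeneralizedCharacter G ψ) :
    ∑ p : leftHat W₁ W₂ × rightHat W₁ W₂, Complex.normSq (classInner ψ (eta χ p.1 p.2)) =
      (tableSq (coefT χ ψ) : ℝ) := by
  rw [tableSq, Fintype.sum_prod_type]
  push_cast
  refine Finset.sum_congr rfl fun k _ => Finset.sum_congr rfl fun l _ => ?_
  rw [h.coefT_spec hψ, Complex.normSq_intCast, sq]

/-- Bessel's inequality with a further orthonormal family orthogonal to the table. -/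
theorem table_bessel {κ : Type*} [Fintype κ] {v : κ → G → ℂ} (hv : IsOrtho v)
    (hx : ∀ i k l, classInner (v i) (eta χ k l) = 0) {ψ : G → ℂ}
    (hψ : IsGeneralizedCharacter G ψ) :
    ∑ i, Complex.normSq (classInner ψ (v i)) + (tableSq (coefT χ ψ) : ℝ) ≤ sqNorm ψ := by
  have h1 := (hv.sum h.eta_ortho fun i p => hx i p.1 p.2).bessel ψ
  simp only [Fintype.sum_sum_type, Sum.elim_inl, Sum.elim_inr] at h1
  rwa [h.normSq_coefT hψ] at h1

/-- Equality in Bessel's inequality gives the expansion. -/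
theorem table_expansion {κ : Type*} [Fintype κ] {v : κ → G → ℂ} (hv : IsOrtho v)
    (hx : ∀ i k l, classInner (v i) (eta χ k l) = 0) {ψ : G → ℂ}
    (hψ : IsGeneralizedCharacter G ψ)
    (hge : sqNorm ψ ≤ ∑ i, Complex.normSq (classInner ψ (v i)) + (tableSq (coefT χ ψ) : ℝ)) :
    ψ = ∑ i, classInner ψ (v i) • v i +
      ∑ k, ∑ l, (coefT χ ψ k l : ℂ) • eta χ k l := by
  have h1 := (hv.sum h.eta_ortho fun i p => hx i p.1 p.2).expansion (β := ψ) (by
    simp only [Fintype.sum_sum_type, Sum.elim_inl, Sum.elim_inr]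
    rwa [h.normSq_coefT hψ])
  simp only [Fintype.sum_sum_type, Sum.elim_inl, Sum.elim_inr, Fintype.sum_prod_type,
    h.coefT_spec hψ] at h1
  exact h1

/-- The inner product with a column. -/
theorem ci_col {ψ : G → ℂ} (hψ : IsGeneralizedCharacter G ψ) (l : rightHat W₁ W₂) :
    classInner ψ (col χ l) = ((∑ k, coefT χ ψ k l : ℤ) : ℂ) := by
  rw [col, ci_sum_right]
  push_cast
  exact Finset.sum_congr rfl fun k _ => h.coefT_spec hψ k l

/-! ### Conjugation and the Galois action -/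

theorem galois (σ : ℂ ≃+* ℂ) (ω : ↥(W₁ ⊔ W₂) →* ℂˣ) :
    (fun g => σ (χ ω g)) = χ (galHom σ ω) := by
  refine tiFamily_unique h.snc h.odd h.fam _ ?_ fun w h1 h2 => ?_
  · rcases h.fam.irr_or_neg ω with h1 | h1
    · exact Or.inl (GaloisConj.isIrrCharacter_comp σ h1)
    · refine Or.inr ?_
      have := GaloisConj.isIrrCharacter_comp σ h1
      convert this using 1
      funext x; simp
  · rw [h.fam.eq_on _ w h1 h2, h.fam.eq_on _ w h1 h2, galHom_apply]

theorem galois_fixed (σ : ℂ ≃+* ℂ) (ω : ↥(W₁ ⊔ W₂) →* ℂˣ)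
    (hσ : ∀ w, σ (ω w : ℂ) = (ω w : ℂ)) (g : G) : σ (χ ω g) = χ ω g := by
  have := congrFun (h.galois σ ω) g
  rw [this, show galHom σ ω = ω from MonoidHom.ext fun w => Units.ext (hσ w)]

theorem conj_fam (ω : ↥(W₁ ⊔ W₂) →* ℂˣ) : χ ω⁻¹ = conjFun (χ ω) := by
  refine (tiFamily_unique h.snc h.odd h.fam _ ?_ fun w h1 h2 => ?_).symm
  · rcases h.fam.irr_or_neg ω with h1 | h1
    · exact Or.inl (Coherence.isIrr_conjFun h1)
    · refine Or.inr ?_
      have := Coherence.isIrr_conjFun h1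
      convert this using 1
      funext x; simp [conjFun]
  · rw [h.fam.eq_on _ w h1 h2, conjFun, h.fam.eq_on _ w h1 h2]
    exact conj_hom_eq ω w

theorem eta_conj (k : leftHat W₁ W₂) (l : rightHat W₁ W₂) :
    eta χ k⁻¹ l⁻¹ = conjFun (eta χ k l) := by
  rw [eta, eta, ← h.conj_fam, leftHat_coe_inv, rightHat_coe_inv]
  exact congrArg χ (MonoidHom.ext fun w => by simp [mul_comm])

theorem coefT_conjFun {ψ : G → ℂ} (hψ : IsGeneralizedCharacter G ψ)
    (hψ' : IsGeneralizedCharacter G (conjFun ψ)) (k : leftHat W₁ W₂) (l : rightHat W₁ W₂) :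
    coefT χ (conjFun ψ) k⁻¹ l⁻¹ = coefT χ ψ k l := by
  have h1 := h.coefT_spec hψ' k⁻¹ l⁻¹
  rw [h.eta_conj, ci_conjFun, ← ci_conj, h.coefT_spec hψ, map_intCast] at h1
  exact_mod_cast h1.symm

/-! ### Values -/

/-- Off the conjugates of `V` the family is affine. -/
theorem eta_eq_off (k : leftHat W₁ W₂) (l : rightHat W₁ W₂) {g : G}
    (hg : ∀ (x : G) (w : ↥(W₁ ⊔ W₂)), x⁻¹ * g * x = (w : G) → (w : G) ∈ W₁ ∨ (w : G) ∈ W₂) :
    eta χ k l g = eta χ k 1 g + eta χ 1 l g - 1 := by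
  have e1 : ∀ (a : leftHat W₁ W₂), eta χ a 1 = χ a.1 := fun a =>
    congrArg χ (MonoidHom.ext fun w => mul_one _)
  have e2 : ∀ (b : rightHat W₁ W₂), eta χ 1 b = χ b.1 := fun b =>
    congrArg χ (MonoidHom.ext fun w => one_mul _)
  by_cases hk : k.1 = 1
  · rw [show k = 1 from Subtype.ext hk, eta_one_one h]; ring
  by_cases hl : l.1 = 1
  · rw [show l = 1 from Subtype.ext hl, eta_one_one h]; ring
  have h1 := congrFun (h.fam.induced_eq k.1 l.1 hk hl k.2 l.2) g
  have h2 : indFun (W₁ ⊔ W₂) (fun w => 1 - (k.1 w : ℂ) - (l.1 w : ℂ) + (k.1 w : ℂ) * (l.1 w : ℂ)) g = 0 := by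
    unfold indFun
    rw [Finset.sum_eq_zero, mul_zero]
    intro x _
    by_cases hm : x⁻¹ * g * x ∈ W₁ ⊔ W₂
    · rw [Characters.extendByZero_of_mem _ _ hm]
      exact tiAlpha_eq_zero k l (hg x ⟨_, hm⟩ rfl)
    · rw [OddOrderChar.extendByZero_of_notMem _ _ hm]
  rw [h2] at h1
  rw [e1, e2, eta]
  linear_combination -h1

/-- Off the conjugates of `V` every column is the first one plus a multiple of `|W₁|`. -/
theorem col_eq_off (l : rightHat W₁ W₂) {g : G}
    (hg : ∀ (x : G) (w : ↥(W₁ ⊔ W₂)), x⁻¹ * g * x = (w : G) → (w : G) ∈ W₁ ∨ (w : G) ∈ W₂) :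
    col χ l g = col χ 1 g + (Nat.card W₁ : ℂ) * (eta χ 1 l g - 1) := by
  simp only [col, Finset.sum_apply]
  rw [Finset.sum_congr rfl fun k _ => h.eta_eq_off k l hg, ← h.card_left, ← Finset.card_univ,
    ← nsmul_eq_mul, ← Finset.sum_const, ← Finset.sum_add_distrib]
  exact Finset.sum_congr rfl fun k _ => by ring

/-- Every column vanishes on `V`. -/
theorem col_on_V (l : rightHat W₁ W₂) (w : ↥(W₁ ⊔ W₂)) (h1 : (w : G) ∉ W₁) (h2 : (w : G) ∉ W₂) :
    col χ l w = 0 := by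
  simp only [col, Finset.sum_apply, eta, h.fam.eq_on _ w h1 h2, MonoidHom.mul_apply, Units.val_mul,
    ← Finset.sum_mul, h.factor.sum_leftHat_eq_zero h2, zero_mul]

theorem left_inv_ne {k : leftHat W₁ W₂} (hk : k ≠ 1) : k⁻¹ ≠ k := by
  intro e
  have hsq : ∀ w, k.1 w * k.1 w = 1 := fun w => by
    have h1 : k.1⁻¹ w = k.1 w := by rw [← leftHat_coe_inv, e]
    rw [MonoidHom.inv_apply] at h1
    calc k.1 w * k.1 w = (k.1 w)⁻¹ * k.1 w := by rw [h1]
      _ = 1 := inv_mul_cancel _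
  refine hk (Subtype.ext (MonoidHom.ext fun w => ?_))
  have h1 : orderOf (k.1 w) ∣ 2 := orderOf_dvd_of_pow_eq_one (by rw [pow_two, hsq])
  have h2 : orderOf (k.1 w) ∣ Nat.card ↥(W₁ ⊔ W₂) :=
    orderOf_dvd_of_pow_eq_one (by rw [← map_pow, pow_card_eq_one', map_one])
  have h3 : orderOf (k.1 w) ∣ 1 := by
    rw [← Nat.coprime_two_right.2 h.odd]
    exact Nat.dvd_gcd h2 h1
  exact orderOf_eq_one_iff.1 (Nat.dvd_one.1 h3)

/-- A sum of integers invariant under inversion, with `1` at the principal character, is odd. -/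
theorem odd_sum_left (z : leftHat W₁ W₂ → ℤ) (h1 : z 1 = 1) (hinv : ∀ k, z k⁻¹ = z k) :
    Odd (∑ k, z k) := by
  classical
  rw [← Finset.add_sum_erase _ _ (Finset.mem_univ (1 : leftHat W₁ W₂)), h1]
  refine Odd.add_even odd_one ((ZMod.intCast_zmod_eq_zero_iff_dvd _ 2).1 ?_ |> even_iff_two_dvd.2)
  push_cast
  refine Finset.sum_involution (fun k _ => k⁻¹) (fun k _ => ?_) (fun k hk _ e => ?_) (fun k hk => ?_)
    fun k _ => leftHat_inv_inv k
  · rw [hinv]; exact CharTwo.add_self_eq_zero _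
  · exact h.left_inv_ne (Finset.mem_erase.1 hk).1 e
  · refine Finset.mem_erase.2 ⟨fun e => (Finset.mem_erase.1 hk).1 ?_, Finset.mem_univ _⟩
    rw [← leftHat_inv_inv k, e]
    exact Subtype.ext (inv_one (G := ↥(W₁ ⊔ W₂) →* ℂˣ))

theorem left_pow_card (k : leftHat W₁ W₂) (w : ↥(W₁ ⊔ W₂)) :
    (k.1 w : ℂ) ^ Nat.card W₁ = 1 := by
  have e : k.1 w = k.1 (h.factor.fst w) := by
    conv_lhs => rw [← h.factor.fst_mul_snd w, map_mul, k.2 _ (h.factor.snd_mem w), mul_one]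
  have e2 : h.factor.fst w ^ Nat.card W₁ = 1 := by
    refine Subtype.ext ?_
    rw [SubmonoidClass.coe_pow]
    exact congrArg Subtype.val (pow_card_eq_one' (G := W₁) (x := ⟨_, h.factor.fst_mem w⟩))
  rw [e, ← Units.val_pow_eq_pow_val, ← map_pow, e2, map_one, Units.val_one]

/-- The average of `η_{k0}` over `a R` is an integer when the order of `a` is prime to `|W₁|`. -/
theorem mean_left_int (k : leftHat W₁ W₂) {a : G} {R : Subgroup G}
    (hR : R ≤ Subgroup.centralizer ({a} : Set G)) (ha : Nat.Coprime (orderOf a) (Nat.card W₁)) :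
    ∃ z : ℤ, cosetMean (eta χ k 1) a R = z := by
  classical
  obtain ⟨ι, _, c, μ, hμ, heq⟩ := cosetMean_expansion (h.eta_gen k 1) hR
  haveI : NeZero (orderOf a) := ⟨(orderOf_pos a).ne'⟩
  haveI : NeZero (Nat.card W₁ * orderOf a) := ⟨Nat.mul_ne_zero Nat.card_pos.ne' (orderOf_pos a).ne'⟩
  refine int_of_galois_fixed Finset.univ (orderOf a) c μ heq (fun i _ => hμ i) fun σ j hj hσ => ?_
  obtain ⟨j', hj1, hj2⟩ := Nat.chineseRemainder ha.symm 1 j
  have hcop : Nat.Coprime j' (Nat.card W₁ * orderOf a) := by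
    refine Nat.Coprime.mul_right ?_ ?_
    · rw [Nat.Coprime, hj1.gcd_eq, Nat.gcd_one_left]
    · rw [Nat.Coprime, hj2.gcd_eq]; exact hj
  obtain ⟨τ, hτ⟩ := GaloisConj.exists_ringEquiv_pow _ j' hcop
  have hval : σ (cosetMean (eta χ k 1) a R) = τ (cosetMean (eta χ k 1) a R) := by
    rw [heq, map_sum, map_sum]
    refine Finset.sum_congr rfl fun i _ => ?_
    rw [map_mul, map_mul, map_intCast, map_intCast, hσ _ (hμ i),
      hτ _ (by rw [mul_comm, pow_mul, hμ i, one_pow])]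
    congr 1
    exact (pow_eq_pow_of_modEq hj2 (hμ i)).symm
  have hfix : ∀ g, τ (eta χ k 1 g) = eta χ k 1 g := by
    refine h.galois_fixed τ _ fun w => ?_
    rw [rightHat_coe_one, MonoidHom.mul_apply, MonoidHom.one_apply, mul_one]
    have hw := h.left_pow_card k w
    rw [hτ _ (by rw [pow_mul, hw, one_pow])]
    conv_rhs => rw [← pow_one (k.1 w : ℂ)]
    exact pow_eq_pow_of_modEq hj1 hw
  rw [hval, cosetMean, map_mul, map_inv₀, map_natCast, map_sum]
  exact congrArg _ (Finset.sum_congr rfl fun u _ => hfix _)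

/-- Under the same hypothesis the average of the first column is an odd integer. -/
theorem mean_col_odd {a : G} {R : Subgroup G} (hR : R ≤ Subgroup.centralizer ({a} : Set G))
    (ha : Nat.Coprime (orderOf a) (Nat.card W₁)) :
    ∃ z : ℤ, cosetMean (col χ 1) a R = z ∧ Odd z := by
  classical
  choose z hz using fun k => h.mean_left_int k hR ha
  refine ⟨∑ k, z k, ?_, h.odd_sum_left z ?_ fun k => ?_⟩
  · push_cast
    rw [← Finset.sum_congr rfl fun k _ => hz k]
    simp only [cosetMean, col, Finset.sum_apply]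
    rw [Finset.sum_comm, Finset.mul_sum]
  · have h1 := hz 1
    rw [eta_one_one h, cosetMean_of_const (χ := fun _ => (1 : ℂ)) (fun u _ => rfl)] at h1
    exact_mod_cast h1.symm
  · have h1 := hz k⁻¹
    have e1 : (1 : rightHat W₁ W₂)⁻¹ = 1 := Subtype.ext (inv_one (G := ↥(W₁ ⊔ W₂) →* ℂˣ))
    rw [← e1, h.eta_conj] at h1
    have h2 := congrArg conj (hz k)
    simp only [cosetMean, conjFun, map_mul, map_inv₀, map_natCast, map_sum, map_intCast] at h1 h2
    exact_mod_cast (h2.symm.trans h1).symm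

/-- The first column takes odd integer values at elements of order prime to `|W₁|`. -/
theorem col_odd {g : G} (hg : Nat.Coprime (orderOf g) (Nat.card W₁)) :
    ∃ z : ℤ, col χ 1 g = z ∧ Odd z := by
  rw [← cosetMean_bot (col χ 1) g]
  exact h.mean_col_odd bot_le hg

/-- The first column takes rational integer values. -/
theorem col_int (g : G) : ∃ z : ℤ, col χ 1 g = z := by
  classical
  obtain ⟨ι, _, c, μ, hμ, heq⟩ := cosetMean_expansion (h.col_gen 1) (a := g) (R := ⊥) bot_le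
  rw [cosetMean_bot] at heq
  haveI : NeZero (orderOf g) := ⟨(orderOf_pos g).ne'⟩
  refine int_of_galois_fixed Finset.univ (orderOf g) c μ heq (fun i _ => hμ i) fun σ _ _ _ => ?_
  simp only [col, Finset.sum_apply, map_sum]
  refine Fintype.sum_bijective (fun k : leftHat W₁ W₂ =>
    (⟨galHom σ k.1, fun w hw => Units.ext (by simp [galHom_apply, k.2 w hw])⟩ : leftHat W₁ W₂))
    (Finite.injective_iff_bijective.1 fun a b e => ?_) _ _ fun k => ?_
  · exact Subtype.ext (MonoidHom.ext fun w => Units.ext (σ.injective (by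
      have := congrArg (fun z : leftHat W₁ W₂ => (z.1 w : ℂ)) e
      simpa [galHom_apply] using this)))
  · have := congrFun (h.galois σ (k.1 * (1 : rightHat W₁ W₂).1)) g
    refine this.trans (congrFun (congrArg χ ?_) g)
    exact MonoidHom.ext fun w => Units.ext (by simp [galHom_apply, rightHat_coe_one])

/-- The first column is divisible by `|W₁|` on the non-trivial elements of `W₂`. -/
theorem col_dvd (y : ↥(W₁ ⊔ W₂)) (hy2 : (y : G) ∈ W₂) (hy : y ≠ 1) :
    ∃ z : ℤ, col χ 1 (y : G) = z ∧ (Nat.card W₁ : ℤ) ∣ z := by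
  classical
  set f : ↥(W₁ ⊔ W₂) → ℂ := fun w => col χ 1 (w : G) with hf
  have hgen : IsGeneralizedCharacter ↥(W₁ ⊔ W₂) f := Characters.isGen_restrict _ (h.col_gen 1)
  haveI := h.factor.finite_hom
  letI : Fintype (↥(W₁ ⊔ W₂) →* ℂˣ) := Fintype.ofFinite _
  choose d hd using fun ω : ↥(W₁ ⊔ W₂) →* ℂˣ =>
    ci_int hgen (Coherence.isGen_of_isIrr (Characters.isIrr_linChar ω))
  have hrel : ∀ (k : leftHat W₁ W₂) (l : rightHat W₁ W₂),
      d (k.1 * l.1) = d k.1 + (d l.1 - d 1) := by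
    intro k l
    have h0 : classInner f (tiAlpha k.1 l.1) = 0 := by
      unfold classInner
      rw [Finset.sum_eq_zero, mul_zero]
      intro w _
      by_cases hw : (w : G) ∈ W₁ ∨ (w : G) ∈ W₂
      · rw [tiAlpha_eq_zero k l hw, map_zero, mul_zero]
      · push Not at hw
        show col χ 1 (w : G) * _ = 0
        rw [h.col_on_V 1 w hw.1 hw.2, zero_mul]
    have he : ∀ ω : ↥(W₁ ⊔ W₂) →* ℂˣ, classInner f (homFun ω) = (d ω : ℂ) := hd
    rw [tiAlpha_eq, ci_add_right, ci_sub_right, ci_sub_right, he, he, he, he] at h0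
    have : d 1 - d k.1 - d l.1 + d (k.1 * l.1) = 0 := by exact_mod_cast h0
    linarith
  have hy1 : (y : G) ∉ W₁ := fun h1 => hy (Subtype.ext (by
    have := h.factor.disjoint.le ⟨h1, hy2⟩
    simpa using this))
  have hval : f y = (Nat.card W₁ : ℂ) * ∑ l : rightHat W₁ W₂, ((d l.1 - d 1 : ℤ) : ℂ) * (l.1 y : ℂ) := by
    rw [h.factor.expansion f y]
    have he : ∀ ω : ↥(W₁ ⊔ W₂) →* ℂˣ,
        classInner f (fun w => (ω w : ℂ)) = (d ω : ℂ) := hd
    simp only [he]
    rw [← Equiv.sum_comp h.factor.hatEquiv, Fintype.sum_prod_type]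
    simp only [h.factor.hatEquiv_apply, hrel, MonoidHom.mul_apply, Units.val_mul, Int.cast_add,
      add_mul, Finset.sum_add_distrib]
    have hk : ∀ k : leftHat W₁ W₂, (k.1 y : ℂ) = 1 := fun k => by rw [k.2 y hy2, Units.val_one]
    simp only [hk, one_mul]
    rw [Finset.sum_eq_zero (fun k _ => by rw [← Finset.mul_sum, h.factor.sum_rightHat_eq_zero hy1,
      mul_zero]), zero_add, Finset.sum_const, Finset.card_univ, h.card_left, nsmul_eq_mul]
  obtain ⟨z, hz⟩ := h.col_int (y : G)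
  refine ⟨z, hz, ?_⟩
  have hint : IsIntegral ℤ (∑ l : rightHat W₁ W₂, ((d l.1 - d 1 : ℤ) : ℂ) * (l.1 y : ℂ)) := by
    refine IsIntegral.sum _ fun l _ => (isIntegral_algebraMap (x := d l.1 - d 1)).mul ?_
    refine IsIntegral.of_pow (orderOf_pos y) ?_
    rw [← Units.val_pow_eq_pow_val, ← map_pow, pow_orderOf_eq_one, map_one, Units.val_one]
    exact isIntegral_one
  obtain ⟨v, hv⟩ := PRational.exists_int_of_isIntegral_of_mul hint (a := z)
    (b := Nat.card W₁) Nat.card_pos.ne' (hval.symm.trans hz)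
  refine ⟨v, ?_⟩
  have hh := hval.symm.trans hz
  rw [hv] at hh
  exact_mod_cast hh.symm

end TIData

end CfsgLib.OddOrder
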