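import Cfsg.Agent.OddOrder.PF10.Mean
import Cfsg.Agent.OddOrder.PF10.EtaValues
import Cfsg.Agent.OddOrder.PF12.FrobeniusSide

/-!
# A subgroup with a coherent set of characters induced from a kernel (Peterfalvi 14)

`KSide` is common to a Frobenius maximal subgroup of Type I and to the member of Type III of the
final pair. `KSide.cross_false` is the parity argument: two such sides with disjoint supports and
large kernels cannot coexist. `KSide.gamma_table` is the table of `τ γ`, `γ = Ind 1 - ξ₀`.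
-/

set_option autoImplicit false
set_option linter.style.haveILetI false
set_option linter.unusedSectionVars false

namespace CfsgLib.OddOrder

open Cfsg CfsgLib.Characters CfsgLib.Coherence CfsgLib.OddOrderChar
open scoped ComplexConjugate

universe u

variable {G : Type u} [Group G] [Fintype G] {L : Subgroup G} [Fintype L]

noncomputable local instance fintypeSubTopSide (H : Subgroup ↥L) : Fintype H := Fintype.ofFinite H

/-- A Dade hypothesis on `K#` with a coherent extension of the characters induced from the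
characters of `K` trivial on `N`, and a member of least degree. -/
structure KSide (L : Subgroup G) [Fintype L] (K N : Subgroup ↥L) (A : Set G) (R : G → Subgroup G)
    (ξ₀ : ↥L → ℂ) (f : (↥L → ℂ) → (G → ℂ)) : Prop where
  dade : DadeHypothesis A L R
  oddG : Odd (Nat.card G)
  mem_iff : ∀ x : ↥L, (x : G) ∈ A ↔ x ∈ K ∧ x ≠ 1
  irr : ∀ φ ∈ inducedIrrAbove K N, IsIrrCharacter ↥L φ
  signed : ∀ φ ∈ inducedIrrAbove K N, IsSignedIrr (f φ)
  ortho : ∀ φ ∈ inducedIrrAbove K N, ∀ ψ ∈ inducedIrrAbove K N, φ ≠ ψ →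
    classInner (f φ) (f ψ) = 0
  agree : ∀ φ ∈ inducedIrrAbove K N, ∀ ψ ∈ inducedIrrAbove K N,
    dadeIsometry A L R (ψ 1 • φ - φ 1 • ψ) = ψ 1 • f φ - φ 1 • f ψ
  mem : ξ₀ ∈ inducedIrrAbove K N
  deg : ξ₀ 1 = (K.index : ℂ)

/-- Functions with disjoint supports are orthogonal. -/
theorem ci_eq_zero_of_disjoint {a b : G → ℂ} {X Y : Set G} (hd : Disjoint X Y)
    (ha : ∀ g ∉ X, a g = 0) (hb : ∀ g ∉ Y, b g = 0) : classInner a b = 0 := by
  unfold classInner
  rw [Finset.sum_eq_zero, mul_zero]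
  intro g _
  by_cases hg : g ∈ X
  · rw [hb g (Set.disjoint_left.1 hd hg), map_zero, mul_zero]
  · rw [ha g hg, zero_mul]

theorem signedIrr_gen {u : G → ℂ} (h : IsSignedIrr u) : IsGeneralizedCharacter G u := by
  rcases h with h | h
  · exact Coherence.isGen_of_isIrr h
  · rw [← neg_neg u]; exact Coherence.isGen_neg (Coherence.isGen_of_isIrr h)

theorem signedIrr_eq_or_neg {u v : G → ℂ} (hu : IsSignedIrr u) (hv : IsSignedIrr v)
    (h : classInner u v ≠ 0) : v = u ∨ v = -u := by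
  by_contra hc
  push Not at hc
  exact h (hu.inner_eq_zero hv (fun e => hc.1 e.symm) (fun e => hc.2 e.symm))

/-- If the differences with their conjugates are orthogonal then so are two signed irreducibles,
each orthogonal to its conjugate. -/
theorem signedIrr_ci_eq_zero {a a' b b' : G → ℂ} (ha : IsSignedIrr a) (hb : IsSignedIrr b)
    (ea : a' = conjFun a) (eb : b' = conjFun b) (haa : classInner a a' = 0)
    (h : classInner (a - a') (b - b') = 0) : classInner a b = 0 := by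
  subst ea eb
  by_contra hne
  have hca : classInner (conjFun a) a = 0 := by rw [← ci_conj, haa, map_zero]
  rcases signedIrr_eq_or_neg ha hb hne with rfl | rfl
  · rw [ci_sub_left, ci_sub_right, ci_sub_right, ha.inner_self, haa, hca, ci_conjFun,
      ha.inner_self] at h
    norm_num at h
  · have e : conjFun (-a) = -conjFun a := by funext x; simp [conjFun]
    rw [e, ci_sub_left, ci_sub_right, ci_sub_right, ci_neg_right, ci_neg_right, ci_neg_right,
      ci_neg_right, ha.inner_self, haa, hca, ci_conjFun, ha.inner_self] at h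
    norm_num at h

/-- A function orthogonal to the difference of two orthogonal signed irreducibles is orthogonal to
both, if it is itself signed irreducible. -/
theorem signedIrr_ci_zero_of_diff {a b e : G → ℂ} (ha : IsSignedIrr a) (hb : IsSignedIrr b)
    (he : IsSignedIrr e) (hab : classInner a b = 0) (h : classInner (a - b) e = 0) :
    classInner a e = 0 := by
  by_contra hne
  rw [ci_sub_left, sub_eq_zero] at h
  have hba : classInner b a = 0 := by rw [← ci_conj, hab, map_zero]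
  rcases signedIrr_eq_or_neg ha he hne with e' | e'
  · rw [e', hba] at h
    rw [e'] at hne
    exact hne h
  · rw [e', ci_neg_right, ci_neg_right, hba, neg_zero] at h
    rw [e', ci_neg_right] at hne
    exact hne (by rw [h])

namespace KSide

variable {K N : Subgroup ↥L} [K.Normal] [N.Normal] {A : Set G} {R : G → Subgroup G}
  {ξ₀ : ↥L → ℂ} {f : (↥L → ℂ) → (G → ℂ)} (h : KSide L K N A R ξ₀ f)
include h

/-- `γ = Ind 1 - ξ₀`. -/
noncomputable def gamma (_h : KSide L K N A R ξ₀ f) : ↥L → ℂ := indFun K (fun _ => 1) - ξ₀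

/-- `Δ = τ γ + f ξ₀`. -/
noncomputable def delta (_h : KSide L K N A R ξ₀ f) : G → ℂ :=
  dadeIsometry A L R _h.gamma + f ξ₀

theorem oddL : Odd (Nat.card L) := h.oddG.of_dvd_nat L.card_subgroup_dvd_card

theorem index_pos : (0 : ℝ) < (K.index : ℝ) :=
  Nat.cast_pos.2 (Nat.pos_of_ne_zero K.index_ne_zero_of_finite)

theorem index_ne : (K.index : ℂ) ≠ 0 := Nat.cast_ne_zero.2 K.index_ne_zero_of_finite

theorem vanish {φ : ↥L → ℂ} (hφ : φ ∈ inducedIrrAbove K N) {x : ↥L} (hx : x ∉ K) : φ x = 0 := by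
  obtain ⟨θ, -, -, -, rfl⟩ := hφ
  exact indFun_normal_eq_zero _ _ hx

theorem supp {α : ↥L → ℂ} (hv : ∀ x ∉ K, α x = 0) (h1 : α 1 = 0) :
    ∀ x : ↥L, (x : G) ∉ A → α x = 0 := by
  intro x hx
  by_cases hx1 : x = 1
  · rw [hx1, h1]
  · exact hv x fun hK => hx ((h.mem_iff x).2 ⟨hK, hx1⟩)

theorem degree {φ : ↥L → ℂ} (hφ : φ ∈ inducedIrrAbove K N) : ∃ m : ℕ, φ 1 = (K.index : ℂ) * m := by
  obtain ⟨θ, hθ, -, -, rfl⟩ := hφ
  obtain ⟨m, -, hm⟩ := exists_degree_pos hθ
  exact ⟨m, by rw [Coherence.ind_one, hm]⟩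

theorem ci_one {φ : ↥L → ℂ} (hφ : φ ∈ inducedIrrAbove K N) :
    classInner φ (fun _ => 1) = 0 := by
  obtain ⟨θ, hθ, hne, -, rfl⟩ := hφ
  rw [OddOrderChar.classInner_indFun_left _ _ (fun _ _ => rfl)]
  exact classInner_isIrr_ne hθ Characters.isIrr_one hne

theorem conj_mem {φ : ↥L → ℂ} (hφ : φ ∈ inducedIrrAbove K N) :
    conjFun φ ∈ inducedIrrAbove K N ∧ conjFun φ ≠ φ := by
  refine ⟨Coherence.conj_mem_inducedIrrAbove _ hφ, fun e => ?_⟩
  have h1 := h.ci_one hφ
  rw [Characters.eq_one_of_real_of_odd h.oddL (h.irr φ hφ)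
    (fun g => Complex.conj_eq_iff_im.1 (congrFun e g)), classInner_isIrr_self Characters.isIrr_one] at h1
  exact one_ne_zero h1

/-- The basic differences. -/
theorem diff_facts {φ : ↥L → ℂ} (hφ : φ ∈ inducedIrrAbove K N) {m : ℕ}
    (hm : φ 1 = (K.index : ℂ) * m) :
    IsGeneralizedCharacter ↥L (φ - (m : ℂ) • ξ₀) ∧
      (∀ x : ↥L, (x : G) ∉ A → (φ - (m : ℂ) • ξ₀) x = 0) ∧
      dadeIsometry A L R (φ - (m : ℂ) • ξ₀) = f φ - (m : ℂ) • f ξ₀ := by
  refine ⟨Coherence.isGen_sub (Coherence.isGen_of_isIrr (h.irr φ hφ)) ?_, h.supp (fun x hx => ?_) ?_, ?_⟩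
  · have := Coherence.isGen_intCast_smul (Coherence.isGen_of_isIrr (h.irr ξ₀ h.mem)) (m : ℤ)
    rwa [Int.cast_natCast] at this
  · rw [Pi.sub_apply, Pi.smul_apply, h.vanish hφ hx, h.vanish h.mem hx, smul_zero, sub_zero]
  · rw [Pi.sub_apply, Pi.smul_apply, hm, h.deg, smul_eq_mul]; ring
  · have h1 := h.agree φ hφ ξ₀ h.mem
    rw [h.deg, hm, mul_smul, mul_smul, ← smul_sub, ← smul_sub, dade_smul] at h1
    exact smul_right_injective (G → ℂ) h.index_ne h1

/-- The extension commutes with conjugation. -/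
theorem conj_f {φ : ↥L → ℂ} (hφ : φ ∈ inducedIrrAbove K N) :
    f (conjFun φ) = conjFun (f φ) ∧
      dadeIsometry A L R (φ - conjFun φ) = f φ - f (conjFun φ) := by
  obtain ⟨hc, hne⟩ := h.conj_mem hφ
  obtain ⟨d, hd0, hd⟩ := exists_degree_pos (h.irr φ hφ)
  have hdc : conjFun φ 1 = (d : ℂ) := by simp [conjFun, hd]
  have hagree : dadeIsometry A L R (φ - conjFun φ) = f φ - f (conjFun φ) := by
    have h1 := h.agree φ hφ _ hc
    rw [hd, hdc, ← smul_sub, ← smul_sub, dade_smul] at h1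
    exact smul_right_injective (G → ℂ) (Nat.cast_ne_zero.2 (by omega) : (d : ℂ) ≠ 0) h1
  refine ⟨?_, hagree⟩
  obtain ⟨ν, hν, eν⟩ := dade_sub_conj h.dade (h.irr φ hφ) fun x hx hxA =>
    h.vanish hφ fun hK => hxA ((h.mem_iff x).2 ⟨hK, hx⟩)
  rw [hagree] at eν
  refine eq_conjFun_of_sub_eq (h.signed φ hφ) (h.signed _ hc) hν eν fun hr => ?_
  have h2 : classInner (f φ - f (conjFun φ)) (f φ) = 0 := by
    rw [eν, hr, sub_self, classInner_zero_left]
  rw [ci_sub_left, (h.signed φ hφ).inner_self, h.ortho _ hc φ hφ hne] at h2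
  norm_num at h2

theorem conj_diff_facts {φ : ↥L → ℂ} (hφ : φ ∈ inducedIrrAbove K N) :
    IsGeneralizedCharacter ↥L (φ - conjFun φ) ∧
      ∀ x : ↥L, (x : G) ∉ A → (φ - conjFun φ) x = 0 := by
  obtain ⟨hc, -⟩ := h.conj_mem hφ
  refine ⟨Coherence.isGen_sub (Coherence.isGen_of_isIrr (h.irr φ hφ))
    (Coherence.isGen_of_isIrr (h.irr _ hc)), h.supp (fun x hx => ?_) ?_⟩
  · rw [Pi.sub_apply, h.vanish hφ hx, h.vanish hc hx, sub_self]
  · obtain ⟨d, -, hd⟩ := exists_degree_pos (h.irr φ hφ)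
    simp [conjFun, hd]

theorem f_ci_one {φ : ↥L → ℂ} (hφ : φ ∈ inducedIrrAbove K N) :
    classInner (f φ) (fun _ => 1) = 0 := by
  obtain ⟨hc, hne⟩ := h.conj_mem hφ
  obtain ⟨hgen, hs⟩ := h.conj_diff_facts hφ
  refine signedIrr_ci_zero_of_diff (h.signed φ hφ) (h.signed _ hc) (Or.inl Characters.isIrr_one)
    (h.ortho φ hφ _ hc (Ne.symm hne)) ?_
  rw [← (h.conj_f hφ).2, classInner_dade_one h.dade (Coherence.isClassFunction_of_isGen hgen) hs,
    ci_sub_left, h.ci_one hφ, h.ci_one hc, sub_self]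

theorem gamma_facts :
    IsGeneralizedCharacter ↥L h.gamma ∧ (∀ x : ↥L, (x : G) ∉ A → h.gamma x = 0) ∧
    sqNorm h.gamma = (K.index : ℝ) + 1 ∧ classInner h.gamma (fun _ => 1) = 1 ∧
    classInner h.gamma ξ₀ = -1 ∧
    ∀ φ ∈ inducedIrrAbove K N, φ ≠ ξ₀ → classInner h.gamma φ = 0 := by
  have h1 : IsIrrCharacter ↥K (fun _ => (1 : ℂ)) := Characters.isIrr_one
  have e1 : classInner (indFun K fun _ => (1 : ℂ)) (indFun K fun _ => 1) = (K.index : ℂ) := by
    rw [Coherence.ci_ind_self _ h1]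
    have e : stabCard K (fun _ : K => (1 : ℂ)) = Nat.card L := by
      rw [stabCard]
      exact Nat.card_congr (Equiv.subtypeUnivEquiv fun g => conjBy_principal _ g)
    rw [e, ← K.index_mul_card, Nat.cast_mul, mul_div_assoc, div_self natCard_ne_zero, mul_one]
  have e2 : ∀ φ ∈ inducedIrrAbove K N, classInner (indFun K fun _ => (1 : ℂ)) φ = 0 := by
    intro φ hφ
    obtain ⟨θ, hθ, hne, -, rfl⟩ := hφ
    rw [← ci_conj, classInner_ind_ind_eq_zero K h1 hθ
      (fun g e => hne (e.trans (conjBy_principal _ g))), map_zero]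
  have e3 : classInner (indFun K fun _ => (1 : ℂ)) (fun _ => 1) = 1 := by
    rw [OddOrderChar.classInner_indFun_left _ _ (fun _ _ => rfl)]
    exact classInner_isIrr_self h1
  have hirr := h.irr ξ₀ h.mem
  refine ⟨Coherence.isGen_sub (Characters.isGen_of_isCharacter (OddOrderChar.isCharacter_indFun _
      (isCharacter_of_isIrr h1))) (Coherence.isGen_of_isIrr hirr), h.supp (fun x hx => ?_) ?_, ?_, ?_, ?_,
    fun φ hφ hne => ?_⟩
  · rw [gamma, Pi.sub_apply, indFun_normal_eq_zero _ _ hx, h.vanish h.mem hx, sub_self]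
  · rw [gamma, Pi.sub_apply, Coherence.ind_one, h.deg, mul_one, sub_self]
  · rw [sqNorm, gamma, ci_sub_left, ci_sub_right, ci_sub_right, e1, e2 _ h.mem, ← ci_conj _ ξ₀,
      e2 _ h.mem, map_zero, classInner_isIrr_self hirr]
    simp
  · rw [gamma, ci_sub_left, e3, h.ci_one h.mem, sub_zero]
  · rw [gamma, ci_sub_left, e2 _ h.mem, classInner_isIrr_self hirr, zero_sub]
  · rw [gamma, ci_sub_left, e2 _ hφ, classInner_isIrr_ne hirr (h.irr φ hφ) (Ne.symm hne), sub_zero]

theorem tau_gamma_gen : IsGeneralizedCharacter G (dadeIsometry A L R h.gamma) :=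
  isGen_dade h.dade h.gamma_facts.1 h.gamma_facts.2.1

theorem tau_gamma_sqNorm : sqNorm (dadeIsometry A L R h.gamma) = (K.index : ℝ) + 1 := by
  obtain ⟨hgen, hs, hn, -⟩ := h.gamma_facts
  rw [← hn, sqNorm, sqNorm, classInner_dade h.dade (Coherence.isClassFunction_of_isGen hgen) hs
    (Coherence.isClassFunction_of_isGen hgen) hs]

theorem delta_facts : IsGeneralizedCharacter G h.delta ∧ conjFun h.delta = h.delta ∧
    classInner h.delta (fun _ => 1) = 1 := by
  obtain ⟨hgen, hs, -, h1, -⟩ := h.gamma_facts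
  refine ⟨Coherence.isGen_add h.tau_gamma_gen (signedIrr_gen (h.signed _ h.mem)), ?_, ?_⟩
  · obtain ⟨e1, e2⟩ := h.conj_f h.mem
    have hγ : conjFun h.gamma = h.gamma + (ξ₀ - conjFun ξ₀) := by
      funext x
      have hi : conj (indFun K (fun _ => (1 : ℂ)) x) = indFun K (fun _ => (1 : ℂ)) x := by
        have := congrFun (Coherence.conjFun_ind K (fun _ => (1 : ℂ))) x
        rw [conjFun] at this
        rw [this]
        congr 2
        funext y
        simp [conjFun]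
      simp only [gamma, conjFun, Pi.sub_apply, Pi.add_apply, map_sub, hi]
      ring
    rw [delta, show conjFun (dadeIsometry A L R h.gamma + f ξ₀) =
      conjFun (dadeIsometry A L R h.gamma) + conjFun (f ξ₀) from funext fun x => map_add _ _ _,
      ← dade_conjFun, hγ, dade_add, e2, ← e1]
    abel
  · rw [delta, ci_add_left, classInner_dade_one h.dade (Coherence.isClassFunction_of_isGen hgen) hs,
      h1, h.f_ci_one h.mem, add_zero]

/-- The members as a finset. -/
noncomputable def members (_h : KSide L K N A R ξ₀ f) : Finset (↥L → ℂ) :=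
  (finite_irr_set _h.irr).toFinset

theorem mem_members {φ : ↥L → ℂ} : φ ∈ h.members ↔ φ ∈ inducedIrrAbove K N :=
  (finite_irr_set h.irr).mem_toFinset

theorem sum_sq : ∑ φ ∈ h.members, φ 1 ^ 2 = (K.index : ℂ) * ((N.relIndex K : ℂ) - 1) := by
  rw [← sum_deg_sq_div K N h.members (finite_irr_set h.irr).coe_toFinset]
  exact Finset.sum_congr rfl fun φ hφ => by
    rw [classInner_isIrr_self (h.irr φ (h.mem_members.1 hφ)), div_one]

theorem f_isOrtho : IsOrtho (fun φ : {φ // φ ∈ h.members} => f φ.1) :=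
  ⟨fun φ => (h.signed _ (h.mem_members.1 φ.2)).inner_self, fun φ ψ hne =>
    h.ortho _ (h.mem_members.1 φ.2) _ (h.mem_members.1 ψ.2) fun e => hne (Subtype.ext e)⟩

/-- The coefficients of a function whose products with the differences are those of `-c ξ₀`. -/
theorem proj {ψ : G → ℂ} (hψ : IsGeneralizedCharacter G ψ) (c : ℤ)
    (hd : ∀ φ ∈ inducedIrrAbove K N, ∀ m : ℕ, φ 1 = (K.index : ℂ) * m →
      classInner ψ (dadeIsometry A L R (φ - (m : ℂ) • ξ₀)) =
        if φ = ξ₀ then 0 else (m : ℂ) * (c : ℂ)) :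
    ∃ g : ℤ, classInner ψ (f ξ₀) = (g : ℂ) - c ∧
      (∀ φ ∈ inducedIrrAbove K N, φ ≠ ξ₀ →
        classInner ψ (f φ) = φ 1 / (K.index : ℂ) * g) ∧
      ∑ φ : {φ // φ ∈ h.members}, Complex.normSq (classInner ψ (f φ.1)) =
        (g : ℝ) ^ 2 * (((N.relIndex K : ℝ) - 1) / K.index) - 2 * g * c + (c : ℝ) ^ 2 := by
  classical
  obtain ⟨z, hz⟩ := ci_int hψ (signedIrr_gen (h.signed _ h.mem))
  have hoth : ∀ φ ∈ inducedIrrAbove K N, φ ≠ ξ₀ →
      classInner ψ (f φ) = φ 1 / (K.index : ℂ) * ((z + c : ℤ) : ℂ) := by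
    intro φ hφ hne
    obtain ⟨m, hm⟩ := h.degree hφ
    obtain ⟨-, -, e⟩ := h.diff_facts hφ hm
    have h1 := hd φ hφ m hm
    rw [if_neg hne, e, ci_sub_right, ci_smul_right, Complex.conj_natCast, hz, sub_eq_iff_eq_add] at h1
    rw [h1, hm, mul_div_cancel_left₀ _ h.index_ne]
    push_cast
    ring
  refine ⟨z + c, by rw [hz]; push_cast; ring, hoth, ?_⟩
  have hre : ∀ φ ∈ h.members, (φ 1 / (K.index : ℂ)) = (((φ 1).re / K.index : ℝ) : ℂ) := by
    intro φ hφ
    obtain ⟨m, hm⟩ := h.degree (h.mem_members.1 hφ)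
    rw [hm]
    simp
  have hS : ∑ φ ∈ h.members, ((φ 1).re / K.index) ^ 2 = ((N.relIndex K : ℝ) - 1) / K.index := by
    have e : ((∑ φ ∈ h.members, ((φ 1).re / K.index) ^ 2 : ℝ) : ℂ) =
        ((((N.relIndex K : ℝ) - 1) / K.index : ℝ) : ℂ) := by
      rw [Complex.ofReal_sum, Finset.sum_congr rfl (g := fun φ => ((K.index : ℂ) ^ 2)⁻¹ * φ 1 ^ 2)
        (fun φ hφ => by rw [Complex.ofReal_pow, ← hre φ hφ, div_pow]; ring),
        ← Finset.mul_sum, h.sum_sq]
      have := h.index_ne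
      push_cast
      field_simp
    exact_mod_cast e
  rw [Finset.univ_eq_attach, Finset.sum_attach h.members
    (fun φ => Complex.normSq (classInner ψ (f φ))),
    ← Finset.add_sum_erase _ _ (h.mem_members.2 h.mem),
    Finset.sum_congr rfl (g := fun φ => ((φ 1).re / K.index) ^ 2 * ((z + c : ℤ) : ℝ) ^ 2) (fun φ hφ => by
      rw [hoth φ (h.mem_members.1 (Finset.mem_of_mem_erase hφ)) (Finset.mem_erase.1 hφ).1,
        hre φ (Finset.mem_of_mem_erase hφ), map_mul, Complex.normSq_ofReal, Complex.normSq_intCast]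
      ring),
    ← Finset.sum_mul, Finset.sum_erase_eq_sub (h.mem_members.2 h.mem), hS, hz, Complex.normSq_intCast,
    h.deg, Complex.natCast_re, div_self h.index_pos.ne']
  push_cast
  ring

/-- Bessel's inequality for a function orthogonal to all the differences. -/
theorem proj_orth {ψ : G → ℂ} (hψ : IsGeneralizedCharacter G ψ)
    (hd : ∀ α : ↥L → ℂ, IsGeneralizedCharacter ↥L α → (∀ x : ↥L, (x : G) ∉ A → α x = 0) →
      classInner ψ (dadeIsometry A L R α) = 0) :
    ∃ x : ℤ, classInner ψ (f ξ₀) = (x : ℂ) ∧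
      (x : ℝ) ^ 2 * (((N.relIndex K : ℝ) - 1) / K.index) ≤ sqNorm ψ := by
  obtain ⟨g, hg, -, hsum⟩ := h.proj hψ 0 fun φ hφ m hm => by
    obtain ⟨hgen, hs, -⟩ := h.diff_facts hφ hm
    rw [hd _ hgen hs]
    simp
  refine ⟨g, by simpa using hg, le_trans (le_of_eq ?_) (h.f_isOrtho.bessel ψ)⟩
  rw [hsum]
  simp

omit h in
/-- The parity argument. -/
theorem cross_false {L' : Subgroup G} [Fintype L'] {K' N' : Subgroup ↥L'} [K'.Normal] [N'.Normal]
    {A' : Set G} {R' : G → Subgroup G} {ξ' : ↥L' → ℂ} {f' : (↥L' → ℂ) → (G → ℂ)}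
    (h : KSide L K N A R ξ₀ f) (h' : KSide L' K' N' A' R' ξ' f')
    (hd : Disjoint (dadeSupp A R) (dadeSupp A' R'))
    (hb : (K.index : ℝ) * ((K'.index : ℝ) + 1) < (N.relIndex K : ℝ) - 1)
    (hb' : (K'.index : ℝ) * ((K.index : ℝ) + 1) < (N'.relIndex K' : ℝ) - 1) : False := by
  obtain ⟨hgen, hs, -⟩ := h.gamma_facts
  obtain ⟨hgen', hs', -⟩ := h'.gamma_facts
  have h0 : ∀ {α : ↥L → ℂ} {β : ↥L' → ℂ},
      classInner (dadeIsometry A L R α) (dadeIsometry A' L' R' β) = 0 := fun {α β} =>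
    ci_eq_zero_of_disjoint hd (fun g hg => dade_apply_notMem α hg) (fun g hg => dade_apply_notMem β hg)
  obtain ⟨x, hx, hxb⟩ := h.proj_orth h'.tau_gamma_gen fun α _ _ => by rw [← ci_conj, h0, map_zero]
  obtain ⟨y, hy, hyb⟩ := h'.proj_orth h.tau_gamma_gen fun β _ _ => h0
  have key : ∀ {z : ℤ} {e e' M : ℝ}, 0 < e → 0 < e' → e * (e' + 1) < M →
      (z : ℝ) ^ 2 * (M / e) ≤ e' + 1 → z = 0 := by
    intro z e e' M he he' hlt hle
    by_contra hz
    have h1 : (1 : ℝ) ≤ (z : ℝ) ^ 2 := by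
      have h2 : (1 : ℤ) ≤ z ^ 2 := by nlinarith [mul_self_pos.2 hz]
      exact_mod_cast h2
    have h3 : e' + 1 < M / e := by rw [lt_div_iff₀ he, mul_comm]; exact hlt
    have h4 : M / e ≤ (z : ℝ) ^ 2 * (M / e) :=
      le_mul_of_one_le_left (div_nonneg (le_trans (mul_nonneg he.le (by linarith)) hlt.le) he.le) h1
    linarith
  have hx0 := key h.index_pos h'.index_pos hb (h'.tau_gamma_sqNorm ▸ hxb)
  have hy0 := key h'.index_pos h.index_pos hb' (h.tau_gamma_sqNorm ▸ hyb)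
  obtain ⟨c1, c2⟩ := h.conj_mem h.mem
  obtain ⟨c1', c2'⟩ := h'.conj_mem h'.mem
  have hff : classInner (f ξ₀) (f' ξ') = 0 := by
    refine signedIrr_ci_eq_zero (h.signed _ h.mem) (h'.signed _ h'.mem) (h.conj_f h.mem).1
      (h'.conj_f h'.mem).1 (h.ortho _ h.mem _ c1 (Ne.symm c2)) ?_
    rw [← (h.conj_f h.mem).2, ← (h'.conj_f h'.mem).2, h0]
  obtain ⟨d1, d2, d3⟩ := h.delta_facts
  obtain ⟨d1', d2', d3'⟩ := h'.delta_facts
  obtain ⟨m, hm, hodd⟩ := odd_ci_of_real h.oddG d1 d1' d2 d2' d3 d3'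
  rw [delta, delta, ci_add_left, ci_add_right, ci_add_right, h0, hy, hy0,
    ← ci_conj (dadeIsometry A' L' R' h'.gamma) (f ξ₀), hx, hx0, hff] at hm
  simp at hm
  have hm0 : m = 0 := by exact_mod_cast hm.symm
  rw [hm0] at hodd
  exact Int.not_odd_zero hodd

variable {W₁ W₂ : Subgroup G} {χ : (↥(W₁ ⊔ W₂) →* ℂˣ) → (G → ℂ)}

/-- The extension is orthogonal to the table when the support avoids the conjugates of `V`. -/
theorem eta_orth (ht : TIData W₁ W₂ χ)
    (hV : ∀ w : ↥(W₁ ⊔ W₂), (w : G) ∉ W₁ → (w : G) ∉ W₂ → (w : G) ∉ dadeSupp A R)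
    {φ : ↥L → ℂ} (hφ : φ ∈ inducedIrrAbove K N) (k : leftHat W₁ W₂) (l : rightHat W₁ W₂) :
    classInner (f φ) (eta χ k l) = 0 := by
  obtain ⟨hc, hne⟩ := h.conj_mem hφ
  obtain ⟨hgen, hs⟩ := h.conj_diff_facts hφ
  have hcl := Coherence.isClassFunction_of_isGen hgen
  set ψ := dadeIsometry A L R (φ - conjFun φ) with hψ
  have hτ : IsGeneralizedCharacter G ψ := isGen_dade h.dade hgen hs
  have hadd := ht.additive hτ fun w h1 h2 => dade_apply_notMem _ (hV w h1 h2)
  have h00 : coefT χ ψ 1 1 = 0 := ht.coefT_one_one hτ (by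
    rw [hψ, classInner_dade_one h.dade hcl hs, ci_sub_left, h.ci_one hφ, h.ci_one hc, sub_self,
      Int.cast_zero])
  have hn : sqNorm ψ = 2 := by
    rw [sqNorm, hψ, classInner_dade h.dade hcl hs hcl hs, ci_sub_left, ci_sub_right, ci_sub_right,
      classInner_isIrr_self (h.irr _ hφ), classInner_isIrr_self (h.irr _ hc),
      classInner_isIrr_ne (h.irr _ hφ) (h.irr _ hc) (Ne.symm hne),
      classInner_isIrr_ne (h.irr _ hc) (h.irr _ hφ) hne]
    norm_num
  have hb := ht.table_bessel (κ := Empty) (v := fun i => i.elim) ⟨fun i => i.elim, fun i => i.elim⟩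
    (fun i => i.elim) hτ
  rw [Finset.univ_eq_empty, Finset.sum_empty, zero_add, hn] at hb
  have h0 := hadd.eq_zero_of_small ht.three_le_left ht.three_le_right h00 (by exact_mod_cast hb) k l
  refine signedIrr_ci_zero_of_diff (h.signed φ hφ) (h.signed _ hc) (ht.eta_signed k l)
    (h.ortho φ hφ _ hc (Ne.symm hne)) ?_
  rw [← (h.conj_f hφ).2, ← hψ, ht.coefT_spec hτ, h0, Int.cast_zero]

/-- The table of `τ γ`. -/
theorem gamma_table (ht : TIData W₁ W₂ χ)
    (hV : ∀ w : ↥(W₁ ⊔ W₂), (w : G) ∉ W₁ → (w : G) ∉ W₂ → (w : G) ∉ dadeSupp A R) :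
    AdditiveAt (coefT χ (dadeIsometry A L R h.gamma)) 1 1 ∧
    coefT χ (dadeIsometry A L R h.gamma) 1 1 = 1 ∧
    ∃ g : ℤ, classInner (dadeIsometry A L R h.gamma) (f ξ₀) = (g : ℂ) - 1 ∧
      (g : ℝ) ^ 2 * (((N.relIndex K : ℝ) - 1) / K.index) - 2 * g +
        tableSq (coefT χ (dadeIsometry A L R h.gamma)) ≤ K.index ∧
      (g = 0 → (K.index : ℤ) ≤ tableSq (coefT χ (dadeIsometry A L R h.gamma)) →
        dadeIsometry A L R h.gamma =
          ∑ k, ∑ l, (coefT χ (dadeIsometry A L R h.gamma) k l : ℂ) • eta χ k l - f ξ₀) := by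
  classical
  obtain ⟨hgen, hs, -, h1, h0, hne⟩ := h.gamma_facts
  have hcl := Coherence.isClassFunction_of_isGen hgen
  set ψ := dadeIsometry A L R h.gamma with hψ
  have hτ : IsGeneralizedCharacter G ψ := h.tau_gamma_gen
  refine ⟨ht.additive hτ fun w h1 h2 => dade_apply_notMem _ (hV w h1 h2),
    ht.coefT_one_one hτ (by rw [hψ, classInner_dade_one h.dade hcl hs, h1, Int.cast_one]), ?_⟩
  obtain ⟨g, g0, gne, gsum⟩ := h.proj hτ 1 fun φ hφ m hm => by
    obtain ⟨hgen', hs', -⟩ := h.diff_facts hφ hm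
    rw [hψ, classInner_dade h.dade hcl hs (Coherence.isClassFunction_of_isGen hgen') hs', ci_sub_right,
      ci_smul_right, Complex.conj_natCast, h0]
    split_ifs with e
    · subst e
      rw [h.deg] at hm
      have hm1 : (m : ℂ) = 1 := mul_left_cancel₀ h.index_ne (hm.symm.trans (mul_one _).symm)
      rw [h0, hm1]; ring
    · rw [hne φ hφ e, Int.cast_one]; ring
  have hx : ∀ (φ : {φ // φ ∈ h.members}) (k : leftHat W₁ W₂) (l : rightHat W₁ W₂),
      classInner (f φ.1) (eta χ k l) = 0 :=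
    fun φ k l => h.eta_orth ht hV (h.mem_members.1 φ.2) k l
  refine ⟨g, by simpa using g0, ?_, fun hg hT => ?_⟩
  · have hb := ht.table_bessel h.f_isOrtho hx hτ
    rw [gsum, hψ, h.tau_gamma_sqNorm] at hb
    push_cast at hb ⊢
    linarith
  · subst hg
    have he := ht.table_expansion h.f_isOrtho hx hτ (by
      rw [gsum, hψ, h.tau_gamma_sqNorm]
      have hT' : (K.index : ℝ) ≤ (tableSq (coefT χ (dadeIsometry A L R h.gamma)) : ℝ) := by
        exact_mod_cast hT
      push_cast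
      linarith)
    rw [Finset.univ_eq_attach, Finset.sum_attach h.members (fun φ => classInner ψ (f φ) • f φ),
      Finset.sum_eq_single_of_mem ξ₀ (h.mem_members.2 h.mem) (fun φ hφ e => by
        rw [gne φ (h.mem_members.1 hφ) e, Int.cast_zero, mul_zero, zero_smul]), g0] at he
    refine he.trans ?_
    simp only [Int.cast_zero, Int.cast_one, zero_sub, neg_smul, one_smul]
    abel

/-- The mass off the support of `Y`, if `τ γ = Y - f ξ₀` and `⟨τ γ, f ξ₀⟩ = -1`. -/
theorem mass_le {Y : G → ℂ} (hY : dadeIsometry A L R h.gamma = Y - f ξ₀)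
    (hg : classInner (dadeIsometry A L R h.gamma) (f ξ₀) = -1) {O : Set G}
    (hO : Disjoint O (dadeSupp A R)) :
    gMass O Y ≤ (K.index : ℝ) / (N.relIndex K : ℝ) := by
  classical
  set Θ := (((Finset.univ : Finset (IrrCharacter ↥K))).filter
    fun θ => ∀ a : K, (a : ↥L) ∈ N → θ.1 a = θ.1 1).image Subtype.val with hΘ
  have hmem : ∀ θ, θ ∈ Θ ↔ IsIrrCharacter ↥K θ ∧ ∀ a : K, (a : ↥L) ∈ N → θ a = θ 1 := by
    intro θ
    simp only [hΘ, Finset.mem_image, Finset.mem_filter, Finset.mem_univ, true_and]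
    exact ⟨fun ⟨φ, hφ, e⟩ => e ▸ ⟨φ.2, hφ⟩, fun ⟨h1, h2⟩ => ⟨⟨θ, h1⟩, h2, rfl⟩⟩
  obtain ⟨θ₀, hθ₀, -, hA₀, he₀⟩ := id h.mem
  have hlin : θ₀ 1 = 1 := by
    have h1 := h.deg
    rw [he₀, Coherence.ind_one] at h1
    exact mul_left_cancel₀ h.index_ne (h1.trans (mul_one _).symm)
  have hD : ∀ θ ∈ Θ, θ ≠ (fun _ => 1) → indFun K θ ∈ inducedIrrAbove K N := fun θ hθ hne =>
    ⟨θ, ((hmem θ).1 hθ).1, hne, ((hmem θ).1 hθ).2, rfl⟩
  have key := gMass_compl_le_of_mean K h.dade (Θ := Θ) (fun θ hθ => ((hmem θ).1 hθ).1)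
    (fun θ hθ g => (hmem _).2 ⟨isIrr_conjBy _ ((hmem θ).1 hθ).1 g,
      trivialOn_conjBy _ ((hmem θ).1 hθ).2 g⟩)
    ((hmem θ₀).2 ⟨hθ₀, hA₀⟩) hlin (he₀ ▸ h.irr _ h.mem) (X := f ξ₀)
    (by rw [sqNorm, (h.signed _ h.mem).inner_self, Complex.one_re])
    (fun θ hθ => h.supp (fun x hx => by
      rw [Pi.sub_apply, Pi.smul_apply, indFun_normal_eq_zero _ _ hx, indFun_normal_eq_zero _ _ hx,
        smul_zero, sub_zero]) (by
      rw [Pi.sub_apply, Pi.smul_apply, Coherence.ind_one, Coherence.ind_one, hlin, smul_eq_mul]; ring))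
    (fun θ hθ hne => by
      rw [← he₀] at hne ⊢
      by_cases e : θ = fun _ => 1
      · subst e
        rw [one_smul, show ξ₀ - indFun K (fun _ => (1 : ℂ)) = -h.gamma from (neg_sub _ _).symm,
          dade_neg, ci_neg_right, ← ci_conj, hg]
        simp
      · have hm := hD θ hθ e
        obtain ⟨d, -, hd⟩ := exists_degree_pos ((hmem θ).1 hθ).1
        obtain ⟨-, -, he⟩ := h.diff_facts hm (m := d) (by rw [Coherence.ind_one, hd])
        rw [hd, ← neg_sub, dade_neg, he, ci_neg_right, ci_sub_right, ci_smul_right,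
          (h.signed _ h.mem).inner_self, h.ortho _ h.mem _ hm (Ne.symm hne), Complex.conj_natCast]
        ring)
  have hden : (∑ θ ∈ Θ, (θ 1).re ^ 2) = (N.relIndex K : ℝ) := by
    have h2 := sum_sq_trivialOn (K := K) N
    rw [hΘ, Finset.sum_image (fun a _ b _ e => Subtype.ext e)]
    have hre : ∀ θ : IrrCharacter ↥K, θ.1 1 ^ 2 = (((θ.1 1).re ^ 2 : ℝ) : ℂ) := fun θ => by
      obtain ⟨d, -, hd⟩ := exists_degree_pos θ.2
      rw [hd]; simp
    rw [Finset.sum_congr rfl fun θ _ => hre θ, ← Complex.ofReal_sum] at h2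
    exact_mod_cast h2
  rw [hden] at key
  refine le_trans (le_of_eq_of_le (gMass_congr fun g hgO => ?_)
    (gMass_mono (Set.disjoint_left.1 hO) (f ξ₀))) key
  have hz := congrFun hY g
  rw [dade_apply_notMem _ (Set.disjoint_left.1 hO hgO), Pi.sub_apply] at hz
  exact sub_eq_zero.1 hz.symm

end KSide

end CfsgLib.OddOrder
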