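import Cfsg.Agent.OddOrder.PF10.LambdaMass
import Cfsg.Agent.OddOrder.PF10.TopSide

/-!
# The member of Type II against the subgroup over `N(U)` (Peterfalvi 14)

For a side with trivial `C` and a kernel side with disjoint supports: `⟨τ (Ind 1 - μ_j), f ξ₀⟩` is a
multiple of `a`, so it vanishes by Bessel's inequality when the kernel is large, and the parity of
the product of `τ γ + f ξ₀` with `τ (Ind 1 - μ_j) + col j` makes every column sum of the table of
`τ γ` odd.
-/

set_option autoImplicit false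
set_option linter.style.haveILetI false
set_option linter.unusedSectionVars false

namespace CfsgLib.OddOrder

open Cfsg CfsgLib.Characters CfsgLib.Coherence CfsgLib.OddOrderChar
open Subgroup (centralizer normalizer)
open scoped ComplexConjugate

universe u

variable {G : Type u} [Group G] [Fintype G]

namespace TIData

variable {W₁ W₂ : Subgroup G} {χ : (↥(W₁ ⊔ W₂) →* ℂˣ) → (G → ℂ)} (h : TIData W₁ W₂ χ)
include h

/-- A class function orthogonal to the family vanishes on `V`. -/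
theorem vanish_of_orth {ψ : G → ℂ} (hψ : IsClassFunction G ψ)
    (ho : ∀ k l, classInner ψ (eta χ k l) = 0) (w : ↥(W₁ ⊔ W₂)) (h1 : (w : G) ∉ W₁)
    (h2 : (w : G) ∉ W₂) : ψ w = 0 := by
  classical
  refine OddOrderChar.vanish_on_V h.factor hψ (fun φ l hφ hl => ?_) w h1 h2
  have heq : indFun (W₁ ⊔ W₂) (tiAlpha φ.1 l.1) = χ 1 - χ φ.1 - χ l.1 + χ (φ.1 * l.1) := by
    rw [show indFun (W₁ ⊔ W₂) (tiAlpha φ.1 l.1) = _ from h.fam.induced_eq φ.1 l.1 hφ hl φ.2 l.2]
    funext g
    simp [h.fam.map_one]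
  have e : ∀ (a : leftHat W₁ W₂) (b : rightHat W₁ W₂), classInner ψ (χ (a.1 * b.1)) = 0 := ho
  have e1 : χ 1 = χ ((1 : leftHat W₁ W₂).1 * (1 : rightHat W₁ W₂).1) :=
    congrArg χ (MonoidHom.ext fun w => (one_mul _).symm)
  have e2 : χ φ.1 = χ (φ.1 * (1 : rightHat W₁ W₂).1) :=
    congrArg χ (MonoidHom.ext fun w => (mul_one _).symm)
  have e3 : χ l.1 = χ ((1 : leftHat W₁ W₂).1 * l.1) :=
    congrArg χ (MonoidHom.ext fun w => (one_mul _).symm)
  rw [heq, ci_add_right, ci_sub_right, ci_sub_right, e1, e2, e3, e, e, e, e]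
  simp

/-- A virtual character vanishing on `V` takes multiples of `|W₁|` at the elements of `W₂ #`. -/
theorem dvd_on_W₂ {ψ : G → ℂ} (hψ : IsGeneralizedCharacter G ψ)
    (hV : ∀ w : ↥(W₁ ⊔ W₂), (w : G) ∉ W₁ → (w : G) ∉ W₂ → ψ w = 0)
    (y : ↥(W₁ ⊔ W₂)) (hy2 : (y : G) ∈ W₂) (hy : y ≠ 1) :
    ∃ t : ℂ, IsIntegral ℤ t ∧ ψ y = (Nat.card W₁ : ℂ) * t := by
  classical
  set f : ↥(W₁ ⊔ W₂) → ℂ := fun w => ψ (w : G) with hf
  have hgen : IsGeneralizedCharacter ↥(W₁ ⊔ W₂) f := Characters.isGen_restrict _ hψ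
  haveI := h.factor.finite_hom
  letI : Fintype (↥(W₁ ⊔ W₂) →* ℂˣ) := Fintype.ofFinite _
  choose d hd using fun ω : ↥(W₁ ⊔ W₂) →* ℂˣ =>
    ci_int hgen (Coherence.isGen_of_isIrr (Characters.isIrr_linChar ω))
  have hrel : ∀ (k : leftHat W₁ W₂) (l : rightHat W₁ W₂),
      d (k.1 * l.1) = d k.1 + (d l.1 - d 1) := by
    intro k l
    have h0 : classInner f (tiAlpha k.1 l.1) = 0 := by
      unfold classInner
      rw [Finset.sum_eq_zero, mul_zero]
      intro w _
      by_cases hw : (w : G) ∈ W₁ ∨ (w : G) ∈ W₂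
      · rw [tiAlpha_eq_zero k l hw, map_zero, mul_zero]
      · push Not at hw
        show ψ (w : G) * _ = 0
        rw [hV w hw.1 hw.2, zero_mul]
    have he : ∀ ω : ↥(W₁ ⊔ W₂) →* ℂˣ, classInner f (homFun ω) = (d ω : ℂ) := hd
    rw [tiAlpha_eq, ci_add_right, ci_sub_right, ci_sub_right, he, he, he, he] at h0
    have : d 1 - d k.1 - d l.1 + d (k.1 * l.1) = 0 := by exact_mod_cast h0
    linarith
  have hy1 : (y : G) ∉ W₁ := fun h1 => hy (Subtype.ext (by
    have := h.factor.disjoint.le ⟨h1, hy2⟩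
    simpa using this))
  have hval : f y = (Nat.card W₁ : ℂ) * ∑ l : rightHat W₁ W₂, ((d l.1 - d 1 : ℤ) : ℂ) * (l.1 y : ℂ) := by
    rw [h.factor.expansion f y]
    have he : ∀ ω : ↥(W₁ ⊔ W₂) →* ℂˣ,
        classInner f (fun w => (ω w : ℂ)) = (d ω : ℂ) := hd
    simp only [he]
    rw [← Equiv.sum_comp h.factor.hatEquiv, Fintype.sum_prod_type]
    simp only [h.factor.hatEquiv_apply, hrel, MonoidHom.mul_apply, Units.val_mul, Int.cast_add,
      add_mul, Finset.sum_add_distrib]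
    have hk : ∀ k : leftHat W₁ W₂, (k.1 y : ℂ) = 1 := fun k => by rw [k.2 y hy2, Units.val_one]
    simp only [hk, one_mul]
    rw [Finset.sum_eq_zero (fun k _ => by rw [← Finset.mul_sum, h.factor.sum_rightHat_eq_zero hy1,
      mul_zero]), zero_add, Finset.sum_const, Finset.card_univ, h.card_left, nsmul_eq_mul]
  refine ⟨_, IsIntegral.sum _ fun l _ => (isIntegral_algebraMap (x := d l.1 - d 1)).mul ?_, hval⟩
  refine IsIntegral.of_pow (orderOf_pos y) ?_
  rw [← Units.val_pow_eq_pow_val, ← map_pow, pow_orderOf_eq_one, map_one, Units.val_one]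
  exact isIntegral_one

end TIData

namespace LamSide

variable {M W₁ U W₂ : Subgroup G} [Fintype M] {χ : (↥(W₁ ⊔ W₂) →* ℂˣ) → (G → ℂ)}
  {μ : (↥(W₁ ⊔ W₂) →* ℂˣ) → (↥M → ℂ)} {δ : (↥(W₁ ⊔ W₂) →* ℂˣ) → ℤ} (h : LamSide M W₁ U W₂ χ μ δ)
include h

noncomputable local instance fintypeSubTopOrtho (S : Subgroup ↥M) : Fintype S := Fintype.ofFinite S

/-- The squared norm of `Ind 1 - μ_l`. -/
theorem beta_sqNorm {l : rightHat W₁ W₂} (hl : l ≠ 1) :
    Coherence.sqNorm (tauM M (lamInd M U 1 - muSum μ l)) =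
      (Nat.card W₁ : ℝ) * (centU M U).relIndex U + Nat.card W₁ := by
  classical
  haveI := h.baseHC_normal
  rw [h.tau_sqNorm (Coherence.isClassFunction_of_isGen (Coherence.isGen_sub (lamInd_gen 1)
    (h.muSum_gen l))) (h.supp0 (h.beta_supp 1 hl))]
  obtain ⟨θ, hθ, e⟩ := h.exists_lam_muSum hl
  have h0 : classInner (lamInd M U 1) (muSum μ l) = 0 := by
    rw [← e, lamInd_def, lamInd_def,
      classInner_ind_ind_eq_zero (baseHC M U) (isIrr_linChar _) (isIrr_linChar _)]
    intro g hg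
    refine h.regular_ne_one ?_
    have : θ = 1 := by
      refine MonoidHom.ext fun x => Units.ext ?_
      have h2 := congrFun hg ⟨g⁻¹ * x * g, by
        simpa using h.baseHC_normal.conj_mem _ x.2 g⁻¹⟩
      rw [conjBy_apply] at h2
      rw [show x = ⟨g * (g⁻¹ * x * g) * g⁻¹, by simp [mul_assoc]⟩ from
        Subtype.ext (by group)]
      exact h2.symm
    exact this ▸ hθ
  have hone : classInner (lamInd M U 1) (lamInd M U 1) =
      ((Nat.card W₁ * (centU M U).relIndex U : ℕ) : ℂ) := by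
    rw [lamInd_def, Coherence.ci_ind_self (baseHC M U)
      (isIrr_linChar (1 : ↥(baseHC M U) →* ℂˣ)), ← h.index_baseHC]
    have : Coherence.stabCard (baseHC M U) (fun x => ((1 : ↥(baseHC M U) →* ℂˣ) x : ℂ)) =
        Nat.card ↥M :=
      Nat.card_congr (Equiv.subtypeUnivEquiv fun g => funext fun x => rfl)
    rw [this, ← (baseHC M U).index_mul_card, Nat.cast_mul,
      mul_div_assoc, div_self (Nat.cast_ne_zero.2 Nat.card_pos.ne'), mul_one]
  rw [Coherence.sqNorm, ci_sub_left, ci_sub_right, ci_sub_right, hone, h0,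
    ← ci_conj (lamInd M U 1) (muSum μ l), h0, h.ci_muSum, if_pos rfl]
  simp

/-- `τ (Ind 1 - μ_l) + col l` is real and has multiplicity one of the principal character. -/
theorem beta_col_facts {l : rightHat W₁ W₂} (hl : l ≠ 1) :
    conjFun (tauM M (lamInd M U 1 - muSum μ l) + col χ l) =
      tauM M (lamInd M U 1 - muSum μ l) + col χ l ∧
    classInner (tauM M (lamInd M U 1 - muSum μ l) + col χ l) (fun _ => 1) = 1 := by
  classical
  have hl' : l⁻¹ ≠ 1 := fun e => hl (by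
    rw [← rightHat_inv_inv l, e]
    exact Subtype.ext (inv_one (G := ↥(W₁ ⊔ W₂) →* ℂˣ)))
  constructor
  · have e1 : conjFun (tauM M (lamInd M U 1 - muSum μ l) + col χ l) =
        conjFun (tauM M (lamInd M U 1 - muSum μ l)) + conjFun (col χ l) := by
      funext g; simp [conjFun]
    have e2 : conjFun (lamInd M U 1 - muSum μ l) = lamInd M U 1 - muSum μ l⁻¹ := by
      rw [h.muSum_conj]
      have e3 : conjFun (lamInd M U (1 : ↥(baseHC M U) →* ℂˣ)) = lamInd M U 1 := by
        rw [← h.lamInd_inv]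
        exact congrArg (lamInd M U) (MonoidHom.ext fun x => by simp)
      funext g
      have e4 := congrFun e3 g
      simp only [conjFun] at e4
      simp [conjFun, e4]
    rw [e1, h.tau_conj, e2, h.conjFun_col, h.tau_beta_shift 1 hl hl']
    abel
  · rw [ci_add_left, h.tau_ci_one (Coherence.isClassFunction_of_isGen (Coherence.isGen_sub
      (lamInd_gen 1) (h.muSum_gen l))) (h.supp0 (h.beta_supp 1 hl)), ci_sub_left,
      h.ci_lamInd_one_one, h.muSum_ci_one hl, h.ci_col_one, if_neg (Ne.symm hl), sub_zero, add_zero]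

variable (hcent : ∀ x ∈ lamSet M U, centralizer ({x} : Set G) ≤ M)
include hcent

/-- The product with a virtual character vanishing on `V` is divisible by `a`. -/
theorem dvd_ci_tau_beta {X : G → ℂ} (hX : IsGeneralizedCharacter G X)
    (hV : ∀ w : ↥(W₁ ⊔ W₂), (w : G) ∉ W₁ → (w : G) ∉ W₂ → X w = 0)
    (hone : classInner X (fun _ => 1) = 0) {l : rightHat W₁ W₂} (hl : l ≠ 1) {x : ℤ}
    (hx : classInner (tauM M (lamInd M U 1 - muSum μ l)) X = x) :
    (Nat.card W₁ : ℤ) ∣ x := by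
  classical
  haveI := h.baseHC_normal
  obtain ⟨θ₀, -, hfix₀, l₀, hl₀, e₀⟩ := h.exists_muSum
  -- reduce to the fixed character
  have hdiff : classInner (tauM M (lamInd M U 1 - muSum μ l₀)) X =
      (x : ℂ) + classInner (col χ l - col χ l₀) X := by
    rw [h.tau_beta_shift 1 hl hl₀, ci_add_left, hx]
  have hd2 : ∃ z : ℤ, classInner (col χ l - col χ l₀) X = z ∧ (Nat.card W₁ : ℤ) ∣ z := by
    have hadd := h.ti.additive hX hV
    have h00 : coefT χ X 1 1 = 0 := h.ti.coefT_one_one hX (by rw [hone, Int.cast_zero])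
    refine ⟨∑ k, coefT χ X k l - ∑ k, coefT χ X k l₀, ?_, ?_⟩
    · rw [ci_sub_left, ← ci_conj X (col χ l), ← ci_conj X (col χ l₀), h.ti.ci_col hX, h.ti.ci_col hX,
        map_intCast, map_intCast, Int.cast_sub]
    · refine ⟨coefT χ X 1 l - coefT χ X 1 l₀, ?_⟩
      rw [← Finset.sum_sub_distrib, Finset.sum_congr rfl (g := fun _ => coefT χ X 1 l - coefT χ X 1 l₀)
        (fun k _ => by have := hadd k l; have := hadd k l₀; linarith), Finset.sum_const,
        Finset.card_univ, h.ti.card_left, nsmul_eq_mul]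
  obtain ⟨z, hz, hzd⟩ := hd2
  rw [hz, ← Int.cast_add] at hdiff
  suffices (Nat.card W₁ : ℤ) ∣ x + z by simpa using dvd_sub this hzd
  clear hx hzd hz
  generalize x + z = K0 at hdiff
  have hcl := Coherence.isClassFunction_of_isGen
    (Coherence.isGen_sub (lamInd_gen (1 : ↥(baseHC M U) →* ℂˣ)) (h.muSum_gen l₀))
  have hs := h.beta_supp (1 : ↥(baseHC M U) →* ℂˣ) hl₀
  have hXc := Coherence.isClassFunction_of_isGen hX
  rw [classInner_dade_res h.dade hcl (h.supp0 hs) (fun x _ hne => supportR_eq_bot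
      (hcent _ (by_contra fun hc => hne (hs x hc)))) hXc, ← e₀, ci_sub_left, lamInd_def, lamInd_def,
    classInner_indFun_left (baseHC M U) _ (fun a b => hXc (a : G) (b : G)),
    classInner_indFun_left (baseHC M U) _ (fun a b => hXc (a : G) (b : G)), ← ci_sub_left] at hdiff
  let φ : ↥W₁ →* MulAut ↥(baseHC M U) :=
    MulAut.conjNormal.comp (Subgroup.inclusion (TypeP.W₁_le h.data))
  letI : MulAction ↥W₁ ↥(baseHC M U) := MulAction.compHom _ φ
  have hsmul : ∀ (w : ↥W₁) (x : ↥(baseHC M U)),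
      (((w • x : ↥(baseHC M U)) : ↥M) : G) = (w : G) * ((x : ↥M) : G) * (w : G)⁻¹ := fun w x => by
    show (((MulAut.conjNormal _ x : ↥(baseHC M U)) : ↥M) : G) = _
    rw [MulAut.conjNormal_apply]
    rfl
  set F : ↥(baseHC M U) → ℂ := fun x => (1 - (θ₀ x : ℂ)) * conj (X ((x : ↥M) : G)) with hF
  have hint : ∀ x : ↥(baseHC M U), IsIntegral ℤ ((θ₀ x : ℂ)) := fun x =>
    Characters.gen_isIntegral (Coherence.isGen_of_isIrr (isIrr_linChar θ₀)) x
  have hconj : ∀ {t : ℂ}, IsIntegral ℤ t → IsIntegral ℤ (conj t) := fun ht =>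
    ht.map ((starRingEnd ℂ).toIntAlgHom)
  obtain ⟨t, ht, hsum⟩ := exists_sum_eq_prime_mul (P := ↥W₁) h.prime₁ F
    (fun w x => by
      have e1 : θ₀ (w • x) = θ₀ x := hfix₀ w w.2 x (w • x) (hsmul w x)
      simp only [hF, e1, hsmul, hXc ((x : ↥M) : G) (w : G)])
    (fun x => ((isIntegral_one).sub (hint x)).mul (hconj (Characters.gen_isIntegral hX _)))
    (fun x hx => by
      by_cases hx1 : x = 1
      · exact ⟨0, isIntegral_zero, by simp [hF, hx1]⟩
      have hmem : ((x : ↥M) : G) ∈ ⁅M, M⁆ ⊓ centralizer (W₁ : Set G) := by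
        refine ⟨h.HC_le_derived x.2, Subgroup.mem_centralizer_iff.2 fun w hw => ?_⟩
        have := hsmul ⟨w, hw⟩ x
        rw [hx ⟨w, hw⟩] at this
        exact (eq_mul_inv_iff_mul_eq.1 this).symm
      rw [TypeP.derived_inf_centralizer_W₁ h.data] at hmem
      obtain ⟨c, hc, hv⟩ := h.ti.dvd_on_W₂ hX hV ⟨_, Subgroup.mem_sup_right hmem⟩ hmem fun e' =>
        hx1 (Subtype.ext (Subtype.ext (congrArg Subtype.val e' :)))
      refine ⟨(1 - (θ₀ x : ℂ)) * conj c, ((isIntegral_one).sub (hint x)).mul (hconj hc), ?_⟩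
      have e2 : X ((x : ↥M) : G) = (Nat.card W₁ : ℂ) * c := hv
      simp only [hF, e2, map_mul, map_natCast]
      ring)
  have h2 : (Nat.card W₁ : ℂ) * t = ((Nat.card ↥(baseHC M U) * K0 : ℤ) : ℂ) := by
    rw [← hsum]
    push_cast
    rw [← hdiff, classInner, ← mul_assoc, mul_inv_cancel₀ (Nat.cast_ne_zero.2 Nat.card_pos.ne'),
      one_mul]
    refine Finset.sum_congr rfl fun x _ => ?_
    simp only [hF, Pi.sub_apply, MonoidHom.one_apply, Units.val_one]
  obtain ⟨v, hv⟩ := PRational.exists_int_of_isIntegral_of_mul ht Nat.card_pos.ne' h2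
  have h3 : (Nat.card W₁ : ℤ) * v = (Nat.card ↥(baseHC M U) : ℤ) * K0 := by
    rw [hv] at h2
    exact_mod_cast h2
  have hcop : IsCoprime (Nat.card W₁ : ℤ) (Nat.card ↥(baseHC M U) : ℤ) := by
    refine Nat.isCoprime_iff_coprime.2 (h.base.hall.coprime_dvd_right ?_)
    rw [← h.base.card_derIn]
    exact Subgroup.card_dvd_of_le h.baseHC_le_derIn
  exact hcop.dvd_of_dvd_mul_left ⟨v, h3.symm⟩

/-- Against a large kernel side with disjoint support the column sums of the table are odd. -/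
theorem col_sum_odd {L : Subgroup G} [Fintype L] {K N : Subgroup ↥L} [K.Normal] [N.Normal] {A : Set G}
    {R : G → Subgroup G} {ξ₀ : ↥L → ℂ} {f : (↥L → ℂ) → (G → ℂ)} (hK : KSide L K N A R ξ₀ f)
    (hd : Disjoint (dadeSupp (lamSet M U) (supportR M)) (dadeSupp A R))
    (hV : ∀ w : ↥(W₁ ⊔ W₂), (w : G) ∉ W₁ → (w : G) ∉ W₂ → (w : G) ∉ dadeSupp A R)
    (hb : (((centU M U).relIndex U : ℝ) + 1) * K.index <
      (Nat.card W₁ : ℝ) * ((N.relIndex K : ℝ) - 1))
    {l : rightHat W₁ W₂} (hl : l ≠ 1) :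
    Odd (∑ k, coefT χ (dadeIsometry A L R hK.gamma) k l) := by
  classical
  set β := lamInd M U 1 - muSum μ l with hβ
  have hτ := h.tau_beta_gen 1 hl
  have hoff : ∀ g ∉ dadeSupp (lamSet M U) (supportR M), tauM M β g = 0 := fun g hg =>
    h.tau_off (Coherence.isClassFunction_of_isGen (Coherence.isGen_sub (lamInd_gen 1)
      (h.muSum_gen l))) (h.beta_supp 1 hl) hg
  have h0 : ∀ α : ↥L → ℂ, classInner (tauM M β) (dadeIsometry A L R α) = 0 := fun α =>
    CfsgLib.OddOrder.ci_eq_zero_of_disjoint hd hoff (fun g hg => dade_apply_notMem α hg)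
  obtain ⟨x, hx, hxb⟩ := hK.proj_orth hτ fun α _ _ => h0 α
  have hfg : IsGeneralizedCharacter G (f ξ₀) := signedIrr_gen (hK.signed _ hK.mem)
  have horth := hK.eta_orth h.ti hV hK.mem
  have hdvd := h.dvd_ci_tau_beta hcent hfg
    (h.ti.vanish_of_orth (Coherence.isClassFunction_of_isGen hfg) horth) (hK.f_ci_one hK.mem) hl hx
  have hx0 : x = 0 := by
    by_contra hne
    obtain ⟨c, rfl⟩ := hdvd
    have hc : (1 : ℝ) ≤ (c : ℝ) ^ 2 := by
      have hc0 : c ≠ 0 := fun e => hne (by rw [e, mul_zero])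
      have : (1 : ℤ) ≤ c ^ 2 := by nlinarith [mul_self_pos.2 hc0]
      exact_mod_cast this
    rw [h.beta_sqNorm hl] at hxb
    push_cast at hxb
    rw [mul_div_assoc', div_le_iff₀ hK.index_pos, mul_pow] at hxb
    have ha : (0 : ℝ) < Nat.card W₁ := by exact_mod_cast Nat.card_pos
    have hM : (0 : ℝ) < (N.relIndex K : ℝ) - 1 := by
      have h1 : (0 : ℝ) ≤ (((centU M U).relIndex U : ℝ) + 1) * K.index := by positivity
      exact pos_of_mul_pos_right (lt_of_le_of_lt h1 hb) ha.le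
    have h2 : (Nat.card W₁ : ℝ) ^ 2 * ((N.relIndex K : ℝ) - 1) ≤
        (Nat.card W₁ : ℝ) ^ 2 * (c : ℝ) ^ 2 * ((N.relIndex K : ℝ) - 1) :=
      mul_le_mul_of_nonneg_right (le_mul_of_one_le_right (sq_nonneg _) hc) hM.le
    have h3 := mul_lt_mul_of_pos_left hb ha
    nlinarith
  obtain ⟨d1, d2, d3⟩ := hK.delta_facts
  obtain ⟨y1, y2⟩ := h.beta_col_facts hl
  obtain ⟨m, hm, hodd⟩ := odd_ci_of_real h.oddG d1 (Coherence.isGen_add hτ (h.ti.col_gen l))
    d2 y1 d3 y2
  have hfcol : classInner (f ξ₀) (col χ l) = 0 := by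
    rw [col, ci_sum_right]
    exact Finset.sum_eq_zero fun k _ => horth k l
  rw [KSide.delta, ci_add_left, ci_add_right, ci_add_right, hfcol,
    ← ci_conj (tauM M β) (dadeIsometry A L R hK.gamma), h0, ← ci_conj (tauM M β) (f ξ₀), hx, hx0,
    h.ti.ci_col hK.tau_gamma_gen] at hm
  simp only [map_zero, Int.cast_zero, zero_add, add_zero] at hm
  have : (∑ k, coefT χ (dadeIsometry A L R hK.gamma) k l) = m := by exact_mod_cast hm
  rwa [this]

end LamSide

end CfsgLib.OddOrder
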