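import Cfsg.Agent.OddOrder.PF10.TopMass
import Cfsg.Agent.OddOrder.PF10.TopOrtho

/-!
# A table with odd entries (Peterfalvi 14)

A real additive table with odd column sums and odd row sums has only odd entries, and then the
average of `Σ c η` over a coset `a R`, with `a` of order prime to `p q`, is an odd integer.
-/

set_option autoImplicit false
set_option linter.style.haveILetI false
set_option linter.unusedSectionVars false

namespace CfsgLib.OddOrder

open Cfsg CfsgLib.Characters CfsgLib.Coherence CfsgLib.OddOrderChar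
open scoped ComplexConjugate

universe u

variable {G : Type u} [Group G] [Fintype G] {W₁ W₂ : Subgroup G}
  {χ : (↥(W₁ ⊔ W₂) →* ℂˣ) → (G → ℂ)}

theorem coefT_swap (h : TIData W₁ W₂ χ) {ψ : G → ℂ} (hψ : IsGeneralizedCharacter G ψ)
    (k : leftHat W₁ W₂) (l : rightHat W₁ W₂) :
    coefT (swapFam χ) ψ (swapLeft l) (swapRight k) = coefT χ ψ k l := by
  have h1 := h.swap.coefT_spec hψ (swapLeft l) (swapRight k)
  rw [eta_swap, h.coefT_spec hψ] at h1
  exact_mod_cast h1.symm

namespace TIData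

variable (h : TIData W₁ W₂ χ)
include h

/-- The sum of the first column of a real table with `c 1 1 = 1` is odd. -/
theorem first_col_odd {ψ : G → ℂ} (hψ : IsGeneralizedCharacter G ψ) (hreal : conjFun ψ = ψ)
    (h11 : coefT χ ψ 1 1 = 1) : Odd (∑ k, coefT χ ψ k 1) := by
  refine h.odd_sum_left _ h11 fun k => ?_
  have h1 := h.coefT_conjFun hψ (hreal.symm ▸ hψ) k 1
  rw [hreal, show (1 : rightHat W₁ W₂)⁻¹ = 1 from Subtype.ext (inv_one (G := ↥(W₁ ⊔ W₂) →* ℂˣ))] at h1
  exact h1

/-- With odd column sums the entries of the first row are odd. -/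
theorem first_row_odd {c : leftHat W₁ W₂ → rightHat W₁ W₂ → ℤ} (hadd : AdditiveAt c 1 1)
    (h11 : c 1 1 = 1) (hq : Odd (Nat.card W₁)) (hcol : Odd (∑ k, c k 1)) {l : rightHat W₁ W₂}
    (hl : Odd (∑ k, c k l)) : Odd (c 1 l) := by
  have e : ∑ k, c k l = ∑ k, c k 1 + (Nat.card W₁ : ℤ) * (c 1 l - 1) := by
    rw [← h.card_left, ← nsmul_eq_mul, ← Finset.card_univ, ← Finset.sum_const,
      ← Finset.sum_add_distrib]
    exact Finset.sum_congr rfl fun k _ => by have := hadd k l; linarith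
  rw [e] at hl
  have h2 : Even ((Nat.card W₁ : ℤ) * (c 1 l - 1)) := (Int.odd_add.1 hl).1 hcol
  rcases Int.even_mul.1 h2 with h3 | h3
  · exact absurd ((Int.even_coe_nat _).1 h3) (Nat.not_even_iff_odd.2 hq)
  · simpa using h3.add_one

/-- All entries are odd. -/
theorem all_odd {ψ : G → ℂ} (hψ : IsGeneralizedCharacter G ψ) (hreal : conjFun ψ = ψ)
    (hadd : AdditiveAt (coefT χ ψ) 1 1) (h11 : coefT χ ψ 1 1 = 1)
    (hcols : ∀ l, l ≠ 1 → Odd (∑ k, coefT χ ψ k l))
    (hrows : ∀ k', k' ≠ 1 → Odd (∑ l', coefT (swapFam χ) ψ l' k'))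
    (k : leftHat W₁ W₂) (l : rightHat W₁ W₂) : Odd (coefT χ ψ k l) := by
  have hq : Odd (Nat.card W₁) := Odd.of_dvd_nat h.odd (Subgroup.card_dvd_of_le le_sup_left)
  have hp : Odd (Nat.card W₂) := Odd.of_dvd_nat h.odd (Subgroup.card_dvd_of_le le_sup_right)
  have key1 : Odd (coefT χ ψ 1 l) := by
    refine h.first_row_odd hadd h11 hq (h.first_col_odd hψ hreal h11) ?_
    rcases eq_or_ne l 1 with rfl | hl
    · exact h.first_col_odd hψ hreal h11
    · exact hcols l hl
  have e11 : coefT (swapFam χ) ψ 1 1 = 1 := by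
    rw [← swapLeft_one (W₁ := W₁) (W₂ := W₂), ← swapRight_one (W₁ := W₁) (W₂ := W₂), coefT_swap h hψ, h11]
  have hadd' : AdditiveAt (coefT (swapFam χ) ψ) 1 1 := by
    intro i j
    obtain ⟨l₁, rfl⟩ := swapLeft_bijective.2 i
    obtain ⟨k₁, rfl⟩ := swapRight_bijective.2 j
    rw [← swapLeft_one (W₁ := W₁) (W₂ := W₂), ← swapRight_one (W₁ := W₁) (W₂ := W₂), coefT_swap h hψ, coefT_swap h hψ, coefT_swap h hψ,
      coefT_swap h hψ]
    have := hadd k₁ l₁
    linarith
  have hcol' := h.swap.first_col_odd hψ hreal e11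
  have key2 : Odd (coefT (swapFam χ) ψ 1 (swapRight k)) := by
    refine h.swap.first_row_odd hadd' e11 hp hcol' ?_
    rcases eq_or_ne (swapRight k) 1 with e | hk
    · rw [e]; exact hcol'
    · exact hrows _ hk
  rw [← swapLeft_one (W₁ := W₁) (W₂ := W₂), coefT_swap h hψ] at key2
  rw [show coefT χ ψ k l = coefT χ ψ k 1 + (coefT χ ψ 1 l - 1) by have := hadd k l; linarith]
  exact key2.add_even (key1.sub_odd odd_one)

theorem pq_le_tableSq {c : leftHat W₁ W₂ → rightHat W₁ W₂ → ℤ} (hodd : ∀ k l, Odd (c k l)) :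
    ((Nat.card W₁ : ℤ) * Nat.card W₂) ≤ tableSq c := by
  have h1 : ∑ _k : leftHat W₁ W₂, ∑ _l : rightHat W₁ W₂, (1 : ℤ) ≤ tableSq c := by
    refine Finset.sum_le_sum fun k _ => Finset.sum_le_sum fun l _ => ?_
    have h0 : c k l ≠ 0 := fun e => by
      have := hodd k l
      rw [e] at this
      exact absurd this (by decide)
    nlinarith [mul_self_pos.2 h0]
  simpa [h.card_left, h.card_right] using h1

/-- The average of the combination of the family is an odd integer. -/
theorem mean_table_odd {c : leftHat W₁ W₂ → rightHat W₁ W₂ → ℤ} (hodd : ∀ k l, Odd (c k l))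
    {a : G} {R : Subgroup G} (hR : R ≤ Subgroup.centralizer ({a} : Set G))
    (ha₁ : (orderOf a).Coprime (Nat.card W₁)) (ha₂ : (orderOf a).Coprime (Nat.card W₂))
    (hoff : ∀ u ∈ R, a * u ∉ vConj W₁ W₂) :
    ∃ z : ℤ, cosetMean (∑ k, ∑ l, (c k l : ℂ) • eta χ k l) a R = z ∧ Odd z := by
  classical
  choose x hx using fun k => h.mean_left_int k hR ha₁
  have hy' : ∀ l : rightHat W₁ W₂, ∃ z : ℤ, cosetMean (eta χ 1 l) a R = z := fun l => by
    obtain ⟨z, hz⟩ := h.swap.mean_left_int (swapLeft l) hR ha₂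
    exact ⟨z, by rwa [← swapRight_one (W₁ := W₁) (W₂ := W₂), eta_swap] at hz⟩
  choose y hy using hy'
  obtain ⟨zx, hzx, hxo⟩ := h.mean_col_odd hR ha₁
  obtain ⟨zy, hzy, hyo⟩ := h.swap.mean_col_odd hR ha₂
  have hsx : ∑ k, x k = zx := by
    have e : cosetMean (col χ 1) a R = ((∑ k, x k : ℤ) : ℂ) := by
      push_cast
      rw [← Finset.sum_congr rfl fun k _ => hx k]
      simp only [cosetMean, col, Finset.sum_apply]
      rw [Finset.sum_comm, Finset.mul_sum]
    rw [hzx] at e
    exact_mod_cast e.symm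
  have hsy : ∑ l, y l = zy := by
    have e : cosetMean (col (swapFam χ) 1) a R = ((∑ l, y l : ℤ) : ℂ) := by
      push_cast
      rw [← Finset.sum_congr rfl fun l _ => hy l]
      simp only [cosetMean, col, Finset.sum_apply]
      rw [Finset.sum_comm, Finset.mul_sum]
      refine (Fintype.sum_bijective swapLeft swapLeft_bijective _ _ fun l => ?_).symm
      rw [← swapRight_one (W₁ := W₁) (W₂ := W₂), eta_swap]
    rw [hzy] at e
    exact_mod_cast e.symm
  refine ⟨∑ k, ∑ l, c k l * (x k + y l - 1), ?_, ?_⟩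
  · have hval : ∀ u : R, (∑ k, ∑ l, (c k l : ℂ) • eta χ k l) (a * u) =
        ∑ k, ∑ l, (c k l : ℂ) * (eta χ k 1 (a * u) + eta χ 1 l (a * u) - 1) := fun u => by
      simp only [Finset.sum_apply, Pi.smul_apply, smul_eq_mul]
      refine Finset.sum_congr rfl fun k _ => Finset.sum_congr rfl fun l _ => ?_
      rw [h.eta_eq_off k l fun x w e => mem_vConj_or (hoff u u.2) x w e]
    simp only [cosetMean] at hx hy ⊢
    rw [Finset.sum_congr rfl fun u _ => hval u, Finset.sum_comm, Finset.mul_sum]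
    push_cast
    refine Finset.sum_congr rfl fun k _ => ?_
    rw [Finset.sum_comm, Finset.mul_sum]
    refine Finset.sum_congr rfl fun l _ => ?_
    have hn : (Nat.card R : ℂ) ≠ 0 := Nat.cast_ne_zero.2 Nat.card_pos.ne'
    rw [← hx k, ← hy l, ← Finset.mul_sum, Finset.sum_sub_distrib, Finset.sum_add_distrib,
      Finset.sum_const, Finset.card_univ, Fintype.card_eq_nat_card, nsmul_eq_mul, mul_one]
    field_simp
  · have hq : Odd (Nat.card W₁) := Odd.of_dvd_nat h.odd (Subgroup.card_dvd_of_le le_sup_left)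
    have hp : Odd (Nat.card W₂) := Odd.of_dvd_nat h.odd (Subgroup.card_dvd_of_le le_sup_right)
    have hone : ∀ n : ℤ, Odd n ↔ (n : ZMod 2) = 1 := fun n => ZMod.intCast_eq_one_iff_odd.symm
    have c2 : ∀ k l, ((c k l : ℤ) : ZMod 2) = 1 := fun k l => (hone _).1 (hodd k l)
    have q2 : (Nat.card W₁ : ZMod 2) = 1 := ZMod.natCast_eq_one_iff_odd.2 hq
    have p2 : (Nat.card W₂ : ZMod 2) = 1 := ZMod.natCast_eq_one_iff_odd.2 hp
    have x2 : (∑ k, (x k : ZMod 2)) = 1 := by rw [← Int.cast_sum, hsx]; exact (hone _).1 hxo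
    have y2 : (∑ l, (y l : ZMod 2)) = 1 := by rw [← Int.cast_sum, hsy]; exact (hone _).1 hyo
    rw [hone]
    push_cast
    simp only [c2, one_mul, Finset.sum_sub_distrib, Finset.sum_add_distrib, Finset.sum_const,
      Finset.card_univ, h.card_left, h.card_right, nsmul_eq_mul, ← Finset.mul_sum, x2, y2, p2, q2,
      mul_one]
    decide

end TIData

end CfsgLib.OddOrder
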