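import Cfsg.Agent.OddOrder.PF10.TopCross
import Cfsg.Agent.OddOrder.PF10.TopTable

/-!
# The configuration of `TopConfig` is impossible (Peterfalvi 14)

Everything is then known of the subgroup `L` over `N(U)`: index `p q`, a kernel `H` that is a proper
multiple of `|U|` and of `|V|`, and `T` of Type II.  The table of `τ (Ind 1 - ξ₀)` has odd entries, so
it carries all the norm, and the mass of that function on the region away from `S`, `T` and `L` is
too large.
-/

set_option autoImplicit false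
set_option linter.style.haveILetI false
set_option linter.unusedSectionVars false

namespace CfsgLib.OddOrder

open Cfsg CfsgLib.Characters CfsgLib.Coherence CfsgLib.OddOrderChar
open Subgroup (centralizer normalizer)

universe u

variable {G : Type u} [Group G] [Fintype G] {S T W₁ U W₂ V L : Subgroup G}

namespace TopConfig

variable (h : TopConfig S T W₁ U W₂ V) (hG : IsMinSimpleOddOrder G) (F : FTFacts G)
include h hG F

theorem lamSide_S [Fintype S] {χ : (↥(W₁ ⊔ W₂) →* ℂˣ) → (G → ℂ)}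
    {μ : (↥(W₁ ⊔ W₂) →* ℂˣ) → (↥S → ℂ)} {δ : (↥(W₁ ⊔ W₂) →* ℂˣ) → ℤ}
    (hs : Side S W₁ W₂ χ μ δ) : LamSide S W₁ U W₂ χ μ δ :=
  { toSide := hs
    data := h.dataS
    prime₁ := h.prime_q hG F
    prime₂ := h.prime_p hG F
    U_ne := h.toFTPair.U_ne hG F
    elem := h.elemS
    card_H := h.cardS
    derived_U := (TypeP.derived_U_le_kernel h.dataS).trans inf_le_right }

theorem lamSide_T [Fintype T] {χ : (↥(W₂ ⊔ W₁) →* ℂˣ) → (G → ℂ)}
    {μ : (↥(W₂ ⊔ W₁) →* ℂˣ) → (↥T → ℂ)} {δ : (↥(W₂ ⊔ W₁) →* ℂˣ) → ℤ}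
    (hs : Side T W₂ W₁ χ μ δ) : LamSide T W₂ V W₁ χ μ δ :=
  { toSide := hs
    data := h.dataT
    prime₁ := h.prime_p hG F
    prime₂ := h.prime_q hG F
    U_ne := h.toFTPair.V_ne hG F h.typeT'
    elem := h.elemT
    card_H := h.cardT
    derived_U := (TypeP.derived_U_le_kernel h.dataT).trans inf_le_right }

theorem v_modEq : Nat.card V ≡ 1 [MOD Nat.card W₁ * Nat.card W₂] := by
  have hq := h.prime_q hG F
  have hp := h.prime_p hG F
  refine (Nat.modEq_and_modEq_iff_modEq_mul h.toFTPair.coprime_W).1 ⟨?_, ?_⟩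
  · have e : Nat.card V = (Nat.card W₁ ^ Nat.card W₂ - 1) / (Nat.card W₁ - 1) :=
      Nat.eq_of_mul_eq_mul_right (by have := hq.two_le; omega) (h.fullT.trans (Singer.singer_mul hq).symm)
    rw [e, Singer.singer_eq_sum hq, ← ZMod.natCast_eq_natCast_iff, Nat.cast_sum,
      Finset.sum_eq_single 0 (fun k _ hk => by rw [Nat.cast_pow, ZMod.natCast_self, zero_pow hk])
      (fun h0 => absurd (Finset.mem_range.2 hp.pos) h0)]
    simp
  · have hd := card_dvd_relIndex_sub_one (W := W₂) (A := V) (B := ⊥) bot_le h.dataT.U_normal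
      Subgroup.le_normalizer_of_normal (by simp) (fun w hw hw1 => (typeP_U_fpf h.dataT hw hw1).le)
    rw [Subgroup.relIndex_bot_left] at hd
    exact ((Nat.modEq_iff_dvd' Nat.card_pos).2 hd).symm

variable (hL : TopSub S T W₁ U W₂ L)
include hL

/-- `|H| ≥ (p q + 1) |V|`. -/
theorem kernel_v_large (hfr : ∀ M : Subgroup G, IsCoatom M → IsTypeI M →
      ∀ x ∈ fittingHallOf M, x ≠ 1 → M ⊓ centralizer ({x} : Set G) ≤ fittingHallOf M) :
    (Nat.card W₁ * Nat.card W₂ + 1) * Nat.card V ≤ Nat.card (fittingHallOf L) := by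
  obtain ⟨k, hk3, hk⟩ := h.kernel_v hG F hL hfr
  obtain ⟨hidx, y, hy, hle⟩ := h.exists_conjW₂ hG F hL
  obtain ⟨e1, e2⟩ := card_conjW (W₂ := W₂) h.elemT.1 hy h.toFTPair.W₁_le_kernelT h.toFTPair.snc
  have hd := hL.fpf_dvd le_rfl hle (by
    rw [e1, e2]; exact hL.coprime₁.mul_right hL.coprime₂) (hle.trans (le_normalizer_fittingHallOf L))
  rw [e1, e2, hk] at hd
  have h1 : k * Nat.card V ≡ 1 [MOD Nat.card W₁ * Nat.card W₂] :=
    ((Nat.modEq_iff_dvd' (by rw [← hk]; exact Nat.card_pos)).2 hd).symm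
  have h2 := ((h.v_modEq hG F).mul_left k).symm.trans h1
  rw [mul_one] at h2
  have h3 := (Nat.modEq_iff_dvd' (by omega)).1 h2.symm
  have := Nat.le_of_dvd (by omega) h3
  rw [hk]
  exact Nat.mul_le_mul_right _ (by omega)

/-- The contradiction, given a subgroup over `N(U)`. -/
theorem false_of_topSub (hfr : ∀ M : Subgroup G, IsCoatom M → IsTypeI M →
      ∀ x ∈ fittingHallOf M, x ≠ 1 → M ⊓ centralizer ({x} : Set G) ≤ fittingHallOf M) : False := by
  classical
  letI : Fintype L := Fintype.ofFinite _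
  letI : Fintype S := Fintype.ofFinite _
  letI : Fintype T := Fintype.ofFinite _
  obtain ⟨hidx, -⟩ := h.exists_conjW₂ hG F hL
  have hII := h.typeII_T hG F hL
  obtain ⟨ξ₀, f, hK, hsupp⟩ := hL.exists_side hG F
  obtain ⟨χ, hχ, ⟨μ, δ, hs⟩, μ', δ', hs'⟩ := h.toFTPair.exists_sides hG F
  have hlS := h.lamSide_S hG F hs
  have hlT := h.lamSide_T hG F hs'
  have hcT : V ⊓ centralizer (fittingHallOf T : Set G) = ⊥ := by
    rw [eq_bot_iff, ← h.centralizer_V_W₁ hG F]
    exact inf_le_inf_left _ (Subgroup.centralizer_le h.toFTPair.W₁_le_kernelT)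
  have hσT : fittingHallOf T = sigmaCore T := ((h.toFTPair.swap hII).core_S hG F).1
  have hσL := F.typeI_kernel hL.coatom hL.typeI
  have hsS : lamSet S U = sigmaSet S := by
    rw [lamSet, centU, h.centS, sup_bot_eq, h.sigma_S hG F]
  have hsT : lamSet T V = sigmaSet T := by rw [lamSet, centU, hcT, sup_bot_eq, hσT]
  have huS : (centU S U).relIndex U = Nat.card U := by
    rw [centU, h.centS, Subgroup.relIndex_bot_left]
  have huT : (centU T V).relIndex V = Nat.card V := by
    rw [centU, hcT, Subgroup.relIndex_bot_left]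
  obtain ⟨hrel, hmul⟩ := kSide_frobenius_card (L := L)
  have hi : (fittingHall L).index = Nat.card W₁ * Nat.card W₂ := (index_fittingHall_eq L).trans hidx
  set q := Nat.card W₁ with hqdef
  set p := Nat.card W₂ with hpdef
  set H := Nat.card (fittingHallOf L) with hHdef
  have hV : ∀ w : ↥(W₁ ⊔ W₂), (w : G) ∉ W₁ → (w : G) ∉ W₂ →
      (w : G) ∉ dadeSupp (supportA L) (supportR L) :=
    fun w h1 h2 => hsupp ▸ h.vBase_notMem_tilde hG F hL w h1 h2
  -- the numbers
  have hqN := h.three_le_q hG F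
  have hpN := h.five_le_p hG F
  have hHbig := h.H_large hG F hL
  obtain ⟨k, e, hk, hkge, -, -⟩ := h.kernel_large hG F hL
  have hu : 2 * q + 1 < Nat.card U := h.U_gt hG F
  have hv : 2 * p + 1 ≤ Nat.card V := h.toFTPair.V_card hG F h.typeT'
  have hb1 : (Nat.card U + 1) * p + 1 < H := by
    have h1 : (q * p + p) * Nat.card U ≤ H := le_of_le_of_eq (Nat.mul_le_mul_right _ hkge) hk.symm
    have h2 : p * (3 * Nat.card U) ≤ q * p * Nat.card U := by
      rw [← mul_assoc, mul_comm p 3]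
      exact Nat.mul_le_mul_right _ (Nat.mul_le_mul_right _ hqN)
    have h3 : (q * p + p) * Nat.card U = q * p * Nat.card U + p * Nat.card U := by ring
    have h4 : p * 1 ≤ p * Nat.card U := Nat.mul_le_mul_left _ Nat.card_pos
    have h5 : (Nat.card U + 1) * p = p * Nat.card U + p * 1 := by ring
    have h6 : p * (3 * Nat.card U) = 3 * (p * Nat.card U) := by ring
    omega
  have hb2 : (Nat.card V + 1) * q + 1 < H := by
    have h1 : (q * p + 1) * Nat.card V ≤ H := h.kernel_v_large hG F hL hfr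
    have h2 : q * (5 * Nat.card V) ≤ q * p * Nat.card V := by
      rw [mul_assoc]
      exact Nat.mul_le_mul_left _ (Nat.mul_le_mul_right _ hpN)
    have h3 : (q * p + 1) * Nat.card V = q * p * Nat.card V + Nat.card V := by ring
    have h4 : q * 1 ≤ q * Nat.card V := Nat.mul_le_mul_left _ Nat.card_pos
    have h5 : (Nat.card V + 1) * q = q * Nat.card V + q * 1 := by ring
    have h6 : q * (5 * Nat.card V) = 5 * (q * Nat.card V) := by ring
    omega
  -- the column and row sums
  set ψ := dadeIsometry (supportA L) L (supportR L) hK.gamma with hψ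
  have hdS : Disjoint (dadeSupp (lamSet S U) (supportR S)) (dadeSupp (supportA L) (supportR L)) := by
    rw [hsS, hsupp, dadeSupp_eq_tildeOf]
    exact Set.disjoint_iff_inter_eq_empty.2 (F.tilde_disjoint S L h.coatomS hL.coatom hL.notS)
  have hdT : Disjoint (dadeSupp (lamSet T V) (supportR T)) (dadeSupp (supportA L) (supportR L)) := by
    rw [hsT, hsupp, dadeSupp_eq_tildeOf]
    exact Set.disjoint_iff_inter_eq_empty.2 (F.tilde_disjoint T L h.coatomT hL.coatom hL.notT)
  have hq0 : (0 : ℝ) < q := by exact_mod_cast (by omega : 0 < q)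
  have hp0 : (0 : ℝ) < p := by exact_mod_cast (by omega : 0 < p)
  have hcols : ∀ l, l ≠ 1 → Odd (∑ k, coefT χ ψ k l) := fun l hl =>
    hlS.col_sum_odd (fun x hx => F.toBG16Facts.typeII_centralizer_le hG h.coatomS h.typeII
      (hlS.lamSet_subset0 hx)) hK hdS hV (by
      rw [huS, hi, hrel, ← hqdef]
      have : ((Nat.card U : ℝ) + 1) * p + 1 < H := by exact_mod_cast hb1
      push_cast
      nlinarith) hl
  have hrows : ∀ k', k' ≠ 1 → Odd (∑ l', coefT (swapFam χ) ψ l' k') := fun k' hk' =>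
    hlT.col_sum_odd (fun x hx => F.toBG16Facts.typeII_centralizer_le hG h.coatomT hII
      (hlT.lamSet_subset0 hx)) hK hdT (fun w h1 h2 => hV (swapEquiv W₂ W₁ w) h2 h1) (by
      rw [huT, hi, hrel, ← hpdef]
      have : ((Nat.card V : ℝ) + 1) * q + 1 < H := by exact_mod_cast hb2
      push_cast
      nlinarith) hk'
  -- the table
  obtain ⟨hadd, h11, g, hg, hbd, hexp⟩ := hK.gamma_table hχ hV
  have hfg := signedIrr_gen (hK.signed _ hK.mem)
  have hΔc : ∀ k l, coefT χ hK.delta k l = coefT χ ψ k l := fun k l => by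
    have h1 := hχ.coefT_spec hK.delta_facts.1 k l
    rw [KSide.delta, ci_add_left, hK.eta_orth hχ hV hK.mem k l, add_zero,
      hχ.coefT_spec hK.tau_gamma_gen k l] at h1
    exact_mod_cast h1.symm
  have hΔc' : ∀ l' k', coefT (swapFam χ) hK.delta l' k' = coefT (swapFam χ) ψ l' k' := fun l' k' => by
    obtain ⟨l, rfl⟩ := swapLeft_bijective.2 l'
    obtain ⟨k, rfl⟩ := swapRight_bijective.2 k'
    rw [coefT_swap hχ hK.delta_facts.1, coefT_swap hχ hK.tau_gamma_gen, hΔc]
  have hodd : ∀ k l, Odd (coefT χ ψ k l) := fun k l => by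
    rw [← hΔc]
    refine hχ.all_odd hK.delta_facts.1 hK.delta_facts.2.1 (fun i j => ?_) ?_ (fun l hl => ?_)
      (fun k' hk' => ?_) k l
    · rw [hΔc, hΔc, hΔc, hΔc]; exact hadd i j
    · rw [hΔc]; exact h11
    · simpa only [hΔc] using hcols l hl
    · simpa only [hΔc'] using hrows k' hk'
  have hT := hχ.pq_le_tableSq hodd
  rw [hrel, hi] at hbd
  push_cast at hbd
  have hT' : (q : ℝ) * p ≤ (tableSq (coefT χ ψ) : ℝ) := by exact_mod_cast hT
  have hHR : (p : ℝ) * q * ((p : ℝ) * q + 1) + 1 < H := by exact_mod_cast hHbig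
  have hpq : (15 : ℝ) ≤ (p : ℝ) * q := by
    have : 15 ≤ p * q := le_trans (by norm_num) (Nat.mul_le_mul hpN hqN)
    exact_mod_cast this
  have hg0 : g = 0 := by
    by_contra hg0
    have h1 : (1 : ℝ) ≤ (g : ℝ) ^ 2 := by
      have : (1 : ℤ) ≤ g ^ 2 := by nlinarith [mul_self_pos.2 hg0]
      exact_mod_cast this
    have h2 : (g : ℝ) ≤ (g : ℝ) ^ 2 := by
      have : g ≤ g ^ 2 := Int.le_self_sq g
      exact_mod_cast this
    have ha : (2 : ℝ) < ((H : ℝ) - 1) / ((q : ℝ) * p) := by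
      rw [lt_div_iff₀ (by positivity)]
      nlinarith
    nlinarith
  subst hg0
  have hY := hexp rfl (by rw [hi]; push_cast; exact hT)
  have hg' : classInner ψ (f ξ₀) = -1 := by rw [hg]; simp
  -- the mass
  have hdR := h.toFTPair.rest_disjoint hG F hL.coatom hL.notS hL.notT
  have hmass := hK.mass_le hY hg' (O := restRegion S T L) (hsupp ▸ hdR)
  rw [hrel, hi] at hmass
  push_cast at hmass
  have hlow : gMass (restRegion S T L) (fun _ => 1) ≤
      gMass (restRegion S T L) (∑ k, ∑ l, (coefT χ ψ k l : ℂ) • eta χ k l) := by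
    refine F.gMass_tildes_le hG (fun _ hN => hN.1) fun N hN => ?_
    refine F.gMass_tilde_ge hG hN.1 (Coherence.isClassFunction_of_isGen
      (Coherence.isGen_sum _ _ fun k _ => Coherence.isGen_sum _ _ fun l _ =>
        Coherence.isGen_intCast_smul (hχ.eta_gen k l) _)) fun a ha => ?_
    obtain ⟨c1, c2⟩ := h.toFTPair.coprime_sigma_W hG F hN.1 hN.2.1 hN.2.2.1
    exact hχ.mean_table_odd hodd ((F.dade_sigma hG hN.1).le_centralizer a ha)
      (c1.coprime_dvd_left (Subgroup.orderOf_dvd_natCard _ ha.1))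
      (c2.coprime_dvd_left (Subgroup.orderOf_dvd_natCard _ ha.1))
      fun u hu hv => h.toFTPair.vConj_not_tilde hG F hv hN.1 ⟨a, ha, u, hu, 1, by group⟩
  rw [h.toFTPair.gMass_rest hG F hL.coatom hL.notS hL.notT, h.toFTPair.gMass_far hG F,
    ← h.sigma_S hG F, ← hσT, ← hσL, h.card_S hG F, h.card_T hG F, h.cardS, h.cardT,
    show Nat.card L = H * (q * p) by
      rw [← card_mul_relIndex (fittingHallOf_le L), hidx],
    ← hHdef, ← hqdef, ← hpdef] at hlow
  push_cast at hlow
  have hu' : (7 : ℝ) ≤ Nat.card U := by exact_mod_cast (show 7 ≤ Nat.card U by omega)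
  have hv' : (11 : ℝ) ≤ Nat.card V := by exact_mod_cast (show 11 ≤ Nat.card V by omega)
  have hP : (0 : ℝ) < (p : ℝ) ^ q := by positivity
  have hQ : (0 : ℝ) < (q : ℝ) ^ p := by positivity
  have hH0 : (0 : ℝ) < H := by nlinarith
  have eS : ((p : ℝ) ^ q - 1) / ((p : ℝ) ^ q * Nat.card U * q) ≤ 1 / (7 * q) := by
    rw [div_le_div_iff₀ (by positivity) (by positivity)]
    nlinarith [mul_le_mul_of_nonneg_left hu' (mul_pos hP hq0).le]
  have eT : ((q : ℝ) ^ p - 1) / ((q : ℝ) ^ p * Nat.card V * p) ≤ 1 / (11 * p) := by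
    rw [div_le_div_iff₀ (by positivity) (by positivity)]
    nlinarith [mul_le_mul_of_nonneg_left hv' (mul_pos hQ hp0).le]
  have eL : ((H : ℝ) - 1) / ((H : ℝ) * ((q : ℝ) * p)) ≤ 1 / ((q : ℝ) * p) := by
    rw [div_le_div_iff₀ (by positivity) (by positivity)]
    nlinarith [mul_pos hq0 hp0]
  have eid : 1 - ((q : ℝ) - 1) * ((p : ℝ) - 1) / ((q : ℝ) * p) =
      1 / q + 1 / p - 1 / ((q : ℝ) * p) := by
    field_simp; ring
  have eH : ((q : ℝ) * p) / H ≤ 1 / ((q : ℝ) * p) := by
    rw [div_le_div_iff₀ hH0 (by positivity)]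
    nlinarith
  have eG : (1 : ℝ) / Nat.card G ≤ 1 / ((q : ℝ) * p) := by
    refine one_div_le_one_div_of_le (by positivity) ?_
    have h1 : q * p ≤ Nat.card L := by
      rw [← hidx, ← card_mul_relIndex (fittingHallOf_le L)]
      exact Nat.le_mul_of_pos_left _ Nat.card_pos
    exact_mod_cast h1.trans (Subgroup.card_le_card_group L)
  have key : 4 / ((q : ℝ) * p) < 1 / q + 1 / p - 1 / (7 * q) - 1 / (11 * p) := by
    rw [show (1 : ℝ) / q + 1 / p - 1 / (7 * q) - 1 / (11 * p) =
      (6 / 7 * p + 10 / 11 * q) / ((q : ℝ) * p) by field_simp; ring]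
    refine div_lt_div_of_pos_right ?_ (by positivity)
    have hq3 : (3 : ℝ) ≤ q := by exact_mod_cast hqN
    have hp5 : (5 : ℝ) ≤ p := by exact_mod_cast hpN
    linarith
  have e4 : (4 : ℝ) / ((q : ℝ) * p) = 4 * (1 / ((q : ℝ) * p)) := by ring
  linarith

end TopConfig

/-- Peterfalvi 14: the configuration left by sections 10-13 does not occur. -/
theorem TopConfig.false (h : TopConfig S T W₁ U W₂ V) (hG : IsMinSimpleOddOrder G) (F : FTFacts G)
    (hP : ∀ L W₁ U W₂ : Subgroup G, IsCoatom L → IsTypePWith L W₁ U W₂ → ¬ IsOfTypeII L →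
      IsMulCommutative U ∧ (Nat.card W₁).Prime ∧ (Nat.card W₂).Prime ∧
        Nat.card W₂ < Nat.card W₁ ∧ IsElementaryAbelian (Nat.card W₂) (fittingHallOf L) ∧
        Nat.card (fittingHallOf L) = Nat.card W₂ ^ Nat.card W₁ ∧
        U ⊓ centralizer (fittingHallOf L : Set G) = ⊥) : False := by
  have hfr : ∀ M : Subgroup G, IsCoatom M → IsTypeI M →
      ∀ x ∈ fittingHallOf M, x ≠ 1 → M ⊓ centralizer ({x} : Set G) ≤ fittingHallOf M :=
    fun M hM hI => (F.toPF12 hP).typeI_is_frobenius hG hM hI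
  obtain ⟨L, hL⟩ := h.exists_topSub hG F hfr
  exact h.false_of_topSub hG F hL hfr

end CfsgLib.OddOrder
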