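import Cfsg.Agent.OddOrder.PF10.TypeVFinal
import Cfsg.Agent.OddOrder.PF10.PairTop
import Cfsg.Agent.OddOrder.PF10.TopFinal
import Cfsg.Agent.OddOrder.BG16.AssembleFacts

/-!
# There is no minimal simple group of odd order
-/

set_option autoImplicit false

namespace CfsgLib.OddOrder

open Cfsg

universe u

theorem no_minSimpleOddOrder {G : Type u} [Group G] [Finite G] (hG : Cfsg.IsMinSimpleOddOrder G) :
    False := by
  classical
  letI : Fintype G := Fintype.ofFinite _
  have F := ftFacts hG
  have hV : ∀ S T W₁ U W₂ V : Subgroup G, FTPair S T W₁ U W₂ V → ¬ IsOfTypeV T :=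
    fun _ _ _ _ _ _ h => h.not_typeV hG F
  obtain ⟨S, T, W₁, U, W₂, V, h⟩ := F.exists_topConfig hG hV
  exact h.false hG F fun _ _ _ _ hL hP hII => F.typeP_facts hG hV hL hP hII

end CfsgLib.OddOrder
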