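import Cfsg.Agent.OddOrder.PF10.BadSide

/-!
# The projection of a Dade image on a coherent family and on the table

For `β` on `A₀(M)` with `⟨β, ζ⟩ = -m [ζ = ζ₀]` on the linear family there is an integer `x` with
`⟨τ β, f ζ⟩ = x - m [ζ = ζ₀]`, and `r x² - 2 m x + m² + Σ c² ≤ ‖β‖²`.
-/

set_option autoImplicit false
set_option linter.style.haveILetI false
set_option linter.unusedSectionVars false

namespace CfsgLib.OddOrder

open Cfsg CfsgLib.Characters CfsgLib.Coherence CfsgLib.OddOrderChar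
open scoped ComplexConjugate

universe u

variable {G : Type u} [Group G] [Fintype G] {M W₁ W₂ : Subgroup G} [Fintype M]

noncomputable local instance fintypeSubBadCtx (H : Subgroup ↥M) : Fintype H := Fintype.ofFinite H

theorem linSet_finite (M : Subgroup G) [Fintype M] : (linSet M).Finite := by
  refine (Set.finite_range fun θ : IrrCharacter ↥(derIn M) => indFun (derIn M) (θ : _ → ℂ)).subset ?_
  rintro φ ⟨θ, hθ, -, -, rfl⟩
  exact ⟨⟨θ, hθ⟩, rfl⟩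

/-- `linSet M` as a finset. -/
noncomputable def linFin (M : Subgroup G) [Fintype M] : Finset (↥M → ℂ) := (linSet_finite M).toFinset

theorem mem_linFin {ζ : ↥M → ℂ} : ζ ∈ linFin M ↔ ζ ∈ linSet M := (linSet_finite M).mem_toFinset

/-- The number of characters induced from non-principal linear characters of `M'`. -/
noncomputable def linNum (M : Subgroup G) [Fintype M] : ℕ := (linFin M).card

/-- A side with chosen extension, sign, degree parameter and base character. -/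
structure BadCtx (M W₁ W₂ : Subgroup G) [Fintype M]
    (χ : (↥(W₁ ⊔ W₂) →* ℂˣ) → (G → ℂ))
    (μ : (↥(W₁ ⊔ W₂) →* ℂˣ) → (↥M → ℂ)) (δ : (↥(W₁ ⊔ W₂) →* ℂˣ) → ℤ)
    (f : (↥M → ℂ) → (G → ℂ)) (s n : ℤ) (ζ₀ : ↥M → ℂ) : Prop
    extends BadSide M W₁ W₂ χ μ δ where
  ext : LinExt M W₁ W₂ χ f
  sign : s = 1 ∨ s = -1
  two_le : 2 ≤ n
  even : Even n
  mu_deg : ∀ l : rightHat W₁ W₂, l ≠ 1 →
    δ l.1 = s ∧ μ l.1 1 = (s : ℂ) + (n : ℂ) * (Nat.card W₁ : ℂ)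
  mem : ζ₀ ∈ linSet M

theorem BadSide.exists_ctx {χ : (↥(W₁ ⊔ W₂) →* ℂˣ) → (G → ℂ)}
    {μ : (↥(W₁ ⊔ W₂) →* ℂˣ) → (↥M → ℂ)} {δ : (↥(W₁ ⊔ W₂) →* ℂˣ) → ℤ}
    (h : BadSide M W₁ W₂ χ μ δ) : ∃ f s n ζ₀, BadCtx M W₁ W₂ χ μ δ f s n ζ₀ := by
  obtain ⟨f, hf⟩ := h.exists_linExt
  obtain ⟨s, n, hs, hn, he, hd⟩ := h.degree
  obtain ⟨ζ, hζ⟩ := h.linSet_nonempty
  exact ⟨f, s, n, ζ, h, hf, hs, hn, he, hd, hζ⟩

/-- `τ γ = col₀ - f ζ₀`. -/
def GoodExt (M W₁ W₂ : Subgroup G) [Fintype M] (χ : (↥(W₁ ⊔ W₂) →* ℂˣ) → (G → ℂ))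
    (f : (↥M → ℂ) → (G → ℂ)) (ζ₀ : ↥M → ℂ) : Prop :=
  tauM M (gammaB M ζ₀) = col χ 1 - f ζ₀

/-- `⟨τ α_l, f ζ₀⟩ = -n` for all `l ≠ 1`: the coefficient `a` of Peterfalvi (10.8) is zero. -/
def AZero (M W₁ W₂ : Subgroup G) [Fintype M] (μ : (↥(W₁ ⊔ W₂) →* ℂˣ) → (↥M → ℂ))
    (f : (↥M → ℂ) → (G → ℂ)) (s n : ℤ) (ζ₀ : ↥M → ℂ) : Prop :=
  ∀ l : rightHat W₁ W₂, l ≠ 1 → classInner (tauM M (alphaB μ s n ζ₀ l)) (f ζ₀) = -(n : ℂ)

namespace BadCtx

variable {χ : (↥(W₁ ⊔ W₂) →* ℂˣ) → (G → ℂ)} {μ : (↥(W₁ ⊔ W₂) →* ℂˣ) → (↥M → ℂ)}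
  {δ : (↥(W₁ ⊔ W₂) →* ℂˣ) → ℤ} {f : (↥M → ℂ) → (G → ℂ)} {s n : ℤ} {ζ₀ : ↥M → ℂ}
  (h : BadCtx M W₁ W₂ χ μ δ f s n ζ₀)
include h

theorem f_ortho : IsOrtho (fun ζ : {ζ // ζ ∈ linFin M} => f ζ.1) :=
  ⟨fun ζ => signed_self (h.ext.signed _ (mem_linFin.1 ζ.2)), fun ζ ζ' hne =>
    h.ext.inner _ (mem_linFin.1 ζ.2) _ (mem_linFin.1 ζ'.2) fun e => hne (Subtype.ext e)⟩

theorem f_gen {ζ : ↥M → ℂ} (hζ : ζ ∈ linSet M) : IsGeneralizedCharacter G (f ζ) :=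
  signed_gen (h.ext.signed _ hζ)

theorem three_le_q : 3 ≤ Nat.card W₁ := by rw [← h.ti.card_left]; exact h.ti.three_le_left

theorem three_le_p : 3 ≤ Nat.card W₂ := by rw [← h.ti.card_right]; exact h.ti.three_le_right

/-- `r q = [M' : M''] - 1`. -/
theorem linNum_mul : (linNum M : ℤ) * Nat.card W₁ = (derDer M).relIndex (derIn M) - 1 := by
  classical
  have h1 := sum_deg_sq_div (derIn M) (derDer M) (linFin M) (linSet_finite M).coe_toFinset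
  rw [Finset.sum_congr rfl (g := fun _ => (Nat.card W₁ : ℂ) ^ 2) (fun φ hφ => by
      rw [h.lin_one (mem_linFin.1 hφ), classInner_isIrr_self (h.lin_irr (mem_linFin.1 hφ)).1, div_one]),
    Finset.sum_const, nsmul_eq_mul, h.base.index_derIn] at h1
  have h2 : ((linNum M : ℤ) : ℂ) * ((Nat.card W₁ : ℤ) : ℂ) =
      (((derDer M).relIndex (derIn M) : ℤ) : ℂ) - 1 := by
    refine mul_left_cancel₀ (Nat.cast_ne_zero.2 (Nat.card_pos (α := W₁)).ne' : (Nat.card W₁ : ℂ) ≠ 0) ?_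
    push_cast
    rw [linNum]
    linear_combination h1
  exact_mod_cast h2

theorem two_le_linNum : 2 ≤ linNum M := by
  obtain ⟨h1, h2⟩ := h.lin_conj h.mem
  exact Finset.one_lt_card.2 ⟨_, mem_linFin.2 h.mem, _, mem_linFin.2 h1, Ne.symm h2⟩

/-- The projection lemma. -/
theorem proj {β : ↥M → ℂ} (hβ : IsGeneralizedCharacter ↥M β)
    (hs : ∀ x : ↥M, (x : G) ∉ supportA0 M → β x = 0) {m : ℤ}
    (h0 : classInner β ζ₀ = -(m : ℂ))
    (hne : ∀ ζ ∈ linSet M, ζ ≠ ζ₀ → classInner β ζ = 0) :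
    ∃ x : ℤ, classInner (tauM M β) (f ζ₀) = (x : ℂ) - m ∧
      (∀ ζ ∈ linSet M, ζ ≠ ζ₀ → classInner (tauM M β) (f ζ) = (x : ℂ)) ∧
      ((linNum M : ℝ) * x ^ 2 - 2 * m * x + m ^ 2 + tableSq (coefT χ (tauM M β)) ≤ sqNorm β) ∧
      (sqNorm β ≤ (linNum M : ℝ) * x ^ 2 - 2 * m * x + m ^ 2 + tableSq (coefT χ (tauM M β)) →
        tauM M β = ∑ ζ ∈ linFin M, classInner (tauM M β) (f ζ) • f ζ +
          ∑ k, ∑ l, (coefT χ (tauM M β) k l : ℂ) • eta χ k l) := by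
  classical
  have hτ := h.tau_gen hβ hs
  obtain ⟨z, hz⟩ := ci_int hτ (h.f_gen h.mem)
  have hxz : classInner (tauM M β) (f ζ₀) = ((z + m : ℤ) : ℂ) - m := by rw [hz]; push_cast; ring
  have hoth : ∀ ζ ∈ linSet M, ζ ≠ ζ₀ → classInner (tauM M β) (f ζ) = ((z + m : ℤ) : ℂ) := by
    intro ζ hζ hζ0
    have e1 := h.tau_ci (Coherence.isClassFunction_of_isGen hβ) hs
      (Coherence.isClassFunction_of_isGen (Coherence.isGen_sub
        (Coherence.isGen_of_isIrr (h.lin_irr hζ).1) (Coherence.isGen_of_isIrr (h.lin_irr h.mem).1)))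
      (h.sub_supp hζ h.mem)
    rw [h.ext.diff ζ hζ ζ₀ h.mem, ci_sub_right, ci_sub_right, hne ζ hζ hζ0, h0, hz] at e1
    push_cast
    linear_combination e1
  have hsum : ∑ ζ : {ζ // ζ ∈ linFin M}, Complex.normSq (classInner (tauM M β) (f ζ.1)) =
      (linNum M : ℝ) * ((z + m : ℤ) : ℝ) ^ 2 - 2 * m * ((z + m : ℤ) : ℝ) + (m : ℝ) ^ 2 := by
    rw [Finset.univ_eq_attach, Finset.sum_attach (linFin M)
      (fun ζ => Complex.normSq (classInner (tauM M β) (f ζ))),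
      ← Finset.add_sum_erase _ _ (mem_linFin.2 h.mem),
      Finset.sum_congr rfl (g := fun _ => ((z + m : ℤ) : ℝ) ^ 2) (fun ζ hζ => by
        rw [hoth ζ (mem_linFin.1 (Finset.mem_of_mem_erase hζ)) (Finset.mem_erase.1 hζ).1,
          Complex.normSq_intCast, sq]),
      Finset.sum_const, Finset.card_erase_of_mem (mem_linFin.2 h.mem), nsmul_eq_mul, hz,
      Complex.normSq_intCast, Nat.cast_sub (Finset.card_pos.2 ⟨_, mem_linFin.2 h.mem⟩)]
    push_cast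
    rw [linNum]
    ring
  have hnorm := h.tau_sqNorm (Coherence.isClassFunction_of_isGen hβ) hs
  refine ⟨z + m, hxz, hoth, ?_, fun hge => ?_⟩
  · have hb := h.ti.table_bessel h.f_ortho (fun ζ k l => h.ext.eta_orth _ (mem_linFin.1 ζ.2) k l) hτ
    rwa [hsum, hnorm] at hb
  · have he := h.ti.table_expansion h.f_ortho (fun ζ k l => h.ext.eta_orth _ (mem_linFin.1 ζ.2) k l) hτ
      (by rw [hsum, hnorm]; exact hge)
    rw [Finset.univ_eq_attach, Finset.sum_attach (linFin M)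
      (fun ζ => classInner (tauM M β) (f ζ) • f ζ)] at he
    exact he

theorem sum_f_eq {β : ↥M → ℂ} {x m : ℤ} (h0 : classInner (tauM M β) (f ζ₀) = (x : ℂ) - m)
    (hne : ∀ ζ ∈ linSet M, ζ ≠ ζ₀ → classInner (tauM M β) (f ζ) = (x : ℂ)) :
    ∑ ζ ∈ linFin M, classInner (tauM M β) (f ζ) • f ζ =
      (x : ℂ) • ∑ ζ ∈ linFin M, f ζ - (m : ℂ) • f ζ₀ := by
  classical
  rw [Finset.smul_sum, ← Finset.add_sum_erase _ _ (mem_linFin.2 h.mem),
    ← Finset.add_sum_erase (linFin M) (fun ζ => (x : ℂ) • f ζ) (mem_linFin.2 h.mem), h0,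
    Finset.sum_congr rfl (g := fun ζ => (x : ℂ) • f ζ) (fun ζ hζ => by
      rw [hne ζ (mem_linFin.1 (Finset.mem_of_mem_erase hζ)) (Finset.mem_erase.1 hζ).1]), sub_smul]
  abel

theorem eta_f (k : leftHat W₁ W₂) (l : rightHat W₁ W₂) {ζ : ↥M → ℂ} (hζ : ζ ∈ linSet M) :
    classInner (eta χ k l) (f ζ) = 0 := by
  rw [← ci_conj, h.ext.eta_orth ζ hζ k l, map_zero]

theorem col_f (l : rightHat W₁ W₂) {ζ : ↥M → ℂ} (hζ : ζ ∈ linSet M) :
    classInner (col χ l) (f ζ) = 0 := by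
  rw [col, ci_sum_left]
  exact Finset.sum_eq_zero fun k _ => h.eta_f k l hζ

/-! ### `γ` -/

theorem ind_one_facts : classInner (indFun (derIn M) (fun _ => 1)) (indFun (derIn M) (fun _ => 1)) =
      (Nat.card W₁ : ℂ) ∧
    (∀ ζ ∈ linSet M, classInner (indFun (derIn M) (fun _ => 1)) ζ = 0) ∧
    (∀ l : rightHat W₁ W₂, l ≠ 1 → classInner (indFun (derIn M) (fun _ => 1)) (μ l.1) = 0) ∧
    classInner (indFun (derIn M) (fun _ => 1)) (fun _ => 1) = 1 := by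
  classical
  have h1 : IsIrrCharacter ↥(derIn M) (fun _ => (1 : ℂ)) := Characters.isIrr_one
  refine ⟨?_, fun ζ hζ => ?_, fun l hl => ?_, ?_⟩
  · rw [Coherence.ci_ind_self _ h1]
    have e : stabCard (derIn M) (fun _ : derIn M => (1 : ℂ)) = Nat.card M := by
      rw [stabCard]
      exact Nat.card_congr (Equiv.subtypeUnivEquiv fun g => conjBy_principal _ g)
    rw [e, ← (derIn M).index_mul_card, h.base.index_derIn, Nat.cast_mul, mul_div_assoc,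
      div_self natCard_ne_zero, mul_one]
  · obtain ⟨θ, hθ, -, hne, -, rfl, -⟩ := h.lin_facts hζ
    rw [← ci_conj, classInner_ind_ind_eq_zero (derIn M) h1 hθ
      (fun g e => hne (e.trans (conjBy_principal _ g))), map_zero]
  · rw [OddOrderChar.classInner_indFun_left _ _ (isClassFunction_of_isIrr (h.pmu.irr _))]
    refine classInner_isIrr_ne h1 (h.pmu.res_irr h.base h.oddM l) fun e => hl ?_
    refine (h.pmu.res_inj h.base h.oddM (l := 1) (l' := l) ?_).symm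
    rw [rightHat_coe_one, (h.pmu.one h.base h.oddM).1]
    exact e
  · rw [OddOrderChar.classInner_indFun_left _ _ (fun _ _ => rfl)]
    exact classInner_isIrr_self h1

theorem gamma_facts {ζ : ↥M → ℂ} (hζ : ζ ∈ linSet M) :
    IsGeneralizedCharacter ↥M (gammaB M ζ) ∧
    (∀ x : ↥M, (x : G) ∉ supportA0 M → gammaB M ζ x = 0) ∧
    sqNorm (gammaB M ζ) = (Nat.card W₁ : ℝ) + 1 ∧
    classInner (gammaB M ζ) (fun _ => 1) = 1 ∧
    classInner (gammaB M ζ) ζ = -1 ∧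
    ∀ ζ' ∈ linSet M, ζ' ≠ ζ → classInner (gammaB M ζ) ζ' = 0 := by
  classical
  obtain ⟨e1, e2, -, e4⟩ := h.ind_one_facts
  have hirr := (h.lin_irr hζ).1
  have hgen : IsGeneralizedCharacter ↥M (gammaB M ζ) := Coherence.isGen_sub
    (Characters.isGen_of_isCharacter (OddOrderChar.isCharacter_indFun _
      (isCharacter_of_isIrr Characters.isIrr_one))) (Coherence.isGen_of_isIrr hirr)
  refine ⟨hgen, h.supp (Coherence.isClassFunction_of_isGen hgen) ?_ (fun w h1 hw => ?_), ?_, ?_, ?_,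
    fun ζ' hζ' hne => ?_⟩
  · rw [gammaB, Pi.sub_apply, h.ind_one, h.lin_one hζ, mul_one, sub_self]
  · rw [gammaB, Pi.sub_apply, h.ind_apply_W₁ _ h1 hw, h.lin_zero hζ (h.w₁_notMem_W₂ h1 hw), sub_self]
  · rw [sqNorm, gammaB, ci_sub_left, ci_sub_right, ci_sub_right, e1, e2 ζ hζ, ← ci_conj _ ζ, e2 ζ hζ,
      map_zero, classInner_isIrr_self hirr]
    simp
  · have hone : classInner ζ (fun _ => (1 : ℂ)) = 0 := by
      rw [← (h.pmu.one h.base h.oddM).1]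
      exact classInner_isIrr_ne hirr (h.pmu.irr 1) ((h.lin_irr hζ).2 1)
    rw [gammaB, ci_sub_left, e4, hone, sub_zero]
  · rw [gammaB, ci_sub_left, e2 ζ hζ, classInner_isIrr_self hirr, zero_sub]
  · rw [gammaB, ci_sub_left, e2 ζ' hζ', classInner_isIrr_ne hirr (h.lin_irr hζ').1 (Ne.symm hne),
      sub_zero]

/-! ### `α` -/

theorem mu_lin (ω : ↥(W₁ ⊔ W₂) →* ℂˣ) {ζ : ↥M → ℂ} (hζ : ζ ∈ linSet M) :
    classInner (μ ω) ζ = 0 :=
  classInner_isIrr_ne (h.pmu.irr ω) (h.lin_irr hζ).1 fun e => (h.lin_irr hζ).2 ω e.symm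

theorem one_lin {ζ : ↥M → ℂ} (hζ : ζ ∈ linSet M) :
    classInner (fun _ : ↥M => (1 : ℂ)) ζ = 0 := by
  rw [← (h.pmu.one h.base h.oddM).1]; exact h.mu_lin 1 hζ

theorem alpha_facts {ζ : ↥M → ℂ} (hζ : ζ ∈ linSet M) {l : rightHat W₁ W₂} (hl : l ≠ 1) :
    IsGeneralizedCharacter ↥M (alphaB μ s n ζ l) ∧
    (∀ x : ↥M, (x : G) ∉ supportA0 M → alphaB μ s n ζ l x = 0) ∧
    sqNorm (alphaB μ s n ζ l) = 2 + (n : ℝ) ^ 2 ∧
    classInner (alphaB μ s n ζ l) (fun _ => 1) = -(s : ℂ) ∧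
    classInner (alphaB μ s n ζ l) ζ = -(n : ℂ) ∧
    ∀ ζ' ∈ linSet M, ζ' ≠ ζ → classInner (alphaB μ s n ζ l) ζ' = 0 := by
  classical
  obtain ⟨hδ, hdeg⟩ := h.mu_deg l hl
  have hirr := (h.lin_irr hζ).1
  have h1 : IsIrrCharacter ↥M (fun _ => (1 : ℂ)) := Characters.isIrr_one
  have hμ1 : classInner (μ l.1) (fun _ => (1 : ℂ)) = 0 := by
    rw [← (h.pmu.one h.base h.oddM).1]
    exact classInner_isIrr_ne (h.pmu.irr l.1) (h.pmu.irr 1) fun e => hl (Subtype.ext (h.pmu.inj e))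
  have hss : ((s : ℂ)) * (s : ℂ) = 1 := by rcases h.sign with e | e <;> rw [e] <;> norm_num
  have hgen : IsGeneralizedCharacter ↥M (alphaB μ s n ζ l) := Coherence.isGen_sub (Coherence.isGen_sub
    (Coherence.isGen_of_isIrr (h.pmu.irr _)) (Coherence.isGen_intCast_smul (Coherence.isGen_of_isIrr h1) _))
    (Coherence.isGen_intCast_smul (Coherence.isGen_of_isIrr hirr) _)
  refine ⟨hgen, h.supp (Coherence.isClassFunction_of_isGen hgen) ?_ (fun w h1' hw => ?_), ?_, ?_, ?_,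
    fun ζ' hζ' hne => ?_⟩
  · simp only [alphaB, Pi.sub_apply, Pi.smul_apply, smul_eq_mul, hdeg, h.lin_one hζ]
    ring
  · simp only [alphaB, Pi.sub_apply, Pi.smul_apply, smul_eq_mul,
      h.lin_zero hζ (h.w₁_notMem_W₂ h1' hw), h.pmu.value _ w (h.w₁_notMem_W₂ h1' hw), hδ, l.2 w h1',
      Units.val_one]
    ring
  · rw [sqNorm, alphaB]
    simp only [ci_sub_left, ci_sub_right, ci_smul_left, ci_smul_right, map_intCast, hμ1,
      ← ci_conj (μ l.1) (fun _ => (1 : ℂ)), ← ci_conj (μ l.1) ζ, ← ci_conj (fun _ : ↥M => (1 : ℂ)) ζ,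
      h.mu_lin l.1 hζ, h.one_lin hζ, map_zero, classInner_isIrr_self (h.pmu.irr l.1),
      classInner_isIrr_self hirr, classInner_isIrr_self h1, mul_zero, mul_one, sub_zero, zero_sub,
      sub_neg_eq_add]
    rw [show (1 : ℂ) - (s : ℂ) * -(s : ℂ) - (n : ℂ) * -(n : ℂ) = ((2 + (n : ℝ) ^ 2 : ℝ) : ℂ) by
      push_cast; linear_combination hss]
    rw [Complex.ofReal_re]
  · rw [alphaB, ci_sub_left, ci_sub_left, ci_smul_left, ci_smul_left, hμ1, classInner_isIrr_self h1,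
      ← ci_conj (fun _ : ↥M => (1 : ℂ)) ζ, h.one_lin hζ, map_zero]
    ring
  · rw [alphaB, ci_sub_left, ci_sub_left, ci_smul_left, ci_smul_left, h.mu_lin _ hζ, h.one_lin hζ,
      classInner_isIrr_self hirr]
    ring
  · rw [alphaB, ci_sub_left, ci_sub_left, ci_smul_left, ci_smul_left, h.mu_lin _ hζ', h.one_lin hζ',
      classInner_isIrr_ne hirr (h.lin_irr hζ').1 (Ne.symm hne)]
    ring

theorem gamma_alpha {l : rightHat W₁ W₂} (hl : l ≠ 1) :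
    classInner (gammaB M ζ₀) (alphaB μ s n ζ₀ l) = (n : ℂ) - (s : ℂ) := by
  obtain ⟨-, e2, e3, e4⟩ := h.ind_one_facts
  obtain ⟨-, -, -, -, eα, -⟩ := h.alpha_facts h.mem hl
  have : classInner (indFun (derIn M) (fun _ => 1)) (alphaB μ s n ζ₀ l) = -(s : ℂ) := by
    rw [alphaB, ci_sub_right, ci_sub_right, ci_smul_right, ci_smul_right, e3 l hl, e4, e2 _ h.mem,
      map_intCast]
    ring
  rw [gammaB, ci_sub_left, this, ← ci_conj, eα, map_neg, map_intCast]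
  ring

end BadCtx

end CfsgLib.OddOrder
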