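import Cfsg.Agent.OddOrder.PF10.BadCtx

/-!
# Peterfalvi (10.5)-(10.8) in the reduced form: `τ γ = col₀ - f ζ₀` and the coefficient `a`
-/

set_option autoImplicit false
set_option linter.style.haveILetI false
set_option linter.unusedSectionVars false

namespace CfsgLib.OddOrder

open Cfsg CfsgLib.Characters CfsgLib.Coherence CfsgLib.OddOrderChar
open scoped ComplexConjugate

universe u

variable {G : Type u} [Group G] [Fintype G] {M W₁ W₂ : Subgroup G} [Fintype M]

noncomputable local instance fintypeSubBadGood (H : Subgroup ↥M) : Fintype H := Fintype.ofFinite H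

namespace BadCtx

variable {χ : (↥(W₁ ⊔ W₂) →* ℂˣ) → (G → ℂ)} {μ : (↥(W₁ ⊔ W₂) →* ℂˣ) → (↥M → ℂ)}
  {δ : (↥(W₁ ⊔ W₂) →* ℂˣ) → ℤ} {f : (↥M → ℂ) → (G → ℂ)} {s n : ℤ} {ζ₀ : ↥M → ℂ}
  (h : BadCtx M W₁ W₂ χ μ δ f s n ζ₀)
include h

theorem gamma_table :
    ∃ g : ℤ, classInner (tauM M (gammaB M ζ₀)) (f ζ₀) = (g : ℂ) - 1 ∧
      (∀ ζ ∈ linSet M, ζ ≠ ζ₀ → classInner (tauM M (gammaB M ζ₀)) (f ζ) = (g : ℂ)) ∧
      AdditiveAt (coefT χ (tauM M (gammaB M ζ₀))) 1 1 ∧
      coefT χ (tauM M (gammaB M ζ₀)) 1 1 = 1 ∧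
      (linNum M : ℤ) * g ^ 2 - 2 * g + tableSq (coefT χ (tauM M (gammaB M ζ₀))) ≤ Nat.card W₁ ∧
      (g = 0 → tableSq (coefT χ (tauM M (gammaB M ζ₀))) = Nat.card W₁ →
        (∀ k l, (l = 1 → coefT χ (tauM M (gammaB M ζ₀)) k l = 1) ∧
          (l ≠ 1 → coefT χ (tauM M (gammaB M ζ₀)) k l = 0)) →
        GoodExt M W₁ W₂ χ f ζ₀) := by
  classical
  obtain ⟨hgen, hs, hnorm, h1, h0, hne⟩ := h.gamma_facts h.mem
  obtain ⟨g, g0, gne, gle, gexp⟩ := h.proj hgen hs (m := 1) (by rw [h0]; simp) hne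
  have hτ := h.tau_gen hgen hs
  have hadd := h.toSide.tau_additive hgen hs fun w h1 h2 => by
    have hnm := h.base.not_mem_derIn h.le h2
    rw [gammaB, Pi.sub_apply, indFun_normal_eq_zero _ _ hnm, h.lin_zero h.mem h2, sub_self]
  have h00 : coefT χ (tauM M (gammaB M ζ₀)) 1 1 = 1 := h.ti.coefT_one_one hτ (by
    rw [h.tau_ci_one (Coherence.isClassFunction_of_isGen hgen) hs, h1, Int.cast_one])
  rw [hnorm] at gle gexp
  refine ⟨g, by rw [g0, Int.cast_one], gne, hadd, h00, ?_, fun hg hsq hc => ?_⟩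
  · have : ((linNum M : ℤ) * g ^ 2 - 2 * g + tableSq (coefT χ (tauM M (gammaB M ζ₀))) : ℝ) ≤
        ((Nat.card W₁ : ℤ) : ℝ) := by push_cast; push_cast at gle; linarith
    exact_mod_cast this
  · subst hg
    have hsq' : (tableSq (coefT χ (tauM M (gammaB M ζ₀))) : ℝ) = Nat.card W₁ := by exact_mod_cast hsq
    have e := gexp (by push_cast; linarith)
    rw [h.sum_f_eq g0 gne] at e
    rw [GoodExt, e]
    have hcol : ∑ k, ∑ l, (coefT χ (tauM M (gammaB M ζ₀)) k l : ℂ) • eta χ k l = col χ 1 := by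
      rw [col]
      refine Finset.sum_congr rfl fun k _ => ?_
      rw [Finset.sum_eq_single 1 (fun l _ hl => by rw [(hc k l).2 hl, Int.cast_zero, zero_smul])
        (by simp), (hc k 1).1 rfl, Int.cast_one, one_smul]
    rw [hcol, Int.cast_zero, zero_smul, Int.cast_one, one_smul]
    abel

/-- The table of `τ α_l`. -/
theorem alpha_table {l : rightHat W₁ W₂} (hl : l ≠ 1) :
    ∃ a : ℤ, classInner (tauM M (alphaB μ s n ζ₀ l)) (f ζ₀) = (a : ℂ) - n ∧
      (∀ ζ ∈ linSet M, ζ ≠ ζ₀ → classInner (tauM M (alphaB μ s n ζ₀ l)) (f ζ) = (a : ℂ)) ∧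
      (linNum M : ℤ) * a ^ 2 - 2 * n * a + tableSq (coefT χ (tauM M (alphaB μ s n ζ₀ l))) ≤ 2 ∧
      coefT χ (tauM M (alphaB μ s n ζ₀ l)) 1 1 = -s ∧
      (tableSq (coefT χ (tauM M (alphaB μ s n ζ₀ l))) ≤ 2 →
        ∀ k l', coefT χ (tauM M (alphaB μ s n ζ₀ l)) k l' =
          (if k = 1 ∧ l' = l then s else 0) - (if k = 1 ∧ l' = 1 then s else 0)) ∧
      (a = 0 → tauM M (alphaB μ s n ζ₀ l) =
        (s : ℂ) • (eta χ 1 l - eta χ 1 1) - (n : ℂ) • f ζ₀) := by
  classical
  obtain ⟨hgen, hs, hnorm, h1, h0, hne⟩ := h.alpha_facts h.mem hl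
  obtain ⟨a, a0, ane, ale, aexp⟩ := h.proj hgen hs (m := n) h0 hne
  have hτ := h.tau_gen hgen hs
  set e := (s : ℂ) • (eta χ 1 l - eta χ 1 1) with he
  have hegen : IsGeneralizedCharacter G e :=
    Coherence.isGen_intCast_smul (Coherence.isGen_sub (h.ti.eta_gen 1 l) (h.ti.eta_gen 1 1)) _
  set D : leftHat W₁ W₂ → rightHat W₁ W₂ → ℤ :=
    fun k l' => (if k = 1 ∧ l' = l then s else 0) - (if k = 1 ∧ l' = 1 then s else 0) with hD
  set c := coefT χ (tauM M (alphaB μ s n ζ₀ l)) with hc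
  set X := coefT χ (tauM M (alphaB μ s n ζ₀ l) - e) with hX
  have hXD : ∀ k l', c k l' = X k l' + D k l' := by
    intro k l'
    have h1 := h.ti.coefT_spec (Coherence.isGen_sub hτ hegen) k l'
    rw [ci_sub_left, h.ti.coefT_spec hτ, h.toSide.coefT_eta_sub] at h1
    have h2 : c k l' - D k l' = X k l' := by exact_mod_cast h1
    omega
  have hadd : AdditiveAt X 1 1 := by
    refine h.ti.additive (Coherence.isGen_sub hτ hegen) fun w h1' h2 => ?_
    rw [Pi.sub_apply, h.tau_on_V (Coherence.isClassFunction_of_isGen hgen) w h1' h2, he]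
    simp only [alphaB, Pi.sub_apply, Pi.smul_apply, smul_eq_mul, eta, h.ti.fam.eq_on _ w h1' h2,
      h.pmu.value _ w h2, (h.mu_deg l hl).1, leftHat_coe_one, rightHat_coe_one, MonoidHom.mul_apply,
      MonoidHom.one_apply, one_mul, Units.val_one, h.lin_zero h.mem h2]
    ring
  have h00c : c 1 1 = -s := h.ti.coefT_one_one hτ (by
    rw [h.tau_ci_one (Coherence.isClassFunction_of_isGen hgen) hs, h1, Int.cast_neg])
  have h00 : X 1 1 = 0 := by
    have h3 := hXD 1 1
    rw [h00c, hD] at h3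
    simp only [true_and, if_neg (Ne.symm hl), if_pos, zero_sub] at h3
    omega
  have hs0 : s ≠ 0 := by rcases h.sign with e | e <;> omega
  have hsmall : tableSq c ≤ 2 → ∀ k l', c k l' = D k l' := by
    intro hsq k l'
    rw [hXD, hadd.eq_zero_of_near (D := D) h.ti.three_le_left h.ti.three_le_right h00
      (fun i hi j => by simp [hD, hi]) (Or.inl (by simp [hD, Ne.symm hl, hs0]))
      (by rw [show (fun i j => X i j + D i j) = c from funext fun i => funext fun j => (hXD i j).symm]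
          exact hsq), zero_add]
  rw [hnorm] at ale aexp
  have ale' : (linNum M : ℤ) * a ^ 2 - 2 * n * a + tableSq c ≤ 2 := by
    have : (((linNum M : ℤ) * a ^ 2 - 2 * n * a + tableSq c : ℤ) : ℝ) ≤ ((2 : ℤ) : ℝ) := by
      push_cast; linarith
    exact_mod_cast this
  refine ⟨a, a0, ane, ale', h00c, hsmall, fun ha => ?_⟩
  subst ha
  have hsq : tableSq c ≤ 2 := by simpa using ale'
  have hcD : c = D := funext fun k => funext fun l' => hsmall hsq k l'
  have hsq2 : tableSq c = 2 := by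
    rw [hcD, tableSq, Finset.sum_eq_single 1 (fun i _ hi => by simp [hD, hi]) (by simp),
      ← Finset.sum_subset (Finset.subset_univ {l, 1}) (fun b _ hb => by
        simp only [Finset.mem_insert, Finset.mem_singleton, not_or] at hb
        simp [hD, hb.1, hb.2]),
      Finset.sum_pair hl]
    rcases h.sign with e | e <;> simp [hD, hl, Ne.symm hl, e]
  have hsq2' : (tableSq c : ℝ) = 2 := by exact_mod_cast hsq2
  have e1 := aexp (by push_cast; linarith)
  rw [h.sum_f_eq a0 ane] at e1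
  rw [e1, hcD, Finset.sum_eq_single 1 (fun i _ hi => Finset.sum_eq_zero fun b _ => by simp [hD, hi])
      (by simp),
    ← Finset.sum_subset (Finset.subset_univ {l, 1}) (fun b _ hb => by
      simp only [Finset.mem_insert, Finset.mem_singleton, not_or] at hb
      simp [hD, hb.1, hb.2]),
    Finset.sum_pair hl, he]
  simp only [hD, true_and, if_pos, if_neg hl, if_neg (Ne.symm hl)]
  push_cast
  module

theorem aZero_iff {l : rightHat W₁ W₂} (hl : l ≠ 1)
    (e : classInner (tauM M (alphaB μ s n ζ₀ l)) (f ζ₀) = -(n : ℂ)) :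
    AZero M W₁ W₂ μ f s n ζ₀ := by
  intro l' hl'
  obtain ⟨hgen, hs, -⟩ := h.alpha_facts h.mem hl
  obtain ⟨hgen', hs', -⟩ := h.alpha_facts h.mem hl'
  obtain ⟨hd, hdeg⟩ := h.mu_deg l hl
  obtain ⟨hd', hdeg'⟩ := h.mu_deg l' hl'
  have hsub : alphaB μ s n ζ₀ l' = alphaB μ s n ζ₀ l + (μ l'.1 - μ l.1) := by
    simp only [alphaB]; abel
  have hμs : ∀ x : ↥M, (x : G) ∉ supportA0 M → (μ l'.1 - μ l.1) x = 0 := fun x hx => by
    have := congrFun hsub x
    rw [hs' x hx, Pi.add_apply, hs x hx, zero_add] at this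
    exact this.symm
  rw [hsub, tauM, dade_add, ci_add_left]
  change classInner (tauM M (alphaB μ s n ζ₀ l)) (f ζ₀) + classInner (tauM M (μ l'.1 - μ l.1)) (f ζ₀) = _
  rw [h.toSide.tau_mu_sub l' l hl' hl (hd'.trans hd.symm) hμs, ci_smul_left, ci_sub_left,
    h.eta_f 1 l' h.mem, h.eta_f 1 l h.mem, e]
  ring

/-- `a = 0` gives the exact images. -/
theorem tau_alpha (ha : AZero M W₁ W₂ μ f s n ζ₀) {l : rightHat W₁ W₂} (hl : l ≠ 1) :
    tauM M (alphaB μ s n ζ₀ l) = (s : ℂ) • (eta χ 1 l - eta χ 1 1) - (n : ℂ) • f ζ₀ := by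
  obtain ⟨a, a0, -, -, -, -, aexp⟩ := h.alpha_table hl
  refine aexp ?_
  rw [ha l hl] at a0
  have : ((a : ℤ) : ℂ) = 0 := by linear_combination -a0
  exact_mod_cast this

theorem good_of_aZero (ha : AZero M W₁ W₂ μ f s n ζ₀) : GoodExt M W₁ W₂ χ f ζ₀ := by
  classical
  obtain ⟨g, g0, -, hadd, h00, gle, gexp⟩ := h.gamma_table
  obtain ⟨hgen, hs, -⟩ := h.gamma_facts h.mem
  have hτ := h.tau_gen hgen hs
  set c := coefT χ (tauM M (gammaB M ζ₀)) with hc
  have hcl : ∀ l : rightHat W₁ W₂, l ≠ 1 → c 1 l = s * n * g := by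
    intro l hl
    obtain ⟨hαgen, hαs, -⟩ := h.alpha_facts h.mem hl
    have e := h.tau_ci (Coherence.isClassFunction_of_isGen hgen) hs
      (Coherence.isClassFunction_of_isGen hαgen) hαs
    rw [h.tau_alpha ha hl, ci_sub_right, ci_smul_right, ci_smul_right, ci_sub_right,
      h.ti.coefT_spec hτ, h.ti.coefT_spec hτ, g0, ← hc, h00, h.gamma_alpha hl, map_intCast,
      map_intCast, Int.cast_one] at e
    have e' : s * (c 1 l - 1) - n * (g - 1) = n - s := by exact_mod_cast e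
    have hss : s * s = 1 := by rcases h.sign with e | e <;> rw [e] <;> norm_num
    linear_combination s * e' - c 1 l * hss
  obtain ⟨l₀, hl₀⟩ := Fintype.exists_ne_of_one_lt_card
    (by have := h.ti.three_le_right; omega) (1 : rightHat W₁ W₂)
  have hr : 2 ≤ (linNum M : ℤ) := by exact_mod_cast h.two_le_linNum
  have hg2 : 0 ≤ (linNum M : ℤ) * g ^ 2 - 2 * g := by
    rcases lt_trichotomy g 0 with hg | hg | hg
    · nlinarith [sq_nonneg g]
    · subst hg; simp
    · nlinarith [sq_nonneg g, sq_nonneg (g - 1)]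
  have hsmall : tableSq c ≤ Fintype.card (leftHat W₁ W₂) := by rw [h.ti.card_left]; linarith
  rcases hadd.classify_one h.ti.three_le_right h00 hsmall with hconst | ⟨hsq, hcol⟩
  · exfalso
    have h1 := hcl l₀ hl₀
    rw [hconst 1 l₀, h00] at h1
    obtain ⟨m, hm⟩ := h.even
    rw [hm] at h1
    have h2 : (1 : ℤ) = 2 * (s * m * g) := by rw [h1]; ring
    omega
  · have h1 := hcl l₀ hl₀
    rw [(hcol 1 l₀).2 hl₀] at h1
    have hg : g = 0 := by
      rcases mul_eq_zero.1 h1.symm with e | e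
      · exfalso
        have hn := h.two_le
        rcases h.sign with e' | e' <;> rw [e'] at e <;> omega
      · exact e
    exact gexp hg (by rw [hsq, h.ti.card_left]) hcol

/-- For `|W₁| < |W₂|` some extension is good. -/
theorem exists_good_of_lt (hlt : Nat.card W₁ < Nat.card W₂) :
    ∃ f', BadCtx M W₁ W₂ χ μ δ f' s n ζ₀ ∧ GoodExt M W₁ W₂ χ f' ζ₀ := by
  classical
  obtain ⟨g, g0, gne, hadd, h00, gle, gexp⟩ := h.gamma_table
  set c := coefT χ (tauM M (gammaB M ζ₀)) with hc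
  have hr : 2 ≤ (linNum M : ℤ) := by exact_mod_cast h.two_le_linNum
  have hg2 : 0 ≤ (linNum M : ℤ) * g ^ 2 - 2 * g := by
    rcases lt_trichotomy g 0 with hg | hg | hg
    · nlinarith [sq_nonneg g]
    · subst hg; simp
    · nlinarith [sq_nonneg g, sq_nonneg (g - 1)]
  obtain ⟨hsq, hcol⟩ := hadd.classify_one_lt h.ti.three_le_right
    (by rw [h.ti.card_left, h.ti.card_right]; exact hlt) h00 (by rw [h.ti.card_left]; linarith)
  rw [h.ti.card_left] at hsq
  by_cases hg : g = 0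
  · exact ⟨f, h, gexp hg hsq hcol⟩
  have hle : (linNum M : ℤ) * g ^ 2 - 2 * g ≤ 0 := by linarith
  have hg1 : g = 1 := by
    rcases lt_trichotomy g 0 with hgn | hgn | hgn
    · exfalso; nlinarith [sq_nonneg g]
    · exact absurd hgn hg
    · by_contra h1
      have h2 : 2 ≤ g := by omega
      nlinarith [mul_le_mul_of_nonneg_right hr (sq_nonneg g), mul_le_mul_of_nonneg_right h2 (le_of_lt hgn)]
  subst hg1
  have hr2 : linNum M = 2 := by
    have : (linNum M : ℤ) ≤ 2 := by linarith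
    omega
  obtain ⟨hcm, hcne⟩ := h.lin_conj h.mem
  have hpair : linFin M = {ζ₀, conjFun ζ₀} := (Finset.eq_of_subset_of_card_le (by
      intro x hx
      rcases Finset.mem_insert.1 hx with rfl | hx
      · exact mem_linFin.2 h.mem
      · rw [Finset.mem_singleton.1 hx]; exact mem_linFin.2 hcm)
    (by rw [Finset.card_pair (Ne.symm hcne)]; exact hr2.le)).symm
  refine ⟨fun ζ => -f (conjFun ζ), { h with ext := ⟨fun ζ hζ => ?_, fun ζ hζ ζ' hζ' hne => ?_,
    fun ζ hζ ζ' hζ' => ?_, fun ζ hζ k l => ?_⟩ }, ?_⟩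
  · rcases h.ext.signed _ (h.lin_conj hζ).1 with e | e
    · exact Or.inr (by rwa [neg_neg])
    · exact Or.inl e
  · rw [ci_neg_left, ci_neg_right, neg_neg]
    refine h.ext.inner _ (h.lin_conj hζ).1 _ (h.lin_conj hζ').1 fun e => hne ?_
    rw [← conjFun_conjFun ζ, e, conjFun_conjFun]
  · rcases eq_or_ne ζ ζ' with rfl | hne
    · rw [sub_self, sub_self, tauM, dade_zero]
    rw [h.ext.diff ζ hζ ζ' hζ']
    have hz : ∀ z ∈ linSet M, z = ζ₀ ∨ z = conjFun ζ₀ := fun z hz => by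
      simpa [hpair] using mem_linFin.2 hz
    rcases hz ζ hζ with rfl | rfl <;> rcases hz ζ' hζ' with rfl | rfl
    · exact absurd rfl hne
    · rw [conjFun_conjFun]; abel
    · rw [conjFun_conjFun]; abel
    · exact absurd rfl hne
  · rw [ci_neg_left, h.ext.eta_orth _ (h.lin_conj hζ).1, neg_zero]
  · rw [GoodExt]
    obtain ⟨hgen, hs, hnorm, -, h0', hne'⟩ := h.gamma_facts h.mem
    obtain ⟨x, x0, -, -, xexp⟩ := h.proj hgen hs (m := 1) (by rw [h0']; simp) hne'
    have hx : x = 1 := by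
      rw [g0] at x0
      have e : ((x : ℤ) : ℂ) = ((1 : ℤ) : ℂ) := by push_cast at x0 ⊢; linear_combination -x0
      exact_mod_cast e
    subst hx
    have hsq' : (tableSq c : ℝ) = Nat.card W₁ := by exact_mod_cast hsq
    have e := xexp (by
      rw [hnorm, ← hc, hr2]
      push_cast
      linarith)
    rw [h.sum_f_eq (x := 1) (m := 1) (by simpa using g0) (by simpa using gne)] at e
    have hcol' : ∑ k, ∑ l, (c k l : ℂ) • eta χ k l = col χ 1 := by
      rw [col]
      refine Finset.sum_congr rfl fun k _ => ?_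
      rw [Finset.sum_eq_single 1 (fun l _ hl => by rw [(hcol k l).2 hl, Int.cast_zero, zero_smul])
        (by simp), (hcol k 1).1 rfl, Int.cast_one, one_smul]
    rw [hcol', hpair, Finset.sum_pair (Ne.symm hcne)] at e
    rw [e, Int.cast_one, one_smul, one_smul]
    abel

end BadCtx

end CfsgLib.OddOrder
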