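import Cfsg.Agent.OddOrder.PF10.BadValues
import Cfsg.Agent.OddOrder.PF10.Mean

/-!
# The mass of `col₀` off the support of a side with `A(M) = M' #`
-/

set_option autoImplicit false
set_option linter.style.haveILetI false
set_option linter.unusedSectionVars false

namespace CfsgLib.OddOrder

open Cfsg CfsgLib.Characters CfsgLib.Coherence CfsgLib.OddOrderChar
open scoped ComplexConjugate

universe u

variable {G : Type u} [Group G] [Fintype G] {M W₁ W₂ : Subgroup G} [Fintype M]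

noncomputable local instance fintypeSubBadMass (H : Subgroup ↥M) : Fintype H := Fintype.ofFinite H

namespace BadCtx

variable {χ : (↥(W₁ ⊔ W₂) →* ℂˣ) → (G → ℂ)} {μ : (↥(W₁ ⊔ W₂) →* ℂˣ) → (↥M → ℂ)}
  {δ : (↥(W₁ ⊔ W₂) →* ℂˣ) → ℤ} {f : (↥M → ℂ) → (G → ℂ)} {s n : ℤ} {ζ₀ : ↥M → ℂ}
  (h : BadCtx M W₁ W₂ χ μ δ f s n ζ₀)
include h

theorem diff_supp {θ : derIn M → ℂ} (hθ : IsIrrCharacter ↥(derIn M) θ) :
    ∀ x : ↥M, (x : G) ∉ supportA0 M → (θ 1 • ζ₀ - indFun (derIn M) θ) x = 0 := by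
  refine h.supp (fun a b => ?_) ?_ fun w h1 hw => ?_
  · simp only [Pi.sub_apply, Pi.smul_apply, OddOrderChar.isClassFunction_ind (derIn M) θ a b,
      isClassFunction_of_isIrr (h.lin_irr h.mem).1 a b]
  · rw [Pi.sub_apply, Pi.smul_apply, h.lin_one h.mem, h.ind_one, smul_eq_mul]; ring
  · rw [Pi.sub_apply, Pi.smul_apply, h.ind_apply_W₁ _ h1 hw,
      h.lin_zero h.mem (h.w₁_notMem_W₂ h1 hw), smul_zero, sub_zero]

/-- The four kinds of members of a set to which the mass bound applies. -/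
def MassTerm (_h : BadCtx M W₁ W₂ χ μ δ f s n ζ₀) (θ : derIn M → ℂ) : Prop :=
  θ = (fun _ => 1) ∨ indFun (derIn M) θ ∈ linSet M ∨
    (∃ l : rightHat W₁ W₂, l ≠ 1 ∧ θ = fun x : derIn M => μ l.1 x) ∨
    classInner (tauM M (indFun (derIn M) θ - θ 1 • ζ₀)) (f ζ₀) = -(θ 1)

/-- A character of degree at most `n q + 1` is such a term, the extension being good and `a = 0`. -/
theorem massTerm_of_small (hgood : GoodExt M W₁ W₂ χ f ζ₀) (ha : AZero M W₁ W₂ μ f s n ζ₀)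
    {θ : derIn M → ℂ} (hθ : IsIrrCharacter ↥(derIn M) θ) {e : ℕ} (he : θ 1 = (e : ℂ))
    (hle : (e : ℤ) ≤ n * Nat.card W₁ + 1) : h.MassTerm θ := by
  by_cases hμ : ∃ l : rightHat W₁ W₂, θ = fun x : derIn M => μ l.1 x
  · obtain ⟨l, rfl⟩ := hμ
    by_cases hl : l = 1
    · subst hl
      refine Or.inl ?_
      rw [rightHat_coe_one, (h.pmu.one h.base h.oddM).1]
    · exact Or.inr (Or.inr (Or.inl ⟨l, hl, rfl⟩))
  push Not at hμ
  by_cases hlin : indFun (derIn M) θ ∈ linSet M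
  · exact Or.inr (Or.inl hlin)
  exact Or.inr (Or.inr (Or.inr (by rw [he]; exact h.b_zero hgood ha hθ hμ hlin he hle)))

/-- The mass bound. -/
theorem gMass_col_le (hgood : GoodExt M W₁ W₂ χ f ζ₀) {Θ : Finset (derIn M → ℂ)} (hirr : ∀ θ ∈ Θ, IsIrrCharacter ↥(derIn M) θ)
    (hst : ∀ θ ∈ Θ, ∀ g : ↥M, conjBy (derIn M) θ g ∈ Θ)
    {θ₀ : derIn M → ℂ} (h₀ : θ₀ ∈ Θ) (he₀ : indFun (derIn M) θ₀ = ζ₀)
    (hterm : ∀ θ ∈ Θ, h.MassTerm θ)
    (ha : ∀ θ ∈ Θ, ∀ l : rightHat W₁ W₂, l ≠ 1 → θ = (fun x : derIn M => μ l.1 x) →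
      AZero M W₁ W₂ μ f s n ζ₀) {O : Set G}
    (hO : Disjoint O (dadeSupp (supportA0 M) (supportR M))) :
    gMass O (col χ 1) ≤ (Nat.card W₁ : ℝ) / ∑ θ ∈ Θ, (θ 1).re ^ 2 := by
  classical
  obtain ⟨hζ, -⟩ := h.lin_irr h.mem
  have hlin₀ : θ₀ 1 = 1 := by
    have h1 := h.lin_one h.mem
    rw [← he₀, h.ind_one] at h1
    exact mul_left_cancel₀ (Nat.cast_ne_zero.2 Nat.card_pos.ne') (h1.trans (mul_one _).symm)
  have hX : sqNorm (f ζ₀) = 1 := by
    rw [sqNorm, signed_self (h.ext.signed _ h.mem), Complex.one_re]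
  have hval : ∀ θ ∈ Θ, indFun (derIn M) θ ≠ indFun (derIn M) θ₀ →
      classInner (f ζ₀) (dadeIsometry (supportA0 M) M (supportR M)
        (θ 1 • indFun (derIn M) θ₀ - indFun (derIn M) θ)) = θ 1 := by
    intro θ hθ hne
    rw [he₀] at hne ⊢
    rcases hterm θ hθ with rfl | hl | ⟨l, hl, rfl⟩ | hb
    · rw [one_smul]; exact h.val_one hgood
    · obtain ⟨φ, hφ, hφ1, -, -, he, -⟩ := h.lin_facts hl
      have h1 : θ 1 = 1 := by
        obtain ⟨g, rfl⟩ := (mem_conjOrbit (derIn M)).1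
          (conjOrbit_eq_of_ind_eq (derIn M) hφ (hirr θ hθ) he)
        rw [Coherence.conjBy_one_apply, hφ1]
      rw [h1, one_smul]
      exact h.val_lin hl hne
    · replace ha := ha _ hθ l hl rfl
      rw [h.pmu.ind_res h.base h.oddM l]
      have h1 := h.mu_val hgood ha hl
      obtain ⟨d, -, hd⟩ := exists_degree_pos (h.pmu.irr l.1)
      show classInner (f ζ₀) (tauM M (μ l.1 1 • ζ₀ - ∑ k : leftHat W₁ W₂, μ (k.1 * l.1))) = μ l.1 1
      rw [hd] at h1 ⊢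
      rw [← ci_conj, ← neg_sub, tauM, dade_neg, ci_neg_left]
      change conj (-classInner (tauM M _) (f ζ₀)) = _
      rw [h1, neg_neg, Complex.conj_natCast]
    · obtain ⟨d, -, hd⟩ := exists_degree_pos (hirr θ hθ)
      rw [hd] at hb ⊢
      rw [← ci_conj, ← neg_sub, dade_neg, ci_neg_left]
      change conj (-classInner (tauM M _) (f ζ₀)) = _
      rw [hb, neg_neg, Complex.conj_natCast]
  have h1 := gMass_compl_le_of_mean (derIn M) h.dade hirr hst h₀ hlin₀ (he₀ ▸ hζ) hX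
    (fun θ hθ => by rw [he₀]; exact h.diff_supp (hirr θ hθ)) hval
  rw [h.base.index_derIn] at h1
  refine le_trans (le_of_eq_of_le (gMass_congr fun g hg => ?_)
    (gMass_mono (Set.disjoint_left.1 hO) (f ζ₀))) h1
  have hz : tauM M (gammaB M ζ₀) g = 0 := dade_apply_notMem _ (Set.disjoint_left.1 hO hg)
  rw [hgood, Pi.sub_apply, sub_eq_zero] at hz
  exact hz

/-- With only linear characters: `q / [M' : M'']`. -/
theorem gMass_col_le_lin (hgood : GoodExt M W₁ W₂ χ f ζ₀) {O : Set G}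
    (hO : Disjoint O (dadeSupp (supportA0 M) (supportR M))) :
    gMass O (col χ 1) ≤ (Nat.card W₁ : ℝ) / ((derDer M).relIndex (derIn M) : ℝ) := by
  classical
  set Θ := (((Finset.univ : Finset (IrrCharacter ↥(derIn M))).filter
    fun θ => ∀ a : derIn M, (a : ↥M) ∈ derDer M → θ.1 a = θ.1 1)).image Subtype.val with hΘ
  have hmem : ∀ θ, θ ∈ Θ ↔ IsIrrCharacter ↥(derIn M) θ ∧
      ∀ a : derIn M, (a : ↥M) ∈ derDer M → θ a = θ 1 := by
    intro θ
    simp only [hΘ, Finset.mem_image, Finset.mem_filter, Finset.mem_univ, true_and]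
    exact ⟨fun ⟨φ, hφ, e⟩ => e ▸ ⟨φ.2, hφ⟩, fun ⟨h1, h2⟩ => ⟨⟨θ, h1⟩, h2, rfl⟩⟩
  obtain ⟨θ₀, hθ₀, h1, hne, hA, he, -⟩ := h.lin_facts h.mem
  have hdeg : ∀ θ ∈ Θ, θ = (fun _ => 1) ∨ indFun (derIn M) θ ∈ linSet M := by
    intro θ hθ
    obtain ⟨hi, hA'⟩ := (hmem θ).1 hθ
    by_cases hp : θ = fun _ => 1
    · exact Or.inl hp
    · exact Or.inr ⟨θ, hi, hp, hA', rfl⟩
  refine le_trans (h.gMass_col_le hgood (Θ := Θ) (θ₀ := θ₀) (fun θ hθ => ((hmem θ).1 hθ).1)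
    (fun θ hθ g => ?_) ((hmem θ₀).2 ⟨hθ₀, hA⟩) he.symm (fun θ hθ => (hdeg θ hθ).imp id Or.inl)
    (fun θ hθ l hl e => ?_) hO) (le_of_eq ?_)
  · obtain ⟨hi, hA'⟩ := (hmem θ).1 hθ
    exact (hmem _).2 ⟨isIrr_conjBy _ hi g, trivialOn_conjBy _ hA' g⟩
  · exfalso
    rcases hdeg θ hθ with h' | h'
    · refine hl (h.pmu.res_inj h.base h.oddM (l := l) (l' := 1) ?_)
      rw [← e, rightHat_coe_one, (h.pmu.one h.base h.oddM).1]
      exact h'
    · obtain ⟨φ, hφ, -, -, -, he', hne'⟩ := h.lin_facts h'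
      obtain ⟨g, hg⟩ := (mem_conjOrbit (derIn M)).1
        (conjOrbit_eq_of_ind_eq (derIn M) ((hmem θ).1 hθ).1 hφ he'.symm)
      refine hne' l ?_
      rw [← hg, e]
      funext y
      exact isClassFunction_of_isIrr (h.pmu.irr l.1) (y : ↥M) g
  · congr 1
    have h2 := sum_sq_trivialOn (K := derIn M) (derDer M)
    rw [hΘ, Finset.sum_image (fun a _ b _ e => Subtype.ext e)]
    have hre : ∀ θ : IrrCharacter ↥(derIn M), θ.1 1 ^ 2 = (((θ.1 1).re ^ 2 : ℝ) : ℂ) := fun θ => by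
      obtain ⟨d, -, hd⟩ := exists_degree_pos θ.2
      rw [hd]; simp
    rw [Finset.sum_congr rfl fun θ _ => hre θ, ← Complex.ofReal_sum] at h2
    exact_mod_cast h2

end BadCtx

end CfsgLib.OddOrder
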