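import Cfsg.Agent.OddOrder.PF10.MuTau
import Cfsg.Agent.Coherence.Chief
import Cfsg.Agent.Characters.Linear
import Cfsg.Agent.Characters.FixedPoints

/-!
# Maximal subgroups with `M' # = A(M)` (types III, IV and V): the linear characters of `M'`

Peterfalvi (10.1)-(10.4), reduced to what the final contradiction needs: the coherent extension `f` of
the characters induced from the non-principal linear characters of `M'`, and the functions
`γ = Ind 1 - ζ` and `α_l = μ_0l - δ - n ζ`.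
-/

set_option autoImplicit false
set_option linter.style.haveILetI false
set_option linter.unusedSectionVars false

namespace CfsgLib.OddOrder

open Cfsg CfsgLib.Characters CfsgLib.Coherence CfsgLib.OddOrderChar
open scoped ComplexConjugate

universe u

variable {G : Type u} [Group G] [Fintype G] {M W₁ W₂ : Subgroup G} [Fintype M]

noncomputable local instance fintypeSubBadSide (H : Subgroup ↥M) : Fintype H := Fintype.ofFinite H

/-- A side whose set `A(M)` is `M' #`. -/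
structure BadSide (M W₁ W₂ : Subgroup G) [Fintype M]
    (χ : (↥(W₁ ⊔ W₂) →* ℂˣ) → (G → ℂ))
    (μ : (↥(W₁ ⊔ W₂) →* ℂˣ) → (↥M → ℂ)) (δ : (↥(W₁ ⊔ W₂) →* ℂˣ) → ℤ) : Prop
    extends Side M W₁ W₂ χ μ δ where
  prime₂ : (Nat.card W₂).Prime
  core : supportA M = ((⁅M, M⁆ : Subgroup G) : Set G) \ {1}

/-- `M''` inside `M`. -/
def derDer (M : Subgroup G) : Subgroup ↥M := ⁅derIn M, derIn M⁆

instance derDer_normal (M : Subgroup G) : (derDer M).Normal := by
  unfold derDer; infer_instance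

theorem derDer_le (M : Subgroup G) : derDer M ≤ derIn M :=
  Subgroup.commutator_le.2 fun a ha b hb => by
    simp only [commutatorElement_def]
    exact mul_mem (mul_mem (mul_mem ha hb) (inv_mem ha)) (inv_mem hb)

/-- The characters induced from the non-principal linear characters of `M'`. -/
noncomputable def linSet (M : Subgroup G) [Fintype M] : Set (↥M → ℂ) :=
  inducedIrrAbove (derIn M) (derDer M)

/-- A coherent extension of `linSet M` orthogonal to the family `η`. -/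
structure LinExt (M W₁ W₂ : Subgroup G) [Fintype M] (χ : (↥(W₁ ⊔ W₂) →* ℂˣ) → (G → ℂ))
    (f : (↥M → ℂ) → (G → ℂ)) : Prop where
  signed : ∀ ζ ∈ linSet M, IsSignedIrr (f ζ)
  inner : ∀ ζ ∈ linSet M, ∀ ζ' ∈ linSet M, ζ ≠ ζ' → classInner (f ζ) (f ζ') = 0
  diff : ∀ ζ ∈ linSet M, ∀ ζ' ∈ linSet M, tauM M (ζ - ζ') = f ζ - f ζ'
  eta_orth : ∀ ζ ∈ linSet M, ∀ k l, classInner (f ζ) (eta χ k l) = 0

theorem signed_self {u : G → ℂ} (h : IsSignedIrr u) : classInner u u = 1 := by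
  rcases h with h | h
  · exact classInner_isIrr_self h
  · rw [← classInner_isIrr_self h, ci_neg_left, ci_neg_right, neg_neg]

theorem signed_gen {u : G → ℂ} (h : IsSignedIrr u) : IsGeneralizedCharacter G u := by
  rcases h with h | h
  · exact Coherence.isGen_of_isIrr h
  · rw [← neg_neg u]; exact Coherence.isGen_neg (Coherence.isGen_of_isIrr h)

/-- The function `γ = Ind 1 - ζ`. -/
noncomputable def gammaB (M : Subgroup G) [Fintype M] (ζ : ↥M → ℂ) : ↥M → ℂ :=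
  indFun (derIn M) (fun _ => 1) - ζ

/-- The function `α_l = μ_0l - δ - n ζ`. -/
noncomputable def alphaB (μ : (↥(W₁ ⊔ W₂) →* ℂˣ) → (↥M → ℂ)) (s n : ℤ) (ζ : ↥M → ℂ)
    (l : rightHat W₁ W₂) : ↥M → ℂ :=
  μ l.1 - (s : ℂ) • (fun _ => 1) - (n : ℂ) • ζ

theorem degree_dvd_card {L : Type u} [Group L] [Fintype L] {φ : L → ℂ} (hφ : IsIrrCharacter L φ)
    {d : ℕ} (hd : φ 1 = d) : d ∣ Nat.card L := by
  obtain ⟨m, ρ, hρ, rfl⟩ := hφ
  haveI := hρ
  rw [ρ.char_one, Nat.cast_inj] at hd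
  exact hd ▸ Characters.finrank_dvd_card ρ

namespace BadSide

variable {χ : (↥(W₁ ⊔ W₂) →* ℂˣ) → (G → ℂ)} {μ : (↥(W₁ ⊔ W₂) →* ℂˣ) → (↥M → ℂ)}
  {δ : (↥(W₁ ⊔ W₂) →* ℂˣ) → ℤ} (h : BadSide M W₁ W₂ χ μ δ)
include h

/-- A class function vanishing at `1` and at `W₁ #` lives on `A₀(M)`. -/
theorem supp {α : ↥M → ℂ} (hα : IsClassFunction ↥M α) (h1 : α 1 = 0)
    (hW : ∀ w : ↥(W₁ ⊔ W₂), (w : G) ∈ W₁ → (w : G) ≠ 1 → α ⟨w, h.le w.2⟩ = 0) :
    ∀ x : ↥M, (x : G) ∉ supportA0 M → α x = 0 := by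
  refine h.toSide.supp_A0 hα hW fun x hx hA => ?_
  rw [h.core] at hA
  have hx1 : x = 1 := Subtype.ext (by_contra fun e => hA ⟨hx, e⟩)
  rw [hx1, h1]

theorem w₁_notMem {w : ↥(W₁ ⊔ W₂)} (h1 : (w : G) ∈ W₁) (hw : (w : G) ≠ 1) :
    (⟨w, h.le w.2⟩ : ↥M) ∉ derIn M := by
  refine fun hx => hw ?_
  have h2 : (w : G) ∈ ⁅M, M⁆ ⊓ W₁ := ⟨hx, h1⟩
  rwa [h.base.disj, Subgroup.mem_bot] at h2

theorem ind_apply_W₁ (θ : derIn M → ℂ) {w : ↥(W₁ ⊔ W₂)} (h1 : (w : G) ∈ W₁) (hw : (w : G) ≠ 1) :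
    indFun (derIn M) θ ⟨w, h.le w.2⟩ = 0 :=
  indFun_normal_eq_zero _ _ (h.w₁_notMem h1 hw)

theorem ind_one (θ : derIn M → ℂ) : indFun (derIn M) θ 1 = (Nat.card W₁ : ℂ) * θ 1 := by
  rw [Coherence.ind_one, h.base.index_derIn]

/-- What is known of a member of `linSet M`. -/
theorem lin_facts {ζ : ↥M → ℂ} (hζ : ζ ∈ linSet M) :
    ∃ θ : derIn M → ℂ, IsIrrCharacter ↥(derIn M) θ ∧ θ 1 = 1 ∧ θ ≠ (fun _ => 1) ∧
      (∀ x : derIn M, (x : ↥M) ∈ derDer M → θ x = θ 1) ∧ ζ = indFun (derIn M) θ ∧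
      ∀ l : rightHat W₁ W₂, θ ≠ fun x : derIn M => μ l.1 x := by
  have hdeg := above_degree (le_refl (derDer M)) hζ
  obtain ⟨θ, hθ, hne, hA, rfl⟩ := hζ
  have h1 : θ 1 = 1 := by
    rw [Coherence.ind_one] at hdeg
    exact mul_left_cancel₀ (Nat.cast_ne_zero.2 (derIn M).index_ne_zero_of_finite)
      (hdeg.trans (mul_one _).symm)
  refine ⟨θ, hθ, h1, hne, hA, rfl, fun l e => hne ?_⟩
  have hμ1 : μ l.1 1 = 1 := by rw [← h1, e]; rfl
  obtain ⟨c, hc⟩ := exists_hom_of_degree_one (isCharacter_of_isIrr (h.pmu.irr l.1)) hμ1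
  rw [e]
  funext x
  show μ l.1 (x : ↥M) = 1
  rw [hc]
  dsimp only
  have hx : (x : ↥M) ∈ commutator ↥M := by
    have hx2 : ((x : ↥M) : G) ∈ ⁅M, M⁆ := x.2
    rw [← Subgroup.mem_map_iff_mem M.subtype_injective (x := (x : ↥M))]
    rw [Subgroup.map_subtype_commutator]
    exact hx2
  have hker : commutator ↥M ≤ c.ker := Abelianization.commutator_subset_ker c
  rw [MonoidHom.mem_ker.1 (hker hx), Units.val_one]

theorem lin_irr {ζ : ↥M → ℂ} (hζ : ζ ∈ linSet M) :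
    IsIrrCharacter ↥M ζ ∧ ∀ ω, ζ ≠ μ ω := by
  obtain ⟨θ, hθ, -, -, -, rfl, hne⟩ := h.lin_facts hζ
  exact h.pmu.ind_irr' h.base h.oddM hθ hne

theorem lin_one {ζ : ↥M → ℂ} (hζ : ζ ∈ linSet M) : ζ 1 = (Nat.card W₁ : ℂ) := by
  obtain ⟨θ, -, h1, -, -, rfl, -⟩ := h.lin_facts hζ
  rw [h.ind_one, h1, mul_one]

theorem lin_zero {ζ : ↥M → ℂ} (hζ : ζ ∈ linSet M) {w : ↥(W₁ ⊔ W₂)} (h1 : (w : G) ∉ W₂) :
    ζ ⟨w, h.le w.2⟩ = 0 :=
  h.pmu.others_zero h.base h.oddM (h.lin_irr hζ).1 (h.lin_irr hζ).2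
    (h.base.not_mem_derIn h.le h1)

theorem lin_conj {ζ : ↥M → ℂ} (hζ : ζ ∈ linSet M) : conjFun ζ ∈ linSet M ∧ conjFun ζ ≠ ζ := by
  refine ⟨conj_mem_inducedIrrAbove _ hζ, fun e => ?_⟩
  obtain ⟨hirr, hne⟩ := h.lin_irr hζ
  refine hne 1 ?_
  rw [(h.pmu.one h.base h.oddM).1]
  exact Characters.eq_one_of_real_of_odd h.oddM hirr fun g => Complex.conj_eq_iff_im.1 (congrFun e g)

theorem w₁_notMem_W₂ {w : ↥(W₁ ⊔ W₂)} (h1 : (w : G) ∈ W₁) (hw : (w : G) ≠ 1) : (w : G) ∉ W₂ :=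
  fun h2 => h.w₁_notMem h1 hw (h.base.le₂ h2)

theorem sub_supp {ζ ζ' : ↥M → ℂ} (hζ : ζ ∈ linSet M) (hζ' : ζ' ∈ linSet M) :
    ∀ x : ↥M, (x : G) ∉ supportA0 M → (ζ - ζ') x = 0 := by
  refine h.supp (fun a b => by
    simp only [Pi.sub_apply, isClassFunction_of_isIrr (h.lin_irr hζ).1 a b,
      isClassFunction_of_isIrr (h.lin_irr hζ').1 a b]) ?_ fun w h1 hw => ?_
  · rw [Pi.sub_apply, h.lin_one hζ, h.lin_one hζ', sub_self]
  · rw [Pi.sub_apply, h.lin_zero hζ (h.w₁_notMem_W₂ h1 hw), h.lin_zero hζ' (h.w₁_notMem_W₂ h1 hw),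
      sub_self]

theorem linSet_nonempty : (linSet M).Nonempty := by
  haveI hsM : Group.IsSolvable ↥M := minSimple_coatom_solvable h.minSimple h.coatom
  have hsolv : Group.IsSolvable ↥(derIn M) := inferInstance
  have hlt : derDer M < derIn M := by
    refine lt_of_le_of_ne (derDer_le M) fun e => ?_
    have hW : (derIn M) ≠ ⊥ := fun hb => h.base.snc.2.1 (by
      rw [eq_bot_iff]
      intro y hy
      have : (⟨y, h.base.derived_le (h.base.le₂ hy)⟩ : ↥M) ∈ derIn M := h.base.le₂ hy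
      rw [hb, Subgroup.mem_bot] at this
      exact congrArg Subtype.val this)
    have hlt2 := Group.IsSolvable.commutator_lt_of_ne_bot hW
    exact hlt2.ne e
  obtain ⟨φ, hφ, -⟩ := exists_linear_mem (derIn M) hsolv (derDer M) hlt
  exact ⟨φ, hφ⟩

/-- Peterfalvi (10.2): a coherent extension exists and is orthogonal to `η`. -/
theorem exists_linExt : ∃ f, LinExt M W₁ W₂ χ f := by
  classical
  have hfin : (linSet M).Finite := finite_irr_set fun ζ hζ => (h.lin_irr hζ).1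
  set S := hfin.toFinset with hSdef
  have hmem : ∀ ζ, ζ ∈ S ↔ ζ ∈ linSet M := fun ζ => hfin.mem_toFinset
  have hS : (↑S : Set (↥M → ℂ)) = linSet M := hfin.coe_toFinset
  have hirr : ∀ ζ ∈ S, IsIrrCharacter ↥M ζ := fun ζ hζ => (h.lin_irr ((hmem ζ).1 hζ)).1
  have hdeg := degSet_irr hirr
  have hz : ∀ α ∈ zspanOn (↑S : Set (↥M → ℂ)) {1}ᶜ,
      IsGeneralizedCharacter ↥M α ∧ ∀ x : ↥M, (x : G) ∉ supportA0 M → α x = 0 := by
    intro α hα
    obtain ⟨hα1, hα2⟩ := mem_zspanOn_one.1 hα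
    obtain ⟨c, rfl⟩ := mem_zspan_iff.1 hα1
    have hgen : IsGeneralizedCharacter ↥M (∑ χ ∈ S, (c χ : ℂ) • χ) :=
      Coherence.isGen_sum _ _ fun χ hχ =>
        Coherence.isGen_intCast_smul (Coherence.isGen_of_isIrr (hirr χ hχ)) _
    refine ⟨hgen, h.supp (Coherence.isClassFunction_of_isGen hgen) hα2 fun w h1 hw => ?_⟩
    rw [Finset.sum_apply]
    exact Finset.sum_eq_zero fun χ hχ => by
      rw [Pi.smul_apply, h.lin_zero ((hmem χ).1 hχ) (h.w₁_notMem_W₂ h1 hw), smul_zero]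
  obtain ⟨T, hT, hTτ⟩ := exists_isom hdeg (τ := tauM M) ⟨fun a _ b _ => dade_add a b,
    fun a _ n => map_zsmul (dadeLin (supportA0 M) M (supportR M)) n a,
    fun a ha b hb => h.tau_ci (Coherence.isClassFunction_of_isGen (hz a ha).1) (hz a ha).2
      (Coherence.isClassFunction_of_isGen (hz b hb).1) (hz b hb).2,
    fun a ha => h.tau_gen (hz a ha).1 (hz a ha).2⟩
    (fun a _ => dade_apply_one h.dade a)
  obtain ⟨g, hg⟩ := uniform_irr hirr hT fun a ha b hb => by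
    rw [h.lin_one ((hmem a).1 ha), h.lin_one ((hmem b).1 hb)]
  have hdiff : ∀ ζ ∈ linSet M, ∀ ζ' ∈ linSet M, tauM M (ζ - ζ') = g ζ - g ζ' := by
    intro ζ hζ ζ' hζ'
    have hm := hdeg.edge_mem ((hmem ζ).2 hζ) ((hmem ζ').2 hζ')
    have h1 := hg.agree ζ ((hmem ζ).2 hζ) ζ' ((hmem ζ').2 hζ')
    rw [hTτ _ hm, edge, h.lin_one hζ, h.lin_one hζ', ← smul_sub, ← smul_sub, tauM, dade_smul] at h1
    exact (smul_right_injective (G → ℂ) (Nat.cast_ne_zero.2 Nat.card_pos.ne' : (Nat.card W₁ : ℂ) ≠ 0) h1).symm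
  have hsigned : ∀ ζ ∈ linSet M, IsSignedIrr (g ζ) := fun ζ hζ => hg.signed hirr ((hmem ζ).2 hζ)
  have hinner : ∀ ζ ∈ linSet M, ∀ ζ' ∈ linSet M, ζ ≠ ζ' → classInner (g ζ) (g ζ') = 0 :=
    fun ζ hζ ζ' hζ' hne => by
      rw [hg.inner ζ ((hmem ζ).2 hζ) ζ' ((hmem ζ').2 hζ'),
        classInner_isIrr_ne (h.lin_irr hζ).1 (h.lin_irr hζ').1 hne]
  refine ⟨g, hsigned, hinner, hdiff, fun ζ hζ k l => ?_⟩
  obtain ⟨hζ', hne⟩ := h.lin_conj hζ
  set α := ζ - conjFun ζ with hα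
  have hgen : IsGeneralizedCharacter ↥M α := Coherence.isGen_sub
    (Coherence.isGen_of_isIrr (h.lin_irr hζ).1) (Coherence.isGen_of_isIrr (h.lin_irr hζ').1)
  have hs := h.sub_supp hζ hζ'
  have hτ := h.tau_gen hgen hs
  have hadd := h.toSide.tau_additive hgen hs fun w h1 h2 => by
    rw [hα, Pi.sub_apply, h.lin_zero hζ h2, h.lin_zero hζ' h2, sub_self]
  have h00 : coefT χ (tauM M α) 1 1 = 0 := h.ti.coefT_one_one hτ (by
    rw [h.tau_ci_one (Coherence.isClassFunction_of_isGen hgen) hs, ← (h.pmu.one h.base h.oddM).1, hα,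
      ci_sub_left, classInner_isIrr_ne (h.lin_irr hζ).1 (h.pmu.irr 1) ((h.lin_irr hζ).2 1),
      classInner_isIrr_ne (h.lin_irr hζ').1 (h.pmu.irr 1) ((h.lin_irr hζ').2 1), sub_self,
      Int.cast_zero])
  have hnorm : sqNorm (tauM M α) = 2 := by
    rw [h.tau_sqNorm (Coherence.isClassFunction_of_isGen hgen) hs, sqNorm, hα, ci_sub_left,
      ci_sub_right, ci_sub_right, classInner_isIrr_self (h.lin_irr hζ).1,
      classInner_isIrr_self (h.lin_irr hζ').1,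
      classInner_isIrr_ne (h.lin_irr hζ).1 (h.lin_irr hζ').1 (Ne.symm hne),
      classInner_isIrr_ne (h.lin_irr hζ').1 (h.lin_irr hζ).1 hne]
    norm_num
  have hb := h.ti.table_bessel (κ := Empty) (v := fun i => i.elim) ⟨fun i => i.elim, fun i => i.elim⟩
    (fun i => i.elim) hτ
  rw [Finset.univ_eq_empty, Finset.sum_empty, zero_add, hnorm] at hb
  have hX := hadd.eq_zero_of_small h.ti.three_le_left h.ti.three_le_right h00 (by exact_mod_cast hb) k l
  have e := h.ti.coefT_spec hτ k l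
  rw [hX, hα, hdiff ζ hζ _ hζ', ci_sub_left, Int.cast_zero, sub_eq_zero] at e
  obtain ⟨z, hz'⟩ := ci_int (signed_gen (hsigned ζ hζ)) (h.ti.eta_gen k l)
  let v : Bool → G → ℂ := fun b => if b then g ζ else g (conjFun ζ)
  have hv : IsOrtho v := by
    refine ⟨fun b => ?_, fun b c hbc => ?_⟩
    · cases b
      · exact signed_self (hsigned _ hζ')
      · exact signed_self (hsigned _ hζ)
    · cases b <;> cases c <;> simp only [ne_eq, not_true_eq_false] at hbc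
      · exact hinner _ hζ' _ hζ hne
      · exact hinner _ hζ _ hζ' (Ne.symm hne)
  have hb2 := hv.bessel (eta χ k l)
  rw [Fintype.sum_bool] at hb2
  simp only [v, if_true, Bool.false_eq_true, if_false] at hb2
  rw [← ci_conj (g ζ), ← ci_conj (g (conjFun ζ)), Complex.normSq_conj, Complex.normSq_conj, ← e, hz',
    sqNorm, signed_self (h.ti.eta_signed k l), Complex.normSq_intCast, Complex.one_re] at hb2
  rw [hz']
  rcases eq_or_ne z 0 with rfl | hz0
  · simp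
  · exfalso
    have h1 : (1 : ℝ) ≤ (z : ℝ) * z := by exact_mod_cast (Int.le_of_lt_add_one (by nlinarith [mul_self_pos.2 hz0]))
    linarith

/-- The common sign and degree of the `μ_0l`, `l ≠ 1`. -/
theorem degree : ∃ s n : ℤ, (s = 1 ∨ s = -1) ∧ 2 ≤ n ∧ Even n ∧
    ∀ l : rightHat W₁ W₂, l ≠ 1 → δ l.1 = s ∧ μ l.1 1 = (s : ℂ) + (n : ℂ) * (Nat.card W₁ : ℂ) := by
  classical
  obtain ⟨l₀, hl₀⟩ := Fintype.exists_ne_of_one_lt_card
    (by have := h.ti.three_le_right; omega) (1 : rightHat W₁ W₂)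
  obtain ⟨n, hn⟩ := h.pmu.degree l₀.1
  obtain ⟨d, hd0, hd⟩ := exists_degree_pos (h.pmu.irr l₀.1)
  have hs := h.pmu.sign l₀.1
  have hdeg : (d : ℤ) = δ l₀.1 + n * (Nat.card W₁ : ℤ) := by
    rw [hd] at hn
    have : ((d : ℤ) : ℂ) = ((δ l₀.1 + n * (Nat.card W₁ : ℤ) : ℤ) : ℂ) := by
      push_cast; linear_combination hn
    exact_mod_cast this
  have hdodd : Odd d := h.oddM.of_dvd_nat (degree_dvd_card (h.pmu.irr l₀.1) hd)
  have hq : Odd (Nat.card W₁) :=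
    minSimple_odd_subgroup h.minSimple W₁
  have hq3 : 3 ≤ Nat.card W₁ := by rw [← h.ti.card_left]; exact h.ti.three_le_left
  have hd1 : d ≠ 1 := by
    rintro rfl
    rw [Nat.cast_one] at hd
    obtain ⟨c, hc⟩ := exists_hom_of_degree_one (isCharacter_of_isIrr (h.pmu.irr l₀.1)) hd
    refine hl₀ (h.pmu.res_inj h.base h.oddM ?_)
    funext x
    show μ l₀.1 (x : ↥M) = μ (1 : rightHat W₁ W₂).1 (x : ↥M)
    rw [rightHat_coe_one, (h.pmu.one h.base h.oddM).1, hc]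
    dsimp only
    have hx : (x : ↥M) ∈ commutator ↥M := by
      rw [← Subgroup.mem_map_iff_mem M.subtype_injective (x := (x : ↥M)), Subgroup.map_subtype_commutator]
      exact x.2
    rw [MonoidHom.mem_ker.1 (Abelianization.commutator_subset_ker c hx), Units.val_one]
  have hn2 : Even n := by
    have h1 : Even ((d : ℤ) - δ l₀.1) := by
      refine Odd.sub_odd ((Int.odd_coe_nat d).2 hdodd) ?_
      rcases hs with e | e <;> rw [e] <;> decide
    rw [hdeg, add_sub_cancel_left] at h1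
    rcases Int.even_mul.1 h1 with h2 | h2
    · exact h2
    · exact absurd ((Int.even_coe_nat _).1 h2) (Nat.not_even_iff_odd.2 hq)
  refine ⟨δ l₀.1, n, hs, ?_, hn2, fun l hl => ?_⟩
  · obtain ⟨m, rfl⟩ := hn2
    have hd3 : (3 : ℤ) ≤ d := by
      obtain ⟨e, he⟩ := hdodd
      omega
    have hq' : (3 : ℤ) ≤ Nat.card W₁ := by exact_mod_cast hq3
    by_contra hlt
    push Not at hlt
    have hm : m ≤ 0 := by omega
    rcases hs with e | e <;> rw [e] at hdeg <;> nlinarith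
  · obtain ⟨e1, e2⟩ := h.pmu.sign_degree_const h.base h.oddM h.prime₂ hl hl₀
    refine ⟨e1, ?_⟩
    rw [e2]
    linear_combination hn

end BadSide

end CfsgLib.OddOrder
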