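import Cfsg.Agent.OddOrder.PF10.Pair

/-!
# The two sides of a pair with one cyclic TI family

`swapFam` turns a family on `W₁ × W₂` into one on `W₂ × W₁`.
-/

set_option autoImplicit false
set_option linter.style.haveILetI false
set_option linter.unusedSectionVars false

namespace CfsgLib.OddOrder

open Cfsg CfsgLib.Characters CfsgLib.OddOrderChar

universe u

variable {G : Type u} [Group G] {W₁ W₂ : Subgroup G}

/-- The identification of `W₁ W₂` with `W₂ W₁`. -/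
noncomputable def swapEquiv (W₁ W₂ : Subgroup G) : ↥(W₁ ⊔ W₂) ≃* ↥(W₂ ⊔ W₁) :=
  MulEquiv.subgroupCongr (sup_comm W₁ W₂)

theorem swapEquiv_coe (w : ↥(W₁ ⊔ W₂)) : (swapEquiv W₁ W₂ w : G) = (w : G) := rfl

/-- The family read on `W₂ W₁`. -/
noncomputable def swapFam (χ : (↥(W₁ ⊔ W₂) →* ℂˣ) → (G → ℂ)) :
    (↥(W₂ ⊔ W₁) →* ℂˣ) → (G → ℂ) :=
  fun ω => χ (ω.comp (swapEquiv W₁ W₂).toMonoidHom)

/-- A character trivial on `W₁` read on `W₂ W₁`. -/
noncomputable def swapLeft (l : rightHat W₁ W₂) : leftHat W₂ W₁ :=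
  ⟨l.1.comp (swapEquiv W₂ W₁).toMonoidHom, fun w hw => l.2 (swapEquiv W₂ W₁ w) hw⟩

/-- A character trivial on `W₂` read on `W₂ W₁`. -/
noncomputable def swapRight (k : leftHat W₁ W₂) : rightHat W₂ W₁ :=
  ⟨k.1.comp (swapEquiv W₂ W₁).toMonoidHom, fun w hw => k.2 (swapEquiv W₂ W₁ w) hw⟩

theorem swapLeft_one : swapLeft (1 : rightHat W₁ W₂) = 1 :=
  Subtype.ext (MonoidHom.ext fun _ => rfl)

theorem swapRight_one : swapRight (1 : leftHat W₁ W₂) = 1 :=
  Subtype.ext (MonoidHom.ext fun _ => rfl)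

theorem swapLeft_bijective : Function.Bijective (swapLeft : rightHat W₁ W₂ → leftHat W₂ W₁) :=
  ⟨fun a b e => Subtype.ext (MonoidHom.ext fun w =>
      DFunLike.congr_fun (congrArg Subtype.val e) (swapEquiv W₁ W₂ w)),
    fun k => ⟨⟨k.1.comp (swapEquiv W₁ W₂).toMonoidHom, fun w hw => k.2 (swapEquiv W₁ W₂ w) hw⟩,
      Subtype.ext (MonoidHom.ext fun _ => rfl)⟩⟩

theorem swapRight_bijective : Function.Bijective (swapRight : leftHat W₁ W₂ → rightHat W₂ W₁) :=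
  ⟨fun a b e => Subtype.ext (MonoidHom.ext fun w =>
      DFunLike.congr_fun (congrArg Subtype.val e) (swapEquiv W₁ W₂ w)),
    fun k => ⟨⟨k.1.comp (swapEquiv W₁ W₂).toMonoidHom, fun w hw => k.2 (swapEquiv W₁ W₂ w) hw⟩,
      Subtype.ext (MonoidHom.ext fun _ => rfl)⟩⟩

variable [Fintype G]

/-- `η'_{lk} = η_{kl}`. -/
theorem eta_swap (χ : (↥(W₁ ⊔ W₂) →* ℂˣ) → (G → ℂ)) (k : leftHat W₁ W₂) (l : rightHat W₁ W₂) :
    eta (swapFam χ) (swapLeft l) (swapRight k) = eta χ k l :=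
  congrArg χ (MonoidHom.ext fun w => mul_comm _ _)

namespace TIData

variable {χ : (↥(W₁ ⊔ W₂) →* ℂˣ) → (G → ℂ)}

theorem swap (h : TIData W₁ W₂ χ) : TIData W₂ W₁ (swapFam χ) where
  snc := snc_symm h.snc
  odd := sup_comm W₁ W₂ ▸ h.odd
  fam :=
    { irr_or_neg := fun ω => h.fam.irr_or_neg _
      orthonormal := fun ω ω' => by
        by_cases e : ω = ω'
        · rw [if_pos e, e]
          exact (h.fam.orthonormal _ _).trans (if_pos rfl)
        · rw [if_neg e]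
          exact (h.fam.orthonormal _ _).trans (if_neg fun e' => e (MonoidHom.ext fun w =>
            DFunLike.congr_fun e' (swapEquiv W₂ W₁ w)))
      map_one := h.fam.map_one
      eq_on := fun ω w h1 h2 =>
        (h.fam.eq_on _ (swapEquiv W₂ W₁ w) h2 h1).trans rfl
      induced_eq := fun φ ψ hφ hψ hφ2 hψ1 => by
        have hne : ∀ ω : ↥(W₂ ⊔ W₁) →* ℂˣ, ω ≠ 1 → ω.comp (swapEquiv W₁ W₂).toMonoidHom ≠ 1 :=
          fun ω hω e => hω (MonoidHom.ext fun w => DFunLike.congr_fun e (swapEquiv W₂ W₁ w))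
        have h' := h.fam.induced_eq _ _ (hne ψ hψ) (hne φ hφ)
          (fun w hw => hψ1 (swapEquiv W₁ W₂ w) hw) fun w hw => hφ2 (swapEquiv W₁ W₂ w) hw
        rw [indFun_congr_subgroup (sup_comm W₁ W₂) _
          (fun w : ↥(W₂ ⊔ W₁) => 1 - (φ w : ℂ) - (ψ w : ℂ) + (φ w : ℂ) * (ψ w : ℂ))
          fun x hx hx' => by
            show 1 - (ψ ⟨x, _⟩ : ℂ) - (φ ⟨x, _⟩ : ℂ) + (ψ ⟨x, _⟩ : ℂ) * (φ ⟨x, _⟩ : ℂ) = _
            ring] at h'
        rw [h']
        funext g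
        show 1 - χ _ g - χ _ g + χ _ g = 1 - χ _ g - χ _ g + χ _ g
        rw [show (φ * ψ).comp (swapEquiv W₁ W₂).toMonoidHom =
          ψ.comp (swapEquiv W₁ W₂).toMonoidHom * φ.comp (swapEquiv W₁ W₂).toMonoidHom from
          MonoidHom.ext fun w => mul_comm _ _]
        ring }

end TIData

/-- The two sides of a pair over one family and its swap. -/
theorem FTPair.exists_sides (hG : IsMinSimpleOddOrder G) (F : FTFacts G) {S T U V : Subgroup G}
    [Fintype S] [Fintype T] (h : FTPair S T W₁ U W₂ V) :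
    ∃ χ, TIData W₁ W₂ χ ∧ (∃ μ δ, Side S W₁ W₂ χ μ δ) ∧ ∃ μ δ, Side T W₂ W₁ (swapFam χ) μ δ := by
  obtain ⟨χ, hχ⟩ := exists_tiData h.snc (h.odd_W hG)
  exact ⟨χ, hχ, exists_side hG F.toBG16Facts h.coatomS (h.notI_S hG F) h.dataS χ hχ,
    exists_side hG F.toBG16Facts h.coatomT (h.notI_T hG F) h.dataT _ hχ.swap⟩

end CfsgLib.OddOrder
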