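import Cfsg.Agent.OddOrder.PF10.PairSides

/-!
# The region away from the two classes of subgroups of type P

`farRegion S T` is the union of the sets `Ñ` for the maximal subgroups `N` conjugate neither to `S`
nor to `T`. Its mass, and a lower bound for the mass of the first column on it.
-/

set_option autoImplicit false
set_option linter.style.haveILetI false
set_option linter.unusedSectionVars false

namespace CfsgLib.OddOrder

open Cfsg CfsgLib.Characters CfsgLib.Coherence CfsgLib.OddOrderChar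
open Subgroup (centralizer normalizer)

universe u

variable {G : Type u} [Group G]

/-- The non-identity elements of `N_σ`. -/
abbrev sigmaSet (N : Subgroup G) : Set G := (sigmaCore N : Set G) \ {1}

/-- The union of the `Ñ` for `N` conjugate neither to `S` nor to `T`. -/
def farRegion (S T : Subgroup G) : Set G :=
  {g | ∃ N : Subgroup G, IsCoatom N ∧ (∀ x : G, N ≠ S.map (MulAut.conj x).toMonoidHom) ∧
    (∀ x : G, N ≠ T.map (MulAut.conj x).toMonoidHom) ∧ g ∈ tildeOf N (sigmaSet N)}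

/-- `R` commutes with conjugation. -/
theorem supportR_conj_mem {M : Subgroup G} {a r : G} (g : G) (hr : r ∈ supportR M a) :
    g * r * g⁻¹ ∈ supportR (M.map (MulAut.conj g).toMonoidHom) (g * a * g⁻¹) := by
  by_cases h : ¬ centralizer ({a} : Set G) ≤ M ∧
      ∃! L : Subgroup G, IsCoatom L ∧ centralizer ({a} : Set G) ≤ L
  · obtain ⟨hC, L, ⟨hL, hLC⟩, huniq⟩ := h
    have hcent : centralizer ({g * a * g⁻¹} : Set G) =
        (centralizer ({a} : Set G)).map (MulAut.conj g).toMonoidHom := by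
      rw [map_conj_centralizer, Set.image_singleton]
    have hC' : ¬ centralizer ({g * a * g⁻¹} : Set G) ≤ M.map (MulAut.conj g).toMonoidHom := by
      rw [hcent, Subgroup.map_le_map_iff_of_injective (MulAut.conj g).injective]
      exact hC
    have hu : ∃! L' : Subgroup G, IsCoatom L' ∧ centralizer ({g * a * g⁻¹} : Set G) ≤ L' := by
      refine ⟨L.map (MulAut.conj g).toMonoidHom,
        ⟨isCoatom_map_conj hL g, hcent ▸ Subgroup.map_mono hLC⟩, fun L' ⟨hL', hL'C⟩ => ?_⟩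
      have := huniq (L'.map (MulAut.conj g⁻¹).toMonoidHom) ⟨isCoatom_map_conj hL' g⁻¹, by
        have h1 := Subgroup.map_mono (f := (MulAut.conj g⁻¹).toMonoidHom) hL'C
        rwa [hcent, map_conj_map_conj, inv_mul_cancel, map_conj_one] at h1⟩
      rw [← this, map_conj_map_conj, mul_inv_cancel, map_conj_one]
    rw [supportR_eq hC ⟨L, ⟨hL, hLC⟩, huniq⟩ hL hLC] at hr
    rw [supportR_eq hC' hu (isCoatom_map_conj hL g) (hcent ▸ Subgroup.map_mono hLC), fittingHallOf_map,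
      hcent]
    exact ⟨⟨r, hr.1, rfl⟩, ⟨r, hr.2, rfl⟩⟩
  · rw [supportR, dif_neg h, Subgroup.mem_bot] at hr
    rw [hr, mul_one, mul_inv_cancel]
    exact one_mem _

/-- Conjugate subgroups have the same `Ã₁`. -/
theorem tildeOf_typeA1_map (M : Subgroup G) (g : G) :
    tildeOf (M.map (MulAut.conj g).toMonoidHom) (typeA1 (M.map (MulAut.conj g).toMonoidHom)) =
      tildeOf M (typeA1 M) := by
  have key : ∀ (L : Subgroup G) (x : G), tildeOf L (typeA1 L) ⊆
      tildeOf (L.map (MulAut.conj x).toMonoidHom) (typeA1 (L.map (MulAut.conj x).toMonoidHom)) := by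
    rintro L x z ⟨a, ha, r, hr, y, rfl⟩
    refine ⟨x * a * x⁻¹, (mem_typeA1_map (MulAut.conj x) L).2 ha, x * r * x⁻¹,
      supportR_conj_mem x hr, y * x⁻¹, by group⟩
  refine Set.Subset.antisymm ?_ (key M g)
  have h := key (M.map (MulAut.conj g).toMonoidHom) g⁻¹
  rwa [map_conj_map_conj, inv_mul_cancel, map_conj_one] at h

/-- `W \ (W₁ ∪ W₂)`. -/
def vBase (W₁ W₂ : Subgroup G) : Set G := {w | w ∈ W₁ ⊔ W₂ ∧ w ∉ W₁ ∧ w ∉ W₂}

theorem dadeSupp_vBase (W₁ W₂ : Subgroup G) :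
    dadeSupp (vBase W₁ W₂) (fun _ => (⊥ : Subgroup G)) = vConj W₁ W₂ := by
  ext v
  constructor
  · rintro ⟨a, ⟨ha, h1, h2⟩, u, hu, x, he⟩
    rw [Subgroup.mem_bot] at hu
    rw [hu, mul_one] at he
    exact ⟨x⁻¹, a, ha, h1, h2, by rw [← he]; group⟩
  · rintro ⟨y, w, hw, h1, h2, rfl⟩
    exact ⟨w, ⟨hw, h1, h2⟩, 1, one_mem _, y⁻¹, by group⟩

theorem dade_vBase [Finite G] {W₁ W₂ : Subgroup G} (h : IsSelfNormalizingCyclic W₁ W₂) :
    DadeHypothesis (vBase W₁ W₂) (W₁ ⊔ W₂) (fun _ => (⊥ : Subgroup G)) := by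
  have hcy : IsCyclic ↥(W₁ ⊔ W₂) := h.2.2.2.2.1
  have hcomm : ∀ {x y : G}, x ∈ W₁ ⊔ W₂ → y ∈ W₁ ⊔ W₂ → x * y = y * x := fun hx hy => by
    haveI := hcy
    exact setLike_mul_comm (s := W₁ ⊔ W₂) hx hy
  refine ⟨fun h1 => h1.2.1 (one_mem _), fun w hw => hw.1, fun x hx a ha => ?_, fun a ha g hg => ?_,
    fun _ _ => bot_le, fun a ha c hc u hu => ?_, fun _ _ => bot_inf_eq _, fun a ha => ?_,
    fun a ha b hb => by simp⟩
  · rwa [hcomm hx ha.1, mul_inv_cancel_right]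
  · exact ⟨g, snc_mem_of_conj h ha.1 ha.2.1 ha.2.2 hg.1 hg.2.1 hg.2.2, rfl⟩
  · rw [Subgroup.mem_bot] at hu ⊢
    simp [hu]
  · rw [bot_sup_eq]
    refine le_antisymm inf_le_right fun c hc => ⟨?_, hc⟩
    refine snc_normalizer_single h ha.1 ha.2.1 ha.2.2 ?_
    rw [Subgroup.mem_centralizer_singleton_iff.1 hc, mul_inv_cancel_right]

theorem ncard_vBase [Finite G] {W₁ W₂ : Subgroup G} (h : IsSelfNormalizingCyclic W₁ W₂) :
    (vBase W₁ W₂).ncard = (Nat.card W₁ - 1) * (Nat.card W₂ - 1) := by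
  have hW : ((W₁ : Set G) \ {1}).ncard = Nat.card W₁ - 1 := by
    rw [Set.ncard_sdiff_singleton_of_mem W₁.one_mem, ← Nat.card_coe_set_eq]
    rfl
  have hW' : ((W₂ : Set G) \ {1}).ncard = Nat.card W₂ - 1 := by
    rw [Set.ncard_sdiff_singleton_of_mem W₂.one_mem, ← Nat.card_coe_set_eq]
    rfl
  have hn : W₁ ≤ normalizer (W₂ : Set G) :=
    (Subgroup.le_centralizer_iff.1 fun b hb => Subgroup.mem_centralizer_iff.2
      fun a ha => h.2.2.2.1 a ha b hb).trans (Subgroup.centralizer_le_normalizer _)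
  rw [← hW, ← hW', ← Set.ncard_prod]
  refine (Set.ncard_congr (fun z _ => z.1 * z.2) ?_ ?_ ?_).symm
  · rintro ⟨x, y⟩ ⟨⟨hx, hx1⟩, hy, hy1⟩
    refine ⟨Subgroup.mul_mem_sup hx hy, fun hm => hy1 ?_, fun hm => hx1 ?_⟩
    · exact (Subgroup.eq_bot_iff_forall _).1 h.2.2.1 y ⟨(Subgroup.mul_mem_cancel_left _ hx).1 hm, hy⟩
    · exact (Subgroup.eq_bot_iff_forall _).1 h.2.2.1 x ⟨hx, (Subgroup.mul_mem_cancel_right _ hy).1 hm⟩
  · rintro ⟨x, y⟩ ⟨x', y'⟩ ⟨⟨hx, -⟩, hy, -⟩ ⟨⟨hx', -⟩, hy', -⟩ he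
    have := Subgroup.mul_injective_of_disjoint (disjoint_iff.2 h.2.2.1)
      (a₁ := (⟨x, hx⟩, ⟨y, hy⟩)) (a₂ := (⟨x', hx'⟩, ⟨y', hy'⟩)) he
    simp only [Prod.mk.injEq, Subtype.mk.injEq] at this
    rw [this.1, this.2]
  · rintro w ⟨hw, h1, h2⟩
    obtain ⟨b, hb, a, ha, rfl⟩ := Coprime.exists_mul_of_mem_sup hn (sup_comm W₁ W₂ ▸ hw)
    have hab : b * a = a * b := (h.2.2.2.1 a ha b hb).symm
    refine ⟨(a, b), ⟨⟨ha, fun e => h2 ?_⟩, hb, fun e => h1 ?_⟩, hab.symm⟩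
    · obtain rfl : a = 1 := e
      rwa [mul_one]
    · obtain rfl : b = 1 := e
      rwa [one_mul]

namespace FTFacts

variable [Finite G] (hG : IsMinSimpleOddOrder G) (F : FTFacts G)
include hG F

theorem typeA1_eq_sigmaSet {N : Subgroup G} (hN : IsCoatom N) : typeA1 N = sigmaSet N := by
  rw [typeA1, F.core_eq_sigma hG hN]

/-- Conjugate maximal subgroups have the same `Ñ`. -/
theorem tilde_map {N : Subgroup G} (hN : IsCoatom N) (g : G) :
    tildeOf (N.map (MulAut.conj g).toMonoidHom) (sigmaSet (N.map (MulAut.conj g).toMonoidHom)) =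
      tildeOf N (sigmaSet N) := by
  rw [← F.typeA1_eq_sigmaSet hG hN, ← F.typeA1_eq_sigmaSet hG (isCoatom_map_conj hN g),
    tildeOf_typeA1_map]

theorem dade_sigma {N : Subgroup G} (hN : IsCoatom N) :
    DadeHypothesis (sigmaSet N) N (supportR N) :=
  F.typeA1_eq_sigmaSet hG hN ▸ F.toBG16Facts.dade hN (Or.inl rfl)

theorem one_not_tilde {N : Subgroup G} (hN : IsCoatom N) : (1 : G) ∉ tildeOf N (sigmaSet N) := by
  rintro ⟨a, ha, r, hr, y, he⟩
  have h1 : a * r = 1 := by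
    calc a * r = y⁻¹ * (y * (a * r) * y⁻¹) * y := by group
      _ = 1 := by rw [← he]; group
  have hra : r = a⁻¹ := eq_inv_of_mul_eq_one_right h1
  have hD := F.dade_sigma hG hN
  have h2 := (Subgroup.eq_bot_iff_forall _).1 (hD.inf_eq_bot a ha) r
  have h3 : r = 1 := h2 (Subgroup.mem_inf.2 ⟨hr, Subgroup.mem_inf.2 ⟨hra ▸ inv_mem (hD.subset ha),
    hra ▸ inv_mem (Subgroup.mem_centralizer_singleton_iff.2 rfl)⟩⟩)
  exact ha.2 (inv_eq_one.1 (hra ▸ h3))

end FTFacts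

namespace FTPair

variable {S T W₁ U W₂ V : Subgroup G} [Finite G] (h : FTPair S T W₁ U W₂ V)
variable (hG : IsMinSimpleOddOrder G) (F : FTFacts G)
include h hG F

theorem one_not_far : (1 : G) ∉ farRegion S T :=
  fun ⟨_, hN, _, _, hmem⟩ => F.one_not_tilde hG hN hmem

theorem far_disjoint_S : Disjoint (farRegion S T) (tildeOf S (sigmaSet S)) :=
  Set.disjoint_left.2 fun g ⟨N, hN, hS, _, hg⟩ hgS => Set.eq_empty_iff_forall_notMem.1
    (F.tilde_disjoint S N h.coatomS hN hS) g ⟨hgS, hg⟩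

theorem far_disjoint_T : Disjoint (farRegion S T) (tildeOf T (sigmaSet T)) :=
  Set.disjoint_left.2 fun g ⟨N, hN, _, hT, hg⟩ hgT => Set.eq_empty_iff_forall_notMem.1
    (F.tilde_disjoint T N h.coatomT hN hT) g ⟨hgT, hg⟩

theorem S_disjoint_T : Disjoint (tildeOf S (sigmaSet S)) (tildeOf T (sigmaSet T)) :=
  Set.disjoint_iff_inter_eq_empty.2 (F.tilde_disjoint S T h.coatomS h.coatomT h.not_conj)

theorem vConj_not_tilde {g : G} (hg : g ∈ vConj W₁ W₂) {N : Subgroup G} (hN : IsCoatom N) :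
    g ∉ tildeOf N (sigmaSet N) := by
  obtain ⟨⟨U₀, hKU⟩, hW₂⟩ := F.exists_decomp_of_data hG h.coatomS h.dataS
  obtain ⟨y, w, hw, h1, h2, rfl⟩ := hg
  refine (F.tilde_zhat S W₁ U₀ h.coatomS hKU h.snc.1).2 N hN y w ?_
  rw [hW₂]
  exact ⟨hw, fun hc => hc.elim h1 h2⟩

theorem far_disjoint_vConj : Disjoint (farRegion S T) (vConj W₁ W₂) :=
  Set.disjoint_left.2 fun _ ⟨_, hN, _, _, hg⟩ hv => h.vConj_not_tilde hG F hv hN hg

theorem cover {g : G} (hg : g ≠ 1) :
    g ∈ farRegion S T ∨ g ∈ tildeOf S (sigmaSet S) ∨ g ∈ tildeOf T (sigmaSet T) ∨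
      g ∈ vConj W₁ W₂ := by
  obtain ⟨⟨U₀, hKU⟩, hW₂⟩ := F.exists_decomp_of_data hG h.coatomS h.dataS
  rcases (F.tilde_zhat S W₁ U₀ h.coatomS hKU h.snc.1).1 g hg with ⟨N, hN, hgN⟩ | ⟨y, z, hz, rfl⟩
  · by_cases hS : ∃ x : G, N = S.map (MulAut.conj x).toMonoidHom
    · obtain ⟨x, rfl⟩ := hS
      rw [F.tilde_map hG h.coatomS] at hgN
      exact Or.inr (Or.inl hgN)
    by_cases hT : ∃ x : G, N = T.map (MulAut.conj x).toMonoidHom
    · obtain ⟨x, rfl⟩ := hT
      rw [F.tilde_map hG h.coatomT] at hgN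
      exact Or.inr (Or.inr (Or.inl hgN))
    push Not at hS hT
    exact Or.inl ⟨N, hN, hS, hT, hgN⟩
  · rw [hW₂] at hz
    exact Or.inr (Or.inr (Or.inr ⟨y, z, hz.1, fun hc => hz.2 (Or.inl hc),
      fun hc => hz.2 (Or.inr hc), rfl⟩))

/-- For a member not of Type II the set `A` is `M_σ#`. -/
theorem supportA_T (hII : ¬ IsOfTypeII T) : supportA T = sigmaSet T := by
  obtain ⟨hd, -⟩ := F.data_not_II hG h.coatomT h.dataT hII
  ext a
  rw [supportA, if_neg (h.notI_T hG F), F.core_eq_sigma hG h.coatomT, hd]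
  exact ⟨fun ha => ⟨ha.1, ha.2.1⟩, fun ⟨ha, ha1⟩ => ⟨ha, ha1, a, ha, ha1, rfl⟩⟩

/-- The support of `A(T)` avoids the region when `T` is not of Type II. -/
theorem far_disjoint_dadeSupp_T (hII : ¬ IsOfTypeII T) :
    Disjoint (farRegion S T) (dadeSupp (supportA T) (supportR T)) := by
  rw [h.supportA_T hG F hII, dadeSupp_eq_tildeOf]
  exact h.far_disjoint_T hG F

/-- The support of `A(S)` meets the region only in the support of `A(S) \ A₁(S)`. -/
theorem far_inter_dadeSupp_S :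
    farRegion S T ∩ dadeSupp (supportA S) (supportR S) ⊆
      dadeSupp (supportA S \ typeA1 S) (supportR S) := by
  rintro g ⟨hg, a, ha, u, hu, x, he⟩
  refine ⟨a, ⟨ha, fun ha1 => Set.disjoint_left.1 (h.far_disjoint_S hG F) hg ?_⟩, u, hu, x, he⟩
  rw [← dadeSupp_eq_tildeOf, ← F.typeA1_eq_sigmaSet hG h.coatomS]
  exact ⟨a, ha1, u, hu, x, he⟩

end FTPair

namespace FTPair

variable {G : Type u} [Group G] [Fintype G] {S T W₁ U W₂ V : Subgroup G}
  (h : FTPair S T W₁ U W₂ V) (hG : IsMinSimpleOddOrder G) (F : FTFacts G)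
include h hG F

theorem gMass_tilde {N : Subgroup G} (hN : IsCoatom N) :
    gMass (tildeOf N (sigmaSet N)) (fun _ => 1) =
      ((Nat.card (sigmaCore N) : ℝ) - 1) / Nat.card N := by
  classical
  letI : Fintype N := Fintype.ofFinite _
  rw [← dadeSupp_eq_tildeOf, gMass_dadeSupp_one (F.dade_sigma hG hN),
    Set.ncard_sdiff_singleton_of_mem (sigmaCore N).one_mem, ← Nat.card_coe_set_eq,
    Nat.cast_sub Nat.card_pos]
  simp

theorem gMass_vConj : gMass (vConj W₁ W₂) (fun _ => 1) =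
    (((Nat.card W₁ : ℝ) - 1) * ((Nat.card W₂ : ℝ) - 1)) / (Nat.card W₁ * Nat.card W₂) := by
  classical
  letI : Fintype ↥(W₁ ⊔ W₂) := Fintype.ofFinite _
  rw [← dadeSupp_vBase, gMass_dadeSupp_one (dade_vBase h.snc), ncard_vBase h.snc]
  have hn : W₁ ≤ normalizer (W₂ : Set G) :=
    (Subgroup.le_centralizer_iff.1 fun b hb => Subgroup.mem_centralizer_iff.2
      fun a ha => h.snc.2.2.2.1 a ha b hb).trans (Subgroup.centralizer_le_normalizer _)
  have hc : Nat.card ↥(W₁ ⊔ W₂) = Nat.card W₁ * Nat.card W₂ := by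
    rw [sup_comm, Coprime.card_sup_eq hn (inf_comm W₁ W₂ ▸ h.snc.2.2.1), mul_comm]
  rw [hc]
  push_cast [Nat.cast_sub (Nat.card_pos (α := W₁)), Nat.cast_sub (Nat.card_pos (α := W₂))]
  rfl

/-- The mass of the region. -/
theorem gMass_far : gMass (farRegion S T) (fun _ => 1) =
    1 - 1 / (Nat.card G : ℝ) -
      (((Nat.card W₁ : ℝ) - 1) * ((Nat.card W₂ : ℝ) - 1)) / (Nat.card W₁ * Nat.card W₂) -
      ((Nat.card (sigmaCore S) : ℝ) - 1) / Nat.card S -
      ((Nat.card (sigmaCore T) : ℝ) - 1) / Nat.card T := by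
  classical
  have hone : ∀ {N : Subgroup G}, IsCoatom N → Disjoint ({1} : Set G) (tildeOf N (sigmaSet N)) :=
    fun hN => Set.disjoint_singleton_left.2 (F.one_not_tilde hG hN)
  have h1v : Disjoint ({1} : Set G) (vConj W₁ W₂) := by
    refine Set.disjoint_singleton_left.2 fun ⟨y, w, _, hw1, _, he⟩ => hw1 ?_
    rw [conj_eq_one_iff.1 he.symm]
    exact one_mem _
  have hdS : Disjoint (tildeOf S (sigmaSet S)) (vConj W₁ W₂) :=
    Set.disjoint_left.2 fun g hg hv => h.vConj_not_tilde hG F hv h.coatomS hg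
  have hdT : Disjoint (tildeOf T (sigmaSet T)) (vConj W₁ W₂) :=
    Set.disjoint_left.2 fun g hg hv => h.vConj_not_tilde hG F hv h.coatomT hg
  have hall : (({1} : Set G) ∪ vConj W₁ W₂ ∪ tildeOf S (sigmaSet S) ∪ tildeOf T (sigmaSet T)) ∪
      farRegion S T = Set.univ := by
    refine Set.eq_univ_of_forall fun g => ?_
    by_cases hg : g = 1
    · simp [hg]
    rcases h.cover hG F hg with hc | hc | hc | hc <;> simp [hc]
  have hd1 : Disjoint (({1} : Set G) ∪ vConj W₁ W₂ ∪ tildeOf S (sigmaSet S) ∪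
      tildeOf T (sigmaSet T)) (farRegion S T) :=
    Set.disjoint_union_left.2 ⟨Set.disjoint_union_left.2 ⟨Set.disjoint_union_left.2
      ⟨Set.disjoint_singleton_left.2 (h.one_not_far hG F), (h.far_disjoint_vConj hG F).symm⟩,
      (h.far_disjoint_S hG F).symm⟩, (h.far_disjoint_T hG F).symm⟩
  have hd2 : Disjoint (({1} : Set G) ∪ vConj W₁ W₂ ∪ tildeOf S (sigmaSet S))
      (tildeOf T (sigmaSet T)) :=
    Set.disjoint_union_left.2
      ⟨Set.disjoint_union_left.2 ⟨hone h.coatomT, hdT.symm⟩, h.S_disjoint_T hG F⟩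
  have hd3 : Disjoint (({1} : Set G) ∪ vConj W₁ W₂) (tildeOf S (sigmaSet S)) :=
    Set.disjoint_union_left.2 ⟨hone h.coatomS, hdS.symm⟩
  have htot := gMass_univ (G := G) (fun _ => 1)
  rw [← hall, gMass_union hd1, gMass_union hd2, gMass_union hd3, gMass_union h1v,
    gMass_one ({1} : Set G), Set.ncard_singleton, h.gMass_vConj hG F,
    h.gMass_tilde hG F h.coatomS, h.gMass_tilde hG F h.coatomT,
    show Coherence.sqNorm (fun _ : G => (1 : ℂ)) = 1 from by
      rw [Coherence.sqNorm, classInner_isIrr_self isIrr_one, Complex.one_re], Nat.cast_one] at htot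
  linarith

/-- The estimate with the exact part of the member of Type II. -/
theorem gMass_far_ge : (1 / (Nat.card W₁ : ℝ)) * (1 - 1 / Nat.card W₂ - 1 / Nat.card U) -
    1 / (Nat.card G : ℝ) ≤ gMass (farRegion S T) (fun _ => 1) := by
  rw [h.gMass_far hG F]
  have cS : (Nat.card S : ℝ) = (Nat.card (sigmaCore S) : ℝ) * Nat.card U * Nat.card W₁ := by
    rw [← Nat.cast_mul, ← h.card_derived_S hG F, ← Nat.cast_mul, compl_card h.dataS.W₁_compl]
  have cT : (Nat.card T : ℝ) = (Nat.card ↥⁅T, T⁆ : ℝ) * Nat.card W₂ := by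
    rw [← Nat.cast_mul, compl_card h.dataT.W₁_compl]
  have hσ : (Nat.card (sigmaCore T) : ℝ) ≤ Nat.card ↥⁅T, T⁆ := by
    exact_mod_cast Subgroup.card_le_of_le (F.chain T h.coatomT).2.2.1
  have pos : ∀ X : Subgroup G, (0 : ℝ) < Nat.card X := fun X => by exact_mod_cast Nat.card_pos
  have h1 := pos W₁
  have h2 := pos W₂
  have h3 := pos U
  have hs := pos (sigmaCore S)
  have ht := pos (sigmaCore T)
  have hd := pos ⁅T, T⁆
  rw [cS, cT]
  have eS : ((Nat.card (sigmaCore S) : ℝ) - 1) /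
      ((Nat.card (sigmaCore S) : ℝ) * Nat.card U * Nat.card W₁) ≤
        1 / ((Nat.card U : ℝ) * Nat.card W₁) := by
    rw [div_le_div_iff₀ (by positivity) (by positivity)]
    nlinarith [mul_pos h3 h1]
  have eT : ((Nat.card (sigmaCore T) : ℝ) - 1) / ((Nat.card ↥⁅T, T⁆ : ℝ) * Nat.card W₂) ≤
      1 / Nat.card W₂ := by
    rw [div_le_div_iff₀ (by positivity) h2]
    nlinarith
  have eid : 1 - ((Nat.card W₁ : ℝ) - 1) * ((Nat.card W₂ : ℝ) - 1) /
      (Nat.card W₁ * Nat.card W₂) = 1 / Nat.card W₁ + 1 / Nat.card W₂ -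
        1 / ((Nat.card W₁ : ℝ) * Nat.card W₂) := by
    field_simp; ring
  have eid2 : (1 / (Nat.card W₁ : ℝ)) * (1 - 1 / Nat.card W₂ - 1 / Nat.card U) =
      1 / Nat.card W₁ - 1 / ((Nat.card W₁ : ℝ) * Nat.card W₂) -
        1 / ((Nat.card U : ℝ) * Nat.card W₁) := by
    field_simp
  linarith

/-- A column is at least as heavy as the constant `1` on every `Ñ` of order prime to `|A|`. -/
theorem gMass_col_tilde {A B : Subgroup G} {χ : (↥(A ⊔ B) →* ℂˣ) → (G → ℂ)} (hχ : TIData A B χ)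
    {N : Subgroup G} (hN : IsCoatom N)
    (hcop : (Nat.card (sigmaCore N)).Coprime (Nat.card A)) :
    gMass (tildeOf N (sigmaSet N)) (fun _ => 1) ≤ gMass (tildeOf N (sigmaSet N)) (col χ 1) := by
  classical
  letI : Fintype N := Fintype.ofFinite _
  have hD := F.dade_sigma hG hN
  rw [← dadeSupp_eq_tildeOf, gMass_dadeSupp_one hD, ← one_mul ((_ : ℝ) / _)]
  refine gMass_dadeSupp_ge hD (Coherence.isClassFunction_of_isGen (hχ.col_gen 1)) fun a ha => ?_
  obtain ⟨z, hz, hodd⟩ := hχ.mean_col_odd (hD.le_centralizer a ha)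
    (hcop.coprime_dvd_left (Subgroup.orderOf_dvd_natCard _ ha.1))
  rw [hz, Complex.normSq_intCast]
  have h0 : z ≠ 0 := fun e => by simp [e] at hodd
  have : (1 : ℤ) ≤ z * z := by nlinarith [mul_self_pos.2 h0]
  exact_mod_cast this

theorem coprime_sigma_W {N : Subgroup G} (hN : IsCoatom N)
    (hS : ∀ x : G, N ≠ S.map (MulAut.conj x).toMonoidHom)
    (hT : ∀ x : G, N ≠ T.map (MulAut.conj x).toMonoidHom) :
    (Nat.card (sigmaCore N)).Coprime (Nat.card W₁) ∧
      (Nat.card (sigmaCore N)).Coprime (Nat.card W₂) := by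
  have key : ∀ {X A B C : Subgroup G}, IsCoatom X → IsTypePWith X A B C →
      (∀ x : G, N ≠ X.map (MulAut.conj x).toMonoidHom) →
      (Nat.card (sigmaCore N)).Coprime (Nat.card C) := by
    intro X A B C hX hP hnc
    have h1 := F.toBG16Facts.coprime_cores hX hN hnc
    rw [F.core_eq_sigma hG hX, F.core_eq_sigma hG hN] at h1
    exact h1.symm.coprime_dvd_right
      (Subgroup.card_dvd_of_le (hP.W₂_le.trans (inf_le_left.trans (F.chain X hX).2.1)))
  exact ⟨key h.coatomT h.dataT hT, key h.coatomS h.dataS hS⟩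

/-- The first column of either side is at least as heavy as `1` on the region. -/
theorem gMass_far_col {A B : Subgroup G} {χ : (↥(A ⊔ B) →* ℂˣ) → (G → ℂ)} (hχ : TIData A B χ)
    (hA : A = W₁ ∨ A = W₂) :
    gMass (farRegion S T) (fun _ => 1) ≤ gMass (farRegion S T) (col χ 1) := by
  classical
  set 𝒩 : Finset (Subgroup G) := (Set.toFinite {N : Subgroup G | IsCoatom N ∧
    (∀ x : G, N ≠ S.map (MulAut.conj x).toMonoidHom) ∧
    (∀ x : G, N ≠ T.map (MulAut.conj x).toMonoidHom)}).toFinset with h𝒩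
  have hmem : ∀ N ∈ 𝒩, IsCoatom N ∧ (∀ x : G, N ≠ S.map (MulAut.conj x).toMonoidHom) ∧
      (∀ x : G, N ≠ T.map (MulAut.conj x).toMonoidHom) := fun N hN => by simpa [h𝒩] using hN
  have hfar : farRegion S T = ⋃ N ∈ 𝒩, tildeOf N (sigmaSet N) := by
    ext g
    simp only [farRegion, Set.mem_iUnion, h𝒩, Set.Finite.mem_toFinset, Set.mem_ofPred_eq]
    exact ⟨fun ⟨N, h1, h2, h3, h4⟩ => ⟨N, ⟨h1, h2, h3⟩, h4⟩,
      fun ⟨N, ⟨h1, h2, h3⟩, h4⟩ => ⟨N, h1, h2, h3, h4⟩⟩
  rw [hfar]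
  clear hfar h𝒩
  clear_value 𝒩
  induction 𝒩 using Finset.induction_on with
  | empty => simp [gMass]
  | @insert N 𝒩 hN ih =>
    obtain ⟨hNc, hNS, hNT⟩ := hmem N (Finset.mem_insert_self N 𝒩)
    have hmem' := fun M hM => hmem M (Finset.mem_insert_of_mem hM)
    rw [Finset.set_biUnion_insert]
    by_cases hrep : ∃ M ∈ 𝒩, ∃ x : G, N = M.map (MulAut.conj x).toMonoidHom
    · obtain ⟨M, hM, x, rfl⟩ := hrep
      have hsub : tildeOf M (sigmaSet M) ⊆ ⋃ x ∈ 𝒩, tildeOf x (sigmaSet x) :=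
        fun z hz => Set.mem_iUnion₂.2 ⟨M, hM, hz⟩
      rw [F.tilde_map hG (hmem' M hM).1, Set.union_eq_self_of_subset_left hsub]
      exact ih hmem'
    push Not at hrep
    have hd : Disjoint (tildeOf N (sigmaSet N)) (⋃ M ∈ 𝒩, tildeOf M (sigmaSet M)) :=
      Set.disjoint_iUnion₂_right.2 fun M hM => (Set.disjoint_iff_inter_eq_empty.2
        (F.tilde_disjoint M N (hmem' M hM).1 hNc (hrep M hM))).symm
    rw [gMass_union hd, gMass_union hd]
    refine add_le_add (h.gMass_col_tilde hG F hχ hNc ?_) (ih hmem')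
    obtain ⟨c1, c2⟩ := h.coprime_sigma_W hG F hNc hNS hNT
    rcases hA with rfl | rfl
    exacts [c1, c2]

end FTPair

end CfsgLib.OddOrder
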