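import Cfsg.Agent.OddOrder.PF10.EtaValues
import Cfsg.Agent.OddOrder.TypePBasic
import Cfsg.Agent.OddOrderChar.TypePMu
import Cfsg.Prelude.Def_OddOrderLocal

/-!
# The characters `μ` of a maximal subgroup with data of type P, indexed by the characters of `W`
-/

set_option autoImplicit false
set_option linter.style.haveILetI false
set_option linter.unusedSectionVars false

namespace CfsgLib.OddOrder

open Cfsg CfsgLib.Characters CfsgLib.Coherence CfsgLib.OddOrderChar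
open scoped ComplexConjugate

universe u

variable {G : Type u} [Group G] {M W₁ W₂ : Subgroup G}

/-- `M'` as a subgroup of `M`. -/
def derIn (M : Subgroup G) : Subgroup ↥M := (⁅M, M⁆).subgroupOf M

instance derIn_normal (M : Subgroup G) : (derIn M).Normal := by
  refine ⟨fun n hn g => ?_⟩
  rw [derIn, Subgroup.mem_subgroupOf] at hn ⊢
  have h : (⁅M, M⁆).map (MulAut.conj (g : G)).toMonoidHom = ⁅M, M⁆ := by
    have hM : M.map (MulAut.conj (g : G)).toMonoidHom = M := by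
      ext x
      constructor
      · rintro ⟨y, hy, rfl⟩
        exact M.mul_mem (M.mul_mem g.2 hy) (M.inv_mem g.2)
      · exact fun hx => ⟨(g : G)⁻¹ * x * g, M.mul_mem (M.mul_mem (M.inv_mem g.2) hx) g.2, by simp [mul_assoc]⟩
    rw [Subgroup.map_commutator, hM]
  rw [← h]
  exact ⟨n, hn, by simp⟩

theorem mem_derIn {x : ↥M} : x ∈ derIn M ↔ (x : G) ∈ ⁅M, M⁆ := Iff.rfl

theorem subgroupOf_inf_eq (A B : Subgroup G) (M : Subgroup G) :
    A.subgroupOf M ⊓ B.subgroupOf M = (A ⊓ B).subgroupOf M :=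
  (Subgroup.comap_inf A B M.subtype).symm

variable [Fintype G]

/-- Induction from `W` to `M`. -/
noncomputable def indW (M W₁ W₂ : Subgroup G) [Fintype M] (f : ↥(W₁ ⊔ W₂) → ℂ) : ↥M → ℂ :=
  indFun ((W₁ ⊔ W₂).subgroupOf M) fun x => f ⟨(x : ↥M), x.2⟩

theorem indFun_congr_subgroup {L : Type*} [Group L] [Fintype L] {H H' : Subgroup L} (e : H = H')
    (f : H → ℂ) (f' : H' → ℂ) (hf : ∀ (x : L) (hx : x ∈ H) (hx' : x ∈ H'), f ⟨x, hx⟩ = f' ⟨x, hx'⟩) :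
    indFun H f = indFun H' f' := by
  subst e
  exact congrArg (indFun H) (funext fun x => hf x.1 x.2 x.2)

/-- The characters `μ` and the signs. -/
structure PMu (M W₁ W₂ : Subgroup G) [Fintype M] (hle : W₁ ⊔ W₂ ≤ M)
    (μ : (↥(W₁ ⊔ W₂) →* ℂˣ) → (↥M → ℂ)) (δ : (↥(W₁ ⊔ W₂) →* ℂˣ) → ℤ) : Prop where
  inj : Function.Injective μ
  irr : ∀ ω, IsIrrCharacter M (μ ω)
  sign : ∀ ω, δ ω = 1 ∨ δ ω = -1
  fibre : ∀ ω ω' : ↥(W₁ ⊔ W₂) →* ℂˣ, (∀ w : ↥(W₁ ⊔ W₂), (w : G) ∈ W₂ → ω w = ω' w) →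
    δ ω = δ ω' ∧ indW M W₁ W₂ (fun w => (ω w : ℂ) - (ω' w : ℂ)) = (δ ω : ℂ) • (μ ω - μ ω')
  value : ∀ ω, ∀ w : ↥(W₁ ⊔ W₂), (w : G) ∉ W₂ →
    μ ω ⟨w, hle w.2⟩ = (δ ω : ℂ) * (ω w : ℂ)
  others : ∀ θ : ↥M → ℂ, IsIrrCharacter M θ → (∀ ω, θ ≠ μ ω) →
    ∀ w : ↥(W₁ ⊔ W₂), (w : G) ∉ W₂ → θ ⟨w, hle w.2⟩ = 0
  degree : ∀ ω, ∃ n : ℤ, μ ω 1 - (δ ω : ℂ) = (n : ℂ) * (Nat.card W₁ : ℂ)

/-- The group-theoretic part of data of type P that is used here. -/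
structure PBase (M W₁ W₂ : Subgroup G) : Prop where
  le₁ : W₁ ≤ M
  le₂ : W₂ ≤ ⁅M, M⁆
  derived_le : ⁅M, M⁆ ≤ M
  disj : ⁅M, M⁆ ⊓ W₁ = ⊥
  cover : ∀ x ∈ M, ∃ a ∈ ⁅M, M⁆, ∃ b ∈ W₁, x = a * b
  hall : (Nat.card W₁).Coprime (Nat.card ↥⁅M, M⁆)
  cent : ∀ x ∈ W₁, x ≠ 1 → ⁅M, M⁆ ⊓ Subgroup.centralizer ({x} : Set G) = W₂
  snc : IsSelfNormalizingCyclic W₁ W₂

theorem pBase_of_typePWith {U : Subgroup G} (hP : IsTypePWith M W₁ U W₂) : PBase M W₁ W₂ := by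
  obtain ⟨hd, hW₁, hdisj, hcov⟩ := hP.W₁_compl
  refine ⟨hW₁, hP.W₂_le.trans (inf_le_right.trans (Subgroup.commutator_le.2 fun a ha b hb => ?_)),
    hd, hdisj, hcov, ?_, hP.W₂_centralizer, hP.selfNormalizing⟩
  · exact Subgroup.commutator_mem_commutator (hd ha) (hd hb)
  · have h1 := hP.W₁_hall
    have h2 : W₁.relIndex M = Nat.card ↥⁅M, M⁆ := by
      have hc : Subgroup.IsComplement' ((⁅M, M⁆).subgroupOf M) (W₁.subgroupOf M) := by
        refine Subgroup.isComplement'_of_disjoint_and_mul_eq_univ ?_ ?_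
        · rw [disjoint_iff, subgroupOf_inf_eq, hdisj, Subgroup.bot_subgroupOf]
        · refine Set.eq_univ_of_forall fun x => ?_
          obtain ⟨a, ha, b, hb, he⟩ := hcov x x.2
          exact Set.mem_mul.2 ⟨⟨a, hd ha⟩, ha, ⟨b, hW₁ hb⟩, hb, Subtype.ext he.symm⟩
      rw [Subgroup.relIndex, hc.index_eq_card]
      exact Nat.card_congr (Subgroup.subgroupOfEquivOfLe hd).toEquiv
    rwa [h2] at h1

namespace PBase

variable (h : PBase M W₁ W₂)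
include h

theorem le : W₁ ⊔ W₂ ≤ M := sup_le h.le₁ (h.le₂.trans h.derived_le)

theorem mem_W₂_of_mem {w : ↥(W₁ ⊔ W₂)} (hw : (w : G) ∈ ⁅M, M⁆) : (w : G) ∈ W₂ := by
  have hP := factorPair_of_snc h.snc
  have h1 : (hP.fst w : G) ∈ ⁅M, M⁆ := by
    have : (w : G) * (hP.snd w : G)⁻¹ ∈ ⁅M, M⁆ := mul_mem hw (inv_mem (h.le₂ (hP.snd_mem w)))
    rwa [← congrArg Subtype.val (hP.fst_mul_snd w), Subgroup.coe_mul, mul_inv_cancel_right] at this
  have h2 : (hP.fst w : G) ∈ ⁅M, M⁆ ⊓ W₁ := ⟨h1, hP.fst_mem w⟩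
  rw [h.disj, Subgroup.mem_bot] at h2
  rw [← hP.fst_mul_snd w, Subgroup.coe_mul, h2, one_mul]
  exact hP.snd_mem w

theorem derIn_inf : derIn M ⊓ W₁.subgroupOf M = ⊥ := by
  rw [derIn, subgroupOf_inf_eq, h.disj, Subgroup.bot_subgroupOf]

theorem derIn_sup : derIn M ⊔ W₁.subgroupOf M = ⊤ := by
  rw [eq_top_iff]
  intro x _
  obtain ⟨a, ha, b, hb, he⟩ := h.cover x x.2
  rw [show x = (⟨a, h.derived_le ha⟩ : ↥M) * ⟨b, h.le₁ hb⟩ from Subtype.ext he]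
  exact mul_mem (Subgroup.mem_sup_left ha) (Subgroup.mem_sup_right hb)

theorem compl : Subgroup.IsComplement' (derIn M) (W₁.subgroupOf M) :=
  Subgroup.isComplement'_of_disjoint_and_mul_eq_univ (disjoint_iff.mpr h.derIn_inf)
    (by rw [← Subgroup.normal_mul, h.derIn_sup, Subgroup.coe_top])

theorem card_W₁In : Nat.card ↥(W₁.subgroupOf M) = Nat.card W₁ :=
  Nat.card_congr (Subgroup.subgroupOfEquivOfLe h.le₁).toEquiv

theorem index_derIn : (derIn M).index = Nat.card W₁ := by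
  rw [h.compl.symm.index_eq_card, h.card_W₁In]

theorem card_derIn : Nat.card ↥(derIn M) = Nat.card ↥⁅M, M⁆ :=
  Nat.card_congr (Subgroup.subgroupOfEquivOfLe h.derived_le).toEquiv

theorem card_eq : Nat.card M = Nat.card ↥⁅M, M⁆ * Nat.card W₁ := by
  rw [← h.card_derIn, ← h.card_W₁In, h.compl.card_mul_card]

theorem hallIn : Nat.Coprime (Nat.card ↥(W₁.subgroupOf M)) (Nat.card ↥(derIn M)) := by
  rw [h.card_W₁In, h.card_derIn]; exact h.hall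

theorem centIn : ∀ x ∈ W₁.subgroupOf M, x ≠ 1 →
    derIn M ⊓ Subgroup.centralizer ({x} : Set ↥M) = W₂.subgroupOf M := by
  intro x hx hx1
  ext y
  have hc := h.cent (x : G) hx fun e => hx1 (Subtype.ext e)
  rw [Subgroup.mem_inf, Subgroup.mem_centralizer_singleton_iff, Subgroup.mem_subgroupOf (H := W₂),
    ← hc, Subgroup.mem_inf, Subgroup.mem_centralizer_singleton_iff, mem_derIn]
  exact and_congr Iff.rfl ⟨fun e => congrArg Subtype.val e, fun e => Subtype.ext e⟩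

/-- Every element of `M` outside `M'` is conjugate in `M` to an element of `W \ W₂`. -/
theorem exists_conj {g : ↥M} (hg : g ∉ derIn M) :
    ∃ (z : ↥M) (w : ↥(W₁ ⊔ W₂)), (w : G) ∉ W₂ ∧ (z : G) * (g : G) * (z : G)⁻¹ = (w : G) := by
  letI : Fintype ↥M := Fintype.ofFinite _
  obtain ⟨π, -, -, hπd⟩ := exists_compl_proj h.derIn_inf h.derIn_sup
  obtain ⟨z, w, hw, he⟩ := typeP_exists_conj h.hallIn
    (fun x hx => h.le₂ hx) h.derIn_inf h.centIn hπd hg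
  have hmem : ((w : ↥M) : G) ∈ W₁ ⊔ W₂ := by
    have hsup : (W₁ ⊔ W₂).subgroupOf M = W₁.subgroupOf M ⊔ W₂.subgroupOf M :=
      Subgroup.subgroupOf_sup h.le₁ (h.le₂.trans h.derived_le)
    exact Subgroup.mem_subgroupOf.1 (hsup.ge w.2)
  exact ⟨z, ⟨_, hmem⟩, fun h2 => hw h2, congrArg Subtype.val he⟩

end PBase

/-- Existence of `μ` and `δ`. -/
theorem exists_pMu [Fintype M] (h : PBase M W₁ W₂) (hodd : Odd (Nat.card M)) :
    ∃ μ δ, PMu M W₁ W₂ h.le μ δ := by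
  classical
  have hW₂M : W₂ ≤ M := h.le₂.trans h.derived_le
  have hsup : (W₁ ⊔ W₂).subgroupOf M = W₁.subgroupOf M ⊔ W₂.subgroupOf M :=
    Subgroup.subgroupOf_sup h.le₁ hW₂M
  let e : ↥(W₁.subgroupOf M ⊔ W₂.subgroupOf M) ≃* ↥(W₁ ⊔ W₂) :=
    (MulEquiv.subgroupCongr hsup.symm).trans (Subgroup.subgroupOfEquivOfLe h.le)
  have hev : ∀ x, ((e x : ↥(W₁ ⊔ W₂)) : G) = ((x : ↥M) : G) := fun _ => rfl
  have hne : ∀ {X : Subgroup G}, X ≤ M → X ≠ ⊥ → X.subgroupOf M ≠ ⊥ := fun {X} hX hX1 hb => hX1 (by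
    rw [eq_bot_iff]
    intro x hx
    have : (⟨x, hX hx⟩ : ↥M) ∈ X.subgroupOf M := hx
    rw [hb, Subgroup.mem_bot] at this
    exact congrArg Subtype.val this)
  haveI : IsCyclic ↥(W₁ ⊔ W₂) := h.snc.2.2.2.2.1
  have hcyc : ∀ {X : Subgroup G}, X ≤ M → X ≤ W₁ ⊔ W₂ → IsCyclic ↥(X.subgroupOf M) := fun {X} hX hXW =>
    isCyclic_of_injective ((Subgroup.inclusion hXW).comp (Subgroup.subgroupOfEquivOfLe hX).toMonoidHom)
      ((Subgroup.inclusion_injective hXW).comp (Subgroup.subgroupOfEquivOfLe hX).injective)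
  have hodd' : Odd (Nat.card ↥(W₁.subgroupOf M ⊔ W₂.subgroupOf M)) :=
    hodd.of_dvd_nat (Subgroup.card_subgroup_dvd_card _)
  obtain ⟨μ, δ, h1, h2, h3, h4, h5, h6, h7⟩ := typeP_mu (L := ↥M) h.derIn_inf h.derIn_sup
    (hne h.le₁ h.snc.1) (hcyc h.le₁ le_sup_left) (by
      rw [h.compl.index_eq_card]; exact h.hallIn)
    (hne hW₂M h.snc.2.1) (hcyc hW₂M le_sup_right) (fun x hx => h.le₂ hx) h.centIn hodd'
  let tr : (↥(W₁ ⊔ W₂) →* ℂˣ) → (↥(W₁.subgroupOf M ⊔ W₂.subgroupOf M) →* ℂˣ) :=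
    fun ω => ω.comp e.toMonoidHom
  have htr : Function.Injective tr := fun a b hab => MonoidHom.ext fun w => by
    have := DFunLike.congr_fun hab (e.symm w)
    simpa [tr] using this
  let d : (↥(W₁ ⊔ W₂) →* ℂˣ) → ℤ := fun ω => if δ (tr ω) = 1 then 1 else -1
  have hd : ∀ ω, δ (tr ω) = (d ω : ℂ) := by
    intro ω
    rcases h3 (tr ω) with e1 | e1
    · simp [d, e1]
    · simp only [d, e1]
      norm_num
  refine ⟨fun ω => μ (tr ω), d, h1.comp htr, fun ω => h2 _, fun ω => ?_, fun ω ω' hag => ?_,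
    fun ω w hw => ?_, fun θ hθ hne' w hw => ?_, fun ω => ?_⟩
  · simp only [d]; split_ifs <;> simp
  · obtain ⟨e1, e2⟩ := h4 (tr ω) (tr ω') fun x hx => hag (e x) hx
    refine ⟨?_, ?_⟩
    · have : (d ω : ℂ) = (d ω' : ℂ) := by rw [← hd, ← hd, e1]
      exact_mod_cast this
    · rw [← hd, ← e2]
      exact indFun_congr_subgroup hsup _ _ fun x hx hx' => rfl
  · have hm : (⟨(w : G), h.le w.2⟩ : ↥M) ∈ W₁.subgroupOf M ⊔ W₂.subgroupOf M := by
      rw [← hsup]; exact w.2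
    rw [← hd]
    exact h5 (tr ω) ⟨_, hm⟩ hw
  · have hm : (⟨(w : G), h.le w.2⟩ : ↥M) ∈ W₁.subgroupOf M ⊔ W₂.subgroupOf M := by
      rw [← hsup]; exact w.2
    refine h6 θ hθ (fun ν hν => ?_) ⟨_, hm⟩ hw
    refine hne' (ν.comp e.symm.toMonoidHom) ?_
    rw [hν]
    refine congrArg μ (MonoidHom.ext fun x => ?_)
    simp [tr]
  · obtain ⟨n, hn⟩ := h7 (tr ω)
    refine ⟨n, ?_⟩
    rw [← hd]
    rw [h.card_W₁In] at hn
    exact hn

end CfsgLib.OddOrder
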