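import Cfsg.Agent.OddOrder.PF10.Structure
import Cfsg.Agent.OddOrder.PF10.MuBasic
import Cfsg.Agent.Coherence.Induced
import Cfsg.Agent.Characters.Classes

/-!
# A regular `W₁`-fixed character of the chief factor

* `TypeP.exists_regular`: a character of `H` trivial on `Y`, fixed by `W₁`, faithful on `W₂`, whose
  stabilizer in `U` is `C = C_U(H)`.
* `TypeP.exists_theta`: the resulting irreducible character of `M'` of degree `|U : C|`.
-/

set_option autoImplicit false
set_option linter.style.haveILetI false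
set_option linter.unusedSectionVars false

open scoped commutatorElement

namespace CfsgLib.OddOrder

open Cfsg Subgroup

universe u

variable {G : Type u} [Group G]

/-- Conjugation by an element normalizing `H`, as an automorphism of `H`. -/
def conjOn {H : Subgroup G} (g : G) (hg : g ∈ normalizer (H : Set G)) : ↥H →* ↥H where
  toFun h := ⟨g * (h : G) * g⁻¹, mul_mem_conj hg h.2⟩
  map_one' := Subtype.ext (by simp)
  map_mul' a b := Subtype.ext (by simp [mul_assoc])

theorem conjOn_apply {H : Subgroup G} (g : G) (hg : g ∈ normalizer (H : Set G)) (h : H) :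
    ((conjOn g hg h : H) : G) = g * h * g⁻¹ := rfl

namespace TypeP

variable [Fintype G] {M W₁ U W₂ : Subgroup G} (hP : Cfsg.IsTypePWith M W₁ U W₂)
include hP

/-- A regular `W₁`-fixed character of `H/Y`. -/
theorem exists_regular (hp : (Nat.card W₂).Prime) (hU : U ≠ ⊥) :
    ∃ lam : ↥(Cfsg.fittingHallOf M) →* ℂˣ,
      (∀ h : ↥(Cfsg.fittingHallOf M), (h : G) ∈ chiefY M U → lam h = 1) ∧
      (∀ h : ↥(Cfsg.fittingHallOf M), (h : G) ∈ W₂ → h ≠ 1 → lam h ≠ 1) ∧
      (∀ w ∈ W₁, ∀ (hw : w ∈ normalizer (Cfsg.fittingHallOf M : Set G))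
        (h : ↥(Cfsg.fittingHallOf M)), lam (conjOn w hw h) = lam h) ∧
      (∀ u ∈ U, ∀ (hu : u ∈ normalizer (Cfsg.fittingHallOf M : Set G)),
        (∀ h : ↥(Cfsg.fittingHallOf M), lam (conjOn u hu h) = lam h) →
          u ∈ U ⊓ centralizer (Cfsg.fittingHallOf M : Set G)) := by
  classical
  set H := Cfsg.fittingHallOf M with hH
  set Y := chiefY M U with hY
  have hd := chiefData hP hp hU
  have hHM : M ≤ normalizer (H : Set G) := le_normalizer_fittingHallOf M
  have hHle : H ≤ M := fittingHallOf_le M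
  set p := Nat.card W₂ with hpdef
  obtain ⟨x₀, hx₀, hx₀1⟩ := W₂.bot_or_exists_ne_one.resolve_left (fun h => by
    rw [hpdef, h, Subgroup.card_bot] at hp
    exact Nat.not_prime_one hp)
  have hgen : ∀ x ∈ W₂, x ≠ 1 → ∃ k : ℕ, x₀ = x ^ k := by
    intro x hx hx1
    haveI := Fact.mk hp
    have hmem : (⟨x₀, hx₀⟩ : W₂) ∈ zpowers (⟨x, hx⟩ : W₂) :=
      mem_zpowers_of_prime_card hpdef.symm fun e => hx1 (congrArg Subtype.val e)
    obtain ⟨k, hk⟩ := mem_powers_iff_mem_zpowers.2 hmem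
    exact ⟨k, (congrArg Subtype.val hk).symm⟩
  -- a character of `H/Y` non-trivial on `x₀`
  set Y' := Y.subgroupOf H with hY'
  haveI : Y'.Normal :=
    (normal_subgroupOf_iff_le_normalizer hd.le).2 (hHle.trans hd.normal)
  letI : CommGroup (↥H ⧸ Y') :=
    { (inferInstance : Group (↥H ⧸ Y')) with
      mul_comm := fun a b => by
        induction a using QuotientGroup.induction_on with
        | H a =>
          induction b using QuotientGroup.induction_on with
          | H b =>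
            rw [← QuotientGroup.mk_mul, ← QuotientGroup.mk_mul, QuotientGroup.eq, mem_subgroupOf]
            have h := hd.comm_mem _ (inv_mem b.2) _ (inv_mem a.2)
            simpa [commutatorElement_def, mul_assoc] using h }
  have : NeZero (Monoid.exponent (↥H ⧸ Y')) := ⟨Monoid.exponent_ne_zero_of_finite⟩
  have hne : QuotientGroup.mk' Y' ⟨x₀, W₂_le_H hP hx₀⟩ ≠ 1 := by
    intro h
    have hxY : x₀ ∈ Y ⊓ W₂ := ⟨mem_subgroupOf.1 ((QuotientGroup.eq_one_iff _).1 h), hx₀⟩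
    rw [hY, hd.inf_W₂, mem_bot] at hxY
    exact hx₀1 hxY
  obtain ⟨f, hf⟩ := CommGroup.exists_apply_ne_one_of_hasEnoughRootsOfUnity (↥H ⧸ Y') ℂ hne
  set lam₀ : ↥H →* ℂˣ := f.comp (QuotientGroup.mk' Y') with hlam₀
  haveI : Fintype W₁ := Fintype.ofFinite _
  have hWn : ∀ w : W₁, (w : G) ∈ normalizer (H : Set G) := fun w => hHM (W₁_le hP w.2)
  set lam : ↥H →* ℂˣ := ∏ w : W₁, lam₀.comp (conjOn (w : G) (hWn w)) with hlam
  have happ : ∀ h, lam h = ∏ w : W₁, lam₀ (conjOn (w : G) (hWn w) h) := fun h => by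
    rw [hlam, MonoidHom.finsetProd_apply]
    rfl
  have hY1 : ∀ h : ↥H, (h : G) ∈ Y → lam h = 1 := fun h hh => by
    rw [happ]
    refine Finset.prod_eq_one fun w _ => ?_
    rw [hlam₀, MonoidHom.comp_apply,
      show QuotientGroup.mk' Y' (conjOn (w : G) (hWn w) h) = 1 from
        (QuotientGroup.eq_one_iff _).2 (mem_subgroupOf.2
          (mul_mem_conj (hd.normal (W₁_le hP w.2)) hh)), map_one]
  have hfix : ∀ v ∈ W₁, ∀ (hv : v ∈ normalizer (H : Set G)) (h : ↥H),
      lam (conjOn v hv h) = lam h := by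
    intro v hv hvn h
    rw [happ, happ]
    refine Fintype.prod_equiv (Equiv.mulRight (⟨v, hv⟩ : W₁)) _ _ fun w => ?_
    refine congrArg lam₀ (Subtype.ext ?_)
    simp [conjOn_apply, mul_assoc]
  have hW₂ : ∀ h : ↥H, (h : G) ∈ W₂ → h ≠ 1 → lam h ≠ 1 := by
    intro h hh hh1 h1
    have hq : lam h = lam₀ h ^ Nat.card W₁ := by
      rw [happ, Nat.card_eq_fintype_card, ← Finset.card_univ, ← Finset.prod_const]
      refine Finset.prod_congr rfl fun w _ => congrArg lam₀ (Subtype.ext ?_)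
      rw [conjOn_apply, ← mem_centralizer_iff.1 ((derived_inf_centralizer_W₁ hP).ge hh).2 w w.2 |>.symm]
      group
    have hord : h ^ p = 1 := Subtype.ext (by
      rw [SubmonoidClass.coe_pow, OneMemClass.coe_one, hpdef]
      exact congrArg Subtype.val (pow_card_eq_one' (x := (⟨(h : G), hh⟩ : W₂))))
    have hcop : (Nat.card W₁).Coprime p :=
      (coprime_W₁_H hP).coprime_dvd_right (card_dvd_of_le (W₂_le_H hP))
    have h0 : lam₀ h = 1 := by
      have hp1 : lam₀ h ^ p = 1 := by rw [← map_pow, hord, map_one]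
      have hq1 : lam₀ h ^ Nat.card W₁ = 1 := by rw [← hq, h1]
      rw [← pow_one (lam₀ h), ← Nat.coprime_iff_gcd_eq_one.1 hcop]
      exact pow_gcd_eq_one.2 ⟨hq1, hp1⟩
    obtain ⟨k, hk⟩ := hgen h hh fun e => hh1 (Subtype.ext e)
    apply hf
    have : (⟨x₀, W₂_le_H hP hx₀⟩ : ↥H) = h ^ k := Subtype.ext (by simpa using hk)
    show lam₀ ⟨x₀, W₂_le_H hP hx₀⟩ = 1
    rw [this, map_pow, h0, one_pow]
  refine ⟨lam, hY1, hW₂, hfix, ?_⟩
  -- the stabilizer
  let S : Subgroup G :=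
    { carrier := {u | u ∈ U ∧ ∀ hu : u ∈ normalizer (H : Set G), ∀ h : ↥H, lam (conjOn u hu h) = lam h}
      one_mem' := ⟨one_mem U, fun _ h => congrArg lam (Subtype.ext (by simp [conjOn_apply]))⟩
      mul_mem' := fun {a b} ha hb => ⟨mul_mem ha.1 hb.1, fun _ h => by
        have han := hHM (typeP_U_le hP ha.1)
        have hbn := hHM (typeP_U_le hP hb.1)
        rw [← hb.2 hbn h, ← ha.2 han (conjOn b hbn h)]
        exact congrArg lam (Subtype.ext (by simp [conjOn_apply, mul_assoc]))⟩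
      inv_mem' := fun {a} ha => ⟨inv_mem ha.1, fun hn h => by
        have han := hHM (typeP_U_le hP ha.1)
        rw [← ha.2 han (conjOn a⁻¹ hn h)]
        exact congrArg lam (Subtype.ext (by simp [conjOn_apply, mul_assoc]))⟩ }
  intro u hu hun hfixu
  have huS : u ∈ S := ⟨hu, fun _ h => hfixu h⟩
  have hSU : S ≤ U := fun x hx => hx.1
  have hCS : U ⊓ centralizer (H : Set G) ≤ S := fun c hc => ⟨hc.1, fun _ h =>
    congrArg lam (Subtype.ext (by
      rw [conjOn_apply, ← mem_centralizer_iff.1 hc.2 h h.2]; group))⟩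
  have hUS : U ≤ normalizer (S : Set G) := by
    refine le_normalizer_iff_commutator_le_right.2 ?_
    exact ((commutator_mono le_rfl hSU).trans (derived_U_le_kernel hP)).trans hCS
  have hW₁S : W₁ ≤ normalizer (S : Set G) := by
    intro w hw
    refine mem_normalizer_fintype fun s hs => ?_
    refine ⟨mul_mem_conj (hP.U_normal hw) hs.1, fun hn h => ?_⟩
    have hwn := hHM (W₁_le hP hw)
    have hsn := hHM (typeP_U_le hP hs.1)
    have e : conjOn _ hn h = conjOn w hwn (conjOn s hsn (conjOn w⁻¹ (inv_mem hwn) h)) :=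
      Subtype.ext (by simp [conjOn_apply, mul_assoc])
    rw [e, hfix w hw hwn, hs.2 hsn, hfix w⁻¹ (inv_mem hw) (inv_mem hwn)]
  set N := Y ⊔ ⁅H, S⁆ with hN
  have hSM : S ≤ M := hSU.trans (typeP_U_le hP)
  have hNH : N ≤ H := sup_le hd.le (by
    rw [← le_normalizer_iff_commutator_le_left]; exact hSM.trans hHM)
  have hNM : M ≤ normalizer (N : Set G) := by
    refine (le_inf hd.normal ?_).trans (normalizer_inf_normalizer_le_normalizer_sup Y ⁅H, S⁆)
    intro m hm
    obtain ⟨a, ha, w, hw, rfl⟩ := hP.W₁_compl.2.2.2 m hm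
    obtain ⟨c, hc, d, hd', rfl⟩ := hP.U_compl.2.2.2 a ha
    refine mul_mem (mul_mem ?_ ?_) ?_
    · exact Coprime.sup_le_normalizer_commutator H S (mem_sup_left hc)
    · exact le_normalizer_commutator ((typeP_U_le hP).trans hHM) hUS hd'
    · exact le_normalizer_commutator ((W₁_le hP).trans hHM) hW₁S hw
  have hker : ∀ x ∈ N, ∀ hx : x ∈ H, lam ⟨x, hx⟩ = 1 := by
    have hle : N ≤ (lam.ker).map H.subtype := by
      refine sup_le (fun x hx => ⟨⟨x, hd.le hx⟩, hY1 _ hx, rfl⟩) ?_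
      rw [commutator_le]
      intro a ha s hs
      have hsn := hHM (hSM hs)
      refine ⟨⟨a, ha⟩ * conjOn s hsn ⟨a⁻¹, inv_mem ha⟩, ?_, ?_⟩
      · rw [SetLike.mem_coe, MonoidHom.mem_ker, map_mul, hs.2 hsn, ← map_mul]
        rw [show (⟨a, ha⟩ : ↥H) * ⟨a⁻¹, inv_mem ha⟩ = 1 from Subtype.ext (mul_inv_cancel a), map_one]
      · simp [conjOn_apply, commutatorElement_def, mul_assoc]
    intro x hx hxH
    obtain ⟨y, hy, hye⟩ := hle hx
    have : y = ⟨x, hxH⟩ := Subtype.ext hye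
    exact this ▸ hy
  rcases hd.chief N le_sup_left hNH hNM with h | h
  · refine hd.kernel u hu fun x hx => ?_
    have h1 : ⁅x, u⁆ ∈ Y := h.le (mem_sup_right (commutator_mem_commutator hx huS))
    rw [← commutatorElement_inv]
    exact inv_mem h1
  · exact absurd (hker x₀ (h ▸ W₂_le_H hP hx₀) (W₂_le_H hP hx₀))
      (hW₂ _ hx₀ fun e => hx₀1 (congrArg Subtype.val e))

open CfsgLib.Characters CfsgLib.OddOrderChar in
/-- An irreducible character of `M'` of degree `|U : C|`, fixed by `W₁`, non-constant on `W₂`. -/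
theorem exists_theta [Fintype M] [Fintype ↥(derIn M)] (hp : (Nat.card W₂).Prime) (hU : U ≠ ⊥) :
    ∃ θ : ↥(derIn M) → ℂ, Cfsg.IsIrrCharacter ↥(derIn M) θ ∧
      θ 1 = ((U ⊓ centralizer (Cfsg.fittingHallOf M : Set G)).relIndex U : ℂ) ∧
      (∀ w : ↥M, (w : G) ∈ W₁ → conjBy (derIn M) θ w = θ) ∧
      ∃ x : ↥(derIn M), ((x : ↥M) : G) ∈ W₂ ∧ θ x ≠ θ 1 := by
  classical
  set H := Cfsg.fittingHallOf M with hH
  obtain ⟨lam, -, hW₂, hfix, hstab⟩ := exists_regular hP hp hU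
  set C := U ⊓ centralizer (H : Set G) with hC
  set F := Cfsg.fittingOf M with hF
  have hFM : F ≤ M := fittingOf_le M
  have hHM : M ≤ normalizer (H : Set G) := le_normalizer_fittingHallOf M
  have hFeq : F = H ⊔ C := typeP_fitting_eq hP
  have hHF : H ≤ F := hFeq ▸ le_sup_left
  have hCF : C ≤ F := hFeq ▸ le_sup_right
  have hHC : H ⊓ C = ⊥ := by
    rw [eq_bot_iff, ← hP.U_compl.2.2.1]; exact inf_le_inf_left _ inf_le_left
  -- the extension of `lam` to `F`, trivial on `C`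
  haveI : (C.subgroupOf F).Normal :=
    (normal_subgroupOf_iff_le_normalizer hCF).2 (hFM.trans (centralizer_inf_U_normal hP))
  obtain ⟨π, hπC, hπH, -⟩ := exists_compl_proj (K := C.subgroupOf F) (W₁ := H.subgroupOf F)
    (by rw [Subgroup.subgroupOf, Subgroup.subgroupOf, ← Subgroup.comap_inf, inf_comm, hHC]; exact MonoidHom.ker_eq_bot _ (Subgroup.subtype_injective F))
    (by rw [← subgroupOf_sup hCF hHF, sup_comm, ← hFeq, subgroupOf_self])
  set f₀ : ↥F →* ℂˣ := lam.comp ((subgroupOfEquivOfLe hHF).toMonoidHom.comp π) with hf₀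
  have hf₀H : ∀ (h : G) (hh : h ∈ H), f₀ ⟨h, hHF hh⟩ = lam ⟨h, hh⟩ := by
    intro h hh
    rw [hf₀, MonoidHom.comp_apply, MonoidHom.comp_apply,
      hπH ⟨⟨h, hHF hh⟩, mem_subgroupOf.2 hh⟩]
    rfl
  have hf₀C : ∀ (c : G) (hc : c ∈ C), f₀ ⟨c, hCF hc⟩ = 1 := by
    intro c hc
    rw [hf₀, MonoidHom.comp_apply, MonoidHom.comp_apply,
      hπC ⟨c, hCF hc⟩ (mem_subgroupOf.2 hc), map_one, map_one]
  have hf₀w : ∀ w ∈ W₁, ∀ (x : G) (hx : x ∈ F) (hy : w * x * w⁻¹ ∈ F),
      f₀ ⟨w * x * w⁻¹, hy⟩ = f₀ ⟨x, hx⟩ := by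
    intro w hw x hx hy
    obtain ⟨a, ha, c, hc, rfl⟩ : ∃ a ∈ H, ∃ c ∈ C, a * c = x := by
      have : x ∈ ((H ⊔ C : Subgroup G) : Set G) := hFeq ▸ hx
      rw [coe_mul_of_right_le_normalizer_left _ _ ((inf_le_left.trans (typeP_U_le hP)).trans hHM)]
        at this
      obtain ⟨a, ha, c, hc, e⟩ := Set.mem_mul.1 this
      exact ⟨a, ha, c, hc, e⟩
    have hwn := hHM (W₁_le hP hw)
    have ha' : w * a * w⁻¹ ∈ H := mul_mem_conj hwn ha
    have hc' : w * c * w⁻¹ ∈ C := mul_mem_conj (centralizer_inf_U_normal hP (W₁_le hP hw)) hc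
    have e1 : (⟨w * (a * c) * w⁻¹, hy⟩ : ↥F) = ⟨_, hHF ha'⟩ * ⟨_, hCF hc'⟩ :=
      Subtype.ext (by simp [mul_assoc])
    have e2 : (⟨a * c, hx⟩ : ↥F) = ⟨a, hHF ha⟩ * ⟨c, hCF hc⟩ := rfl
    rw [e1, e2, map_mul, map_mul, hf₀H _ ha', hf₀C _ hc', hf₀H _ ha, hf₀C _ hc, mul_one, mul_one]
    exact hfix w hw hwn ⟨a, ha⟩
  -- the same inside `M'`
  set FL : Subgroup ↥(derIn M) := (F.subgroupOf M).subgroupOf (derIn M) with hFL
  haveI : (F.subgroupOf M).Normal :=
    (normal_subgroupOf_iff_le_normalizer hFM).2 (le_normalizer_fittingOf M)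
  haveI hFLn : FL.Normal := Subgroup.Normal.subgroupOf inferInstance (derIn M)
  haveI : Fintype ↥FL := Fintype.ofFinite _
  let ι : ↥FL →* ↥F := (((M.subtype.comp (derIn M).subtype).comp FL.subtype)).codRestrict F
    fun x => mem_subgroupOf.1 (mem_subgroupOf.1 x.2)
  set φ : ↥FL → ℂ := fun x => (f₀ (ι x) : ℂ) with hφ
  have hφirr : Cfsg.IsIrrCharacter ↥FL φ := isIrr_linChar (f₀.comp ι)
  set θ := Cfsg.indFun FL φ with hθ
  have hindex : FL.index = C.relIndex U := by
    rw [hFL, ← Subgroup.relIndex, derIn, Subgroup.relIndex_subgroupOf (M.commutator_le_self),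
      relIndex_fitting hP]
  -- the inertia group
  have hiner : ∀ g : ↥(derIn M), conjBy FL φ g = φ ↔ g ∈ FL := by
    intro g
    constructor
    · intro hg
      obtain ⟨a, ha, b, hb, hab⟩ := hP.U_compl.2.2.2 ((g : ↥M) : G) g.2
      have hbn := hHM (typeP_U_le hP hb)
      have hbC : b ∈ C := by
        refine hstab b hb hbn fun h => ?_
        have hx : (h : G) ∈ ⁅M, M⁆ := H_le_derived hP h.2
        let x : ↥FL := ⟨⟨⟨(h : G), M.commutator_le_self hx⟩, hx⟩,
          mem_subgroupOf.2 (mem_subgroupOf.2 (hHF h.2))⟩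
        have h1 := congrFun hg x
        rw [conjBy_apply, hφ] at h1
        have h2 : f₀ (ι ⟨g * (x : ↥(derIn M)) * g⁻¹, hFLn.conj_mem _ x.2 g⟩) = f₀ (ι x) :=
          Units.ext h1
        have hc' : a * (b * h * b⁻¹) * a⁻¹ ∈ H :=
          mul_mem (mul_mem ha (mul_mem_conj hbn h.2)) (inv_mem ha)
        have e : ι ⟨g * (x : ↥(derIn M)) * g⁻¹, hFLn.conj_mem _ x.2 g⟩ = ⟨_, hHF hc'⟩ :=
          Subtype.ext (by
            show ((g : ↥M) : G) * h * ((g : ↥M) : G)⁻¹ = a * (b * h * b⁻¹) * a⁻¹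
            rw [hab]; group)
        rw [e, hf₀H _ hc', show ι x = ⟨(h : G), hHF h.2⟩ from Subtype.ext rfl, hf₀H _ h.2] at h2
        refine Eq.trans ?_ h2
        rw [show (⟨_, hc'⟩ : ↥H) = ⟨a, ha⟩ * conjOn b hbn h * ⟨a, ha⟩⁻¹ from rfl, map_mul,
          map_mul, map_inv, mul_comm (lam ⟨a, ha⟩), mul_inv_cancel_right]
      refine mem_subgroupOf.2 (mem_subgroupOf.2 ?_)
      show ((g : ↥M) : G) ∈ F
      rw [hab, hFeq]
      exact mul_mem_sup ha hbC
    · intro hg
      funext x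
      rw [conjBy_apply, hφ]
      refine congrArg Units.val ?_
      show f₀ (ι ((⟨g, hg⟩ : ↥FL) * x * (⟨g, hg⟩ : ↥FL)⁻¹)) = f₀ (ι x)
      rw [map_mul, map_mul, map_mul, map_mul, map_inv, map_inv, mul_comm (f₀ (ι ⟨g, hg⟩)),
        mul_inv_cancel_right]
  have hθirr : Cfsg.IsIrrCharacter ↥(derIn M) θ := by
    refine isIrr_of_classInner_self
      (OddOrderChar.isCharacter_indFun FL (isCharacter_of_isIrr hφirr)) ?_
    rw [hθ, Coherence.ci_ind_self FL hφirr]
    have : Coherence.stabCard FL φ = Nat.card FL := by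
      rw [Coherence.stabCard]
      exact Nat.card_congr (Equiv.subtypeEquivRight hiner)
    rw [this, div_self (Nat.cast_ne_zero.2 Nat.card_pos.ne')]
  refine ⟨θ, hθirr, ?_, ?_, ?_⟩
  · rw [hθ, Coherence.ind_one, hindex, hφ]
    simp
  · intro w hw
    funext y
    rw [conjBy_apply, hθ]
    unfold Cfsg.indFun
    congr 1
    -- reindex by conjugation with `w`
    let c : ↥(derIn M) ≃ ↥(derIn M) := (MulAut.conjNormal (H := derIn M) w).toEquiv
    refine (Fintype.sum_equiv c _ _ fun x => ?_).symm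
    set z := x⁻¹ * y * x with hz
    have hcz : (c x)⁻¹ * ⟨w * y * w⁻¹, (derIn_normal M).conj_mem _ y.2 w⟩ * c x = c z := by
      have hy' : (⟨w * y * w⁻¹, (derIn_normal M).conj_mem _ y.2 w⟩ : ↥(derIn M)) = c y :=
        Subtype.ext (by simp [c])
      rw [hy', hz]
      simp [c]
    rw [hcz]
    have hmem : c z ∈ FL ↔ z ∈ FL := by
      simp only [hFL, mem_subgroupOf]
      show (((MulAut.conjNormal (H := derIn M) w z : ↥(derIn M)) : ↥M) : G) ∈ F ↔ _
      rw [MulAut.conjNormal_apply]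
      exact (mem_normalizer_iff.1 (le_normalizer_fittingOf M w.2) _).symm
    by_cases hzF : z ∈ FL
    · rw [OddOrderChar.extendByZero_of_mem FL φ hzF,
        OddOrderChar.extendByZero_of_mem FL φ (hmem.2 hzF), hφ]
      refine congrArg Units.val (Eq.symm ?_)
      have hz' : ((z : ↥M) : G) ∈ F := mem_subgroupOf.1 (mem_subgroupOf.1 hzF)
      have hy : (w : G) * ((z : ↥M) : G) * (w : G)⁻¹ ∈ F :=
        mul_mem_conj (le_normalizer_fittingOf M w.2) hz'
      calc f₀ (ι ⟨c z, hmem.2 hzF⟩) = f₀ ⟨_, hy⟩ := congrArg f₀ (Subtype.ext (by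
            show (((MulAut.conjNormal (H := derIn M) w z : ↥(derIn M)) : ↥M) : G) = _
            rw [MulAut.conjNormal_apply]
            rfl))
        _ = f₀ ⟨_, hz'⟩ := hf₀w w hw _ hz' hy
        _ = f₀ (ι ⟨z, hzF⟩) := rfl
    · rw [OddOrderChar.extendByZero_of_notMem FL φ hzF,
        OddOrderChar.extendByZero_of_notMem FL φ fun h => hzF (hmem.1 h)]
  · obtain ⟨x₀, hx₀, hx₀1⟩ := W₂.bot_or_exists_ne_one.resolve_left (fun h => by
      rw [h, Subgroup.card_bot] at hp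
      exact Nat.not_prime_one hp)
    have hxH : x₀ ∈ H := W₂_le_H hP hx₀
    have hxD : x₀ ∈ ⁅M, M⁆ := H_le_derived hP hxH
    let x : ↥(derIn M) := ⟨⟨x₀, M.commutator_le_self hxD⟩, hxD⟩
    have hxF : x ∈ FL := mem_subgroupOf.2 (mem_subgroupOf.2 (hHF hxH))
    refine ⟨x, hx₀, fun heq => ?_⟩
    have hnorm : ∀ y : ↥FL, ‖φ y‖ = 1 := fun y => Complex.norm_eq_one_of_pow_eq_one
      (by rw [hφ]; simp only
          rw [← Units.val_pow_eq_pow_val, ← map_pow, ← map_pow, pow_orderOf_eq_one, map_one,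
            map_one, Units.val_one]) (orderOf_pos y).ne'
    rw [hθ, Coherence.ind_one, show x = ((⟨x, hxF⟩ : ↥FL) : ↥(derIn M)) from rfl,
      indFun_normal_apply, show φ 1 = 1 by rw [hφ]; simp, mul_one,
      inv_mul_eq_iff_eq_mul₀ (Nat.cast_ne_zero.2 Nat.card_pos.ne')] at heq
    have hsum := congrArg Complex.re heq
    have hc : (Nat.card ↥FL : ℂ) * (FL.index : ℂ)
        = (((Finset.univ : Finset ↥(derIn M)).card : ℕ) : ℂ) := by
      rw [← Nat.cast_mul, Finset.card_univ, ← Nat.card_eq_fintype_card, FL.card_mul_index]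
    rw [hc, Complex.natCast_re] at hsum
    have h1 := eq_of_sum_re_eq Finset.univ (fun g => conjBy FL φ g ⟨x, hxF⟩) 1
      (fun g _ => (hnorm _).le) (by rw [hsum, mul_one]) 1 (Finset.mem_univ _)
    simp only [conjBy_one, hφ] at h1
    have h2 : f₀ (ι ⟨x, hxF⟩) = 1 := Units.ext (by simpa using h1)
    rw [show ι ⟨x, hxF⟩ = ⟨x₀, hHF hxH⟩ from Subtype.ext rfl, hf₀H _ hxH] at h2
    exact hW₂ ⟨x₀, hxH⟩ hx₀ (fun e => hx₀1 (congrArg Subtype.val e)) h2

end TypeP

end CfsgLib.OddOrder
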