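import Mathlib.FieldTheory.Finite.Basic
import Mathlib.FieldTheory.Galois.Basic
import Mathlib.FieldTheory.Finite.GaloisField
import Mathlib.Algebra.Ring.Aut
import Mathlib.Algebra.Algebra.ZMod

/-!
# No involution commutes with an automorphism of odd prime order with prime fixed ring

`involution_eq_one`: let `R` be a commutative ring with `p ^ q` elements in which every element is
fixed by some power of the Frobenius map, `σ` an automorphism with `σ ^ q = 1` fixing only the
multiples of one, and `ι` an automorphism with `ι ^ 2 = 1` commuting with `σ`; then `ι = 1`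
(`q` an odd prime).

`forms_trivial` is the consequence for a group preserving a non-degenerate pairing.
-/

set_option autoImplicit false
set_option linter.style.haveILetI false

namespace CfsgLib.OddOrder

section Ring

variable {R : Type*} [CommRing R] [Finite R] {p q : ℕ} [hp : Fact p.Prime] [CharP R p]

omit [Finite R] in
include hp in
/-- An idempotent multiple of a non-zero idempotent is zero or that idempotent. -/
theorem intCast_mul_idempotent {e : R} (he : e * e = e) {c : ℤ}
    (h : (c : R) * e * ((c : R) * e) = (c : R) * e) : (c : R) * e = 0 ∨ (c : R) * e = e := by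
  by_cases hc : (c : R) = 0
  · exact Or.inl (by rw [hc, zero_mul])
  · have hu : IsUnit (c : R) := by
      have hc' : (c : ZMod p) ≠ 0 := fun h0 => hc (by
        rw [← map_intCast (ZMod.castHom (dvd_refl p) R) c, h0, map_zero])
      have h1 := (Ne.isUnit hc').map (ZMod.castHom (dvd_refl p) R)
      rwa [map_intCast] at h1
    refine Or.inr (hu.mul_left_cancel ?_)
    calc (c : R) * ((c : R) * e) = (c : R) * e * ((c : R) * e) := by
          rw [mul_mul_mul_comm, he]; ring
      _ = (c : R) * e := h

variable (hq : q.Prime) (hq2 : q ≠ 2) (hcard : Nat.card R = p ^ q)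
  (hfrob : ∃ N : ℕ, 0 < N ∧ ∀ r : R, r ^ p ^ N = r)
  (σ ι : RingAut R) (hσ : σ ^ q = 1) (hfix : ∀ r : R, σ r = r → ∃ c : ℤ, r = (c : R))
  (hcomm : Commute σ ι) (hι : ι * ι = 1)
include hq hq2 hcard hfrob hσ hfix hcomm hι

theorem involution_eq_one : ι = 1 := by
  classical
  obtain ⟨N, hN, hNr⟩ := hfrob
  haveI : Nontrivial R := CharP.nontrivial_of_char_ne_one hp.out.ne_one
  set m := p ^ N - 1 with hm
  have hpN : 1 < p ^ N := Nat.one_lt_pow hN.ne' hp.out.one_lt
  have hm1 : m + 1 = p ^ N := by omega
  -- idempotents `r ^ m`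
  have hidem : ∀ r : R, r ^ m * r = r ∧ r ^ m * r ^ m = r ^ m := by
    intro r
    have h1 : r ^ m * r = r := by rw [← pow_succ, hm1, hNr]
    refine ⟨h1, ?_⟩
    calc r ^ m * r ^ m = r ^ m * r * r ^ (m - 1) := by
          rw [mul_assoc, ← pow_succ', Nat.sub_add_cancel (by omega)]
      _ = r * r ^ (m - 1) := by rw [h1]
      _ = r ^ m := by rw [← pow_succ', Nat.sub_add_cancel (by omega)]
  -- a minimal idempotent
  let S := {e : R | e * e = e ∧ e ≠ 0}
  obtain ⟨e, ⟨hee, he0⟩, hmin⟩ := Set.exists_min_image S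
    (fun e => Set.ncard {x : R | e * x = x}) (Set.toFinite S) ⟨1, one_mul 1, one_ne_zero⟩
  have hminimal : ∀ f : R, f * f = f → e * f = f → f = 0 ∨ f = e := by
    intro f hff hef
    by_contra hcon
    rw [not_or] at hcon
    refine (hmin f ⟨hff, hcon.1⟩).not_gt (Set.ncard_lt_ncard ?_ (Set.toFinite _))
    refine ⟨fun x (hx : f * x = x) => show e * x = x by rw [← hx, ← mul_assoc, hef], fun h => ?_⟩
    have h1 : f * e = e := h (show e * e = e from hee)
    exact hcon.2 (by rw [← hef, mul_comm e, h1])
  by_cases he1 : e = 1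
  · -- `R` is a field
    subst he1
    have hfield : IsField R := by
      refine ⟨⟨0, 1, zero_ne_one⟩, mul_comm, fun {r} hr => ⟨r ^ (m - 1), ?_⟩⟩
      rw [← pow_succ', Nat.sub_add_cancel (by omega)]
      exact ((hminimal _ (hidem r).2 (one_mul _)).resolve_left fun h => hr (by
        rw [← (hidem r).1, h, zero_mul]))
    letI : Field R := hfield.toField
    letI : Algebra (ZMod p) R := ZMod.algebra R p
    haveI : Module.Finite (ZMod p) R := Module.Finite.of_finite
    have hfin : Module.finrank (ZMod p) R = q := by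
      have h := Module.natCard_eq_pow_finrank (K := ZMod p) (V := R)
      rw [hcard, Nat.card_zmod] at h
      exact (Nat.pow_right_injective hp.out.two_le h).symm
    let ι' : R ≃ₐ[ZMod p] R := AlgEquiv.ofRingEquiv (f := ι) fun c =>
      RingHom.congr_fun (RingHom.ext_zmod ((ι : R →+* R).comp (algebraMap (ZMod p) R))
        (algebraMap (ZMod p) R)) c
    haveI : FiniteDimensional (ZMod p) R := inferInstance
    have hcardG : Nat.card (R ≃ₐ[ZMod p] R) = q := by
      rw [IsGalois.card_aut_eq_finrank, hfin]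
    have h2 : ι' ^ 2 = 1 := AlgEquiv.ext fun x => by
      rw [pow_two]
      exact RingEquiv.congr_fun hι x
    have hq' : ι' ^ q = 1 := hcardG ▸ pow_card_eq_one'
    have h1 : ι' = 1 := by
      rw [← pow_one ι', ← Nat.coprime_iff_gcd_eq_one.1
        (((Nat.coprime_primes Nat.prime_two hq).2 (Ne.symm hq2)))]
      exact pow_gcd_eq_one.2 ⟨h2, hq'⟩
    exact RingEquiv.ext fun x => AlgEquiv.congr_fun h1 x
  · -- `R` is a product of prime fields permuted by `σ`
    set E : ℕ → R := fun i => (σ ^ i) e with hE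
    have hEper : ∀ i, E i = E (i % q) := fun i => by
      rw [hE]
      simp only
      rw [← pow_mod_orderOf σ i, ← pow_mod_orderOf σ (i % q), Nat.mod_mod_of_dvd _
        (orderOf_dvd_of_pow_eq_one hσ)]
    have hσfix : ∀ k, ¬ q ∣ k → E k ≠ e := by
      intro k hk hEk
      let St : Subgroup (RingAut R) :=
        { carrier := {τ | τ e = e}
          one_mem' := rfl
          mul_mem' := fun {a b} ha hb => show a (b e) = e by rw [hb]; exact ha
          inv_mem' := fun {a} ha => show a.symm e = e from a.injective (by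
            rw [RingEquiv.apply_symm_apply]; exact ha.symm) }
      have hmem : σ ∈ St := by
        have h1 : σ ^ k ∈ St := hEk
        obtain ⟨i, hi⟩ := exists_pow_eq_self_of_coprime (x := σ) (n := k)
          (((hq.coprime_iff_not_dvd.2 hk).symm).coprime_dvd_right (orderOf_dvd_of_pow_eq_one hσ))
        exact hi ▸ pow_mem h1 i
      obtain ⟨c, hc⟩ := hfix e hmem
      rcases intCast_mul_idempotent (p := p) (e := (1 : R)) (one_mul 1) (c := c)
        (by simp only [mul_one]; rw [← hc, hee]) with h | h
      · exact he0 (by rw [hc, ← mul_one (c : R), h])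
      · exact he1 (by rw [hc, ← mul_one (c : R), h])
    have horth : ∀ k, ¬ q ∣ k → e * E k = 0 := by
      intro k hk
      have hEE : E k * E k = E k := by rw [hE]; simp only; rw [← map_mul, hee]
      have hf : e * E k * (e * E k) = e * E k := by rw [mul_mul_mul_comm, hee, hEE]
      rcases hminimal _ hf (by rw [← mul_assoc, hee]) with h | h
      · exact h
      · exfalso
        refine hσfix k hk ?_
        -- `e ≤ E k` and both are minimal
        have h1 : (σ ^ k)⁻¹ e * e = (σ ^ k)⁻¹ e := by
          have h2 := congrArg ((σ ^ k)⁻¹ : RingAut R) h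
          rw [map_mul, hE] at h2
          simp only at h2
          rwa [← RingAut.mul_apply, inv_mul_cancel, RingAut.one_apply] at h2
        rcases hminimal ((σ ^ k)⁻¹ e) (by rw [← map_mul, hee]) (by rw [mul_comm, h1]) with h3 | h3
        · exact absurd ((map_eq_zero_iff _ (RingEquiv.injective _)).1 h3) he0
        · rw [hE]
          simp only
          conv_lhs => rw [← h3]
          rw [← RingAut.mul_apply, mul_inv_cancel, RingAut.one_apply]
    have hsum : ∀ x : R, σ (∑ i ∈ Finset.range q, (σ ^ i) x) =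
        ∑ i ∈ Finset.range q, (σ ^ i) x := by
      intro x
      rw [map_sum]
      have h3 := Finset.sum_range_succ' (fun i => (σ ^ i) x) q
      rw [Finset.sum_range_succ, hσ, pow_zero] at h3
      refine Eq.trans (Finset.sum_congr rfl fun i _ => ?_) (add_right_cancel h3).symm
      rw [pow_succ', RingAut.mul_apply]
    have hline : ∀ x : R, e * x = x → ∃ c : ℤ, x = (c : R) * e ∧
        ∑ i ∈ Finset.range q, (σ ^ i) x = (c : R) := by
      intro x hx
      obtain ⟨c, hc⟩ := hfix _ (hsum x)
      refine ⟨c, ?_, hc⟩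
      rw [← hc, mul_comm, Finset.mul_sum]
      rw [Finset.sum_eq_single 0 (fun i hi hi0 => ?_)
        (fun h => absurd (Finset.mem_range.2 hq.pos) h)]
      · rw [pow_zero, RingAut.one_apply, hx]
      · have hi' : ¬ q ∣ i := fun h => hi0 (Nat.eq_zero_of_dvd_of_lt h (Finset.mem_range.1 hi))
        rw [← hx, map_mul, ← mul_assoc, show e * (σ ^ i) e = 0 from horth i hi', zero_mul]
    have hone : ∑ i ∈ Finset.range q, E i = 1 := by
      obtain ⟨c, hc, hcs⟩ := hline e hee
      have h0 : ((c - 1 : ℤ) : R) * e * (((c - 1 : ℤ) : R) * e) = ((c - 1 : ℤ) : R) * e := by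
        rw [Int.cast_sub, Int.cast_one, sub_mul, ← hc, one_mul, sub_self, mul_zero]
      by_cases hc0 : ((c - 1 : ℤ) : R) = 0
      · rw [Int.cast_sub, Int.cast_one, sub_eq_zero] at hc0
        rw [hE]; simp only; rw [hcs, hc0]
      · exfalso
        have hu : IsUnit ((c - 1 : ℤ) : R) := by
          have hc' : ((c - 1 : ℤ) : ZMod p) ≠ 0 := fun h0 => hc0 (by
            rw [← map_intCast (ZMod.castHom (dvd_refl p) R) (c - 1), h0, map_zero])
          have h1 := (Ne.isUnit hc').map (ZMod.castHom (dvd_refl p) R)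
          rwa [map_intCast] at h1
        refine he0 (hu.mul_left_cancel ?_)
        rw [mul_zero, Int.cast_sub, Int.cast_one, sub_mul, ← hc, one_mul, sub_self]
    have hcoord : ∀ (r : R) (i : ℕ), ∃ c : ℤ, r * E i = (c : R) * E i := by
      intro r i
      obtain ⟨c, hc, -⟩ := hline (e * (σ ^ i)⁻¹ r) (by rw [← mul_assoc, hee])
      refine ⟨c, ?_⟩
      have h := congrArg (σ ^ i : RingAut R) hc
      rw [map_mul, map_mul, map_intCast, ← RingAut.mul_apply, mul_inv_cancel, RingAut.one_apply] at h
      rw [mul_comm r]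
      exact h
    -- `ι e` is one of the `E k`
    have hιι : ∀ x, ι (ι x) = x := fun x => RingEquiv.congr_fun hι x
    have hιe0 : ι e ≠ 0 := fun h => he0 (by rw [← hιι e, h, map_zero])
    obtain ⟨k, hkq, hk⟩ : ∃ k ∈ Finset.range q, ι e * E k ≠ 0 := by
      by_contra hall
      push Not at hall
      apply hιe0
      rw [← mul_one (ι e), ← hone, Finset.mul_sum]
      exact Finset.sum_eq_zero hall
    have hEE : ∀ i, E i * E i = E i := fun i => by rw [hE]; simp only; rw [← map_mul, hee]
    have hk1 : ι e * E k = E k := by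
      obtain ⟨c, hc⟩ := hcoord (ι e) k
      refine hc.trans ((intCast_mul_idempotent (p := p) (hEE k) ?_).resolve_left (hc ▸ hk))
      rw [← hc, mul_mul_mul_comm, ← map_mul, hee, hEE]
    have hk2 : ι (E k) = e := by
      have h := congrArg ι hk1
      rw [map_mul, hιι] at h
      rcases hminimal (ι (E k)) (by rw [← map_mul, hEE]) h with h0 | h0
      · exact absurd (by rw [← hιι (E k), h0, map_zero]) (fun h1 : E k = 0 =>
          he0 ((map_eq_zero_iff _ (RingEquiv.injective (σ ^ k))).1 h1))
      · exact h0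
    have hιe : ι e = E k := by rw [← hk2, hιι]
    have hcommE : ∀ i, ι (E i) = E (i + k) := fun i => by
      rw [hE]
      simp only
      rw [← RingAut.mul_apply, ← (hcomm.pow_left i).eq, RingAut.mul_apply, hιe, hE]
      simp only
      rw [← RingAut.mul_apply, ← pow_add]
    have hdvd : q ∣ k + k := by
      by_contra h
      exact hσfix _ h ((hcommE k).symm.trans hk2)
    have hk0 : k = 0 := by
      have h2 : q ∣ 2 * k := by rwa [two_mul]
      rcases hq.dvd_mul.1 h2 with h | h
      · exact absurd ((Nat.prime_dvd_prime_iff_eq hq Nat.prime_two).1 h) hq2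
      · exact Nat.eq_zero_of_dvd_of_lt h (Finset.mem_range.1 hkq)
    refine RingEquiv.ext fun r => ?_
    rw [RingAut.one_apply]
    choose c hc using fun i => hcoord r i
    have hr : r = ∑ i ∈ Finset.range q, (c i : R) * E i := by
      rw [← Finset.sum_congr rfl fun i _ => hc i, ← Finset.mul_sum, hone, mul_one]
    rw [hr, map_sum]
    refine Finset.sum_congr rfl fun i _ => ?_
    rw [map_mul, map_intCast, hcommE, hk0, add_zero]

end Ring

section Forms

variable {p q : ℕ} [hp : Fact p.Prime] {V Z A : Type*} [AddCommGroup V] [AddCommGroup Z] [Finite V]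
  [Group A] [Finite A]

/-- A group `A` of odd order whose image in the endomorphisms of `V` is commutative and normalized
by `σ`, preserving a non-degenerate biadditive pairing, acts trivially. -/
theorem forms_trivial (hq : q.Prime) (hq2 : q ≠ 2) (hcard : Nat.card V = p ^ q)
    (hpV : ∀ v : V, p • v = 0) (hA : Odd (Nat.card A)) (hpA : p.Coprime (Nat.card A))
    (ρ : A →* AddMonoid.End V) (hρ : ∀ a b, ρ a * ρ b = ρ b * ρ a)
    (σ τ : AddMonoid.End V) (hστ : σ * τ = 1) (hτσ : τ * σ = 1) (hσ : σ ^ q = 1)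
    (act : A → A) (hact : ∀ a, σ * ρ a * τ = ρ (act a)) (hactinv : ∀ a, act a⁻¹ = (act a)⁻¹)
    {v0 : V} (hσ0 : σ v0 = v0) (hfix : ∀ v, σ v = v → ∃ c : ℤ, v = c • v0)
    (hgen : ∀ N : AddSubgroup V, (∀ a, ∀ v ∈ N, ρ a v ∈ N) → (∀ v ∈ N, σ v ∈ N) →
      v0 ∈ N → N = ⊤)
    (β : V →+ V →+ Z)
    (hnr : ∀ w, (∀ v, β v w = 0) → w = 0) (hβ : ∀ a v w, β (ρ a v) (ρ a w) = β v w) :
    ∀ a, ρ a = 1 := by
  classical
  set S : Set (AddMonoid.End V) := Set.range ρ with hS
  have hScomm : ∀ x ∈ S, ∀ y ∈ S, x * y = y * x := by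
    rintro _ ⟨a, rfl⟩ _ ⟨b, rfl⟩
    exact hρ a b
  set R := Subring.closure S with hR
  haveI := Subring.isMulCommutative_closure hScomm
  letI : CommRing R :=
    { (inferInstance : Ring R) with mul_comm := fun a b => IsMulCommutative.is_comm.comm a b }
  haveI : Finite (AddMonoid.End V) := Finite.of_injective (fun f => (f : V → V))
    DFunLike.coe_injective
  have hmemS : ∀ a, ρ a ∈ R := fun a => Subring.subset_closure ⟨a, rfl⟩
  -- conjugation by `σ`
  let cσ : AddMonoid.End V →+* AddMonoid.End V :=
    { toFun := fun f => σ * f * τ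
      map_one' := by rw [mul_one, hστ]
      map_mul' := fun f g => by
        calc σ * (f * g) * τ = σ * f * (τ * σ) * (g * τ) := by rw [hτσ, mul_one]; simp only [mul_assoc]
          _ = σ * f * τ * (σ * g * τ) := by simp only [mul_assoc]
      map_zero' := by rw [mul_zero, zero_mul]
      map_add' := fun f g => by rw [mul_add, add_mul] }
  have hcσ : ∀ r ∈ R, cσ r ∈ R := by
    intro r hr
    have h : Subring.closure S ≤ R.comap cσ := Subring.closure_le.2 (by
      rintro _ ⟨a, rfl⟩
      show σ * ρ a * τ ∈ R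
      rw [hact]
      exact hmemS _)
    exact h hr
  -- evaluation at `v0`
  let ev : R →+ V :=
    { toFun := fun r => (r : AddMonoid.End V) v0
      map_zero' := rfl
      map_add' := fun _ _ => rfl }
  have hsurj : Function.Surjective ev := by
    rw [← AddMonoidHom.range_eq_top]
    refine hgen _ ?_ ?_ ⟨1, rfl⟩
    · rintro a _ ⟨r, rfl⟩
      exact ⟨⟨ρ a, hmemS a⟩ * r, rfl⟩
    · rintro _ ⟨r, rfl⟩
      refine ⟨⟨cσ r, hcσ r r.2⟩, ?_⟩
      show σ ((r : AddMonoid.End V) (τ v0)) = σ ((r : AddMonoid.End V) v0)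
      have hτ0 : τ v0 = v0 := by
        conv_lhs => rw [← hσ0]
        exact DFunLike.congr_fun hτσ v0
      rw [hτ0]
  have hinj : Function.Injective ev := by
    rw [injective_iff_map_eq_zero]
    intro r hr
    refine Subtype.ext (DFunLike.ext _ _ fun v => ?_)
    obtain ⟨s, rfl⟩ := hsurj v
    have h : r * s = s * r := mul_comm r s
    have h' : (r : AddMonoid.End V) * s = (s : AddMonoid.End V) * r := congrArg Subtype.val h
    show (r : AddMonoid.End V) ((s : AddMonoid.End V) v0) = 0
    rw [show (r : AddMonoid.End V) ((s : AddMonoid.End V) v0) = (s : AddMonoid.End V) (ev r) from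
      DFunLike.congr_fun h' v0, hr, map_zero]
  have hRcard : Nat.card R = p ^ q :=
    (Nat.card_congr (Equiv.ofBijective ev ⟨hinj, hsurj⟩)).trans hcard
  haveI : Nontrivial R := by
    refine Finite.one_lt_card_iff_nontrivial.1 ?_
    rw [hRcard]
    exact Nat.one_lt_pow hq.ne_zero hp.out.one_lt
  haveI : CharP R p := (CharP.charP_iff_prime_eq_zero hp.out).2 (hinj (by
    rw [map_zero, ← nsmul_one, map_nsmul]
    exact hpV _))
  -- `σ` on `R`
  let sR0 : R →+* R := cσ.restrict R R hcσ
  have hsR0 : ∀ r : R, ((sR0 r : R) : AddMonoid.End V) = σ * r * τ := fun r => rfl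
  have hsinj : Function.Injective sR0 := fun r s h => Subtype.ext (by
    have h1 : σ * (r : AddMonoid.End V) * τ = σ * s * τ := congrArg Subtype.val h
    calc (r : AddMonoid.End V) = τ * (σ * r * τ) * σ := by
          rw [← mul_assoc, ← mul_assoc, hτσ, one_mul, mul_assoc, hτσ, mul_one]
      _ = τ * (σ * s * τ) * σ := by rw [h1]
      _ = s := by rw [← mul_assoc, ← mul_assoc, hτσ, one_mul, mul_assoc, hτσ, mul_one])
  let sR : RingAut R := RingEquiv.ofBijective sR0 ⟨hsinj, Finite.injective_iff_surjective.1 hsinj⟩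
  have hτpow : τ ^ q = 1 := by
    have h1 : σ ^ q * τ ^ q = 1 := by
      rw [← (show Commute σ τ from hστ.trans hτσ.symm).mul_pow, hστ, one_pow]
    rwa [hσ, one_mul] at h1
  have hpow : ∀ (n : ℕ) (r : R), (((sR ^ n) r : R) : AddMonoid.End V) = σ ^ n * r * τ ^ n := by
    intro n
    induction n with
    | zero =>
      intro r
      rw [pow_zero, pow_zero, pow_zero, one_mul, mul_one, RingAut.one_apply]
    | succ n ih =>
      intro r
      rw [pow_succ sR, RingAut.mul_apply, ih, pow_succ σ, pow_succ' τ]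
      show σ ^ n * (σ * (r : AddMonoid.End V) * τ) * τ ^ n = _
      simp only [mul_assoc]
  have hsR : sR ^ q = 1 := RingEquiv.ext fun r => Subtype.ext (by
    rw [hpow, hσ, hτpow, one_mul, mul_one, RingAut.one_apply])
  have hsfix : ∀ r : R, sR r = r → ∃ c : ℤ, r = (c : R) := by
    intro r hr
    have h1 : σ * (r : AddMonoid.End V) * τ = r := congrArg Subtype.val hr
    have h2 : σ * (r : AddMonoid.End V) = r * σ := by
      calc σ * (r : AddMonoid.End V) = σ * r * (τ * σ) := by rw [hτσ, mul_one]
        _ = r * σ := by rw [← mul_assoc, h1]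
    have h3 : σ (ev r) = ev r := by
      show σ ((r : AddMonoid.End V) v0) = (r : AddMonoid.End V) v0
      rw [show σ ((r : AddMonoid.End V) v0) = (r : AddMonoid.End V) (σ v0) from
        DFunLike.congr_fun h2 v0, hσ0]
    obtain ⟨c, hc⟩ := hfix _ h3
    refine ⟨c, hinj (hc.trans ?_)⟩
    rw [← zsmul_one, map_zsmul]
    rfl
  have htop : Subring.closure {r : R | (r : AddMonoid.End V) ∈ S} = ⊤ := by
    refine eq_top_iff.2 ?_
    rintro ⟨r, hr⟩ -
    induction hr using Subring.closure_induction with
    | mem x hx => exact Subring.subset_closure hx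
    | zero => exact zero_mem _
    | one => exact one_mem _
    | add x y hx hy ihx ihy => exact add_mem ihx ihy
    | neg x hx ihx => exact neg_mem ihx
    | mul x y hx hy ihx ihy => exact mul_mem ihx ihy
  -- Frobenius
  have hfrob : ∃ N : ℕ, 0 < N ∧ ∀ r : R, r ^ p ^ N = r := by
    refine ⟨Nat.totient (Nat.card A), Nat.totient_pos.2 Nat.card_pos, fun r => ?_⟩
    have h1 : ∀ a : A, a ^ p ^ Nat.totient (Nat.card A) = a := fun a => by
      conv_rhs => rw [← pow_one a]
      exact pow_eq_pow_iff_modEq.2 ((Nat.ModEq.pow_totient hpA).of_dvd (orderOf_dvd_natCard a))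
    have heq : Set.EqOn (iterateFrobenius R p (Nat.totient (Nat.card A))) (RingHom.id R)
        {r : R | (r : AddMonoid.End V) ∈ S} := by
      rintro r ⟨a, ha⟩
      refine Subtype.ext ?_
      rw [iterateFrobenius_def, SubmonoidClass.coe_pow, ← ha, ← map_pow, h1, RingHom.id_apply, ha]
    exact RingHom.eqOn_set_closure heq (htop ▸ Subring.mem_top r)
  -- the adjoint
  have hex : ∀ r : R, ∃ r' : R, ∀ v w, β ((r : AddMonoid.End V) v) w =
      β v ((r' : AddMonoid.End V) w) := by
    rintro ⟨r, hr⟩
    induction hr using Subring.closure_induction with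
    | mem x hx =>
      obtain ⟨a, rfl⟩ := hx
      refine ⟨⟨ρ a⁻¹, hmemS _⟩, fun v w => ?_⟩
      rw [← hβ a⁻¹]
      show β ((ρ a⁻¹ * ρ a) v) _ = _
      rw [← map_mul, inv_mul_cancel, map_one]
      rfl
    | zero => exact ⟨0, fun v w => by simp⟩
    | one => exact ⟨1, fun v w => rfl⟩
    | add x y hx hy ihx ihy =>
      obtain ⟨x', hx'⟩ := ihx
      obtain ⟨y', hy'⟩ := ihy
      exact ⟨x' + y', fun v w => by
        show β (x v + y v) w = β v ((x' : AddMonoid.End V) w + (y' : AddMonoid.End V) w)
        rw [map_add, AddMonoidHom.add_apply, hx', hy', map_add]⟩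
    | neg x hx ihx =>
      obtain ⟨x', hx'⟩ := ihx
      exact ⟨-x', fun v w => by
        show β (-(x v)) w = β v (-((x' : AddMonoid.End V) w))
        rw [map_neg, AddMonoidHom.neg_apply, hx', map_neg]⟩
    | mul x y hx hy ihx ihy =>
      obtain ⟨x', hx'⟩ := ihx
      obtain ⟨y', hy'⟩ := ihy
      exact ⟨y' * x', fun v w => by
        show β (x (y v)) w = β v ((y' : AddMonoid.End V) ((x' : AddMonoid.End V) w))
        rw [hx', hy']⟩
  choose adj hadj using hex
  have huniq : ∀ (r r' : R), (∀ v w, β ((r : AddMonoid.End V) v) w =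
      β v ((r' : AddMonoid.End V) w)) → adj r = r' := by
    intro r r' h
    refine Subtype.ext (DFunLike.ext _ _ fun w => ?_)
    refine sub_eq_zero.1 (hnr _ fun v => ?_)
    rw [map_sub, ← hadj, ← h, sub_self]
  let ι0 : R →+* R :=
    { toFun := adj
      map_one' := huniq _ _ fun _ _ => rfl
      map_mul' := fun x y => huniq _ _ fun v w => by
        rw [mul_comm (adj x)]
        show β ((x : AddMonoid.End V) ((y : AddMonoid.End V) v)) w =
          β v ((adj y : AddMonoid.End V) ((adj x : AddMonoid.End V) w))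
        rw [hadj, hadj]
      map_zero' := huniq _ _ fun v w => by simp
      map_add' := fun x y => huniq _ _ fun v w => by
        show β ((x : AddMonoid.End V) v + (y : AddMonoid.End V) v) w =
          β v ((adj x : AddMonoid.End V) w + (adj y : AddMonoid.End V) w)
        rw [map_add, AddMonoidHom.add_apply, hadj, hadj, map_add] }
  have hιgen : ∀ a, ι0 ⟨ρ a, hmemS a⟩ = ⟨ρ a⁻¹, hmemS _⟩ := fun a => huniq _ _ fun v w => by
    rw [← hβ a⁻¹]
    show β ((ρ a⁻¹ * ρ a) v) _ = _
    rw [← map_mul, inv_mul_cancel, map_one]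
    rfl
  have hext : ∀ f g : R →+* R, (∀ a, f ⟨ρ a, hmemS a⟩ = g ⟨ρ a, hmemS a⟩) → f = g := by
    intro f g h
    refine RingHom.eq_of_eqOn_set_top ?_
    rw [← htop]
    refine RingHom.eqOn_set_closure fun r hr => ?_
    obtain ⟨a, ha⟩ := hr
    obtain rfl : (⟨ρ a, hmemS a⟩ : R) = r := Subtype.ext ha
    exact h a
  have hιι : ι0.comp ι0 = RingHom.id R := hext _ _ fun a => by
    rw [RingHom.comp_apply, hιgen, hιgen, RingHom.id_apply]
    exact Subtype.ext (by simp)
  let ιR : RingAut R := RingEquiv.ofRingHom ι0 ι0 hιι hιι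
  have hιR : ιR * ιR = 1 := RingEquiv.ext fun r => DFunLike.congr_fun hιι r
  have hsgen : ∀ a, sR0 ⟨ρ a, hmemS a⟩ = ⟨ρ (act a), hmemS _⟩ := fun a => Subtype.ext (hact a)
  have hcommR : Commute sR ιR := RingEquiv.ext fun r => DFunLike.congr_fun (hext
    (sR0.comp ι0) (ι0.comp sR0) fun a => by
      rw [RingHom.comp_apply, RingHom.comp_apply, hιgen, hsgen, hsgen, hιgen, hactinv]) r
  have h1 := involution_eq_one (p := p) hq hq2 hRcard hfrob sR ιR hsR hsfix hcommR hιR
  intro a
  have h2 : (ρ a⁻¹) = ρ a := congrArg Subtype.val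
    ((hιgen a).symm.trans (RingEquiv.congr_fun h1 ⟨ρ a, hmemS a⟩))
  have h3 : ρ a ^ 2 = 1 := by
    rw [pow_two]
    conv_lhs => arg 1; rw [← h2]
    rw [← map_mul, inv_mul_cancel, map_one]
  have h4 : ρ a ^ Nat.card A = 1 := by rw [← map_pow, pow_card_eq_one', map_one]
  obtain ⟨k, hk⟩ := hA
  rwa [hk, pow_succ, pow_mul, h3, one_pow, one_mul] at h4

end Forms

end CfsgLib.OddOrder
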