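import Cfsg.Agent.OddOrder.PF10.Structure
import Cfsg.Agent.OddOrder.PF10.RingInvolution
import Cfsg.Agent.Coprime.Abelian

/-!
# The forms argument for the chief factor

`TypeP.abelian_of_forms`: if `|W₁|`, `|W₂|` are prime and `[H,U] H' = H`, then `H = M_F` is
elementary abelian of order `|W₂| ^ |W₁|`.  Otherwise the commutator map would be a non-degenerate
`U`-invariant pairing on the chief factor with values in a trivial `U`-module, which a group of odd
order cannot preserve.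
-/

set_option autoImplicit false
set_option linter.style.haveILetI false

open scoped commutatorElement

namespace CfsgLib.OddOrder

open Cfsg Subgroup

variable {G : Type*} [Group G] [Finite G] {M W₁ U W₂ : Subgroup G}

namespace TypeP

variable (hP : Cfsg.IsTypePWith M W₁ U W₂)
include hP

omit [Finite G] in
/-- Conjugation of `H / Y` by elements of `M`. -/
theorem exists_conjQuot {Y : Subgroup G} [(Y.subgroupOf (Cfsg.fittingHallOf M)).Normal]
    (hYM : M ≤ normalizer (Y : Set G)) :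
    ∃ φ : M →* Monoid.End (↥(Cfsg.fittingHallOf M) ⧸ Y.subgroupOf (Cfsg.fittingHallOf M)),
      ∀ (g : M) (a b : ↥(Cfsg.fittingHallOf M)), (b : G) = g * a * (g : G)⁻¹ →
        φ g (a : ↥(Cfsg.fittingHallOf M) ⧸ Y.subgroupOf (Cfsg.fittingHallOf M)) =
          (b : ↥(Cfsg.fittingHallOf M) ⧸ Y.subgroupOf (Cfsg.fittingHallOf M)) := by
  have _ := hP
  set H := Cfsg.fittingHallOf M with hH
  set Y' := Y.subgroupOf H
  let c : M → (↥H →* ↥H) := fun g =>
    { toFun := fun a => ⟨g * a * (g : G)⁻¹, mul_mem_conj (le_normalizer_fittingHallOf M g.2) a.2⟩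
      map_one' := Subtype.ext (by simp)
      map_mul' := fun a b => Subtype.ext (by simp [mul_assoc]) }
  have hc : ∀ g, Y' ≤ Y'.comap (c g) := fun g a ha =>
    mem_subgroupOf.2 (mul_mem_conj (hYM g.2) (mem_subgroupOf.1 ha))
  refine ⟨{ toFun := fun g => QuotientGroup.map Y' Y' (c g) (hc g), map_one' := ?_, map_mul' := ?_ },
    fun g a b h => ?_⟩
  · refine MonoidHom.ext fun x => ?_
    induction x using QuotientGroup.induction_on with
    | H a =>
      show (((c 1) a : ↥H) : ↥H ⧸ Y') = a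
      exact congrArg _ (Subtype.ext (by simp [c]))
  · intro g k
    refine MonoidHom.ext fun x => ?_
    induction x using QuotientGroup.induction_on with
    | H a =>
      show (((c (g * k)) a : ↥H) : ↥H ⧸ Y') = ((c g (c k a) : ↥H) : ↥H ⧸ Y')
      exact congrArg _ (Subtype.ext (by simp [c, mul_assoc]))
  · show (((c g) a : ↥H) : ↥H ⧸ Y') = b
    exact congrArg _ (Subtype.ext h.symm)

/-- The forms argument: if `[H,U] H' = H` then `H` is elementary abelian of order
`|W₂| ^ |W₁|`. -/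
theorem abelian_of_forms (hodd : Odd (Nat.card G)) (hp : (Nat.card W₂).Prime)
    (hq : (Nat.card W₁).Prime) (hU : U ≠ ⊥)
    (hHU : ⁅Cfsg.fittingHallOf M, U⁆ ⊔ ⁅Cfsg.fittingHallOf M, Cfsg.fittingHallOf M⁆ =
      Cfsg.fittingHallOf M) :
    chiefY M U = ⊥ ∧ Cfsg.IsElementaryAbelian (Nat.card W₂) (Cfsg.fittingHallOf M) ∧
      Nat.card (Cfsg.fittingHallOf M) = Nat.card W₂ ^ Nat.card W₁ := by
  set H := Cfsg.fittingHallOf M with hH
  set Y := chiefY M U with hY
  have hd := chiefData hP hp hU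
  have hHM : M ≤ normalizer (H : Set G) := le_normalizer_fittingHallOf M
  have hHle : H ≤ M := fittingHallOf_le M
  have hUM : U ≤ M := typeP_U_le hP
  have hHeq : ⁅H, U⁆ = H := by
    refine le_antisymm (Coprime.commutator_le_of_le_normalizer (hUM.trans hHM)) ?_
    exact le_of_le_sup_commutator (H_nilpotent hP) le_rfl
      (Coprime.commutator_le_of_le_normalizer (hUM.trans hHM))
      (le_sup_left.trans (Coprime.sup_le_normalizer_commutator H U)) hHU.ge
  -- `Y` is central in `H`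
  have hYcen : ⁅H, Y⁆ = ⊥ := by
    conv_lhs => rw [← hHeq]
    refine commutator_commutator_eq_bot_of_rotate ?_ ?_
    · rw [commutator_eq_bot_iff_le_centralizer.2 (le_centralizer_iff.1 hd.centralized),
        commutator_bot_left]
    · rw [eq_bot_iff, ← commutator_eq_bot_iff_le_centralizer.2 hd.centralized]
      exact commutator_mono (le_normalizer_iff_commutator_le_left.1 (hHle.trans hd.normal)) le_rfl
  have hfinal : IsMulCommutative H → Y = ⊥ ∧ Cfsg.IsElementaryAbelian (Nat.card W₂) H ∧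
      Nat.card H = Nat.card W₂ ^ Nat.card W₁ := by
    intro hab
    haveI := hab
    have hbot : Y = ⊥ := by
      have h := Coprime.inf_centralizer_inf_commutator_eq_bot (hUM.trans hHM) (coprime_U_H hP)
      rw [hHeq] at h
      rw [eq_bot_iff]
      exact fun y hy => h.le ⟨⟨hd.le hy, hd.centralized hy⟩, hd.le hy⟩
    refine ⟨hbot, ⟨hab, fun a ha => ?_⟩, ?_⟩
    · have h := hd.pow_mem a ha
      rwa [← hY, hbot, mem_bot] at h
    · rw [hd.card, ← hY, hbot, Subgroup.card_bot, one_mul]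
  refine hfinal ?_
  by_contra hnab
  -- the centre of `H` is `Y`
  have hYle : Y ≤ centralizer (H : Set G) :=
    le_centralizer_iff.1 (commutator_eq_bot_iff_le_centralizer.1 hYcen)
  have hCn : M ≤ normalizer ((H ⊓ centralizer (H : Set G) : Subgroup G) : Set G) := fun m hm =>
    inf_normalizer_le_normalizer_inf
      ⟨hHM hm, normalizer_le_normalizer_centralizer_subgroup _ (hHM hm)⟩
  have hZ : H ⊓ centralizer (H : Set G) = Y := by
    rcases hd.chief _ (le_inf hd.le hYle) inf_le_left hCn with h | h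
    · exact h
    · refine absurd ⟨⟨fun a b => Subtype.ext ?_⟩⟩ hnab
      exact mem_centralizer_iff.1 ((h.ge b.2).2) a a.2
  set p := Nat.card W₂ with hpdef
  haveI := Fact.mk hp
  set Y' := Y.subgroupOf H with hY'
  haveI : Y'.Normal := (normal_subgroupOf_iff_le_normalizer hd.le).2 (hHle.trans hd.normal)
  obtain ⟨φ, hφ⟩ := exists_conjQuot hP (Y := Y) hd.normal
  letI : CommGroup (↥H ⧸ Y') :=
    { (inferInstance : Group (↥H ⧸ Y')) with
      mul_comm := fun a b => by
        induction a using QuotientGroup.induction_on with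
        | H a =>
          induction b using QuotientGroup.induction_on with
          | H b =>
            rw [← QuotientGroup.mk_mul, ← QuotientGroup.mk_mul, QuotientGroup.eq, mem_subgroupOf]
            have h := hd.comm_mem _ (inv_mem b.2) _ (inv_mem a.2)
            simpa [commutatorElement_def, mul_assoc] using h }
  -- the commutator pairing
  have hcz : ∀ a b : ↥H, ⁅(a : G), (b : G)⁆ ∈ Y := fun a b => hd.comm_mem _ a.2 _ b.2
  have hcenter : ∀ y ∈ Y, ∀ a ∈ H, a * y = y * a := fun y hy a ha =>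
    mem_centralizer_iff.1 (hYle hy) a ha
  have hadd : ∀ a b c : ↥H, ⁅(a : G), ((b * c : ↥H) : G)⁆ = ⁅(a : G), (b : G)⁆ * ⁅(a : G), (c : G)⁆ := by
    intro a b c
    rw [Subgroup.coe_mul]
    calc ⁅(a : G), (b : G) * c⁆ = ⁅(a : G), (b : G)⁆ * ((b : G) * ⁅(a : G), (c : G)⁆ * (b : G)⁻¹) := by
          simp [commutatorElement_def, mul_assoc]
      _ = _ := by rw [hcenter _ (hcz a c) b b.2, mul_inv_cancel_right]
  have hadd' : ∀ a b c : ↥H, ⁅((a * b : ↥H) : G), (c : G)⁆ = ⁅(a : G), (c : G)⁆ * ⁅(b : G), (c : G)⁆ := by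
    intro a b c
    rw [Subgroup.coe_mul]
    calc ⁅(a : G) * b, (c : G)⁆ = ((a : G) * ⁅(b : G), (c : G)⁆ * (a : G)⁻¹) * ⁅(a : G), (c : G)⁆ := by
          simp [commutatorElement_def, mul_assoc]
      _ = _ := by
        rw [hcenter _ (hcz b c) a a.2, mul_inv_cancel_right,
          ← hcenter _ (hcz a c) _ (hd.le (hcz b c))]
  haveI : IsMulCommutative Y := ⟨⟨fun a b => Subtype.ext (hcenter _ b.2 _ (hd.le a.2))⟩⟩
  letI : CommGroup Y :=
    { (inferInstance : Group Y) with mul_comm := fun a b => IsMulCommutative.is_comm.comm a b }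
  let f0 : ↥H → (↥H →* Y) := fun a =>
    { toFun := fun b => ⟨⁅(a : G), (b : G)⁆, hcz a b⟩
      map_one' := Subtype.ext (by simp [commutatorElement_def])
      map_mul' := fun b c => Subtype.ext (hadd a b c) }
  have hker : ∀ a, Y' ≤ (f0 a).ker := fun a b hb => MonoidHom.mem_ker.2 (Subtype.ext
    (commutatorElement_eq_one_iff_mul_comm.2 (hcenter _ (mem_subgroupOf.1 hb) _ a.2)))
  let f1 : ↥H →* ((↥H ⧸ Y') →* Y) :=
    { toFun := fun a => QuotientGroup.lift Y' (f0 a) (hker a)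
      map_one' := MonoidHom.ext fun x => by
        induction x using QuotientGroup.induction_on with
        | H b => exact Subtype.ext (by simp [f0, commutatorElement_def])
      map_mul' := fun a c => MonoidHom.ext fun x => by
        induction x using QuotientGroup.induction_on with
        | H b => exact Subtype.ext (hadd' a c b) }
  have hker1 : Y' ≤ f1.ker := fun a ha => MonoidHom.mem_ker.2 (MonoidHom.ext fun x => by
    induction x using QuotientGroup.induction_on with
    | H b => exact Subtype.ext (commutatorElement_eq_one_iff_mul_comm.2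
        (hcenter _ (mem_subgroupOf.1 ha) _ b.2).symm))
  let f := QuotientGroup.lift Y' f1 hker1
  let β : Additive (↥H ⧸ Y') →+ Additive (↥H ⧸ Y') →+ Additive Y :=
    { toFun := fun x => MonoidHom.toAdditive (f x.toMul)
      map_zero' := AddMonoidHom.ext fun w => by
        show Additive.ofMul (f (1 : ↥H ⧸ Y') w.toMul) = 0
        rw [map_one]
        rfl
      map_add' := fun x y => AddMonoidHom.ext fun w => by
        show Additive.ofMul (f (x.toMul * y.toMul) w.toMul) = _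
        rw [map_mul]
        rfl }
  let mk : ↥H → Additive (↥H ⧸ Y') := fun a => Additive.ofMul (a : ↥H ⧸ Y')
  have hmk : ∀ v, ∃ a, mk a = v := fun v => (QuotientGroup.mk'_surjective Y' v.toMul).imp fun a ha =>
    congrArg Additive.ofMul ha
  have hβmk : ∀ a b, β (mk a) (mk b) = Additive.ofMul (⟨⁅(a : G), (b : G)⁆, hcz a b⟩ : Y) :=
    fun _ _ => rfl
  -- `W₁ = ⟨w⟩`, the fixed vector
  obtain ⟨w, hw, hw1⟩ := W₁.bot_or_exists_ne_one.resolve_left hP.W₁_ne
  have hwq : w ^ Nat.card W₁ = 1 := congrArg Subtype.val (pow_card_eq_one' (x := (⟨w, hw⟩ : W₁)))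
  have hWgen : ∀ v ∈ W₁, ∃ k : ℕ, v = w ^ k := by
    intro v hv
    haveI := Fact.mk hq
    have hmem : (⟨v, hv⟩ : W₁) ∈ zpowers (⟨w, hw⟩ : W₁) :=
      mem_zpowers_of_prime_card rfl fun e => hw1 (congrArg Subtype.val e)
    obtain ⟨k, hk⟩ := mem_powers_iff_mem_zpowers.2 hmem
    exact ⟨k, (congrArg Subtype.val hk).symm⟩
  obtain ⟨x₀, hx₀, hx₀1⟩ := W₂.bot_or_exists_ne_one.resolve_left (fun h => by
    rw [hpdef, h, Subgroup.card_bot] at hp
    exact Nat.not_prime_one hp)
  have hx₀Y : x₀ ∉ Y := fun h => hx₀1 (by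
    have h2 : x₀ ∈ Y ⊓ W₂ := ⟨h, hx₀⟩
    rwa [hd.inf_W₂, mem_bot] at h2)
  let act0 : M → AddMonoid.End (Additive (↥H ⧸ Y')) := fun g => MonoidHom.toAdditive (φ g)
  have hact0mul : ∀ g k, act0 (g * k) = act0 g * act0 k := fun g k =>
    AddMonoidHom.ext fun v => congrArg Additive.ofMul (DFunLike.congr_fun (map_mul φ g k) v.toMul)
  have hact0one : act0 1 = 1 :=
    AddMonoidHom.ext fun v => congrArg Additive.ofMul (DFunLike.congr_fun (map_one φ) v.toMul)
  have hact0mk : ∀ (g : M) (a b : ↥H), (b : G) = g * a * (g : G)⁻¹ → act0 g (mk a) = mk b :=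
    fun g a b h => congrArg Additive.ofMul (hφ g a b h)
  have hconjH : ∀ (g : M) (a : ↥H), (g : G) * a * (g : G)⁻¹ ∈ H :=
    fun g a => mul_mem_conj (hHM g.2) a.2
  let ρ : U →* AddMonoid.End (Additive (↥H ⧸ Y')) :=
    { toFun := fun u => act0 (Subgroup.inclusion hUM u)
      map_one' := by rw [map_one, hact0one]
      map_mul' := fun a b => by rw [map_mul, hact0mul] }
  have hρC : ∀ u : U, (u : G) ∈ centralizer (H : Set G) → ρ u = 1 := by
    intro u hu
    refine AddMonoidHom.ext fun v => ?_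
    obtain ⟨a, rfl⟩ := hmk v
    refine hact0mk _ a a ?_
    show (a : G) = (u : G) * a * (u : G)⁻¹
    rw [← mem_centralizer_iff.1 hu a a.2, mul_inv_cancel_right]
  have hρcomm : ∀ a b, ρ a * ρ b = ρ b * ρ a := by
    intro a b
    rw [← map_mul, ← map_mul, show a * b = ⁅a, b⁆ * (b * a) by group, map_mul,
      hρC ⁅a, b⁆ ((derived_U_le_kernel hP) (commutator_mem_commutator a.2 b.2)).2, one_mul]
  set wM : M := ⟨w, W₁_le hP hw⟩ with hwM
  have hστ : act0 wM * act0 wM⁻¹ = 1 := by rw [← hact0mul, mul_inv_cancel, hact0one]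
  have hτσ : act0 wM⁻¹ * act0 wM = 1 := by rw [← hact0mul, inv_mul_cancel, hact0one]
  have hpow : ∀ n : ℕ, act0 (wM ^ n) = act0 wM ^ n := by
    intro n
    induction n with
    | zero => rw [pow_zero, pow_zero, hact0one]
    | succ n ih => rw [pow_succ, pow_succ, hact0mul, ih]
  have hσq : act0 wM ^ Nat.card W₁ = 1 := by
    rw [← hpow, show wM ^ Nat.card W₁ = 1 from Subtype.ext (by simpa [hwM] using hwq), hact0one]
  let act : U → U := fun u => ⟨w * u * w⁻¹, mul_mem_conj (hP.U_normal hw) u.2⟩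
  have hact : ∀ u, act0 wM * ρ u * act0 wM⁻¹ = ρ (act u) := fun u => by
    show act0 wM * act0 (Subgroup.inclusion hUM u) * act0 wM⁻¹ = act0 (Subgroup.inclusion hUM (act u))
    rw [← hact0mul, ← hact0mul]
    rfl
  have hcardV : Nat.card (Additive (↥H ⧸ Y')) = p ^ Nat.card W₁ := by
    have h : Nat.card (↥H ⧸ Y') * Nat.card Y = Nat.card H := by
      rw [← Nat.card_congr (subgroupOfEquivOfLe hd.le).toEquiv]
      exact (Subgroup.card_eq_card_quotient_mul_card_subgroup Y').symm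
    rw [hd.card, ← hY, mul_comm (Nat.card Y)] at h
    exact (Nat.card_congr Additive.toMul).trans (Nat.eq_of_mul_eq_mul_right Nat.card_pos h)
  have hσ0 : act0 wM (mk ⟨x₀, W₂_le_H hP hx₀⟩) = mk ⟨x₀, W₂_le_H hP hx₀⟩ := by
    refine hact0mk _ _ _ ?_
    show x₀ = w * x₀ * w⁻¹
    rw [mem_centralizer_iff.1 ((derived_inf_centralizer_W₁ hP).ge hx₀).2 w hw, mul_inv_cancel_right]
  have hρ0 := forms_trivial (p := p) (Z := Additive Y) hq ?hq2 hcardV ?hpV (hodd.of_dvd_nat U.card_subgroup_dvd_card)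
    ?hpA ρ hρcomm (act0 wM) (act0 wM⁻¹) hστ hτσ hσq act hact (fun u => Subtype.ext (by simp [act, mul_assoc]))
    hσ0 ?hfix ?hgen β ?hnr ?hβ
  case hq2 =>
    intro h
    have := hodd.of_dvd_nat W₁.card_subgroup_dvd_card
    rw [h] at this
    exact absurd this (by decide)
  case hpV =>
    intro v
    obtain ⟨a, rfl⟩ := hmk v
    show Additive.ofMul ((a : ↥H ⧸ Y') ^ p) = 0
    rw [← QuotientGroup.mk_pow, (QuotientGroup.eq_one_iff _).2 (mem_subgroupOf.2
      (by simpa using hd.pow_mem _ a.2)), ofMul_one]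
  case hpA =>
    exact ((coprime_U_H hP).coprime_dvd_right (card_dvd_of_le (W₂_le_H hP))).symm
  case hfix =>
    intro v hv
    obtain ⟨a, rfl⟩ := hmk v
    have hwa : ∀ k : ℕ, act0 (wM ^ k) (mk a) = mk a := by
      intro k
      induction k with
      | zero => rw [pow_zero, hact0one]; rfl
      | succ n ih => rw [pow_succ, hact0mul]; show act0 (wM ^ n) (act0 wM (mk a)) = mk a; rw [hv, ih]
    have hcoset : ∀ b ∈ W₁, (a : G)⁻¹ * (b * a * b⁻¹) ∈ Y := by
      intro b hb
      obtain ⟨k, rfl⟩ := hWgen b hb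
      have h := (hact0mk (wM ^ k) a ⟨_, hconjH (wM ^ k) a⟩ rfl).symm.trans (hwa k)
      exact mem_subgroupOf.1 (QuotientGroup.eq.1 (Additive.ofMul.injective h).symm)
    haveI := H_solvable hP
    obtain ⟨c, hcC, hcY⟩ := Coprime.exists_fixed_mem_coset ((W₁_le hP).trans hd.normal)
      ((coprime_W₁_H hP).coprime_dvd_right (card_dvd_of_le hd.le))
      (Or.inr (Coprime.isSolvable_of_le hd.le)) hcoset
    have hcH : c ∈ H := by
      have := mul_mem a.2 (hd.le hcY)
      rwa [mul_inv_cancel_left] at this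
    have hcW : c ∈ W₂ := (derived_inf_centralizer_W₁ hP).le ⟨H_le_derived hP hcH, hcC⟩
    have hmem : (⟨c, hcW⟩ : W₂) ∈ zpowers (⟨x₀, hx₀⟩ : W₂) :=
      mem_zpowers_of_prime_card hpdef.symm fun e => hx₀1 (congrArg Subtype.val e)
    obtain ⟨k, hk⟩ := mem_zpowers_iff.1 hmem
    refine ⟨k, ?_⟩
    show Additive.ofMul (a : ↥H ⧸ Y') = Additive.ofMul (((⟨x₀, W₂_le_H hP hx₀⟩ : ↥H) : ↥H ⧸ Y') ^ k)
    refine congrArg Additive.ofMul ((QuotientGroup.eq.2 ?_).trans (QuotientGroup.mk_zpow _ _ _))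
    rw [mem_subgroupOf]
    simpa [show x₀ ^ k = c from congrArg Subtype.val hk] using hcY
  case hgen =>
    intro N hNU hNσ hN0
    let P : Subgroup G :=
      { carrier := {x | ∃ hx : x ∈ H, mk ⟨x, hx⟩ ∈ N}
        one_mem' := ⟨one_mem H, N.zero_mem⟩
        mul_mem' := fun {a b} ⟨ha, ha'⟩ ⟨hb, hb'⟩ => ⟨mul_mem ha hb, N.add_mem ha' hb'⟩
        inv_mem' := fun {a} ⟨ha, ha'⟩ => ⟨inv_mem ha, N.neg_mem ha'⟩ }
    have hYP : Y ≤ P := fun y hy => ⟨hd.le hy, by
      show Additive.ofMul _ ∈ N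
      rw [(QuotientGroup.eq_one_iff _).2 (mem_subgroupOf.2 hy)]
      exact N.zero_mem⟩
    have hPH : P ≤ H := fun x hx => hx.1
    have hPstep : ∀ g : M, (∀ v ∈ N, act0 g v ∈ N) → (g : G) ∈ normalizer (P : Set G) := by
      intro g hg
      refine mem_normalizer_fintype fun x hx => ?_
      obtain ⟨hxH, hxN⟩ := hx
      exact ⟨hconjH g ⟨x, hxH⟩, hact0mk g ⟨x, hxH⟩ ⟨_, hconjH g ⟨x, hxH⟩⟩ rfl ▸ hg _ hxN⟩
    have hPM : M ≤ normalizer (P : Set G) := by
      intro m hm
      obtain ⟨a, ha, v, hv, rfl⟩ := hP.W₁_compl.2.2.2 m hm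
      obtain ⟨c, hc, u, hu, rfl⟩ := hP.U_compl.2.2.2 a ha
      refine mul_mem (mul_mem ?_ ?_) ?_
      · refine mem_normalizer_fintype fun x hx => ?_
        have h : ⁅c, x⁆ ∈ P := hYP (hd.comm_mem c hc x (hPH hx))
        simpa [commutatorElement_def, mul_assoc] using P.mul_mem h hx
      · exact hPstep ⟨u, hUM hu⟩ fun y hy => hNU ⟨u, hu⟩ y hy
      · obtain ⟨k, rfl⟩ := hWgen v hv
        exact pow_mem (hPstep wM hNσ) k
    rcases hd.chief P hYP hPH hPM with h | h
    · exact absurd (h.le (⟨W₂_le_H hP hx₀, hN0⟩ : x₀ ∈ P)) hx₀Y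
    · refine eq_top_iff.2 fun v _ => ?_
      obtain ⟨a, rfl⟩ := hmk v
      obtain ⟨_, ha⟩ := h.ge a.2
      exact ha
  case hnr =>
    intro v hv
    obtain ⟨b, rfl⟩ := hmk v
    show Additive.ofMul (b : ↥H ⧸ Y') = 0
    have hb : (b : G) ∈ Y := by
      rw [← hZ]
      refine ⟨b.2, mem_centralizer_iff.2 fun a ha => ?_⟩
      exact commutatorElement_eq_one_iff_mul_comm.1
        (congrArg Subtype.val (Additive.ofMul.injective (hv (mk ⟨a, ha⟩))))
    rw [(QuotientGroup.eq_one_iff _).2 (mem_subgroupOf.2 hb), ofMul_one]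
  case hβ =>
    intro u v x
    obtain ⟨a, rfl⟩ := hmk v
    obtain ⟨b, rfl⟩ := hmk x
    show β (act0 (Subgroup.inclusion hUM u) (mk a)) (act0 (Subgroup.inclusion hUM u) (mk b)) = _
    rw [hact0mk (Subgroup.inclusion hUM u) a ⟨_, hconjH _ a⟩ rfl,
      hact0mk (Subgroup.inclusion hUM u) b ⟨_, hconjH _ b⟩ rfl, hβmk, hβmk]
    refine congrArg Additive.ofMul (Subtype.ext ?_)
    show ⁅(u : G) * a * (u : G)⁻¹, (u : G) * b * (u : G)⁻¹⁆ = ⁅(a : G), (b : G)⁆
    rw [← conjugate_commutatorElement, ← mem_centralizer_iff.1 (hd.centralized (hcz a b)) u u.2 |>.symm]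
    group
  -- so `U` acts trivially
  refine (kernel_lt hP hU).not_ge fun u hu => hd.kernel u hu fun h hh => ?_
  have h1 := (hact0mk (Subgroup.inclusion hUM ⟨u, hu⟩) ⟨h, hh⟩ ⟨_, hconjH _ ⟨h, hh⟩⟩ rfl).symm.trans
    (DFunLike.congr_fun (hρ0 ⟨u, hu⟩) (mk ⟨h, hh⟩))
  have h2 : (u * h * u⁻¹)⁻¹ * h ∈ Y :=
    mem_subgroupOf.1 (QuotientGroup.eq.1 (Additive.ofMul.injective h1))
  have h3 := inv_mem (mul_mem_conj (hHle.trans hd.normal hh) h2)
  have h4 : ⁅u, h⁆ = (h * ((u * h * u⁻¹)⁻¹ * h) * h⁻¹)⁻¹ := by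
    simp [commutatorElement_def, mul_assoc]
  rw [h4]
  exact h3

end TypeP

end CfsgLib.OddOrder
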