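import Cfsg.Agent.OddOrder.PF10.BadMass
import Cfsg.Agent.OddOrder.PF10.PairSides
import Cfsg.Agent.OddOrder.PF10.Region
import Cfsg.Agent.OddOrder.PF10.StructureChar
import Cfsg.Agent.OddOrder.PF10.StructureForms

/-!
# Types III and IV (Peterfalvi (10.8), (11.8), (11.9) as far as needed)

If the second member `T` of a pair is of Type III or IV, then `|W₁| < |W₂|`, the group `T_F` is
elementary abelian of order `|W₁| ^ |W₂|` and `C_V(T_F) = V'`.
-/

set_option autoImplicit false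
set_option linter.style.haveILetI false
set_option linter.unusedSectionVars false

open scoped commutatorElement

namespace CfsgLib.OddOrder

open Cfsg CfsgLib.Characters CfsgLib.Coherence CfsgLib.OddOrderChar
open Subgroup (centralizer normalizer)

universe u

variable {G : Type u} [Group G] [Fintype G]

/-- The order of the two factors does not matter for the conjugates of `V`. -/
theorem vConj_comm (W₁ W₂ : Subgroup G) : vConj W₂ W₁ = vConj W₁ W₂ := by
  ext v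
  constructor <;>
  · rintro ⟨y, w, hw, h1, h2, e⟩
    exact ⟨y, w, sup_comm (a := W₁) (b := W₂) ▸ hw, h2, h1, e⟩

namespace Side

variable {M W₁ W₂ : Subgroup G} [Fintype M] {χ : (↥(W₁ ⊔ W₂) →* ℂˣ) → (G → ℂ)}
  {μ : (↥(W₁ ⊔ W₂) →* ℂˣ) → (↥M → ℂ)} {δ : (↥(W₁ ⊔ W₂) →* ℂˣ) → ℤ}
variable (h : Side M W₁ W₂ χ μ δ)
include h

theorem supportA0_subset : supportA0 M ⊆ supportA M ∪ vSet M W₁ W₂ := by
  rintro v (hv | ⟨-, A, B, C, hP', m, hm, w, hw, h1, h2, rfl⟩)
  · exact Or.inl hv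
  obtain ⟨U, hP⟩ := h.dataP
  obtain ⟨x, hx, hA, hC⟩ :=
    typeP_data_conj (minSimple_coatom_solvable h.minSimple h.coatom) hP hP'
  refine Or.inr ⟨m * x⁻¹, mul_mem hm (inv_mem hx), x * w * x⁻¹, ?_, ?_, ?_, by group⟩
  · rw [← hA, ← hC, ← Subgroup.map_sup]
    exact ⟨w, hw, rfl⟩
  · rw [← hA]
    rintro ⟨y, hy, he⟩
    have : y = w := by simpa using he
    exact h1 (this ▸ hy)
  · rw [← hC]
    rintro ⟨y, hy, he⟩
    have : y = w := by simpa using he
    exact h2 (this ▸ hy)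

theorem dadeSupp_A0_subset : dadeSupp (supportA0 M) (supportR M) ⊆
    dadeSupp (supportA M) (supportR M) ∪ vConj W₁ W₂ := by
  rintro g ⟨a, ha, u, hu, x, he⟩
  rcases h.supportA0_subset ha with ha' | ha'
  · exact Or.inl ⟨a, ha', u, hu, x, he⟩
  · right
    rw [h.vSet_supportR ha', Subgroup.mem_bot] at hu
    obtain ⟨m, hm, w, hw, h1, h2, rfl⟩ := ha'
    refine ⟨x⁻¹ * m, w, hw, h1, h2, ?_⟩
    rw [hu, mul_one] at he
    have : g = x⁻¹ * (m * w * m⁻¹) * x := by rw [← he]; group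
    rw [this]
    group

/-- An irreducible character of `M'` fixed by `W₁` is the restriction of some `μ_0l`. -/
theorem exists_mu_of_fixed {θ : derIn M → ℂ} [Fintype ↥(derIn M)]
    (hθ : IsIrrCharacter ↥(derIn M) θ)
    (hfix : ∀ w : ↥M, (w : G) ∈ W₁ → conjBy (derIn M) θ w = θ) :
    ∃ l : rightHat W₁ W₂, θ = fun x : derIn M => μ l.1 x := by
  classical
  by_contra hne
  push Not at hne
  have hall : ∀ g : ↥M, conjBy (derIn M) θ g = θ := by
    intro g
    obtain ⟨a, ha, b, hb, e⟩ := h.dataP.choose_spec.W₁_compl.2.2.2 (g : G) g.2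
    have hbM : b ∈ M := h.dataP.choose_spec.W₁_compl.2.1 hb
    have haM : a ∈ M := M.commutator_le_self ha
    have e' : g = (⟨a, haM⟩ : ↥M) * ⟨b, hbM⟩ := Subtype.ext e
    have h2 : conjBy (derIn M) θ ⟨a, haM⟩ = θ := funext fun y =>
      isClassFunction_of_isIrr hθ y ⟨⟨a, haM⟩, ha⟩
    have h3 := hfix ⟨b, hbM⟩ hb
    rw [e', ← CfsgLib.OddOrderChar.conjBy_mul, h2, h3]
  obtain ⟨hirr, -⟩ := h.pmu.ind_irr' h.base h.oddM hθ hne
  have h1 := classInner_isIrr_self hirr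
  rw [Coherence.ci_ind_self _ hθ] at h1
  have e : stabCard (derIn M) θ = Nat.card M :=
    Nat.card_congr (Equiv.subtypeUnivEquiv hall)
  rw [e, ← (derIn M).index_mul_card, h.base.index_derIn, Nat.cast_mul, mul_div_assoc,
    div_self natCard_ne_zero, mul_one, Nat.cast_eq_one] at h1
  exact h.base.snc.1 (Subgroup.eq_bot_of_card_eq _ h1)

end Side

namespace BadSide

variable {M W₁ W₂ : Subgroup G} [Fintype M] {χ : (↥(W₁ ⊔ W₂) →* ℂˣ) → (G → ℂ)}
  {μ : (↥(W₁ ⊔ W₂) →* ℂˣ) → (↥M → ℂ)} {δ : (↥(W₁ ⊔ W₂) →* ℂˣ) → ℤ}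
variable (h : BadSide M W₁ W₂ χ μ δ) {U : Subgroup G} (hP : IsTypePWith M W₁ U W₂) (hU : U ≠ ⊥)
include h hP hU

/-- For `U ≠ 1` the degree of the `μ_0l` is `|U : C|`, with sign `1`. -/
theorem degree_eq_index : ∃ n : ℕ, Even n ∧ 2 ≤ n ∧
    (U ⊓ centralizer (fittingHallOf M : Set G)).relIndex U = n * Nat.card W₁ + 1 ∧
    ∀ l : rightHat W₁ W₂, l ≠ 1 →
      δ l.1 = 1 ∧ μ l.1 1 = ((1 : ℤ) : ℂ) + ((n : ℤ) : ℂ) * (Nat.card W₁ : ℂ) := by
  classical
  letI : Fintype ↥(derIn M) := Fintype.ofFinite _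
  set u := (U ⊓ centralizer (fittingHallOf M : Set G)).relIndex U with hu
  obtain ⟨θ, hθ, hθ1, hfix, x, hx, hx1⟩ := TypeP.exists_theta hP h.prime₂ hU
  rw [← hu] at hθ1
  obtain ⟨l₀, rfl⟩ := h.toSide.exists_mu_of_fixed hθ hfix
  have hl₀ : l₀ ≠ 1 := by
    rintro rfl
    exact hx1 (by simp [rightHat_coe_one, (h.pmu.one h.base h.oddM).1])
  obtain ⟨s, n, hs, hn, he, hd⟩ := h.degree
  obtain ⟨-, hμ⟩ := hd l₀ hl₀
  have hd1 : μ l₀.1 1 = (u : ℂ) := hθ1
  rw [hd1] at hμ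
  have hdeg : (u : ℤ) = s + n * (Nat.card W₁ : ℤ) := by exact_mod_cast hμ
  obtain ⟨⟨t, ht⟩, h1u⟩ := TypeP.kernel_index_modEq hP hU
  rw [← hu] at ht h1u
  have hq : 3 ≤ Nat.card W₁ := by rw [← h.ti.card_left]; exact h.ti.three_le_left
  have hs1 : s = 1 := by
    rcases hs with e | e
    · exact e
    · exfalso
      have h2 : (2 : ℤ) = (Nat.card W₁ : ℤ) * (n - t) := by
        have : (u : ℤ) = (Nat.card W₁ : ℤ) * t + 1 := by
          have hnat : u = Nat.card W₁ * t + 1 := by omega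
          rw [hnat]; push_cast; ring
        rw [e, this] at hdeg
        linear_combination hdeg
      have h3 : (Nat.card W₁ : ℤ) ∣ 2 := ⟨_, h2⟩
      have := Int.le_of_dvd (by norm_num) h3
      omega
  subst hs1
  obtain ⟨m, rfl⟩ : ∃ m : ℕ, n = (m : ℤ) := ⟨n.toNat, (Int.toNat_of_nonneg (by omega)).symm⟩
  refine ⟨m, by exact_mod_cast he, by exact_mod_cast hn, ?_, hd⟩
  have : (u : ℤ) = ((m * Nat.card W₁ + 1 : ℕ) : ℤ) := by push_cast; linarith
  exact_mod_cast this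

/-- `[M' : M'']` is a multiple of `|U : C|`. -/
theorem index_dvd : (U ⊓ centralizer (fittingHallOf M : Set G)).relIndex U ∣
    (derDer M).relIndex (derIn M) := by
  have hle : derDer M ≤ (fittingOf M).subgroupOf M := by
    refine Subgroup.map_le_iff_le_comap.1 ?_
    refine le_trans ?_ (TypeP.derived_derived_le hP)
    rw [derDer, Subgroup.map_commutator]
    have : (derIn M).map M.subtype ≤ ⁅M, M⁆ := by
      rintro _ ⟨y, hy, rfl⟩
      exact hy
    exact Subgroup.commutator_mono this this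
  have hFd : (fittingOf M).subgroupOf M ≤ derIn M := fun _ hx => hP.fitting_le hx
  have h2 := Subgroup.relIndex_mul_relIndex _ _ _ hle hFd
  rw [show ((fittingOf M).subgroupOf M).relIndex (derIn M) =
    (U ⊓ centralizer (fittingHallOf M : Set G)).relIndex U by
      rw [derIn, Subgroup.relIndex_subgroupOf M.commutator_le_self, TypeP.relIndex_fitting hP]] at h2
  exact ⟨_, by rw [← h2, mul_comm]⟩

/-- A member of `linSet M` that is trivial on `F(M)`. -/
theorem exists_lin_fitting : ∃ θ : derIn M → ℂ, IsIrrCharacter ↥(derIn M) θ ∧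
    (∀ a : derIn M, ((a : ↥M) : G) ∈ fittingOf M → θ a = θ 1) ∧
    indFun (derIn M) θ ∈ linSet M := by
  classical
  haveI hsM : Group.IsSolvable ↥M := minSimple_coatom_solvable h.minSimple h.coatom
  have hFM : fittingOf M ≤ M := fittingOf_le M
  haveI : ((fittingOf M).subgroupOf M).Normal :=
    (Subgroup.normal_subgroupOf_iff_le_normalizer hFM).2 (le_normalizer_fittingOf M)
  have hFd : (fittingOf M).subgroupOf M ≤ derIn M := fun _ hx => hP.fitting_le hx
  have hlt : (fittingOf M).subgroupOf M < derIn M := by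
    refine lt_of_le_of_ne hFd fun e => ?_
    have h1 : ((fittingOf M).subgroupOf M).relIndex (derIn M) = 1 := by
      rw [e, Subgroup.relIndex_self]
    rw [derIn, Subgroup.relIndex_subgroupOf M.commutator_le_self, TypeP.relIndex_fitting hP] at h1
    exact (TypeP.kernel_index_modEq hP hU).2.ne' h1
  obtain ⟨φ, ⟨θ, hθ, hne, hA, rfl⟩, -⟩ :=
    exists_linear_mem (derIn M) inferInstance ((fittingOf M).subgroupOf M) hlt
  refine ⟨θ, hθ, fun a ha => hA a ha, ⟨θ, hθ, hne, fun a ha => hA a ?_, rfl⟩⟩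
  have hle : derDer M ≤ (fittingOf M).subgroupOf M := by
    refine Subgroup.map_le_iff_le_comap.1 ?_
    refine le_trans ?_ (TypeP.derived_derived_le hP)
    rw [derDer, Subgroup.map_commutator]
    have : (derIn M).map M.subtype ≤ ⁅M, M⁆ := by
      rintro _ ⟨y, hy, rfl⟩
      exact hy
    exact Subgroup.commutator_mono this this
  exact hle ha

/-- The subgroup `H₀ C`. -/
theorem hyperKernel :
    (chiefY M U ⊔ (U ⊓ centralizer (fittingHallOf M : Set G))).subgroupOf M ≤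
        (fittingOf M).subgroupOf M ∧
      ((chiefY M U ⊔ (U ⊓ centralizer (fittingHallOf M : Set G))).subgroupOf M).Normal ∧
      (∀ x ∈ fittingOf M, ∀ y ∈ fittingOf M,
        x * y * x⁻¹ * y⁻¹ ∈ chiefY M U ⊔ (U ⊓ centralizer (fittingHallOf M : Set G))) ∧
      ((chiefY M U ⊔ (U ⊓ centralizer (fittingHallOf M : Set G))).subgroupOf M).relIndex (derIn M) =
        Nat.card W₂ ^ Nat.card W₁ * (U ⊓ centralizer (fittingHallOf M : Set G)).relIndex U := by
  have hd := TypeP.chiefData hP h.prime₂ hU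
  set H := fittingHallOf M with hH
  set C := U ⊓ centralizer (H : Set G) with hC
  set Y := chiefY M U with hY
  have hXF : Y ⊔ C ≤ fittingOf M := by
    rw [typeP_fitting_eq hP]
    exact sup_le_sup_right hd.le _
  have hXM : Y ⊔ C ≤ M := hXF.trans (fittingOf_le M)
  have hn : M ≤ normalizer ((Y ⊔ C : Subgroup G) : Set G) :=
    (le_inf hd.normal (TypeP.centralizer_inf_U_normal hP)).trans
      (Subgroup.normalizer_inf_normalizer_le_normalizer_sup Y C)
  refine ⟨fun x hx => hXF hx, (Subgroup.normal_subgroupOf_iff_le_normalizer hXM).2 hn, ?_, ?_⟩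
  · intro x hx y hy
    have hCH : C ≤ normalizer (H : Set G) :=
      (inf_le_left.trans (typeP_U_le hP)).trans (le_normalizer_fittingHallOf M)
    rw [typeP_fitting_eq hP, ← hH, ← hC, ← SetLike.mem_coe,
      Subgroup.coe_mul_of_right_le_normalizer_left _ _ hCH] at hx hy
    obtain ⟨a, ha, c, hc, rfl⟩ := Set.mem_mul.1 hx
    obtain ⟨b, hb, d, hd', rfl⟩ := Set.mem_mul.1 hy
    have cb : c * b = b * c := (Subgroup.mem_centralizer_iff.1 hc.2 b hb).symm
    have da : d * a = a * d := (Subgroup.mem_centralizer_iff.1 hd'.2 a ha).symm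
    have e : a * c * (b * d) * (a * c)⁻¹ * (b * d)⁻¹ =
        ⁅a, b⁆ * (c * d * c⁻¹ * d⁻¹) := by
      have hk : (c * d * c⁻¹ * d⁻¹) ∈ C :=
        mul_mem (mul_mem (mul_mem hc hd') (inv_mem hc)) (inv_mem hd')
      have hka : (c * d * c⁻¹ * d⁻¹) * (a⁻¹ * b⁻¹) = (a⁻¹ * b⁻¹) * (c * d * c⁻¹ * d⁻¹) :=
        (Subgroup.mem_centralizer_iff.1 hk.2 _ (mul_mem (inv_mem ha) (inv_mem hb))).symm
      calc a * c * (b * d) * (a * c)⁻¹ * (b * d)⁻¹
          = a * (c * b) * d * c⁻¹ * a⁻¹ * d⁻¹ * b⁻¹ := by group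
        _ = a * (b * c) * d * c⁻¹ * (d * a)⁻¹ * b⁻¹ := by rw [cb]; group
        _ = a * (b * c) * d * c⁻¹ * (a * d)⁻¹ * b⁻¹ := by rw [da]
        _ = a * b * ((c * d * c⁻¹ * d⁻¹) * (a⁻¹ * b⁻¹)) := by group
        _ = ⁅a, b⁆ * (c * d * c⁻¹ * d⁻¹) := by rw [hka, commutatorElement_def]; group
    show a * c * (b * d) * (a * c)⁻¹ * (b * d)⁻¹ ∈ Y ⊔ C
    rw [e]
    exact Subgroup.mul_mem_sup (hd.comm_mem a ha b hb)
      (mul_mem (mul_mem (mul_mem hc hd') (inv_mem hc)) (inv_mem hd'))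
  · rw [derIn, Subgroup.relIndex_subgroupOf M.commutator_le_self]
    have hXd : Y ⊔ C ≤ ⁅M, M⁆ := hXF.trans hP.fitting_le
    have hcard : Nat.card ↥(Y ⊔ C) = Nat.card Y * Nat.card C := by
      refine Coprime.card_sup_eq ((inf_le_left.trans (typeP_U_le hP)).trans hd.normal) ?_
      rw [eq_bot_iff, ← hP.U_compl.2.2.1]
      exact inf_le_inf hd.le inf_le_left
    have h1 := Subgroup.relIndex_mul_relIndex (⊥ : Subgroup G) _ _ bot_le hXd
    have h2 := Subgroup.relIndex_mul_relIndex (⊥ : Subgroup G) C U bot_le inf_le_left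
    rw [Subgroup.relIndex_bot_left, Subgroup.relIndex_bot_left] at h1 h2
    rw [← compl_card hP.U_compl, ← hH, hd.card, ← h2, hcard] at h1
    refine Nat.eq_of_mul_eq_mul_left (Nat.mul_pos Nat.card_pos Nat.card_pos) (h1.trans ?_)
    ring

end BadSide

namespace BadCtx

variable {M W₁ W₂ : Subgroup G} [Fintype M] {χ : (↥(W₁ ⊔ W₂) →* ℂˣ) → (G → ℂ)}
  {μ : (↥(W₁ ⊔ W₂) →* ℂˣ) → (↥M → ℂ)} {δ : (↥(W₁ ⊔ W₂) →* ℂˣ) → ℤ}
  {f : (↥M → ℂ) → (G → ℂ)} {s n : ℤ} {ζ₀ : ↥M → ℂ}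
  (h : BadCtx M W₁ W₂ χ μ δ f s n ζ₀) {U : Subgroup G} (hP : IsTypePWith M W₁ U W₂) (hU : U ≠ ⊥)
include h hP hU

/-- With a good extension and `a = 0` the mass of `col₀` off the support is at most
`q / (p ^ q u)`. -/
theorem gMass_col_le_hyper (hgood : GoodExt M W₁ W₂ χ f ζ₀) (ha : AZero M W₁ W₂ μ f s n ζ₀)
    (hn : ((U ⊓ centralizer (fittingHallOf M : Set G)).relIndex U : ℤ) ≤ n * Nat.card W₁ + 1)
    {θ₀ : derIn M → ℂ} (hθ₀ : IsIrrCharacter ↥(derIn M) θ₀)
    (hA₀ : ∀ a : derIn M, ((a : ↥M) : G) ∈ fittingOf M → θ₀ a = θ₀ 1)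
    (he₀ : indFun (derIn M) θ₀ = ζ₀) {O : Set G}
    (hO : Disjoint O (dadeSupp (supportA0 M) (supportR M))) :
    gMass O (col χ 1) ≤ (Nat.card W₁ : ℝ) / ((Nat.card W₂ : ℝ) ^ Nat.card W₁ *
      ((U ⊓ centralizer (fittingHallOf M : Set G)).relIndex U : ℝ)) := by
  classical
  obtain ⟨hXF, hXn, hcomm, hidx⟩ := h.toBadSide.hyperKernel hP hU
  set X := (chiefY M U ⊔ (U ⊓ centralizer (fittingHallOf M : Set G))).subgroupOf M with hX
  haveI := hXn
  set u := (U ⊓ centralizer (fittingHallOf M : Set G)).relIndex U with hu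
  set Θ := (((Finset.univ : Finset (IrrCharacter ↥(derIn M))).filter
    fun θ => ∀ a : derIn M, (a : ↥M) ∈ X → θ.1 a = θ.1 1)).image Subtype.val with hΘ
  have hmem : ∀ θ, θ ∈ Θ ↔ IsIrrCharacter ↥(derIn M) θ ∧
      ∀ a : derIn M, (a : ↥M) ∈ X → θ a = θ 1 := by
    intro θ
    simp only [hΘ, Finset.mem_image, Finset.mem_filter, Finset.mem_univ, true_and]
    exact ⟨fun ⟨φ, hφ, e⟩ => e ▸ ⟨φ.2, hφ⟩, fun ⟨h1, h2⟩ => ⟨⟨θ, h1⟩, h2, rfl⟩⟩
  have hFd : (fittingOf M).subgroupOf M ≤ derIn M := fun _ hx => hP.fitting_le hx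
  have hindexF : ((fittingOf M).subgroupOf M).index = u * Nat.card W₁ := by
    rw [← Subgroup.relIndex_mul_index hFd, h.base.index_derIn, derIn,
      Subgroup.relIndex_subgroupOf M.commutator_le_self, TypeP.relIndex_fitting hP]
  have hterm : ∀ θ ∈ Θ, h.MassTerm θ := by
    intro θ hθ
    obtain ⟨hi, hA⟩ := (hmem θ).1 hθ
    by_cases hne : θ = fun _ => 1
    · exact Or.inl hne
    obtain ⟨d, -, hd⟩ := exists_degree_pos hi
    have hb := ind_degree_bound (derIn M) (B := X) (C := (fittingOf M).subgroupOf M)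
      (D := (fittingOf M).subgroupOf M) hXF le_rfl hFd
      (fun x hx y hy => hcomm _ hx _ hy) (φ := indFun (derIn M) θ) ⟨θ, hi, hne, hA, rfl⟩
    rw [Subgroup.relIndex_self, Nat.cast_one, mul_one, Coherence.ind_one, hd, h.base.index_derIn,
      hindexF, ← Nat.cast_mul, Complex.natCast_re] at hb
    have hle : d ≤ u := by
      have h1 := (pow_le_pow_iff_left₀ (Nat.cast_nonneg _) (Nat.cast_nonneg _) two_ne_zero).1 hb
      have h2 : Nat.card W₁ * d ≤ u * Nat.card W₁ := by exact_mod_cast h1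
      rw [mul_comm u] at h2
      exact Nat.le_of_mul_le_mul_left h2 Nat.card_pos
    exact h.massTerm_of_small hgood ha hi hd ((Int.ofNat_le.2 hle).trans hn)
  refine le_trans (h.gMass_col_le hgood (Θ := Θ) (θ₀ := θ₀) (fun θ hθ => ((hmem θ).1 hθ).1)
    (fun θ hθ g => ?_) ((hmem θ₀).2 ⟨hθ₀, fun a ha => hA₀ a (hXF ha)⟩) he₀ hterm
    (fun _ _ _ _ _ => ha) hO) (le_of_eq ?_)
  · obtain ⟨hi, hA'⟩ := (hmem θ).1 hθ
    exact (hmem _).2 ⟨isIrr_conjBy _ hi g, trivialOn_conjBy _ hA' g⟩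
  · congr 1
    have h2 := sum_sq_trivialOn (K := derIn M) X
    rw [hΘ, Finset.sum_image (fun a _ b _ e => Subtype.ext e)]
    have hre : ∀ θ : IrrCharacter ↥(derIn M), θ.1 1 ^ 2 = (((θ.1 1).re ^ 2 : ℝ) : ℂ) := fun θ => by
      obtain ⟨d, -, hd⟩ := exists_degree_pos θ.2
      rw [hd]; simp
    rw [Finset.sum_congr rfl fun θ _ => hre θ, ← Complex.ofReal_sum, hidx] at h2
    push_cast at h2
    exact_mod_cast h2

end BadCtx

namespace FTPair

variable {S T W₁ U W₂ V : Subgroup G} (h : FTPair S T W₁ U W₂ V) (hG : IsMinSimpleOddOrder G)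
  (F : FTFacts G)
include h hG F

theorem far_disjoint_dadeSupp_A0_T [Fintype T] (hII : ¬ IsOfTypeII T)
    {χ : (↥(W₂ ⊔ W₁) →* ℂˣ) → (G → ℂ)} {μ : (↥(W₂ ⊔ W₁) →* ℂˣ) → (↥T → ℂ)}
    {δ : (↥(W₂ ⊔ W₁) →* ℂˣ) → ℤ} (hs : Side T W₂ W₁ χ μ δ) :
    Disjoint (farRegion S T) (dadeSupp (supportA0 T) (supportR T)) := by
  refine Set.disjoint_of_subset_right hs.dadeSupp_A0_subset ?_
  rw [Set.disjoint_union_right, vConj_comm]
  exact ⟨h.far_disjoint_dadeSupp_T hG F hII, h.far_disjoint_vConj hG F⟩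

theorem badSide [Fintype T] (hII : ¬ IsOfTypeII T)
    {χ : (↥(W₂ ⊔ W₁) →* ℂˣ) → (G → ℂ)} {μ : (↥(W₂ ⊔ W₁) →* ℂˣ) → (↥T → ℂ)}
    {δ : (↥(W₂ ⊔ W₁) →* ℂˣ) → ℤ} (hs : Side T W₂ W₁ χ μ δ) :
    BadSide T W₂ W₁ χ μ δ where
  toSide := hs
  prime₂ := (F.data_not_II hG h.coatomT h.dataT hII).2
  core := by rw [h.supportA_T hG F hII, (F.data_not_II hG h.coatomT h.dataT hII).1]

/-- A member of Type III or IV has no good extension with `a = 0`. -/
theorem not_good_zero [Fintype T] (hII : ¬ IsOfTypeII T) (hV : ¬ IsOfTypeV T)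
    {χ : (↥(W₁ ⊔ W₂) →* ℂˣ) → (G → ℂ)}
    {μ : (↥(W₂ ⊔ W₁) →* ℂˣ) → (↥T → ℂ)} {δ : (↥(W₂ ⊔ W₁) →* ℂˣ) → ℤ}
    {f : (↥T → ℂ) → (G → ℂ)} {s n : ℤ} {ζ₀ : ↥T → ℂ}
    (hc : BadCtx T W₂ W₁ (swapFam χ) μ δ f s n ζ₀)
    (hn : ((V ⊓ centralizer (fittingHallOf T : Set G)).relIndex V : ℤ) ≤ n * Nat.card W₂ + 1)
    {θ₀ : derIn T → ℂ} (hθ₀ : IsIrrCharacter ↥(derIn T) θ₀)
    (hA₀ : ∀ a : derIn T, ((a : ↥T) : G) ∈ fittingOf T → θ₀ a = θ₀ 1)
    (he₀ : indFun (derIn T) θ₀ = ζ₀)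
    (hgood : GoodExt T W₂ W₁ (swapFam χ) f ζ₀) : ¬ AZero T W₂ W₁ μ f s n ζ₀ := by
  classical
  intro ha
  have hT' : IsOfTypeII T ∨ IsOfTypeIII T ∨ IsOfTypeIV T := by
    rcases h.typeT hG F with e | e | e | e
    exacts [Or.inl e, Or.inr (Or.inl e), Or.inr (Or.inr e), absurd e hV]
  have hVne := h.V_ne hG F hT'
  have h1 := hc.gMass_col_le_hyper h.dataT hVne hgood ha hn hθ₀ hA₀ he₀
    (h.far_disjoint_dadeSupp_A0_T hG F hII hc.toSide)
  have h2 := h.gMass_far_col hG F hc.ti (Or.inr rfl)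
  have h3 := h.gMass_far_ge hG F
  have hq := hc.three_le_q
  have hp := hc.three_le_p
  have hu := TypeP.kernel_index_ge h.dataT hG.1 hVne
  have hUc := h.U_card hG F
  set u := (V ⊓ centralizer (fittingHallOf T : Set G)).relIndex V
  set p := Nat.card W₁
  set q := Nat.card W₂
  have hpq : 3 * p ≤ Nat.card G := by
    have hn : W₁ ≤ normalizer (W₂ : Set G) :=
      (Subgroup.le_centralizer_iff.1 fun b hb => Subgroup.mem_centralizer_iff.2
        fun a ha => h.snc.2.2.2.1 a ha b hb).trans (Subgroup.centralizer_le_normalizer _)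
    have hW : Nat.card ↥(W₂ ⊔ W₁) = q * p :=
      Coprime.card_sup_eq hn (inf_comm W₁ W₂ ▸ h.snc.2.2.1)
    calc 3 * p ≤ q * p := Nat.mul_le_mul_right _ hq
      _ = Nat.card ↥(W₂ ⊔ W₁) := hW.symm
      _ ≤ Nat.card G := Subgroup.card_le_card_group _
  have hp' : (3 : ℝ) ≤ p := by exact_mod_cast hp
  have hq' : (3 : ℝ) ≤ q := by exact_mod_cast hq
  have hU' : (7 : ℝ) ≤ Nat.card U := by exact_mod_cast (show 7 ≤ Nat.card U by omega)
  have hu' : 2 * (q : ℝ) + 1 ≤ u := by exact_mod_cast hu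
  have hu0 : (0 : ℝ) < u := by linarith
  have e1 : 1 / (Nat.card G : ℝ) ≤ (1 / p) * (1 / 3) := by
    rw [one_div_mul_one_div]
    refine one_div_le_one_div_of_le (by positivity) ?_
    rw [mul_comm]
    exact_mod_cast hpq
  have e2 : (q : ℝ) / ((p : ℝ) ^ q * u) ≤ (1 / p) * (1 / 18) := by
    have hpow : 9 * (p : ℝ) ≤ (p : ℝ) ^ q := by
      calc 9 * (p : ℝ) ≤ (p : ℝ) ^ 3 := by nlinarith [mul_le_mul hp' hp' (by norm_num) (by linarith)]
        _ ≤ (p : ℝ) ^ q := pow_le_pow_right₀ (by linarith) hq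
    rw [one_div_mul_one_div, div_le_div_iff₀ (by positivity) (by positivity), one_mul]
    have : (q : ℝ) * 2 ≤ u := by linarith
    nlinarith [mul_le_mul hpow this (by positivity) (by positivity)]
  have e3 : (1 / (p : ℝ)) * (1 - 1 / 3 - 1 / 7) ≤
      (1 / (p : ℝ)) * (1 - 1 / q - 1 / Nat.card U) := by
    refine mul_le_mul_of_nonneg_left ?_ (by positivity)
    have a1 := one_div_le_one_div_of_le (by norm_num : (0 : ℝ) < 3) hq'
    have a2 := one_div_le_one_div_of_le (by norm_num : (0 : ℝ) < 7) hU'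
    linarith
  have hpos : 0 < 1 / (p : ℝ) := by positivity
  linarith

/-- Peterfalvi (10.8), (11.8): a member of Type III or IV. -/
theorem typeT_III_IV (hII : ¬ IsOfTypeII T) (hV : ¬ IsOfTypeV T) :
    Nat.card W₁ < Nat.card W₂ ∧ IsElementaryAbelian (Nat.card W₁) (fittingHallOf T) ∧
      Nat.card (fittingHallOf T) = Nat.card W₁ ^ Nat.card W₂ ∧
      V ⊓ centralizer (fittingHallOf T : Set G) = ⁅V, V⁆ := by
  classical
  letI : Fintype T := Fintype.ofFinite _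
  letI : Fintype S := Fintype.ofFinite _
  have hT' : IsOfTypeII T ∨ IsOfTypeIII T ∨ IsOfTypeIV T := by
    rcases h.typeT hG F with e | e | e | e
    exacts [Or.inl e, Or.inr (Or.inl e), Or.inr (Or.inr e), absurd e hV]
  have hVne := h.V_ne hG F hT'
  obtain ⟨χ, -, -, μ, δ, hs⟩ := h.exists_sides hG F
  have hb := h.badSide hG F hII hs
  obtain ⟨n, hne, hn2, hu, hd⟩ := hb.degree_eq_index h.dataT hVne
  obtain ⟨θ₀, hθ₀, hA₀, hmem⟩ := hb.exists_lin_fitting h.dataT hVne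
  obtain ⟨f, hf⟩ := hb.exists_linExt
  have hc : BadCtx T W₂ W₁ (swapFam χ) μ δ f 1 (n : ℤ) (indFun (derIn T) θ₀) :=
    { hb with ext := hf, sign := Or.inl rfl, two_le := by exact_mod_cast hn2,
              even := by exact_mod_cast hne, mu_deg := hd, mem := hmem }
  set u := (V ⊓ centralizer (fittingHallOf T : Set G)).relIndex V with hudef
  have hn : (u : ℤ) ≤ (n : ℤ) * Nat.card W₂ + 1 := by
    rw [hu]; push_cast; exact le_rfl
  obtain ⟨d, hNu⟩ := hb.index_dvd h.dataT hVne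
  rw [← hudef] at hNu
  have hr := hc.linNum_mul
  rw [hNu] at hr
  push_cast at hr
  have hq := hc.three_le_q
  have hd0 : 1 ≤ d := by
    rcases Nat.eq_zero_or_pos d with rfl | hd0
    · exfalso
      rw [Nat.cast_zero, mul_zero, zero_sub] at hr
      have : (0 : ℤ) ≤ (linNum T : ℤ) * Nat.card W₂ := by positivity
      omega
    · exact hd0
  -- `u = n q + 1`, `r q = u d - 1`, so `n ≤ r`
  have hu' : (u : ℤ) = (n : ℤ) * Nat.card W₂ + 1 := by exact_mod_cast hu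
  have hrn : (n : ℤ) ≤ linNum T := by
    refine le_of_mul_le_mul_right ?_ (show (0 : ℤ) < Nat.card W₂ by omega)
    have : (u : ℤ) * 1 ≤ (u : ℤ) * d := mul_le_mul_of_nonneg_left (by exact_mod_cast hd0) (by positivity)
    linarith
  have hlt : Nat.card W₁ < Nat.card W₂ := by
    rcases lt_trichotomy (Nat.card W₁) (Nat.card W₂) with e | e | e
    · exact e
    · exfalso
      have h3 := h.coprime_W
      rw [e, Nat.coprime_self] at h3
      omega
    · exfalso
      obtain ⟨f', hc', hgood⟩ := hc.exists_good_of_lt e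
      exact h.not_good_zero hG F hII hV hc' hn hθ₀ hA₀ rfl hgood (hc'.aZero_of_good hgood hrn)
  refine ⟨hlt, ?_⟩
  -- some `a` is not zero
  have hna : ¬ AZero T W₂ W₁ μ f 1 n (indFun (derIn T) θ₀) := fun ha =>
    h.not_good_zero hG F hII hV hc hn hθ₀ hA₀ rfl (hc.good_of_aZero ha) ha
  obtain ⟨l, hl⟩ := Fintype.exists_ne_of_one_lt_card
    (by have := hc.ti.three_le_right; omega) (1 : rightHat W₂ W₁)
  obtain ⟨a, a0, -, ale, -⟩ := hc.alpha_table hl
  have ha0 : a ≠ 0 := by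
    rintro rfl
    exact hna (hc.aZero_iff hl (by rw [a0, Int.cast_zero, zero_sub]))
  have hr2n : (linNum T : ℤ) ≤ 2 * n + 2 := by
    have hsq := tableSq_nonneg
      (coefT (swapFam χ) (tauM T (alphaB μ 1 (n : ℤ) (indFun (derIn T) θ₀) l)))
    rcases lt_trichotomy a 0 with e | e | e
    · nlinarith [mul_nonneg (show (0 : ℤ) ≤ -a by omega) (show (0 : ℤ) ≤ n by positivity),
        mul_le_mul_of_nonneg_left (show (1 : ℤ) ≤ a ^ 2 by nlinarith)
          (show (0 : ℤ) ≤ linNum T by positivity)]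
    · exact absurd e ha0
    · have h1 : ((linNum T : ℤ) * a - 2 * n) * a ≤ 2 := by linarith
      by_contra hbig
      push Not at hbig
      nlinarith [mul_le_mul_of_nonneg_left (show (1 : ℤ) ≤ a by omega)
        (show (0 : ℤ) ≤ linNum T by positivity)]
  -- hence `[T' : T''] = u`
  have hd1 : d = 1 := by
    by_contra hd1
    have hodd : Odd d := by
      refine hG.1.of_dvd_nat (Dvd.dvd.trans (Dvd.intro_left u hNu.symm) ?_)
      exact ((derDer T).relIndex_dvd_card (derIn T)).trans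
        ((derIn T).card_subgroup_dvd_card.trans T.card_subgroup_dvd_card)
    have h1 : (Nat.card W₂ : ℤ) ∣ (d : ℤ) - 1 := by
      refine ⟨(linNum T : ℤ) - n * d, ?_⟩
      rw [hu'] at hr
      linear_combination -hr
    have h2 : 2 * (Nat.card W₂ : ℤ) ≤ (d : ℤ) - 1 := by
      obtain ⟨k, hk⟩ := h1
      have hk1 : 0 < k := by
        have : (0 : ℤ) < Nat.card W₂ * k := by rw [← hk]; omega
        exact pos_of_mul_pos_right this (by positivity)
      by_contra hlt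
      have hk2 : k = 1 := by nlinarith
      subst hk2
      obtain ⟨i, hi⟩ := hodd
      obtain ⟨j, hj⟩ := minSimple_odd_subgroup hG W₂
      omega
    rw [hu'] at hr
    have hqn : (3 : ℤ) ≤ Nat.card W₂ := by exact_mod_cast hq
    have e2 := mul_le_mul_of_nonneg_left h2
      (show (0 : ℤ) ≤ (n : ℤ) * Nat.card W₂ + 1 by positivity)
    have e3 := mul_le_mul_of_nonneg_right hr2n (show (0 : ℤ) ≤ Nat.card W₂ by positivity)
    have e4 : (2 : ℤ) * n * 3 * Nat.card W₂ ≤ 2 * n * Nat.card W₂ * Nat.card W₂ := by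
      nlinarith [mul_le_mul_of_nonneg_left hqn (show (0 : ℤ) ≤ 2 * n * Nat.card W₂ by positivity)]
    have e5 : (2 : ℤ) * 2 * 3 * Nat.card W₂ ≤ 2 * n * 3 * Nat.card W₂ := by
      have : (2 : ℤ) ≤ n := by exact_mod_cast hn2
      nlinarith
    nlinarith
  subst hd1
  rw [mul_one] at hNu
  -- `F(T) = T''`
  set H := fittingHallOf T with hH
  set C := V ⊓ centralizer (H : Set G) with hC
  have hFle : fittingOf T ≤ ⁅⁅T, T⁆, ⁅T, T⁆⁆ := by
    have hle := TypeP.derived_derived_le h.dataT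
    have hDd : ⁅⁅T, T⁆, ⁅T, T⁆⁆ ≤ ⁅T, T⁆ := hle.trans h.dataT.fitting_le
    have h2 := Subgroup.relIndex_mul_relIndex _ _ _ hle h.dataT.fitting_le
    have hmap : (derDer T).map T.subtype = ⁅⁅T, T⁆, ⁅T, T⁆⁆ := by
      rw [derDer, Subgroup.map_commutator]
      simp only [derIn, Subgroup.map_subgroupOf_eq_of_le T.commutator_le_self]
    have hN : (⁅⁅T, T⁆, ⁅T, T⁆⁆).relIndex ⁅T, T⁆ = u := by
      rw [← hNu, ← hmap, ← Subgroup.map_subgroupOf_eq_of_le T.commutator_le_self]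
      exact (Subgroup.relIndex_map_map_of_injective _ _ T.subtype_injective)
    rw [hN, TypeP.relIndex_fitting h.dataT, ← hudef] at h2
    exact Subgroup.relIndex_eq_one.1
      (Nat.eq_of_mul_eq_mul_right (show 0 < u by omega) (h2.trans (one_mul u).symm))
  set A := ⁅H, V⁆ ⊔ ⁅H, H⁆ with hA
  have hHT : T ≤ normalizer (H : Set G) := le_normalizer_fittingHallOf T
  have hVT : V ≤ T := typeP_U_le h.dataT
  have hAH : A ≤ H := sup_le
    (Coprime.commutator_le_of_le_normalizer (hVT.trans hHT)) H.commutator_le_self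
  have hnA : V ≤ normalizer (A : Set G) := by
    refine (le_inf ?_ ?_).trans (Subgroup.normalizer_inf_normalizer_le_normalizer_sup _ _)
    · exact le_sup_right.trans (Coprime.sup_le_normalizer_commutator H V)
    · exact le_normalizer_commutator (hVT.trans hHT) (hVT.trans hHT)
  have hnA' : ⁅V, V⁆ ≤ normalizer (A : Set G) := V.commutator_le_self.trans hnA
  have hDle : ⁅⁅T, T⁆, ⁅T, T⁆⁆ ≤ A ⊔ ⁅V, V⁆ := by
    have hHn : H ≤ normalizer (A : Set G) := fun a ha =>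
      Subgroup.mem_normalizer_fintype fun x hx => by
        have : a * x * a⁻¹ = ⁅a, x⁆ * x := by rw [commutatorElement_def]; group
        rw [SetLike.mem_coe, this]
        exact mul_mem (Subgroup.mem_sup_right (Subgroup.commutator_mem_commutator ha (hAH hx))) hx
    have hHV : ∀ a ∈ H, ∀ d ∈ V, ⁅a, d⁆ ∈ A := fun a ha d hd =>
      Subgroup.mem_sup_left (Subgroup.commutator_mem_commutator ha hd)
    have hconj : ∀ a ∈ H, ∀ z ∈ A ⊔ ⁅V, V⁆, a * z * a⁻¹ ∈ A ⊔ ⁅V, V⁆ := by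
      intro a ha z hz
      rw [← SetLike.mem_coe, Subgroup.coe_mul_of_right_le_normalizer_left _ _ hnA'] at hz
      obtain ⟨x, hx, e, he, rfl⟩ := Set.mem_mul.1 hz
      have : a * (x * e) * a⁻¹ = (a * x * a⁻¹) * (⁅a, e⁆ * e) := by
        rw [commutatorElement_def]; group
      rw [this]
      exact mul_mem (Subgroup.mem_sup_left (mul_mem_conj (hHn ha) hx))
        (mul_mem (Subgroup.mem_sup_left (hHV a ha e (V.commutator_le_self he)))
          (Subgroup.mem_sup_right he))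
    rw [Subgroup.commutator_le]
    intro x hx y hy
    obtain ⟨a, ha, b, hb, rfl⟩ := h.dataT.U_compl.2.2.2 x hx
    obtain ⟨c, hc, d, hd', rfl⟩ := h.dataT.U_compl.2.2.2 y hy
    have e : ⁅a * b, c * d⁆ = a * (⁅b, c⁆ * (c * ⁅b, d⁆ * c⁻¹)) * a⁻¹ *
        (⁅a, c⁆ * (c * ⁅a, d⁆ * c⁻¹)) := by
      simp only [commutatorElement_def]; group
    rw [e]
    refine mul_mem (hconj a ha _ (mul_mem (Subgroup.mem_sup_left ?_) (hconj c hc _
      (Subgroup.mem_sup_right (Subgroup.commutator_mem_commutator hb hd')))))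
      (Subgroup.mem_sup_left (mul_mem
        (Subgroup.mem_sup_right (Subgroup.commutator_mem_commutator ha hc))
        (mul_mem_conj (hHn hc) (hHV a ha d hd'))))
    rw [← commutatorElement_inv]
    exact inv_mem (hHV c hc b hb)
  have hsplit : ∀ x ∈ fittingOf T, ∃ a ∈ A, ∃ b ∈ ⁅V, V⁆, x = a * b := by
    intro x hx
    have hx' : x ∈ ((A ⊔ ⁅V, V⁆ : Subgroup G) : Set G) := hDle (hFle hx)
    rw [Subgroup.coe_mul_of_right_le_normalizer_left _ _ hnA'] at hx'
    obtain ⟨a, ha, b, hb, e⟩ := Set.mem_mul.1 hx'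
    exact ⟨a, ha, b, hb, e.symm⟩
  have hHA : H ≤ A := by
    intro x hx
    obtain ⟨a, ha, b, hb, rfl⟩ := hsplit x (h.dataT.fitting_eq ▸ Subgroup.mem_sup_left hx)
    have hbH : b ∈ H := by simpa using mul_mem (inv_mem (hAH ha)) hx
    have hb1 : b = 1 := (Subgroup.eq_bot_iff_forall _).1 h.dataT.U_compl.2.2.1 b
      ⟨hbH, V.commutator_le_self hb⟩
    rwa [hb1, mul_one]
  obtain ⟨-, hel, hcard⟩ := TypeP.abelian_of_forms h.dataT hG.1
    (F.data_not_II hG h.coatomT h.dataT hII).2 (h.prime_W₂ hG F hT') hVne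
    (le_antisymm hAH hHA)
  refine ⟨hel, hcard, le_antisymm (fun c hc => ?_) (TypeP.derived_U_le_kernel h.dataT)⟩
  have hcF : c ∈ fittingOf T := by
    rw [typeP_fitting_eq h.dataT]
    exact Subgroup.mem_sup_right hc
  obtain ⟨a, ha, b, hb, rfl⟩ := hsplit c hcF
  have haV : a ∈ V := by simpa using V.mul_mem (Subgroup.mem_inf.1 hc).1 (V.inv_mem (V.commutator_le_self hb))
  rw [(Subgroup.eq_bot_iff_forall _).1 h.dataT.U_compl.2.2.1 a ⟨hAH ha, haV⟩, one_mul]
  exact hb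

end FTPair

end CfsgLib.OddOrder
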