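import Cfsg.Agent.OddOrder.PF10.BadGood

/-!
# Peterfalvi (10.8): `a = 0`, the coefficients `b`, and the sum of the `μ_kl`
-/

set_option autoImplicit false
set_option linter.style.haveILetI false
set_option linter.unusedSectionVars false

namespace CfsgLib.OddOrder

open Cfsg CfsgLib.Characters CfsgLib.Coherence CfsgLib.OddOrderChar
open scoped ComplexConjugate

universe u

variable {G : Type u} [Group G] [Fintype G] {M W₁ W₂ : Subgroup G} [Fintype M]

noncomputable local instance fintypeSubBadValues (H : Subgroup ↥M) : Fintype H := Fintype.ofFinite H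

theorem indW_tiAlpha_gen {hle : W₁ ⊔ W₂ ≤ M} {μ : (↥(W₁ ⊔ W₂) →* ℂˣ) → (↥M → ℂ)}
    {δ : (↥(W₁ ⊔ W₂) →* ℂˣ) → ℤ} (hμ : PMu M W₁ W₂ hle μ δ) (hB : PBase M W₁ W₂)
    (hodd : Odd (Nat.card M)) (k : leftHat W₁ W₂) (l : rightHat W₁ W₂) :
    IsGeneralizedCharacter ↥M (indW M W₁ W₂ (tiAlpha k.1 l.1)) := by
  rw [hμ.indW_tiAlpha hB hodd k l]
  exact Coherence.isGen_sub (Coherence.isGen_intCast_smul (Coherence.isGen_sub
    (Coherence.isGen_of_isIrr (hμ.irr _)) (Coherence.isGen_of_isIrr (hμ.irr _))) _)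
    (Coherence.isGen_sub (Coherence.isGen_of_isIrr (hμ.irr _))
      (Coherence.isGen_of_isIrr Characters.isIrr_one))

namespace BadCtx

variable {χ : (↥(W₁ ⊔ W₂) →* ℂˣ) → (G → ℂ)} {μ : (↥(W₁ ⊔ W₂) →* ℂˣ) → (↥M → ℂ)}
  {δ : (↥(W₁ ⊔ W₂) →* ℂˣ) → ℤ} {f : (↥M → ℂ) → (G → ℂ)} {s n : ℤ} {ζ₀ : ↥M → ℂ}
  (h : BadCtx M W₁ W₂ χ μ δ f s n ζ₀)
include h

theorem conjFun_alpha (ζ : ↥M → ℂ) (l : rightHat W₁ W₂) :
    conjFun (alphaB μ s n ζ l) = alphaB μ s n (conjFun ζ) l⁻¹ := by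
  funext x
  simp only [conjFun, alphaB, Pi.sub_apply, Pi.smul_apply, smul_eq_mul, map_sub, map_mul, map_intCast,
    map_one, rightHat_coe_inv, (h.pmu.conjugate h.base h.oddM l.1).1]

/-- The entries of the first column of the table of `τ α_l` do not depend on `l`. -/
theorem alpha_col_eq {l l' : rightHat W₁ W₂} (hl : l ≠ 1) (hl' : l' ≠ 1) (k : leftHat W₁ W₂) :
    coefT χ (tauM M (alphaB μ s n ζ₀ l)) k 1 = coefT χ (tauM M (alphaB μ s n ζ₀ l')) k 1 := by
  classical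
  obtain ⟨hgen, hs, -⟩ := h.alpha_facts h.mem hl
  obtain ⟨hgen', hs', -⟩ := h.alpha_facts h.mem hl'
  obtain ⟨hd, hdeg⟩ := h.mu_deg l hl
  obtain ⟨hd', hdeg'⟩ := h.mu_deg l' hl'
  have hsub : alphaB μ s n ζ₀ l = alphaB μ s n ζ₀ l' + (μ l.1 - μ l'.1) := by
    simp only [alphaB]; abel
  have hμs : ∀ x : ↥M, (x : G) ∉ supportA0 M → (μ l.1 - μ l'.1) x = 0 := fun x hx => by
    have := congrFun hsub x
    rw [hs x hx, Pi.add_apply, hs' x hx, zero_add] at this
    exact this.symm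
  have h1 := h.ti.coefT_spec (h.tau_gen hgen hs) k 1
  have e : tauM M (alphaB μ s n ζ₀ l) =
      tauM M (alphaB μ s n ζ₀ l') + tauM M (μ l.1 - μ l'.1) := by
    rw [hsub, tauM, dade_add]
  rw [show classInner (tauM M (alphaB μ s n ζ₀ l)) (eta χ k 1) =
      classInner (tauM M (alphaB μ s n ζ₀ l')) (eta χ k 1) +
        classInner (tauM M (μ l.1 - μ l'.1)) (eta χ k 1) by rw [e, ci_add_left],
    h.ti.coefT_spec (h.tau_gen hgen' hs'),
    h.toSide.tau_mu_sub l l' hl hl' (hd.trans hd'.symm) hμs, h.toSide.coefT_eta_sub] at h1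
  simp only [if_neg (show ¬(k = 1 ∧ (1 : rightHat W₁ W₂) = l) from fun e => hl e.2.symm),
    if_neg (show ¬(k = 1 ∧ (1 : rightHat W₁ W₂) = l') from fun e => hl' e.2.symm), sub_self,
    Int.cast_zero, add_zero] at h1
  exact_mod_cast h1.symm

theorem alpha_col_symm {l : rightHat W₁ W₂} (hl : l ≠ 1) (k : leftHat W₁ W₂) :
    coefT χ (tauM M (alphaB μ s n ζ₀ l)) k⁻¹ 1 = coefT χ (tauM M (alphaB μ s n ζ₀ l)) k 1 := by
  classical
  have hl' : l⁻¹ ≠ 1 := fun e => hl (by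
    rw [← rightHat_inv_inv l, e]; exact Subtype.ext (inv_one (G := ↥(W₁ ⊔ W₂) →* ℂˣ)))
  obtain ⟨hgen, hs, -⟩ := h.alpha_facts h.mem hl
  obtain ⟨hcm, -⟩ := h.lin_conj h.mem
  obtain ⟨hgen', hs', -⟩ := h.alpha_facts hcm hl'
  obtain ⟨hgen'', hs'', -⟩ := h.alpha_facts h.mem hl'
  have e1 : (1 : rightHat W₁ W₂)⁻¹ = 1 := Subtype.ext (inv_one (G := ↥(W₁ ⊔ W₂) →* ℂˣ))
  have hτ := h.tau_gen hgen hs
  have hτc : conjFun (tauM M (alphaB μ s n ζ₀ l)) = tauM M (alphaB μ s n (conjFun ζ₀) l⁻¹) := by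
    rw [h.tau_conj, h.conjFun_alpha]
  have h1 := h.ti.coefT_conjFun hτ (by rw [hτc]; exact h.tau_gen hgen' hs') k 1
  rw [e1, hτc] at h1
  rw [← h1]
  have hdec : alphaB μ s n (conjFun ζ₀) l⁻¹ =
      alphaB μ s n ζ₀ l⁻¹ + (n : ℂ) • (ζ₀ - conjFun ζ₀) := by
    simp only [alphaB, smul_sub]; abel
  have h2 := h.ti.coefT_spec (h.tau_gen hgen' hs') k⁻¹ 1
  rw [show classInner (tauM M (alphaB μ s n (conjFun ζ₀) l⁻¹)) (eta χ k⁻¹ 1) =
      classInner (tauM M (alphaB μ s n ζ₀ l⁻¹)) (eta χ k⁻¹ 1) +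
        (n : ℂ) * classInner (tauM M (ζ₀ - conjFun ζ₀)) (eta χ k⁻¹ 1) by
      rw [hdec, tauM, dade_add, dade_smul, ci_add_left, ci_smul_left],
    h.ext.diff _ h.mem _ hcm, ci_sub_left, h.ext.eta_orth _ h.mem, h.ext.eta_orth _ hcm,
    h.ti.coefT_spec (h.tau_gen hgen'' hs''), sub_zero, mul_zero, add_zero] at h2
  rw [h.alpha_col_eq hl hl' k⁻¹]
  exact_mod_cast h2

/-- With a good extension and `r ≥ n` the coefficient `a` is zero. -/
theorem aZero_of_good (hgood : GoodExt M W₁ W₂ χ f ζ₀) (hr : n ≤ linNum M) :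
    AZero M W₁ W₂ μ f s n ζ₀ := by
  classical
  obtain ⟨l, hl⟩ := Fintype.exists_ne_of_one_lt_card
    (by have := h.ti.three_le_right; omega) (1 : rightHat W₁ W₂)
  obtain ⟨a, a0, -, ale, hc11, hsmall, -⟩ := h.alpha_table hl
  obtain ⟨hgen, hs, -⟩ := h.alpha_facts h.mem hl
  obtain ⟨hgg, hgs, -⟩ := h.gamma_facts h.mem
  set c := coefT χ (tauM M (alphaB μ s n ζ₀ l)) with hc
  have hτ := h.tau_gen hgen hs
  have e := h.tau_ci (Coherence.isClassFunction_of_isGen hgen) hs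
    (Coherence.isClassFunction_of_isGen hgg) hgs
  rw [hgood, ci_sub_right, h.ti.ci_col hτ, a0, ← hc, ← ci_conj (gammaB M ζ₀), h.gamma_alpha hl,
    map_sub, map_intCast, map_intCast] at e
  have hsum : (∑ k, c k 1) = a - s := by
    have e' : (∑ k, c k 1) - (a - n) = n - s := by exact_mod_cast e
    linarith
  suffices ha : a = 0 by
    refine h.aZero_iff hl ?_
    rw [a0, ha, Int.cast_zero, zero_sub]
  have heven : Even a := by
    have h1 : (((∑ k, c k 1) + s : ℤ) : ZMod 2) = 0 := by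
      push_cast
      rw [← Finset.add_sum_erase _ _ (Finset.mem_univ (1 : leftHat W₁ W₂)), hc11, Int.cast_neg,
        show ∑ k ∈ Finset.univ.erase (1 : leftHat W₁ W₂), ((c k 1 : ℤ) : ZMod 2) = 0 from ?_]
      · ring
      refine Finset.sum_involution (fun k _ => k⁻¹) (fun k _ => ?_) (fun k hk _ e => ?_) (fun k hk => ?_)
        fun k _ => leftHat_inv_inv k
      · rw [hc, h.alpha_col_symm hl]; exact CharTwo.add_self_eq_zero _
      · exact h.ti.left_inv_ne (Finset.mem_erase.1 hk).1 e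
      · refine Finset.mem_erase.2 ⟨fun e => (Finset.mem_erase.1 hk).1 ?_, Finset.mem_univ _⟩
        rw [← leftHat_inv_inv k, e]
        exact Subtype.ext (inv_one (G := ↥(W₁ ⊔ W₂) →* ℂˣ))
    rw [hsum, sub_add_cancel] at h1
    exact even_iff_two_dvd.2 ((ZMod.intCast_zmod_eq_zero_iff_dvd a 2).1 h1)
  by_contra ha
  have hn := h.two_le
  have h2 : 0 ≤ (linNum M : ℤ) * a ^ 2 - 2 * n * a := by
    obtain ⟨m, hm⟩ := heven
    have hm0 : m ≠ 0 := fun e => ha (by rw [hm, e, add_zero])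
    have hle : n * a ^ 2 ≤ (linNum M : ℤ) * a ^ 2 := mul_le_mul_of_nonneg_right hr (sq_nonneg a)
    have hm2 : m ≤ m ^ 2 := by
      rcases lt_trichotomy m 0 with hh | hh | hh
      · nlinarith [sq_nonneg m]
      · exact absurd hh hm0
      · nlinarith
    subst hm
    nlinarith
  have hc2 : tableSq c ≤ 2 := by linarith
  have hD := hsmall hc2
  rw [Finset.sum_eq_single 1 (fun k _ hk => by rw [hD]; simp [hk]) (by simp), hD] at hsum
  simp only [true_and, if_neg (Ne.symm hl), if_pos, zero_sub] at hsum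
  omega

/-- Peterfalvi (10.7): the coefficient `b` of an irreducible `Ind θ` of small degree is zero. -/
theorem b_zero (hgood : GoodExt M W₁ W₂ χ f ζ₀) (ha : AZero M W₁ W₂ μ f s n ζ₀)
    {θ : derIn M → ℂ} (hθ : IsIrrCharacter ↥(derIn M) θ)
    (hne : ∀ l : rightHat W₁ W₂, θ ≠ fun x : derIn M => μ l.1 x)
    (hlin : indFun (derIn M) θ ∉ linSet M) {e : ℕ} (he : θ 1 = (e : ℂ))
    (hle : (e : ℤ) ≤ n * Nat.card W₁ + 1) :
    classInner (tauM M (indFun (derIn M) θ - (e : ℂ) • ζ₀)) (f ζ₀) = -(e : ℂ) := by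
  classical
  set φ := indFun (derIn M) θ with hφdef
  obtain ⟨hφ, hφμ⟩ := h.pmu.ind_irr' h.base h.oddM hθ hne
  have hζ := (h.lin_irr h.mem).1
  set β := φ - (e : ℂ) • ζ₀ with hβ
  have hgen : IsGeneralizedCharacter ↥M β := Coherence.isGen_sub (Coherence.isGen_of_isIrr hφ)
    (Coherence.isGen_natCast_smul (Coherence.isGen_of_isIrr hζ) _)
  have hs : ∀ x : ↥M, (x : G) ∉ supportA0 M → β x = 0 := by
    refine h.supp (Coherence.isClassFunction_of_isGen hgen) ?_ fun w h1 hw => ?_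
    · rw [hβ, Pi.sub_apply, Pi.smul_apply, h.lin_one h.mem, hφdef, h.ind_one, he, smul_eq_mul]
      ring
    · rw [hβ, Pi.sub_apply, Pi.smul_apply, hφdef, h.ind_apply_W₁ _ h1 hw,
        h.lin_zero h.mem (h.w₁_notMem_W₂ h1 hw), smul_zero, sub_zero]
  have hφl : ∀ ζ ∈ linSet M, classInner φ ζ = 0 := fun ζ hζ' =>
    classInner_isIrr_ne hφ (h.lin_irr hζ').1 fun e => hlin (e ▸ hζ')
  have hφω : ∀ ω, classInner φ (μ ω) = 0 := fun ω => classInner_isIrr_ne hφ (h.pmu.irr ω) (hφμ ω)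
  have hφ1 : classInner φ (fun _ => (1 : ℂ)) = 0 := by
    rw [← (h.pmu.one h.base h.oddM).1]; exact hφω 1
  have hζ1 : classInner ζ₀ (fun _ => (1 : ℂ)) = 0 := by rw [← ci_conj, h.one_lin h.mem, map_zero]
  have h0 : classInner β ζ₀ = -((e : ℤ) : ℂ) := by
    rw [hβ, ci_sub_left, ci_smul_left, hφl _ h.mem, classInner_isIrr_self hζ]
    push_cast; ring
  have hne' : ∀ ζ ∈ linSet M, ζ ≠ ζ₀ → classInner β ζ = 0 := fun ζ hζ' hne => by
    rw [hβ, ci_sub_left, ci_smul_left, hφl _ hζ', classInner_isIrr_ne hζ (h.lin_irr hζ').1 (Ne.symm hne)]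
    ring
  obtain ⟨b, b0, -, ble, -⟩ := h.proj hgen hs h0 hne'
  have hnorm : sqNorm β = 1 + (e : ℝ) ^ 2 := by
    rw [sqNorm, hβ, ci_sub_left, ci_sub_right, ci_sub_right, ci_smul_left, ci_smul_left, ci_smul_right,
      ci_smul_right, ← ci_conj φ ζ₀, hφl _ h.mem, map_zero, classInner_isIrr_self hφ,
      classInner_isIrr_self hζ, Complex.conj_natCast]
    simp; ring
  have hτ := h.tau_gen hgen hs
  set c := coefT χ (tauM M β) with hc
  have hadd := h.toSide.tau_additive hgen hs fun w h1 h2 => by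
    rw [hβ, Pi.sub_apply, Pi.smul_apply, h.lin_zero h.mem h2, smul_zero, sub_zero,
      hφdef, indFun_normal_eq_zero _ _ (h.base.not_mem_derIn h.le h2)]
  have h00 : c 1 1 = 0 := h.ti.coefT_one_one hτ (by
    rw [h.tau_ci_one (Coherence.isClassFunction_of_isGen hgen) hs, hβ, ci_sub_left, ci_smul_left, hφ1,
      hζ1, mul_zero, sub_zero, Int.cast_zero])
  have hss : s * s = 1 := by rcases h.sign with e | e <;> rw [e] <;> norm_num
  have hrow : ∀ l : rightHat W₁ W₂, l ≠ 1 → c 1 l = s * n * b := by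
    intro l hl
    obtain ⟨hαgen, hαs, -⟩ := h.alpha_facts h.mem hl
    have e1 := h.tau_ci (Coherence.isClassFunction_of_isGen hgen) hs
      (Coherence.isClassFunction_of_isGen hαgen) hαs
    have e2 : classInner β (alphaB μ s n ζ₀ l) = ((e : ℤ) : ℂ) * n := by
      rw [hβ, alphaB, ci_sub_left]
      simp only [ci_sub_right, ci_smul_left, ci_smul_right, hφω, hφl _ h.mem, hφ1, hζ1,
        ← ci_conj (μ l.1) ζ₀, h.mu_lin _ h.mem, map_zero, classInner_isIrr_self hζ, map_intCast]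
      push_cast; ring
    rw [h.tau_alpha ha hl, ci_sub_right, ci_smul_right, ci_smul_right, ci_sub_right,
      h.ti.coefT_spec hτ, h.ti.coefT_spec hτ, b0, ← hc, h00, e2, map_intCast, map_intCast] at e1
    have e' : s * (c 1 l - 0) - n * (b - e) = e * n := by exact_mod_cast e1
    linear_combination s * e' - c 1 l * hss
  have hsum : ∑ k, c k 1 = b := by
    obtain ⟨hgg, hgs, -⟩ := h.gamma_facts h.mem
    have e1 := h.tau_ci (Coherence.isClassFunction_of_isGen hgen) hs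
      (Coherence.isClassFunction_of_isGen hgg) hgs
    have e2 : classInner β (gammaB M ζ₀) = ((e : ℤ) : ℂ) := by
      obtain ⟨-, e2, -, -⟩ := h.ind_one_facts
      have e3 : classInner φ (indFun (derIn M) (fun _ => 1)) = 0 := by
        rw [hφdef]
        refine classInner_ind_ind_eq_zero (derIn M) Characters.isIrr_one hθ fun g e => hne 1 ?_
        rw [e, conjBy_principal, rightHat_coe_one, (h.pmu.one h.base h.oddM).1]
      rw [hβ, gammaB, ci_sub_left, ci_sub_right, ci_sub_right, ci_smul_left, ci_smul_left, e3,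
        hφl _ h.mem, classInner_isIrr_self hζ, ← ci_conj _ ζ₀, e2 _ h.mem, map_zero]
      push_cast; ring
    rw [hgood, ci_sub_right, h.ti.ci_col hτ, b0, ← hc, e2] at e1
    have e' : (∑ k, c k 1) - (b - e) = e := by exact_mod_cast e1
    linarith
  have hsq : (Fintype.card (rightHat W₁ W₂) - 1 : ℤ) * (n * b ^ 2) * (n * Nat.card W₁ - 2) ≤
      tableSq c := by
    set t := s * n * b with ht
    set p := (Fintype.card (rightHat W₁ W₂) : ℤ) with hp
    have hval : ∀ k l, l ≠ 1 → c k l = c k 1 + t := fun k l hl => by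
      have h1 := hadd k l
      rw [← hc, h00, add_zero, hrow l hl] at h1
      exact h1
    have hrowsum : ∀ k, ∑ l, c k l ^ 2 = c k 1 ^ 2 + (p - 1) * (c k 1 + t) ^ 2 := fun k => by
      rw [← Finset.add_sum_erase _ _ (Finset.mem_univ (1 : rightHat W₁ W₂)),
        Finset.sum_congr rfl (g := fun _ => (c k 1 + t) ^ 2)
          (fun l hl => by rw [hval k l (Finset.mem_erase.1 hl).1]),
        Finset.sum_const, Finset.card_erase_of_mem (Finset.mem_univ _), Finset.card_univ, nsmul_eq_mul,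
        Nat.cast_sub (by have := h.ti.three_le_right; omega), hp]
      push_cast; ring
    have htot : tableSq c = p * ∑ k, c k 1 ^ 2 + (p - 1) * (2 * t * b) +
        (p - 1) * (Nat.card W₁ : ℤ) * t ^ 2 := by
      rw [tableSq, Finset.sum_congr rfl fun k _ => hrowsum k, ← hsum, ← h.ti.card_left,
        Finset.sum_add_distrib, ← Finset.mul_sum]
      simp only [add_sq, Finset.sum_add_distrib, Finset.sum_const, Finset.card_univ, nsmul_eq_mul,
        ← Finset.sum_mul, ← Finset.mul_sum]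
      ring
    have ht2 : t ^ 2 = n ^ 2 * b ^ 2 := by
      rw [ht]; linear_combination n ^ 2 * b ^ 2 * hss
    have htb : -(n * b ^ 2) ≤ t * b := by
      rw [ht]
      have hn := h.two_le
      rcases h.sign with e | e <;> rw [e] <;> nlinarith [sq_nonneg b]
    have hp3 : 3 ≤ p := by rw [hp]; exact_mod_cast h.ti.three_le_right
    have hnn : 0 ≤ p * ∑ k, c k 1 ^ 2 :=
      mul_nonneg (by linarith) (Finset.sum_nonneg fun _ _ => sq_nonneg _)
    rw [htot, ht2]
    nlinarith [mul_le_mul_of_nonneg_left htb (show (0 : ℤ) ≤ p - 1 by linarith)]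
  have ble' : (linNum M : ℤ) * b ^ 2 - 2 * e * b + tableSq c ≤ 1 := by
    rw [hnorm] at ble
    have : (((linNum M : ℤ) * b ^ 2 - 2 * e * b + tableSq c : ℤ) : ℝ) ≤ ((1 : ℤ) : ℝ) := by
      push_cast; push_cast at ble; linarith
    exact_mod_cast this
  have hb : b = 0 := by
    by_contra hb
    have hn := h.two_le
    have hq : (3 : ℤ) ≤ Nat.card W₁ := by exact_mod_cast h.three_le_q
    have hp : (3 : ℤ) ≤ Fintype.card (rightHat W₁ W₂) := by exact_mod_cast h.ti.three_le_right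
    have hr : (2 : ℤ) ≤ linNum M := by exact_mod_cast h.two_le_linNum
    set K := n * (Nat.card W₁ : ℤ) with hK
    have hK6 : 6 ≤ K := by nlinarith
    have h1 : 4 * (K - 2) * b ^ 2 ≤
        (Fintype.card (rightHat W₁ W₂) - 1 : ℤ) * (n * b ^ 2) * (K - 2) := by
      have h2 : (4 : ℤ) ≤ (Fintype.card (rightHat W₁ W₂) - 1 : ℤ) * n := by nlinarith
      have h3 : 0 ≤ (K - 2) * b ^ 2 := mul_nonneg (by linarith) (sq_nonneg b)
      nlinarith [mul_le_mul_of_nonneg_right h2 h3]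
    have h4 : (4 * (K - 2) + 2) * b ^ 2 ≤ 1 + 2 * e * b := by
      nlinarith [mul_le_mul_of_nonneg_right hr (sq_nonneg b)]
    have he' : (0 : ℤ) ≤ e := by positivity
    rcases lt_trichotomy b 0 with hb0 | hb0 | hb0
    · nlinarith
    · exact hb hb0
    · have hb1 : b ≤ b ^ 2 := by nlinarith
      nlinarith [mul_le_mul_of_nonneg_right hle (le_of_lt hb0)]
  rw [b0, hb]
  push_cast; ring

/-- The value at the sum of the `μ_kl`. -/
theorem mu_val (hgood : GoodExt M W₁ W₂ χ f ζ₀) (ha : AZero M W₁ W₂ μ f s n ζ₀)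
    {l : rightHat W₁ W₂} (hl : l ≠ 1) :
    classInner (tauM M (∑ k : leftHat W₁ W₂, μ (k.1 * l.1) - μ l.1 1 • ζ₀)) (f ζ₀) = -(μ l.1 1) := by
  classical
  obtain ⟨hd, hdeg⟩ := h.mu_deg l hl
  have hss : (s : ℂ) * (s : ℂ) = 1 := by rcases h.sign with e | e <;> rw [e] <;> norm_num
  have hdec : ∑ k : leftHat W₁ W₂, μ (k.1 * l.1) - μ l.1 1 • ζ₀ =
      (Nat.card W₁ : ℂ) • alphaB μ s n ζ₀ l + (s : ℂ) • gammaB M ζ₀ +
        (s : ℂ) • ∑ k : leftHat W₁ W₂, indW M W₁ W₂ (tiAlpha k.1 l.1) := by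
    have hones : indFun (derIn M) (fun _ => 1) = ∑ k : leftHat W₁ W₂, μ k.1 := by
      rw [← h.base.sum_liftHat]
      exact Finset.sum_congr rfl fun k _ => ((h.pmu.left h.base h.oddM k).1).symm
    have hW : ∀ k : leftHat W₁ W₂, (s : ℂ) • indW M W₁ W₂ (tiAlpha k.1 l.1) =
        μ (k.1 * l.1) - μ l.1 - (s : ℂ) • μ k.1 + (s : ℂ) • (fun _ => (1 : ℂ)) := fun k => by
      rw [h.pmu.indW_tiAlpha h.base h.oddM k l, hd, smul_sub, smul_smul, hss, one_smul, smul_sub]
      abel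
    rw [Finset.smul_sum, Finset.sum_congr rfl fun k _ => hW k, Finset.sum_add_distrib,
      Finset.sum_sub_distrib, Finset.sum_sub_distrib, ← Finset.smul_sum, ← hones, Finset.sum_const,
      Finset.sum_const, Finset.card_univ, h.ti.card_left, ← Nat.cast_smul_eq_nsmul ℂ,
      ← Nat.cast_smul_eq_nsmul ℂ, hdeg]
    simp only [alphaB, gammaB]
    module
  rw [hdec, tauM, dade_add, dade_add, dade_smul, dade_smul, dade_smul, dade_sum, ci_add_left,
    ci_add_left, ci_smul_left, ci_smul_left, ci_smul_left, ci_sum_left]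
  change (Nat.card W₁ : ℂ) * classInner (tauM M (alphaB μ s n ζ₀ l)) (f ζ₀) +
    (s : ℂ) * classInner (tauM M (gammaB M ζ₀)) (f ζ₀) +
    (s : ℂ) * ∑ k : leftHat W₁ W₂, classInner (tauM M (indW M W₁ W₂ (tiAlpha k.1 l.1))) (f ζ₀) = _
  rw [ha l hl, hgood, ci_sub_left, h.col_f 1 h.mem, signed_self (h.ext.signed _ h.mem),
    Finset.sum_eq_zero (fun k _ => ?_), hdeg]
  · ring
  by_cases hk : k = 1
  · subst hk
    rw [h.pmu.indW_tiAlpha h.base h.oddM 1 l, leftHat_coe_one, (h.pmu.one h.base h.oddM).1,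
      show (1 : ↥(W₁ ⊔ W₂) →* ℂˣ) * l.1 = l.1 from MonoidHom.ext fun w => one_mul _, sub_self,
      sub_self, smul_zero, sub_zero, tauM, dade_zero]
    simp [classInner]
  · rw [h.toSide.tau_tiAlpha k l hk hl]
    have hfun : (fun g => 1 - eta χ k 1 g - eta χ 1 l g + eta χ k l g) =
        eta χ 1 1 - eta χ k 1 - eta χ 1 l + eta χ k l := by
      funext g
      simp [eta_one_one h.ti]
    rw [hfun, ci_add_left, ci_sub_left, ci_sub_left, h.eta_f _ _ h.mem, h.eta_f _ _ h.mem,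
      h.eta_f _ _ h.mem, h.eta_f _ _ h.mem]
    ring

/-- Values needed for the mass of `f ζ₀`. -/
theorem val_one (hgood : GoodExt M W₁ W₂ χ f ζ₀) :
    classInner (f ζ₀) (tauM M (ζ₀ - indFun (derIn M) (fun _ => 1))) = 1 := by
  rw [show ζ₀ - indFun (derIn M) (fun _ => 1) = -gammaB M ζ₀ by rw [gammaB]; abel, tauM, dade_neg]
  change classInner (f ζ₀) (-tauM M (gammaB M ζ₀)) = 1
  rw [hgood, ci_neg_right, ci_sub_right, ← ci_conj (col χ 1), h.col_f 1 h.mem, map_zero,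
    signed_self (h.ext.signed _ h.mem)]
  ring

theorem val_lin {ζ : ↥M → ℂ} (hζ : ζ ∈ linSet M) (hne : ζ ≠ ζ₀) :
    classInner (f ζ₀) (tauM M (ζ₀ - ζ)) = 1 := by
  rw [h.ext.diff _ h.mem _ hζ, ci_sub_right, signed_self (h.ext.signed _ h.mem),
    h.ext.inner _ h.mem _ hζ (Ne.symm hne)]
  ring

end BadCtx

end CfsgLib.OddOrder
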