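import Cfsg.Agent.OddOrder.PF7.Norm
import Cfsg.Agent.OddOrder.PF10.Galois
import Cfsg.Agent.OddOrder.PF12.Coherent
import Cfsg.Agent.OddOrderChar.DadeConj

/-!
# Tools for a Dade map: linearity, supports, masses and Cauchy's inequality
-/

set_option autoImplicit false
set_option linter.style.haveILetI false
set_option linter.unusedSectionVars false

namespace CfsgLib.OddOrder

open Cfsg CfsgLib.Characters CfsgLib.Coherence CfsgLib.OddOrderChar
open scoped ComplexConjugate

universe u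

variable {G : Type u} [Group G] {A B : Set G} {L : Subgroup G} {H : G → Subgroup G}

/-- The union of the conjugates of the cosets `a H a`, `a ∈ A`. -/
def dadeSupp (A : Set G) (H : G → Subgroup G) : Set G :=
  {g | ∃ a ∈ A, ∃ u ∈ H a, ∃ x : G, x * g * x⁻¹ = a * u}

theorem dadeSupp_eq_tildeOf (M : Subgroup G) (A : Set G) :
    dadeSupp A (supportR M) = tildeOf M A := by
  ext g
  constructor
  · rintro ⟨a, ha, u, hu, x, he⟩
    exact ⟨a, ha, u, hu, x⁻¹, by rw [← he]; group⟩
  · rintro ⟨a, ha, u, hu, y, rfl⟩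
    exact ⟨a, ha, u, hu, y⁻¹, by group⟩

theorem dadeSupp_mono (h : B ⊆ A) : dadeSupp B H ⊆ dadeSupp A H :=
  fun _ ⟨a, ha, r⟩ => ⟨a, h ha, r⟩

theorem dadeSupp_conj {g : G} (x : G) : x * g * x⁻¹ ∈ dadeSupp A H ↔ g ∈ dadeSupp A H := by
  constructor
  · rintro ⟨a, ha, u, hu, y, he⟩
    exact ⟨a, ha, u, hu, y * x, by rw [← he]; group⟩
  · rintro ⟨a, ha, u, hu, y, he⟩
    exact ⟨a, ha, u, hu, y * x⁻¹, by rw [← he]; group⟩

theorem mem_dadeSupp_self {a : G} (ha : a ∈ A) : a ∈ dadeSupp A H :=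
  ⟨a, ha, 1, one_mem _, 1, by simp⟩

/-- The Dade hypothesis passes to invariant subsets. -/
theorem dade_subset (hD : DadeHypothesis A L H) (hBA : B ⊆ A)
    (hconj : ∀ x ∈ L, ∀ b ∈ B, x * b * x⁻¹ ∈ B) : DadeHypothesis B L H where
  one_not_mem h := hD.one_not_mem (hBA h)
  subset := hBA.trans hD.subset
  conj_mem := hconj
  fusion a ha g hg := hD.fusion a (hBA ha) g (hBA hg)
  le_centralizer a ha := hD.le_centralizer a (hBA ha)
  conj_mem_H a ha := hD.conj_mem_H a (hBA ha)
  inf_eq_bot a ha := hD.inf_eq_bot a (hBA ha)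
  sup_eq a ha := hD.sup_eq a (hBA ha)
  coprime a ha b hb := hD.coprime a (hBA ha) b (hBA hb)

section Linear

theorem dade_add (α β : ↥L → ℂ) :
    dadeIsometry A L H (α + β) = dadeIsometry A L H α + dadeIsometry A L H β := by
  funext g
  by_cases h : ∃ a : ↥L, (a : G) ∈ A ∧ ∃ x : G, ∃ u ∈ H (a : G), x * g * x⁻¹ = (a : G) * u
  · simp only [dadeIsometry, dif_pos h, Pi.add_apply]
  · simp only [dadeIsometry, dif_neg h, Pi.add_apply, add_zero]

theorem dade_smul (c : ℂ) (α : ↥L → ℂ) :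
    dadeIsometry A L H (c • α) = c • dadeIsometry A L H α := by
  funext g
  by_cases h : ∃ a : ↥L, (a : G) ∈ A ∧ ∃ x : G, ∃ u ∈ H (a : G), x * g * x⁻¹ = (a : G) * u
  · simp only [dadeIsometry, dif_pos h, Pi.smul_apply]
  · simp only [dadeIsometry, dif_neg h, Pi.smul_apply, smul_zero]

/-- The Dade map as a linear map. -/
noncomputable def dadeLin (A : Set G) (L : Subgroup G) (H : G → Subgroup G) :
    (↥L → ℂ) →ₗ[ℂ] (G → ℂ) where
  toFun := dadeIsometry A L H
  map_add' := dade_add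
  map_smul' := dade_smul

theorem dadeLin_apply (α : ↥L → ℂ) : dadeLin A L H α = dadeIsometry A L H α := rfl

theorem dade_sub (α β : ↥L → ℂ) :
    dadeIsometry A L H (α - β) = dadeIsometry A L H α - dadeIsometry A L H β :=
  (dadeLin A L H).map_sub α β

theorem dade_neg (α : ↥L → ℂ) : dadeIsometry A L H (-α) = -dadeIsometry A L H α :=
  (dadeLin A L H).map_neg α

theorem dade_zero : dadeIsometry A L H (0 : ↥L → ℂ) = 0 := (dadeLin A L H).map_zero

theorem dade_sum {ι : Type*} (s : Finset ι) (f : ι → ↥L → ℂ) :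
    dadeIsometry A L H (∑ i ∈ s, f i) = ∑ i ∈ s, dadeIsometry A L H (f i) :=
  map_sum (dadeLin A L H) f s

theorem dade_apply_notMem (α : ↥L → ℂ) {g : G} (hg : g ∉ dadeSupp A H) :
    dadeIsometry A L H α g = 0 :=
  dade_apply_eq_zero α fun ⟨a, ha, x, u, hu, he⟩ => hg ⟨a, ha, u, hu, x, he⟩

variable [Finite G]

theorem dade_apply_mem (hD : DadeHypothesis A L H) {α : ↥L → ℂ} (hα : IsClassFunction ↥L α)
    (a : ↥L) (ha : (a : G) ∈ A) : dadeIsometry A L H α (a : G) = α a := by
  have := dade_apply_conj hD hα a ha (u := 1) (one_mem _) 1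
  simpa using this

theorem dade_apply_coset (hD : DadeHypothesis A L H) {α : ↥L → ℂ} (hα : IsClassFunction ↥L α)
    (a : ↥L) (ha : (a : G) ∈ A) {u : G} (hu : u ∈ H (a : G)) :
    dadeIsometry A L H α ((a : G) * u) = α a := by
  have := dade_apply_conj hD hα a ha hu 1
  simpa using this

/-- A function supported on an invariant part is mapped alike by the map of that part. -/
theorem dade_restrict (hD : DadeHypothesis A L H) (hBA : B ⊆ A)
    (hconj : ∀ x ∈ L, ∀ b ∈ B, x * b * x⁻¹ ∈ B) {α : ↥L → ℂ} (hα : IsClassFunction ↥L α)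
    (hsupp : ∀ x : ↥L, (x : G) ∉ B → α x = 0) :
    dadeIsometry A L H α = dadeIsometry B L H α := by
  funext g
  by_cases hA : g ∈ dadeSupp A H
  · obtain ⟨a, ha, u, hu, x, he⟩ := hA
    have hg : g = x⁻¹ * (a * u) * x⁻¹⁻¹ := by rw [← he]; group
    rw [hg]
    rw [dade_apply_conj hD hα ⟨a, hD.subset ha⟩ ha hu]
    by_cases hb : a ∈ B
    · rw [dade_apply_conj (dade_subset hD hBA hconj) hα ⟨a, hD.subset ha⟩ hb hu]
    · rw [hsupp ⟨a, hD.subset ha⟩ hb, dade_apply_notMem]
      rintro ⟨b, hb', v, hv, y, hy⟩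
      have hc : (y * x⁻¹) * a * (y * x⁻¹)⁻¹ = b :=
        dade_conj_coset hD ha (hBA hb') hu hv (by rw [← hy]; group)
      obtain ⟨l, hl, hle⟩ := hD.fusion a ha (y * x⁻¹) (hc ▸ hBA hb')
      refine hb ?_
      have := hconj l⁻¹ (inv_mem hl) b hb'
      rw [← hc, ← hle] at this
      simpa [mul_assoc] using this
  · rw [dade_apply_notMem α hA, dade_apply_notMem α fun h => hA (dadeSupp_mono hBA h)]

end Linear

variable [Fintype G] [Fintype L]

theorem classInner_dade_one (hD : DadeHypothesis A L H) {α : ↥L → ℂ} (hα : IsClassFunction ↥L α)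
    (hαA : ∀ x : ↥L, (x : G) ∉ A → α x = 0) :
    classInner (dadeIsometry A L H α) (fun _ => 1) = classInner α (fun _ => 1) := by
  classical
  refine classInner_dade_left hD hα hαA (fun _ _ => rfl) fun a _ => ?_
  rw [finsum_mem_eq_finite_toFinset_sum _ (Set.toFinite _), Finset.sum_const, nsmul_eq_mul,
    Set.Finite.card_toFinset, Fintype.card_eq_nat_card, mul_one, SetLike.coe_sort_coe,
    inv_mul_cancel₀ (Nat.cast_ne_zero.mpr Nat.card_pos.ne')]

/-- Reciprocity where the Dade subgroups are trivial. -/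
theorem classInner_dade_res (hD : DadeHypothesis A L H) {α : ↥L → ℂ} (hα : IsClassFunction ↥L α)
    (hαA : ∀ x : ↥L, (x : G) ∉ A → α x = 0)
    (hbot : ∀ x : ↥L, (x : G) ∈ A → α x ≠ 0 → H (x : G) = ⊥) {χ : G → ℂ}
    (hχ : IsClassFunction G χ) :
    classInner (dadeIsometry A L H α) χ = classInner α (fun x : ↥L => χ x) := by
  classical
  let ψ : ↥L → ℂ := fun a => (Nat.card (H a) : ℂ)⁻¹ * ∑ᶠ u ∈ (H a : Set G), χ (a * u)
  rw [classInner_dade_left hD hα hαA (ψ := ψ) hχ fun a _ => rfl]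
  unfold classInner
  congr 1
  refine Finset.sum_congr rfl fun x _ => ?_
  by_cases h0 : α x = 0
  · rw [h0, zero_mul, zero_mul]
  have hx : (x : G) ∈ A := by_contra fun h => h0 (hαA x h)
  congr 2
  show (Nat.card (H (x : G)) : ℂ)⁻¹ * _ = _
  rw [hbot x hx h0]
  simp

open Classical in
/-- The mass `(1/|G|) ∑_{g ∈ S} |f g|²`. -/
noncomputable def gMass (S : Set G) (f : G → ℂ) : ℝ :=
  (Nat.card G : ℝ)⁻¹ * ∑ g ∈ Finset.univ.filter (fun g => g ∈ S), Complex.normSq (f g)

theorem gMass_nonneg (S : Set G) (f : G → ℂ) : 0 ≤ gMass S f := by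
  classical
  exact mul_nonneg (by positivity) (Finset.sum_nonneg fun _ _ => Complex.normSq_nonneg _)

theorem gMass_univ (f : G → ℂ) : gMass Set.univ f = sqNorm f := by
  classical
  unfold gMass
  simp only [Set.mem_univ, Finset.filter_true]
  rw [sqNorm, classInner]
  rw [show (Nat.card G : ℂ)⁻¹ * ∑ g, f g * conj (f g) =
    (((Nat.card G : ℝ)⁻¹ * ∑ g, Complex.normSq (f g) : ℝ) : ℂ) from ?_, Complex.ofReal_re]
  push_cast
  exact congrArg _ (Finset.sum_congr rfl fun g _ => Complex.mul_conj _)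

theorem gMass_mono {S T : Set G} (h : S ⊆ T) (f : G → ℂ) : gMass S f ≤ gMass T f := by
  classical
  refine mul_le_mul_of_nonneg_left ?_ (by positivity)
  refine Finset.sum_le_sum_of_subset_of_nonneg (fun g => ?_) fun _ _ _ => Complex.normSq_nonneg _
  simp only [Finset.mem_filter, Finset.mem_univ, true_and]
  exact fun hg => h hg

theorem gMass_union {S T : Set G} (h : Disjoint S T) (f : G → ℂ) :
    gMass (S ∪ T) f = gMass S f + gMass T f := by
  classical
  rw [gMass, gMass, gMass, ← mul_add, ← Finset.sum_union]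
  · congr 1
    refine Finset.sum_congr ?_ fun _ _ => rfl
    ext g; simp
  · rw [Finset.disjoint_left]
    intro g h1 h2
    simp only [Finset.mem_filter] at h1 h2
    exact Set.disjoint_left.1 h h1.2 h2.2

theorem gMass_add_compl (S : Set G) (f : G → ℂ) : gMass S f + gMass Sᶜ f = sqNorm f := by
  rw [← gMass_union disjoint_compl_right, Set.union_compl_self, gMass_univ]

theorem gMass_congr {S : Set G} {f f' : G → ℂ} (h : ∀ g ∈ S, f g = f' g) :
    gMass S f = gMass S f' := by
  classical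
  unfold gMass
  congr 1
  exact Finset.sum_congr rfl fun g hg => by rw [h g (Finset.mem_filter.1 hg).2]

theorem gMass_one (S : Set G) : gMass S (fun _ => 1) = (S.ncard : ℝ) / Nat.card G := by
  classical
  rw [gMass, div_eq_inv_mul]
  congr 1
  rw [Set.ncard_eq_toFinset_card', Finset.sum_congr rfl fun _ _ => Complex.normSq_one,
    Finset.sum_const, nsmul_one]
  congr 2
  ext g; simp

theorem gMass_ge_of_forall {S : Set G} {f : G → ℂ} {c : ℝ}
    (h : ∀ g ∈ S, c ≤ Complex.normSq (f g)) : c * gMass S (fun _ => 1) ≤ gMass S f := by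
  classical
  rw [gMass, gMass, mul_left_comm]
  refine mul_le_mul_of_nonneg_left ?_ (by positivity)
  rw [Finset.mul_sum]
  refine Finset.sum_le_sum fun g hg => ?_
  rw [Complex.normSq_one, mul_one]
  exact h g (Finset.mem_filter.1 hg).2

/-- Cauchy's inequality against a function living on `S`. -/
theorem normSq_ci_le_gMass {S : Set G} {φ : G → ℂ} (hφ : ∀ g, g ∉ S → φ g = 0) (χ : G → ℂ) :
    Complex.normSq (classInner χ φ) ≤ gMass S χ * sqNorm φ := by
  classical
  set s := (Finset.univ : Finset G).filter (fun g => g ∈ S) with hs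
  have hsum : ∑ g, χ g * conj (φ g) = ∑ g ∈ s, χ g * conj (φ g) :=
    (Finset.sum_subset (Finset.subset_univ s) fun g _ hg => by
      rw [hφ g (by simpa [hs] using hg), map_zero, mul_zero]).symm
  have h1 : sqNorm φ = gMass S φ := by
    have h0 : gMass Sᶜ φ = 0 := by
      unfold gMass
      refine mul_eq_zero_of_right _ (Finset.sum_eq_zero fun g hg => ?_)
      rw [hφ g (by simpa using hg), map_zero]
    rw [← gMass_add_compl S φ, h0, add_zero]
  rw [h1, classInner, hsum, gMass, gMass, Complex.normSq_mul, map_inv₀, Complex.normSq_natCast]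
  rw [mul_inv, show (Nat.card G : ℝ)⁻¹ * (∑ g ∈ s, Complex.normSq (χ g)) *
    ((Nat.card G : ℝ)⁻¹ * ∑ g ∈ s, Complex.normSq (φ g)) = ((Nat.card G : ℝ)⁻¹ * (Nat.card G : ℝ)⁻¹) *
    ((∑ g ∈ s, Complex.normSq (χ g)) * ∑ g ∈ s, Complex.normSq (φ g)) by ring]
  refine mul_le_mul_of_nonneg_left ?_ (by positivity)
  rw [Complex.normSq_eq_norm_sq]
  refine le_trans (pow_le_pow_left₀ (norm_nonneg _) (norm_sum_le _ _) 2) ?_
  simp only [norm_mul, Complex.norm_conj, Complex.normSq_eq_norm_sq]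
  exact Finset.sum_mul_sq_le_sq_mul_sq s _ _

/-- The mass on a Dade support, coset by coset. -/
theorem gMass_dadeSupp (hD : DadeHypothesis A L H) {χ : G → ℂ} (hχ : IsClassFunction G χ) :
    gMass (dadeSupp A H) χ = (Nat.card L : ℝ)⁻¹ * ∑ᶠ a ∈ {a : ↥L | (a : G) ∈ A},
      (Nat.card (H (a : G)) : ℝ)⁻¹ * ∑ᶠ u ∈ (H (a : G) : Set G), Complex.normSq (χ ((a : G) * u)) := by
  classical
  have h := dade_support_normSq hD hχ
  rw [finsum_mem_eq_finite_toFinset_sum _ (Set.toFinite _)] at h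
  rw [gMass, finsum_mem_eq_finite_toFinset_sum _ (Set.toFinite _)]
  convert h using 2
  · refine Finset.sum_congr ?_ fun g _ => Complex.normSq_eq_norm_sq _
    ext g
    simp only [Finset.mem_filter, Finset.mem_univ, true_and, Set.Finite.mem_toFinset]
    rfl
  · refine (Finset.sum_subtype (F := inferInstance) (p := fun a : ↥L => (a : G) ∈ A) _ (by simp) _).trans ?_
    refine Finset.sum_congr rfl fun a _ => ?_
    congr 1
    rw [finsum_mem_eq_finite_toFinset_sum _ (Set.toFinite _)]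
    rw [Finset.sum_subtype (p := fun u : G => u ∈ H (a.1 : G)) _ (by simp)]
    exact Finset.sum_congr rfl fun u _ => Complex.normSq_eq_norm_sq _

/-- If every coset average is at least `c` in absolute square, the mass is at least `c |A| / |L|`. -/
theorem gMass_dadeSupp_ge (hD : DadeHypothesis A L H) {χ : G → ℂ} (hχ : IsClassFunction G χ)
    {c : ℝ} (hc : ∀ a ∈ A, c ≤ Complex.normSq (cosetMean χ a (H a))) :
    c * ((A.ncard : ℝ) / Nat.card L) ≤ gMass (dadeSupp A H) χ := by
  classical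
  rw [gMass_dadeSupp hD hχ, finsum_mem_eq_finite_toFinset_sum _ (Set.toFinite _), div_eq_inv_mul,
    mul_left_comm]
  refine mul_le_mul_of_nonneg_left ?_ (by positivity)
  have hcard : (Set.toFinite {a : ↥L | (a : G) ∈ A}).toFinset.card = A.ncard := by
    rw [← Set.ncard_eq_toFinset_card _ (Set.toFinite _)]
    refine Set.ncard_congr (fun a _ => (a : G)) (fun a ha => ha) (fun a b _ _ h => Subtype.ext h) ?_
    exact fun b hb => ⟨⟨b, hD.subset hb⟩, hb, rfl⟩
  rw [← hcard, mul_comm c, ← nsmul_eq_mul, ← Finset.sum_const]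
  refine Finset.sum_le_sum fun a ha => le_trans (hc a (by simpa using ha)) ?_
  have hn : (0 : ℝ) < Nat.card (H (a : G)) := by exact_mod_cast Nat.card_pos
  rw [le_inv_mul_iff₀ hn]
  refine le_trans (normSq_cosetMean_le χ (a : G) (H (a : G))) (le_of_eq ?_)
  rw [finsum_mem_eq_finite_toFinset_sum _ (Set.toFinite _)]
  exact (Finset.sum_subtype (p := fun u : G => u ∈ H (a : G)) _ (by simp)
    (fun u => Complex.normSq (χ ((a : G) * u)))).symm

/-- The relative size of a Dade support. -/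
theorem gMass_dadeSupp_one (hD : DadeHypothesis A L H) :
    gMass (dadeSupp A H) (fun _ => 1) = (A.ncard : ℝ) / Nat.card L := by
  classical
  rw [gMass_dadeSupp hD (fun _ _ => rfl), finsum_mem_eq_finite_toFinset_sum _ (Set.toFinite _),
    div_eq_inv_mul]
  congr 1
  have h1 : ∀ a : G, (Nat.card (H a) : ℝ)⁻¹ * ∑ᶠ u ∈ (H a : Set G), Complex.normSq 1 = 1 := by
    intro a
    rw [finsum_mem_eq_finite_toFinset_sum _ (Set.toFinite _), Finset.sum_const, Complex.normSq_one,
      nsmul_one, Set.Finite.card_toFinset, Fintype.card_eq_nat_card, SetLike.coe_sort_coe,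
      inv_mul_cancel₀ (Nat.cast_ne_zero.mpr Nat.card_pos.ne')]
  rw [Finset.sum_congr rfl fun (a : ↥L) _ => h1 (a : G), Finset.sum_const, nsmul_one]
  congr 1
  rw [← Set.ncard_eq_toFinset_card _ (Set.toFinite _)]
  exact Set.ncard_congr (fun a _ => (a : G)) (fun a ha => ha) (fun a b _ _ h => Subtype.ext h)
    fun b hb => ⟨⟨b, hD.subset hb⟩, hb, rfl⟩

/-- Cauchy's inequality for the Dade image: a lower bound for the mass on a support. -/
theorem gMass_ge_of_dade (hD : DadeHypothesis A L H) (hBA : B ⊆ A)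
    (hconj : ∀ x ∈ L, ∀ b ∈ B, x * b * x⁻¹ ∈ B) {ψ : ↥L → ℂ} (hψ : IsClassFunction ↥L ψ)
    (hsupp : ∀ x : ↥L, (x : G) ∉ B → ψ x = 0) (χ : G → ℂ) :
    Complex.normSq (classInner χ (dadeIsometry A L H ψ)) ≤ gMass (dadeSupp B H) χ * sqNorm ψ := by
  rw [dade_restrict hD hBA hconj hψ hsupp]
  refine le_trans (normSq_ci_le_gMass (fun g hg => dade_apply_notMem ψ hg) χ) (le_of_eq ?_)
  congr 1
  rw [sqNorm, sqNorm, classInner_dade (dade_subset hD hBA hconj) hψ hsupp hψ hsupp]

end CfsgLib.OddOrder
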