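import Cfsg.Agent.OddOrder.PF10.Setting

/-!
# The characters `Ind (λ χ)` of a maximal subgroup with elementary `M_F` (Peterfalvi 13-14)

For `H = M_F` elementary of order `b ^ a`, `a = |W₁|`, `b = |W₂|`, and `C = C_U(H)` the linear
characters of `HC` that are regular on `H` (stabiliser in `U` equal to `C`) induce the characters of
degree `a|U : C|` used in the final configuration.
-/

set_option autoImplicit false
set_option linter.style.haveILetI false
set_option linter.unusedSectionVars false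

namespace CfsgLib.OddOrder

open Cfsg CfsgLib.Characters CfsgLib.Coherence CfsgLib.OddOrderChar
open Subgroup (centralizer normalizer)

universe u

variable {G : Type u} [Group G] [Fintype G]

/-- A side of the final pair. -/
structure LamSide (M W₁ U W₂ : Subgroup G) [Fintype M]
    (χ : (↥(W₁ ⊔ W₂) →* ℂˣ) → (G → ℂ))
    (μ : (↥(W₁ ⊔ W₂) →* ℂˣ) → (↥M → ℂ)) (δ : (↥(W₁ ⊔ W₂) →* ℂˣ) → ℤ) : Prop
    extends Side M W₁ W₂ χ μ δ where
  data : IsTypePWith M W₁ U W₂
  prime₁ : (Nat.card W₁).Prime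
  prime₂ : (Nat.card W₂).Prime
  U_ne : U ≠ ⊥
  elem : IsElementaryAbelian (Nat.card W₂) (fittingHallOf M)
  card_H : Nat.card (fittingHallOf M) = Nat.card W₂ ^ Nat.card W₁
  derived_U : ⁅U, U⁆ ≤ centralizer (fittingHallOf M : Set G)

/-- `C = C_U(H)`. -/
def centU (M U : Subgroup G) : Subgroup G := U ⊓ centralizer (fittingHallOf M : Set G)

/-- `HC` inside `M`. -/
def baseHC (M U : Subgroup G) : Subgroup ↥M := (fittingHallOf M ⊔ centU M U).subgroupOf M

/-- The set `(HC)#`. -/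
def lamSet (M U : Subgroup G) : Set G :=
  ((fittingHallOf M ⊔ centU M U : Subgroup G) : Set G) \ {1}

/-- A linear character of `HC` is regular if only `C` fixes its restriction to `H`. -/
def IsRegularHC (M U : Subgroup G) (θ : ↥(baseHC M U) →* ℂˣ) : Prop :=
  ∀ u ∈ U, (∀ x y : ↥(baseHC M U), ((x : ↥M) : G) ∈ fittingHallOf M →
      ((y : ↥M) : G) = u * ((x : ↥M) : G) * u⁻¹ → θ y = θ x) → u ∈ centU M U

/-- `Λ`. -/
def lamChars (M U : Subgroup G) : Set (↥(baseHC M U) →* ℂˣ) := {θ | IsRegularHC M U θ}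

/-- The induced character of `θ`. -/
noncomputable def lamInd (M U : Subgroup G) [Fintype M] (θ : ↥(baseHC M U) →* ℂˣ) : ↥M → ℂ :=
  haveI := Fintype.ofFinite ↥(baseHC M U)
  indFun (baseHC M U) (fun x => (θ x : ℂ))

/-- `Σ_k μ_kl`. -/
noncomputable def muSum {M W₁ W₂ : Subgroup G} (μ : (↥(W₁ ⊔ W₂) →* ℂˣ) → (↥M → ℂ))
    (l : rightHat W₁ W₂) : ↥M → ℂ :=
  ∑ k : leftHat W₁ W₂, μ (k.1 * l.1)

/-- Some `Ind θ`, `θ` in `Λ`, is irreducible. -/
def HasLam (M U : Subgroup G) [Fintype M] : Prop :=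
  ∃ θ ∈ lamChars M U, IsIrrCharacter ↥M (lamInd M U θ)

end CfsgLib.OddOrder
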