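import Cfsg.Agent.OddOrder.PF10.Setting
import Cfsg.Agent.OddOrderChar.FixedChars

/-!
# The Dade images of differences of the characters `μ`, and the induced characters of the others
-/

set_option autoImplicit false
set_option linter.style.haveILetI false
set_option linter.unusedSectionVars false

namespace CfsgLib.OddOrder

open Cfsg CfsgLib.Characters CfsgLib.Coherence CfsgLib.OddOrderChar
open scoped ComplexConjugate

universe u

variable {G : Type u} [Group G] [Fintype G] {M W₁ W₂ : Subgroup G} [Fintype M]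

noncomputable local instance fintypeSubMuTau (H : Subgroup ↥M) : Fintype H := Fintype.ofFinite H

theorem indW_sub (f f' : ↥(W₁ ⊔ W₂) → ℂ) :
    indW M W₁ W₂ (f - f') = indW M W₁ W₂ f - indW M W₁ W₂ f' := by
  classical
  have e : (fun x : ↥((W₁ ⊔ W₂).subgroupOf M) => (f - f') ⟨((x : ↥M) : G), x.2⟩) =
      (fun x : ↥((W₁ ⊔ W₂).subgroupOf M) => f ⟨((x : ↥M) : G), x.2⟩) +
        (-1 : ℂ) • (fun x : ↥((W₁ ⊔ W₂).subgroupOf M) => f' ⟨((x : ↥M) : G), x.2⟩) := by
    funext x; simp [sub_eq_add_neg]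
  simp only [indW]
  rw [e, OddOrderChar.indFun_add, OddOrderChar.indFun_smul, neg_one_smul, sub_eq_add_neg]

namespace PMu

variable {hle : W₁ ⊔ W₂ ≤ M}
  {μ : (↥(W₁ ⊔ W₂) →* ℂˣ) → (↥M → ℂ)} {δ : (↥(W₁ ⊔ W₂) →* ℂˣ) → ℤ}
  (hμ : PMu M W₁ W₂ hle μ δ) (hB : PBase M W₁ W₂) (hodd : Odd (Nat.card M))
include hμ hB hodd

/-- Peterfalvi (4.3)(b): the function induced from `(1 - k)(1 - l)`. -/
theorem indW_tiAlpha (k : leftHat W₁ W₂) (l : rightHat W₁ W₂) :
    indW M W₁ W₂ (tiAlpha k.1 l.1) =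
      (δ l.1 : ℂ) • (μ (k.1 * l.1) - μ l.1) - (μ k.1 - (fun _ => 1)) := by
  have h1 : ∀ w : ↥(W₁ ⊔ W₂), (w : G) ∈ W₂ → (k.1 * l.1) w = l.1 w := fun w hw => by
    rw [MonoidHom.mul_apply, k.2 w hw, one_mul]
  have h2 : ∀ w : ↥(W₁ ⊔ W₂), (w : G) ∈ W₂ → k.1 w = (1 : ↥(W₁ ⊔ W₂) →* ℂˣ) w := k.2
  obtain ⟨-, e1⟩ := hμ.fibre _ _ h1
  obtain ⟨-, e2⟩ := hμ.fibre _ _ h2
  rw [(hμ.twist hB hodd k l.1).2] at e1
  rw [(hμ.left hB hodd k).2, (hμ.one hB hodd).1, Int.cast_one, one_smul] at e2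
  rw [← e1, ← e2, ← indW_sub]
  refine congrArg (indW M W₁ W₂) (funext fun w => ?_)
  rw [tiAlpha_eq]
  simp only [Pi.sub_apply, Pi.add_apply, homFun, MonoidHom.mul_apply, Units.val_mul,
    MonoidHom.one_apply, Units.val_one]
  ring

/-- Every irreducible character of `M'` other than the restrictions of the `μ` induces irreducibly,
whatever the order of `W₁`. -/
theorem ind_irr' {θ : derIn M → ℂ} (hθ : IsIrrCharacter ↥(derIn M) θ)
    (hne : ∀ l : rightHat W₁ W₂, θ ≠ fun x : derIn M => μ l.1 x) :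
    IsIrrCharacter M (indFun (derIn M) θ) ∧ ∀ ω, indFun (derIn M) θ ≠ μ ω := by
  classical
  have hfac := hB.factor
  haveI := hfac.cyclic
  letI : Fintype (rightHat W₁ W₂) := Fintype.ofFinite _
  have hW₁ne : W₁.subgroupOf M ≠ ⊥ := fun e => hB.snc.1 (by
    rw [Subgroup.subgroupOf_eq_bot] at e
    exact disjoint_self.1 (e.mono_right hB.le₁))
  haveI hW₁c : IsCyclic W₁ := isCyclic_of_injective (Subgroup.inclusion (le_sup_left : W₁ ≤ W₁ ⊔ W₂))
    (Subgroup.inclusion_injective _)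
  haveI hW₂c : IsCyclic W₂ := isCyclic_of_injective (Subgroup.inclusion (le_sup_right : W₂ ≤ W₁ ⊔ W₂))
    (Subgroup.inclusion_injective _)
  have hW₂M : W₂ ≤ M := hB.le₂.trans hB.derived_le
  haveI hc1 : IsCyclic ↥(W₁.subgroupOf M) :=
    isCyclic_of_surjective (Subgroup.subgroupOfEquivOfLe hB.le₁).symm.toMonoidHom
      (Subgroup.subgroupOfEquivOfLe hB.le₁).symm.surjective
  haveI hc2 : IsCyclic ↥(W₂.subgroupOf M) :=
    isCyclic_of_surjective (Subgroup.subgroupOfEquivOfLe hW₂M).symm.toMonoidHom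
      (Subgroup.subgroupOfEquivOfLe hW₂M).symm.surjective
  obtain ⟨hmoved, hcount, -⟩ := OddOrderChar.kernel_characters (derIn M) (W₂.subgroupOf M)
    (W₁.subgroupOf M) hB.derIn_inf hB.derIn_sup hW₁ne hc1
    (by rw [hB.compl.index_eq_card]; exact hB.hallIn) inferInstance hB.centIn
  have hfixμ : ∀ (l : rightHat W₁ W₂) (x : ↥M),
      conjBy (derIn M) (fun y : derIn M => μ l.1 y) x = fun y : derIn M => μ l.1 y := fun l x =>
    funext fun y => isClassFunction_of_isIrr (hμ.irr l.1) (y : ↥M) x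
  have hirr : ∃ x ∈ W₁.subgroupOf M, conjBy (derIn M) θ x ≠ θ := by
    by_contra hall
    push Not at hall
    let ι : rightHat W₁ W₂ → {φ : IrrCharacter ↥(derIn M) //
        ∀ x ∈ W₁.subgroupOf M, conjBy (derIn M) (φ : derIn M → ℂ) x = φ} := fun l =>
      ⟨⟨_, hμ.res_irr hB hodd l⟩, fun x _ => hfixμ l x⟩
    have hinj : Function.Injective ι := fun a b e =>
      hμ.res_inj hB hodd (congrArg Subtype.val (congrArg Subtype.val e) :)
    have hbij := (Nat.bijective_iff_injective_and_card ι).2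
      ⟨hinj, by rw [hcount, hfac.card_rightHat,
        Nat.card_congr (Subgroup.subgroupOfEquivOfLe hW₂M).toEquiv]⟩
    obtain ⟨l, hl⟩ := hbij.2 ⟨⟨θ, hθ⟩, hall⟩
    exact hne l (congrArg Subtype.val (congrArg Subtype.val hl)).symm
  have hI := hmoved θ hθ hirr
  refine ⟨hI, fun ω e => ?_⟩
  obtain ⟨⟨k, l⟩, rfl⟩ := hfac.hatEquiv.surjective ω
  rw [hfac.hatEquiv_apply] at e
  have h1 := OddOrderChar.classInner_indFun_left (derIn M) θ
    (isClassFunction_of_isIrr (hμ.irr (k.1 * l.1)))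
  rw [e, classInner_isIrr_self (hμ.irr _),
    show (fun x : derIn M => μ (k.1 * l.1) x) = fun x : derIn M => μ l.1 x from
      funext fun x => hμ.res_eq hB hodd k l.1 x,
    classInner_isIrr_ne hθ (hμ.res_irr hB hodd l) (hne l)] at h1
  exact one_ne_zero h1

end PMu

namespace Side

variable {χ : (↥(W₁ ⊔ W₂) →* ℂˣ) → (G → ℂ)} {μ : (↥(W₁ ⊔ W₂) →* ℂˣ) → (↥M → ℂ)}
  {δ : (↥(W₁ ⊔ W₂) →* ℂˣ) → ℤ} (h : Side M W₁ W₂ χ μ δ)
include h

/-- The image of `(1 - k)(1 - l)` induced from `W`. -/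
theorem tau_tiAlpha (k : leftHat W₁ W₂) (l : rightHat W₁ W₂) (hk : k ≠ 1) (hl : l ≠ 1) :
    tauM M (indW M W₁ W₂ (tiAlpha k.1 l.1)) =
      fun g => 1 - eta χ k 1 g - eta χ 1 l g + eta χ k l g := by
  rw [h.tau_indW fun w hw => tiAlpha_eq_zero k l hw]
  have hk' : k.1 ≠ 1 := fun e => hk (Subtype.ext e)
  have hl' : l.1 ≠ 1 := fun e => hl (Subtype.ext e)
  refine Eq.trans (congrArg _ (funext fun w => ?_)) ((h.ti.fam.induced_eq k.1 l.1 hk' hl' k.2 l.2).trans ?_)
  · rw [tiAlpha_eq]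
    simp only [Pi.sub_apply, Pi.add_apply, homFun, MonoidHom.mul_apply, Units.val_mul,
      MonoidHom.one_apply, Units.val_one]
  · funext g
    have e1 : eta χ k 1 = χ k.1 := congrArg χ (MonoidHom.ext fun w => mul_one _)
    have e2 : eta χ 1 l = χ l.1 := congrArg χ (MonoidHom.ext fun w => one_mul _)
    rw [e1, e2, eta]

/-- The table of a signed pair difference of the family. -/
theorem coefT_eta_sub (k k' : leftHat W₁ W₂) (l l' : rightHat W₁ W₂) [DecidableEq (leftHat W₁ W₂)]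
    [DecidableEq (rightHat W₁ W₂)] (s : ℤ) (a : leftHat W₁ W₂) (b : rightHat W₁ W₂) :
    classInner ((s : ℂ) • (eta χ k l - eta χ k' l')) (eta χ a b) =
      ((if a = k ∧ b = l then s else 0) - (if a = k' ∧ b = l' then s else 0) : ℤ) := by
  classical
  have e : ∀ (x : leftHat W₁ W₂) (y : rightHat W₁ W₂),
      classInner (eta χ x y) (eta χ a b) = if a = x ∧ b = y then 1 else 0 := by
    intro x y
    by_cases hxy : a = x ∧ b = y
    · obtain ⟨rfl, rfl⟩ := hxy
      rw [if_pos ⟨rfl, rfl⟩]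
      exact h.ti.eta_ortho.1 (a, b)
    · rw [if_neg hxy]
      exact h.ti.eta_ortho.2 (x, y) (a, b) fun e => hxy (by cases e; exact ⟨rfl, rfl⟩)
  rw [ci_smul_left, ci_sub_left, e, e]
  split_ifs <;> simp

/-- Peterfalvi (4.8): `τ (μ_0l - μ_0l') = δ (η_0l - η_0l')`. -/
theorem tau_mu_sub (l l' : rightHat W₁ W₂) (hl : l ≠ 1) (hl' : l' ≠ 1)
    (hδ : δ l.1 = δ l'.1) (hs : ∀ x : ↥M, (x : G) ∉ supportA0 M → (μ l.1 - μ l'.1) x = 0) :
    tauM M (μ l.1 - μ l'.1) = (δ l.1 : ℂ) • (eta χ 1 l - eta χ 1 l') := by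
  classical
  by_cases hll : l = l'
  · subst hll
    rw [sub_self, sub_self, smul_zero, tauM, dade_zero]
  set α := μ l.1 - μ l'.1 with hα
  have hgen : IsGeneralizedCharacter ↥M α :=
    Coherence.isGen_sub (Coherence.isGen_of_isIrr (h.pmu.irr _)) (Coherence.isGen_of_isIrr (h.pmu.irr _))
  have hτ := h.tau_gen hgen hs
  set e := (δ l.1 : ℂ) • (eta χ 1 l - eta χ 1 l') with he
  have hegen : IsGeneralizedCharacter G e :=
    Coherence.isGen_intCast_smul (Coherence.isGen_sub (h.ti.eta_gen 1 l) (h.ti.eta_gen 1 l')) _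
  set D : leftHat W₁ W₂ → rightHat W₁ W₂ → ℤ :=
    fun a b => (if a = 1 ∧ b = l then δ l.1 else 0) - (if a = 1 ∧ b = l' then δ l.1 else 0) with hD
  set X := coefT χ (tauM M α - e) with hX
  have hXD : ∀ a b, coefT χ (tauM M α) a b = X a b + D a b := by
    intro a b
    have h1 := h.ti.coefT_spec (Coherence.isGen_sub hτ hegen) a b
    rw [ci_sub_left, h.ti.coefT_spec hτ, h.coefT_eta_sub] at h1
    have h2 : coefT χ (tauM M α) a b - D a b = X a b := by exact_mod_cast h1
    omega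
  have hadd : AdditiveAt X 1 1 := by
    refine h.ti.additive (Coherence.isGen_sub hτ hegen) fun w h1 h2 => ?_
    rw [Pi.sub_apply, h.tau_on_V (Coherence.isClassFunction_of_isGen hgen) w h1 h2, hα, he]
    simp only [Pi.sub_apply, Pi.smul_apply, smul_eq_mul, eta, h.ti.fam.eq_on _ w h1 h2,
      h.pmu.value _ w h2, leftHat_coe_one, MonoidHom.mul_apply, MonoidHom.one_apply, one_mul, hδ]
    ring
  have h00 : X 1 1 = 0 := by
    have h1 := h.tau_ci_one (Coherence.isClassFunction_of_isGen hgen) hs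
    have e0 : classInner α (fun _ => (1 : ℂ)) = 0 := by
      rw [← (h.pmu.one h.base h.oddM).1, hα, ci_sub_left,
        classInner_isIrr_ne (h.pmu.irr l.1) (h.pmu.irr 1) (fun e => hl (Subtype.ext (h.pmu.inj e))),
        classInner_isIrr_ne (h.pmu.irr l'.1) (h.pmu.irr 1) (fun e => hl' (Subtype.ext (h.pmu.inj e))), sub_zero]
    rw [e0] at h1
    have h2 := h.ti.coefT_one_one hτ (z := 0) (by rw [h1, Int.cast_zero])
    have h3 := hXD 1 1
    rw [h2, hD] at h3
    simp only [true_and, if_neg (Ne.symm hl), if_neg (Ne.symm hl'), sub_zero, add_zero] at h3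
    exact h3.symm
  have hnorm : sqNorm (tauM M α) = 2 := by
    rw [h.tau_sqNorm (Coherence.isClassFunction_of_isGen hgen) hs, sqNorm, hα, ci_sub_left,
      ci_sub_right, ci_sub_right, classInner_isIrr_self (h.pmu.irr _),
      classInner_isIrr_self (h.pmu.irr _),
      classInner_isIrr_ne (h.pmu.irr _) (h.pmu.irr _) (fun e => hll (Subtype.ext (h.pmu.inj e))),
      classInner_isIrr_ne (h.pmu.irr _) (h.pmu.irr _) (fun e => hll (Subtype.ext (h.pmu.inj e)).symm)]
    norm_num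
  have hb := h.ti.table_bessel (κ := Empty) (v := fun i => i.elim) ⟨fun i => i.elim, fun i => i.elim⟩
    (fun i => i.elim) hτ
  rw [Finset.univ_eq_empty, Finset.sum_empty, zero_add, hnorm] at hb
  have hb' : tableSq (coefT χ (tauM M α)) ≤ 2 := by exact_mod_cast hb
  have hs1 : δ l.1 ≠ 0 := by rcases h.pmu.sign l.1 with e1 | e1 <;> omega
  have hX0 : ∀ a b, X a b = 0 := hadd.eq_zero_of_near (D := D) h.ti.three_le_left h.ti.three_le_right h00
    (fun a ha b => by simp [hD, ha]) (Or.inr ⟨l, l', by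
      simp [hD, hll, Ne.symm hll]; omega, by
      simp [hD, hll, Ne.symm hll]; omega, by
      simp [hD, hll, Ne.symm hll]; omega⟩)
    (by rw [show (fun a b => X a b + D a b) = coefT χ (tauM M α) from
      funext fun a => funext fun b => (hXD a b).symm]; exact hb')
  have hsq : tableSq (coefT χ (tauM M α)) = 2 := by
    have e2 : coefT χ (tauM M α) = D := funext fun a => funext fun b => by rw [hXD, hX0, zero_add]
    rw [e2, tableSq, Finset.sum_eq_single 1 (fun a _ ha => by simp [hD, ha]) (by simp),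
      ← Finset.sum_subset (Finset.subset_univ {l, l'}) (fun b _ hb => by
        simp only [Finset.mem_insert, Finset.mem_singleton, not_or] at hb
        simp [hD, hb.1, hb.2]),
      Finset.sum_pair hll]
    simp only [hD, true_and, if_pos rfl, if_neg hll, if_neg (Ne.symm hll)]
    rcases h.pmu.sign l.1 with e1 | e1 <;> simp [e1]
  have hexp := h.ti.table_expansion (κ := Empty) (v := fun i => i.elim)
    ⟨fun i => i.elim, fun i => i.elim⟩ (fun i => i.elim) hτ
    (by rw [Finset.univ_eq_empty, Finset.sum_empty, zero_add, hnorm, hsq]; norm_num)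
  rw [hexp, Finset.univ_eq_empty, Finset.sum_empty, zero_add,
    Finset.sum_eq_single 1 (fun a _ ha => Finset.sum_eq_zero fun b _ => by
      rw [hXD, hX0, hD]; simp [ha]) (by simp),
    ← Finset.sum_subset (Finset.subset_univ {l, l'}) (fun b _ hb => by
      simp only [Finset.mem_insert, Finset.mem_singleton, not_or] at hb
      rw [hXD, hX0, hD]; simp [hb.1, hb.2]),
    Finset.sum_pair hll, he, hXD, hXD, hX0, hX0]
  simp only [hD, true_and, if_pos rfl, if_neg hll, if_neg (Ne.symm hll)]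
  push_cast
  module

end Side

end CfsgLib.OddOrder
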