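import Cfsg.Agent.OddOrder.PF10.LamBase
import Cfsg.Agent.OddOrder.PF10.MuTau
import Cfsg.Agent.OddOrder.PF10.StructureChar
import Cfsg.Agent.Coherence.Induced

/-!
# The characters `Ind (λ χ)`: structure of `HC` and the trichotomy

* `LamSide.index_baseHC`: `|M : HC| = a u`.
* `LamSide.lamInd_cases`: `Ind θ` is irreducible outside the family `μ`, or is `Σ_k μ_kl` for some
  `l ≠ 1`; `LamSide.exists_lam_muSum`: every `l ≠ 1` occurs.
* `LamSide.mu_one`, `LamSide.delta_one`: `μ_kl (1) = u` and `δ_l = 1`.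
* `LamSide.no_lam`: if no `Ind θ` is irreducible then `C = 1` and `|Λ| = (b - 1) u`.
-/

set_option autoImplicit false
set_option linter.style.haveILetI false
set_option linter.unusedSectionVars false

namespace CfsgLib.OddOrder

open Cfsg CfsgLib.Characters CfsgLib.Coherence CfsgLib.OddOrderChar
open Subgroup (centralizer normalizer)
open scoped ComplexConjugate

universe u

variable {G : Type u} [Group G] [Fintype G] {M W₁ U W₂ : Subgroup G} [Fintype M]

noncomputable local instance fintypeSubLambdaBase (S : Subgroup ↥M) : Fintype S := Fintype.ofFinite S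
noncomputable local instance fintypeSubSubLambdaBase (S : Subgroup ↥M) (T : Subgroup ↥S) :
    Fintype T := Fintype.ofFinite T

theorem lamInd_def (θ : ↥(baseHC M U) →* ℂˣ) :
    lamInd M U θ = indFun (baseHC M U) (fun x => (θ x : ℂ)) := rfl

theorem centU_le_U : centU M U ≤ U := inf_le_left

theorem mem_lamChars {θ : ↥(baseHC M U) →* ℂˣ} : θ ∈ lamChars M U ↔ IsRegularHC M U θ := Iff.rfl

theorem mem_lamSet {g : G} :
    g ∈ lamSet M U ↔ g ∈ fittingHallOf M ⊔ centU M U ∧ g ≠ 1 := Iff.rfl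

theorem mem_baseHC {x : ↥M} : x ∈ baseHC M U ↔ (x : G) ∈ fittingHallOf M ⊔ centU M U := Iff.rfl

theorem galHom_regular {θ : ↥(baseHC M U) →* ℂˣ} (hθ : θ ∈ lamChars M U) (σ : ℂ ≃+* ℂ) :
    galHom σ θ ∈ lamChars M U := fun v hv hfix => hθ v hv fun x y hx hy =>
  Units.ext (σ.injective (congrArg Units.val (hfix x y hx hy)))

theorem lamInd_galHom (σ : ℂ ≃+* ℂ) (θ : ↥(baseHC M U) →* ℂˣ) :
    lamInd M U (galHom σ θ) = fun x => σ (lamInd M U θ x) := by
  funext g
  simp only [lamInd_def, indFun, map_mul, map_inv₀, map_natCast, map_sum]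
  congr 1
  refine Finset.sum_congr rfl fun x _ => ?_
  by_cases hx : x⁻¹ * g * x ∈ baseHC M U
  · rw [OddOrderChar.extendByZero_of_mem _ _ hx, OddOrderChar.extendByZero_of_mem _ _ hx]; rfl
  · rw [OddOrderChar.extendByZero_of_notMem _ _ hx, OddOrderChar.extendByZero_of_notMem _ _ hx,
      map_zero]

theorem inv_regular {θ : ↥(baseHC M U) →* ℂˣ} (hθ : θ ∈ lamChars M U) : θ⁻¹ ∈ lamChars M U :=
  fun v hv hfix => hθ v hv fun x y hx hy => inv_injective (hfix x y hx hy)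

theorem muSum_apply {μ : (↥(W₁ ⊔ W₂) →* ℂˣ) → (↥M → ℂ)} (l : rightHat W₁ W₂) (x : ↥M) :
    muSum μ l x = ∑ k : leftHat W₁ W₂, μ (k.1 * l.1) x :=
  Finset.sum_apply _ _ _

namespace LamSide

variable {χ : (↥(W₁ ⊔ W₂) →* ℂˣ) → (G → ℂ)} {μ : (↥(W₁ ⊔ W₂) →* ℂˣ) → (↥M → ℂ)}
  {δ : (↥(W₁ ⊔ W₂) →* ℂˣ) → ℤ}

section Group

variable (h : LamSide M W₁ U W₂ χ μ δ)
include h

theorem HC_eq : fittingHallOf M ⊔ centU M U = fittingOf M := (typeP_fitting_eq h.data).symm

theorem HC_le_derived : fittingHallOf M ⊔ centU M U ≤ ⁅M, M⁆ := h.HC_eq ▸ h.data.fitting_le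

theorem HC_le : fittingHallOf M ⊔ centU M U ≤ M := h.HC_le_derived.trans M.commutator_le_self

theorem baseHC_normal : (baseHC M U).Normal :=
  (Subgroup.normal_subgroupOf_iff_le_normalizer h.HC_le).2
    (h.HC_eq ▸ le_normalizer_fittingOf M)

theorem baseHC_le_derIn : baseHC M U ≤ derIn M := fun _ hx => h.HC_le_derived hx

theorem comm_H {x y : G} (hx : x ∈ fittingHallOf M) (hy : y ∈ fittingHallOf M) : x * y = y * x := by
  haveI := h.elem.1
  exact congrArg Subtype.val (mul_comm' (⟨x, hx⟩ : fittingHallOf M) ⟨y, hy⟩)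

theorem comm_centU {x c : G} (hx : x ∈ fittingHallOf M) (hc : c ∈ centU M U) : x * c = c * x :=
  Subgroup.mem_centralizer_iff.1 hc.2 x hx

theorem H_inf_U : fittingHallOf M ⊓ U = ⊥ := h.data.U_compl.2.2.1

theorem exists_HC {g : G} (hg : g ∈ fittingHallOf M ⊔ centU M U) :
    ∃ x ∈ fittingHallOf M, ∃ c ∈ centU M U, g = x * c := by
  have hn : centU M U ≤ normalizer (fittingHallOf M : Set G) :=
    (inf_le_left.trans (typeP_U_le h.data)).trans (le_normalizer_fittingHallOf M)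
  have h1 : g ∈ ((fittingHallOf M ⊔ centU M U : Subgroup G) : Set G) := hg
  rw [Subgroup.coe_mul_of_right_le_normalizer_left _ _ hn] at h1
  obtain ⟨x, hx, c, hc, e⟩ := Set.mem_mul.1 h1
  exact ⟨x, hx, c, hc, e.symm⟩

theorem HC_inf_U {g : G} (hg : g ∈ fittingHallOf M ⊔ centU M U) (hU : g ∈ U) : g ∈ centU M U := by
  obtain ⟨x, hx, c, hc, rfl⟩ := h.exists_HC hg
  have hxU : x ∈ U := by simpa using mul_mem hU (inv_mem (centU_le_U hc))
  have hx1 := (Subgroup.eq_bot_iff_forall _).1 h.H_inf_U x ⟨hx, hxU⟩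
  rwa [hx1, one_mul]

theorem lamSet_conj : ∀ x ∈ M, ∀ b ∈ lamSet M U, x * b * x⁻¹ ∈ lamSet M U := fun x hx b hb =>
  ⟨h.baseHC_normal.conj_mem ⟨b, h.HC_le hb.1⟩ hb.1 ⟨x, hx⟩, fun e => hb.2 (by
    rw [Set.mem_singleton_iff] at e
    simpa using e)⟩

theorem lamSet_subset : lamSet M U ⊆ supportA M := by
  intro g hg
  have hd : g ∈ ⁅M, M⁆ := h.HC_le_derived hg.1
  have hg1 : g ≠ 1 := hg.2
  rw [supportA, if_neg h.notI]
  refine ⟨hd, hg1, ?_⟩
  rw [typeCore]
  split_ifs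
  · exact ⟨g, hd, hg1, rfl⟩
  · obtain ⟨y, hy, hy1⟩ := (fittingHallOf M).bot_or_exists_ne_one.resolve_left fun e => by
      have h1 := h.card_H
      rw [e, Subgroup.card_bot] at h1
      exact absurd h1.symm (Nat.one_lt_pow (Nat.card_pos.ne' : Nat.card W₁ ≠ 0) h.prime₂.one_lt).ne'
    obtain ⟨x, hx, c, hc, rfl⟩ := h.exists_HC hg.1
    refine ⟨y, hy, hy1, ?_⟩
    rw [mul_assoc, ← h.comm_centU hy hc, ← mul_assoc, h.comm_H hx hy, mul_assoc]

theorem lamSet_subset0 : lamSet M U ⊆ supportA0 M := fun _ hg => Or.inl (h.lamSet_subset hg)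

theorem dadeLam : DadeHypothesis (lamSet M U) M (supportR M) :=
  dade_subset h.dade h.lamSet_subset0 h.lamSet_conj

theorem index_baseHC :
    (baseHC M U).index = Nat.card W₁ * (centU M U).relIndex U := by
  have h1 : (baseHC M U).index = (fittingHallOf M ⊔ centU M U).relIndex M := rfl
  have h2 : ⁅M, M⁆.relIndex M = Nat.card W₁ := h.base.index_derIn
  rw [h1, h.HC_eq, ← Subgroup.relIndex_mul_relIndex _ _ M h.data.fitting_le M.commutator_le_self,
    TypeP.relIndex_fitting h.data, h2, mul_comm]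
  rfl

theorem one_lt_u : 1 < (centU M U).relIndex U := (TypeP.kernel_index_modEq h.data h.U_ne).2

theorem u_modEq : Nat.card W₁ ∣ (centU M U).relIndex U - 1 :=
  (TypeP.kernel_index_modEq h.data h.U_ne).1

theorem u_ge : 2 * Nat.card W₁ + 1 ≤ (centU M U).relIndex U :=
  TypeP.kernel_index_ge h.data h.oddG h.U_ne

theorem three_le_a : 3 ≤ Nat.card W₁ := (snc_card_bounds h.ti.snc h.ti.odd).1

theorem three_le_b : 3 ≤ Nat.card W₂ := (snc_card_bounds h.ti.snc h.ti.odd).2.1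

theorem regular_derived {θ : ↥(baseHC M U) →* ℂˣ} (hθ : θ ∈ lamChars M U) {g : G}
    (hg : g ∈ ⁅M, M⁆)
    (hfix : ∀ x y : ↥(baseHC M U), ((x : ↥M) : G) ∈ fittingHallOf M →
      ((y : ↥M) : G) = g * ((x : ↥M) : G) * g⁻¹ → θ y = θ x) :
    g ∈ fittingHallOf M ⊔ centU M U := by
  obtain ⟨a, ha, v, hv, rfl⟩ := h.data.U_compl.2.2.2 g hg
  refine Subgroup.mul_mem_sup ha (hθ v hv fun x y hx hy => hfix x y hx ?_)
  have hy' : v * ((x : ↥M) : G) * v⁻¹ ∈ fittingHallOf M :=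
    mul_mem_conj (le_normalizer_fittingHallOf M (typeP_U_le h.data hv)) hx
  rw [hy]
  calc v * ((x : ↥M) : G) * v⁻¹ = a * (v * ((x : ↥M) : G) * v⁻¹) * a⁻¹ := by
        rw [h.comm_H ha hy', mul_inv_cancel_right]
    _ = _ := by group

/-- A character of `H` and one of `C` define one of `HC`. -/
theorem exists_hom (lam : ↥(fittingHallOf M) →* ℂˣ) (ψ : ↥(centU M U) →* ℂˣ) :
    ∃ θ : ↥(baseHC M U) →* ℂˣ,
      (∀ (x : ↥(baseHC M U)) (hx : ((x : ↥M) : G) ∈ fittingHallOf M), θ x = lam ⟨_, hx⟩) ∧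
      ∀ (x : ↥(baseHC M U)) (hx : ((x : ↥M) : G) ∈ centU M U), θ x = ψ ⟨_, hx⟩ := by
  classical
  have hcomm : ∀ (x : fittingHallOf M) (y : centU M U),
      Commute ((fittingHallOf M).subtype x) ((centU M U).subtype y) := fun x y =>
    h.comm_centU x.2 y.2
  set f := (fittingHallOf M).subtype.noncommCoprod (centU M U).subtype hcomm with hf
  have hinj : Function.Injective f := by
    rw [injective_iff_map_eq_one]
    rintro ⟨x, y⟩ e
    have e' : (x : G) * (y : G) = 1 := e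
    have hx : (x : G) ∈ fittingHallOf M ⊓ U :=
      ⟨x.2, by rw [eq_inv_of_mul_eq_one_left e']; exact U.inv_mem (centU_le_U y.2)⟩
    rw [h.H_inf_U, Subgroup.mem_bot] at hx
    rw [hx, one_mul] at e'
    exact Prod.ext (Subtype.ext hx) (Subtype.ext e')
  have hrange : ∀ x : ↥(baseHC M U), ((x : ↥M) : G) ∈ f.range := fun x => by
    obtain ⟨a, ha, c, hc, e⟩ := h.exists_HC (mem_baseHC.1 x.2)
    exact ⟨(⟨a, ha⟩, ⟨c, hc⟩), e.symm⟩
  let inc : ↥(baseHC M U) →* ↥f.range :=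
    (M.subtype.comp (baseHC M U).subtype).codRestrict f.range hrange
  let pr : ↥(baseHC M U) →* ↥(fittingHallOf M) × ↥(centU M U) := (MonoidHom.ofInjective hinj).symm.toMonoidHom.comp inc
  have hpr : ∀ x, f (pr x) = ((x : ↥M) : G) := fun x =>
    congrArg Subtype.val ((MonoidHom.ofInjective hinj).apply_symm_apply (inc x))
  refine ⟨(lam.coprod ψ).comp pr, fun x hx => ?_, fun x hx => ?_⟩
  · have e : pr x = (⟨_, hx⟩, 1) := hinj (by rw [hpr]; simp [hf])
    rw [MonoidHom.comp_apply, e, MonoidHom.coprod_apply, map_one, mul_one]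
  · have e : pr x = (1, ⟨_, hx⟩) := hinj (by rw [hpr]; simp [hf])
    rw [MonoidHom.comp_apply, e, MonoidHom.coprod_apply, map_one, one_mul]

theorem exists_gal_right {l l' : rightHat W₁ W₂} (hl : l ≠ 1) (hl' : l' ≠ 1) :
    ∃ σ : ℂ ≃+* ℂ, galHom σ l.1 = l'.1 := by
  classical
  have hfac := h.ti.factor
  haveI := hfac.cyclic
  letI : CommGroup ↥(W₁ ⊔ W₂) := IsCyclic.commGroup
  let S : Subgroup (↥(W₁ ⊔ W₂) →* ℂˣ) :=
    { carrier := {ω | ∀ w : ↥(W₁ ⊔ W₂), (w : G) ∈ W₁ → ω w = 1}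
      one_mem' := fun _ _ => rfl
      mul_mem' := fun {a b} ha hb w hw => by rw [MonoidHom.mul_apply, ha w hw, hb w hw, mul_one]
      inv_mem' := fun {a} ha w hw => by rw [MonoidHom.inv_apply, ha w hw, inv_one] }
  have hS : Nat.card S = Nat.card W₂ := hfac.card_rightHat
  haveI : Fact (Nat.card W₂).Prime := ⟨h.prime₂⟩
  have hlS : (⟨l.1, l.2⟩ : S) ≠ 1 := fun e => hl (Subtype.ext (congrArg Subtype.val e))
  obtain ⟨j, hj⟩ : ∃ j : ℕ, (⟨l.1, l.2⟩ : S) ^ j = ⟨l'.1, l'.2⟩ :=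
    mem_powers_iff_mem_zpowers.2 (mem_zpowers_of_prime_card hS hlS)
  have hpw : ∀ (z : S) (n : ℕ) (w : ↥(W₁ ⊔ W₂)), (z ^ n).1 w = z.1 w ^ n := by
    intro z n w
    induction n with
    | zero => rw [pow_zero, pow_zero]; rfl
    | succ n ih => rw [pow_succ, pow_succ, ← ih]; rfl
  have hjw : ∀ w, l'.1 w = l.1 w ^ j := fun w => by
    have h0 := congrArg (fun z : S => z.1 w) hj
    simp only [hpw] at h0
    exact h0.symm
  have hlp : ∀ w, l.1 w ^ Nat.card W₂ = 1 := fun w => by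
    have h0 := congrArg (fun z : S => z.1 w) (pow_card_eq_one' (x := (⟨l.1, l.2⟩ : S)))
    simp only [hpw, hS] at h0
    exact h0
  have hcop : Nat.Coprime (Nat.card W₂) j := by
    refine (h.prime₂.coprime_iff_not_dvd).2 fun hd => hl' (Subtype.ext (MonoidHom.ext fun w => ?_))
    obtain ⟨t, ht⟩ := hd
    rw [hjw w, ht, pow_mul, hlp, one_pow]
    rfl
  haveI : NeZero (Nat.card W₂) := ⟨h.prime₂.ne_zero⟩
  obtain ⟨σ, hσ⟩ := GaloisConj.exists_ringEquiv_pow (Nat.card W₂) j hcop.symm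
  refine ⟨σ, MonoidHom.ext fun w => Units.ext ?_⟩
  rw [galHom_apply, hσ _ (by rw [← Units.val_pow_eq_pow_val, hlp, Units.val_one]), hjw,
    Units.val_pow_eq_pow_val]

end Group

section Chars

variable (h : LamSide M W₁ U W₂ χ μ δ)
include h

theorem muSum_eq_ind (l : rightHat W₁ W₂) :
    muSum μ l = indFun (derIn M) (fun x => μ l.1 x) := (h.pmu.ind_res h.base h.oddM l).symm

theorem muSum_der (l : rightHat W₁ W₂) {x : ↥M} (hx : x ∈ derIn M) :
    muSum μ l x = (Nat.card W₁ : ℂ) * μ l.1 x := by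
  rw [muSum_apply, Finset.sum_congr rfl (g := fun _ => μ l.1 x) (fun k _ =>
    h.pmu.res_eq h.base h.oddM k l.1 ⟨x, hx⟩), Finset.sum_const, Finset.card_univ, h.ti.card_left,
    nsmul_eq_mul]

theorem ci_mu (k k' : leftHat W₁ W₂) (l l' : rightHat W₁ W₂) [Decidable (k = k' ∧ l = l')] :
    classInner (μ (k.1 * l.1)) (μ (k'.1 * l'.1)) = if k = k' ∧ l = l' then 1 else 0 := by
  by_cases e : k = k' ∧ l = l'
  · rw [if_pos e, e.1, e.2]; exact classInner_isIrr_self (h.pmu.irr _)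
  · rw [if_neg e]
    exact classInner_isIrr_ne (h.pmu.irr _) (h.pmu.irr _) fun e' => e (h.ti.hat_inj (h.pmu.inj e'))

theorem ci_mu_muSum (k : leftHat W₁ W₂) (l l' : rightHat W₁ W₂) [Decidable (l = l')] :
    classInner (μ (k.1 * l.1)) (muSum μ l') = if l = l' then 1 else 0 := by
  classical
  rw [muSum, ci_sum_right, Finset.sum_eq_single k (fun k' _ hk => by
      rw [h.ci_mu, if_neg fun e => hk e.1.symm]) (by simp), h.ci_mu]
  by_cases e : l = l'
  · rw [if_pos e, if_pos ⟨rfl, e⟩]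
  · rw [if_neg e, if_neg fun e' => e e'.2]

theorem ci_muSum (l l' : rightHat W₁ W₂) [Decidable (l = l')] :
    classInner (muSum μ l) (muSum μ l') = if l = l' then (Nat.card W₁ : ℂ) else 0 := by
  conv_lhs => arg 1; rw [muSum]
  rw [ci_sum_left, Finset.sum_congr rfl fun k _ => h.ci_mu_muSum k l l', Finset.sum_const,
    Finset.card_univ, h.ti.card_left, nsmul_eq_mul]
  split_ifs <;> simp

theorem muSum_inj {l l' : rightHat W₁ W₂} (e : muSum μ l = muSum μ l') : l = l' := by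
  classical
  by_contra hne
  have h1 := h.ci_muSum l l'
  rw [e, h.ci_muSum, if_pos rfl, if_neg hne] at h1
  exact Nat.cast_ne_zero.2 Nat.card_pos.ne' h1

theorem ci_irr_muSum {φ : ↥M → ℂ} (hφ : IsIrrCharacter M φ) (hne : ∀ ω, φ ≠ μ ω)
    (l : rightHat W₁ W₂) : classInner φ (muSum μ l) = 0 := by
  rw [muSum, ci_sum_right]
  exact Finset.sum_eq_zero fun k _ => classInner_isIrr_ne hφ (h.pmu.irr _) (hne _)

theorem muSum_conj (l : rightHat W₁ W₂) : muSum μ l⁻¹ = conjFun (muSum μ l) := by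
  funext x
  rw [muSum_apply, conjFun, muSum_apply, map_sum]
  refine Fintype.sum_bijective (fun k : leftHat W₁ W₂ => k⁻¹)
    (Function.Involutive.bijective leftHat_inv_inv) _ _ fun k => ?_
  have e : k.1 * (l⁻¹).1 = (k⁻¹.1 * l.1)⁻¹ := by
    refine MonoidHom.ext fun w => ?_
    simp only [leftHat_coe_inv, rightHat_coe_inv, MonoidHom.mul_apply, MonoidHom.inv_apply, mul_inv, inv_inv]
  rw [e, (h.pmu.conjugate h.base h.oddM _).1]
  rfl

theorem lamInd_one (θ : ↥(baseHC M U) →* ℂˣ) :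
    lamInd M U θ 1 = (Nat.card W₁ : ℂ) * ((centU M U).relIndex U : ℂ) := by
  haveI := h.baseHC_normal
  rw [lamInd_def, Coherence.ind_one, h.index_baseHC, map_one, Units.val_one, mul_one, Nat.cast_mul]

/-- `Ind θ` from `HC` to `M'` is irreducible of degree `u`. -/
theorem exists_psi {θ : ↥(baseHC M U) →* ℂˣ} (hθ : θ ∈ lamChars M U) :
    ∃ ψ : ↥(derIn M) → ℂ, IsIrrCharacter ↥(derIn M) ψ ∧
      ψ 1 = ((centU M U).relIndex U : ℂ) ∧ indFun (derIn M) ψ = lamInd M U θ := by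
  classical
  haveI := h.baseHC_normal
  set K : Subgroup ↥(derIn M) := (baseHC M U).subgroupOf (derIn M) with hK
  haveI hKn : K.Normal := Subgroup.Normal.subgroupOf inferInstance (derIn M)
  let ι : ↥K →* ↥(baseHC M U) :=
    ((derIn M).subtype.comp K.subtype).codRestrict (baseHC M U) fun x => x.2
  set φ : ↥K → ℂ := fun x => ((θ.comp ι) x : ℂ) with hφ
  have hφirr : IsIrrCharacter ↥K φ := isIrr_linChar (θ.comp ι)
  have hiner : ∀ g : ↥(derIn M), conjBy K φ g = φ ↔ g ∈ K := by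
    intro g
    constructor
    · intro hg
      have hgG : ((g : ↥M) : G) ∈ ⁅M, M⁆ := g.2
      refine h.regular_derived hθ hgG fun x y _ hy => ?_
      have h1 := congrFun hg ⟨⟨(x : ↥M), h.baseHC_le_derIn x.2⟩, x.2⟩
      rw [conjBy_apply, hφ] at h1
      refine Units.ext (Eq.trans ?_ h1)
      exact congrArg (fun z => (θ z : ℂ)) (Subtype.ext (Subtype.ext hy))
    · intro hg
      funext x
      rw [conjBy_apply, hφ]
      refine congrArg Units.val ?_
      show θ (ι ((⟨g, hg⟩ : ↥K) * x * (⟨g, hg⟩ : ↥K)⁻¹)) = θ (ι x)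
      rw [map_mul, map_mul, map_mul, map_mul, map_inv, map_inv, mul_comm (θ (ι ⟨g, hg⟩)),
        mul_inv_cancel_right]
  have hindex : K.index = (centU M U).relIndex U := by
    show (baseHC M U).relIndex (derIn M) = _
    rw [baseHC, derIn, Subgroup.relIndex_subgroupOf M.commutator_le_self, h.HC_eq]
    exact TypeP.relIndex_fitting h.data
  refine ⟨indFun K φ, isIrr_of_classInner_self
      (OddOrderChar.isCharacter_indFun K (isCharacter_of_isIrr hφirr)) ?_, ?_,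
    Characters.indFun_trans (baseHC M U) (derIn M) h.baseHC_le_derIn (fun x => (θ x : ℂ))⟩
  · rw [Coherence.ci_ind_self K hφirr]
    have : Coherence.stabCard K φ = Nat.card K :=
      Nat.card_congr (Equiv.subtypeEquivRight hiner)
    rw [this, div_self (Nat.cast_ne_zero.2 Nat.card_pos.ne')]
  · rw [Coherence.ind_one, hindex, hφ]
    simp

/-- `Ind θ` is irreducible outside the family or a column sum. -/
theorem lamInd_cases {θ : ↥(baseHC M U) →* ℂˣ} (hθ : θ ∈ lamChars M U) :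
    (IsIrrCharacter M (lamInd M U θ) ∧ ∀ ω, lamInd M U θ ≠ μ ω) ∨
      ∃ l : rightHat W₁ W₂, l ≠ 1 ∧ lamInd M U θ = muSum μ l := by
  classical
  obtain ⟨ψ, hψ, hψ1, hψe⟩ := h.exists_psi hθ
  by_cases hne : ∀ l : rightHat W₁ W₂, ψ ≠ fun x : derIn M => μ l.1 x
  · rw [← hψe]
    exact Or.inl (h.pmu.ind_irr h.base h.oddM h.prime₁ hψ hne)
  push Not at hne
  obtain ⟨l, rfl⟩ := hne
  refine Or.inr ⟨l, fun e => ?_, by rw [← hψe, h.muSum_eq_ind]⟩
  subst e
  simp only [rightHat_coe_one, (h.pmu.one h.base h.oddM).1] at hψ1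
  exact absurd (Nat.cast_eq_one.1 hψ1.symm) h.one_lt_u.ne'

theorem irr_ne_mu {θ : ↥(baseHC M U) →* ℂˣ} (hθ : θ ∈ lamChars M U)
    (hi : IsIrrCharacter M (lamInd M U θ)) : ∀ ω, lamInd M U θ ≠ μ ω := by
  classical
  rcases h.lamInd_cases hθ with ⟨-, h1⟩ | ⟨l, -, e⟩
  · exact h1
  · exfalso
    rw [e] at hi
    have h1 := classInner_isIrr_self hi
    rw [h.ci_muSum, if_pos rfl] at h1
    have h2 : Nat.card W₁ = 1 := by exact_mod_cast h1
    exact h.prime₁.ne_one h2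

theorem muSum_galHom (σ : ℂ ≃+* ℂ) (l l' : rightHat W₁ W₂) (e : galHom σ l.1 = l'.1) :
    muSum μ l' = fun x => σ (muSum μ l x) := by
  classical
  funext x
  rw [muSum_apply, muSum_apply, map_sum]
  refine (Fintype.sum_bijective (fun k : leftHat W₁ W₂ =>
    (⟨galHom σ k.1, fun w hw => Units.ext (by simp [galHom_apply, k.2 w hw])⟩ : leftHat W₁ W₂))
    (Finite.injective_iff_bijective.1 fun a b e' => ?_) _ _ fun k => ?_).symm
  · exact Subtype.ext (MonoidHom.ext fun w => Units.ext (σ.injective (by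
      have := congrArg (fun z : leftHat W₁ W₂ => (z.1 w : ℂ)) e'
      simpa [galHom_apply] using this)))
  · show σ (μ (k.1 * l.1) x) = μ (galHom σ k.1 * l'.1) x
    rw [← e, ← galHom_mul, (h.pmu.galois h.base h.oddM σ _).1]

/-- The existence of a fixed regular character. -/
theorem exists_fixed (ψ : ↥(centU M U) →* ℂˣ) :
    ∃ θ ∈ lamChars M U,
      (∀ (x : ↥(baseHC M U)) (hx : ((x : ↥M) : G) ∈ centU M U), θ x = ψ ⟨_, hx⟩) ∧
      ∀ w ∈ W₁, ∀ x y : ↥(baseHC M U), ((x : ↥M) : G) ∈ fittingHallOf M →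
        ((y : ↥M) : G) = w * ((x : ↥M) : G) * w⁻¹ → θ y = θ x := by
  obtain ⟨lam, -, -, hfix, hstab⟩ := TypeP.exists_regular h.data h.prime₂ h.U_ne
  obtain ⟨θ, hθH, hθC⟩ := h.exists_hom lam ψ
  have hmem : ∀ {g : G}, g ∈ M → ∀ {x y : ↥(baseHC M U)},
      ((x : ↥M) : G) ∈ fittingHallOf M → ((y : ↥M) : G) = g * ((x : ↥M) : G) * g⁻¹ →
      ((y : ↥M) : G) ∈ fittingHallOf M := fun hg _ _ hx hy => hy ▸
    mul_mem_conj (le_normalizer_fittingHallOf M hg) hx
  refine ⟨θ, fun v hv hf => hstab v hv (le_normalizer_fittingHallOf M (typeP_U_le h.data hv))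
    fun a => ?_, hθC, fun w hw x y hx hy => ?_⟩
  · have haF : (a : G) ∈ fittingHallOf M ⊔ centU M U := Subgroup.mem_sup_left a.2
    have hbH : v * (a : G) * v⁻¹ ∈ fittingHallOf M :=
      mul_mem_conj (le_normalizer_fittingHallOf M (typeP_U_le h.data hv)) a.2
    have hbF : v * (a : G) * v⁻¹ ∈ fittingHallOf M ⊔ centU M U := Subgroup.mem_sup_left hbH
    have h1 := hf ⟨⟨_, h.HC_le haF⟩, haF⟩ ⟨⟨_, h.HC_le hbF⟩, hbF⟩ a.2 rfl
    rwa [hθH _ hbH, hθH _ a.2] at h1
  · have hwM := TypeP.W₁_le h.data hw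
    rw [hθH y (hmem hwM hx hy), hθH x hx, ← hfix w hw (le_normalizer_fittingHallOf M hwM) ⟨_, hx⟩]
    exact congrArg lam (Subtype.ext hy)

/-- Some `W₁`-invariant `θ` induces to a column sum. -/
theorem exists_muSum : ∃ θ ∈ lamChars M U,
    (∀ w ∈ W₁, ∀ x y : ↥(baseHC M U),
      ((y : ↥M) : G) = w * ((x : ↥M) : G) * w⁻¹ → θ y = θ x) ∧
    ∃ l : rightHat W₁ W₂, l ≠ 1 ∧ lamInd M U θ = muSum μ l := by
  classical
  haveI := h.baseHC_normal
  obtain ⟨θ, hθ, hC, hW⟩ := h.exists_fixed 1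
  have hfix : ∀ w ∈ W₁, ∀ x y : ↥(baseHC M U),
      ((y : ↥M) : G) = w * ((x : ↥M) : G) * w⁻¹ → θ y = θ x := by
    intro w hw x y hy
    have hwM := TypeP.W₁_le h.data hw
    obtain ⟨a, ha, c, hc, e⟩ := h.exists_HC (mem_baseHC.1 x.2)
    have haF : a ∈ fittingHallOf M ⊔ centU M U := Subgroup.mem_sup_left ha
    have hcF : c ∈ fittingHallOf M ⊔ centU M U := Subgroup.mem_sup_right hc
    let xa : ↥(baseHC M U) := ⟨⟨a, h.HC_le haF⟩, haF⟩
    let xc : ↥(baseHC M U) := ⟨⟨c, h.HC_le hcF⟩, hcF⟩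
    let ya : ↥(baseHC M U) := ⟨⟨w, hwM⟩ * xa * ⟨w, hwM⟩⁻¹, h.baseHC_normal.conj_mem _ xa.2 _⟩
    let yc : ↥(baseHC M U) := ⟨⟨w, hwM⟩ * xc * ⟨w, hwM⟩⁻¹, h.baseHC_normal.conj_mem _ xc.2 _⟩
    have ex : x = xa * xc := Subtype.ext (Subtype.ext e)
    have e3 : θ ya = θ xa := hW w hw xa ya ha rfl
    have hyc : ((yc : ↥M) : G) ∈ centU M U :=
      mul_mem_conj (TypeP.centralizer_inf_U_normal h.data hwM) hc
    have e4 : θ yc = θ xc := by rw [hC yc hyc, hC xc hc, MonoidHom.one_apply, MonoidHom.one_apply]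
    have ey : y = ya * yc := Subtype.ext (Subtype.ext (by rw [hy, e]; simp [ya, yc, xa, xc, mul_assoc]))
    rw [ey, ex, map_mul, map_mul, e3, e4]
  refine ⟨θ, hθ, hfix, (h.lamInd_cases hθ).resolve_left fun ⟨hirr, _⟩ => ?_⟩
  obtain ⟨w, hw, hw1⟩ := W₁.bot_or_exists_ne_one.resolve_left h.data.W₁_ne
  set φ : ↥(baseHC M U) → ℂ := fun x => (θ x : ℂ) with hφ
  have hst : Coherence.stabCard (baseHC M U) φ = Nat.card (baseHC M U) := by
    have h1 := classInner_isIrr_self hirr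
    rw [lamInd_def, Coherence.ci_ind_self (baseHC M U) (isIrr_linChar θ),
      div_eq_one_iff_eq (Nat.cast_ne_zero.2 Nat.card_pos.ne')] at h1
    exact_mod_cast h1
  have hsub : (baseHC M U : Set ↥M) ⊆ {g | conjBy (baseHC M U) φ g = φ} := by
    intro g hg
    funext x
    rw [conjBy_apply, hφ]
    refine congrArg Units.val ?_
    show θ ((⟨g, hg⟩ : ↥(baseHC M U)) * x * (⟨g, hg⟩ : ↥(baseHC M U))⁻¹) = θ x
    rw [map_mul, map_mul, map_inv, mul_comm (θ ⟨g, hg⟩), mul_inv_cancel_right]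
  have heq := Set.eq_of_subset_of_ncard_le hsub
    (le_of_eq ((Nat.card_coe_set_eq _).symm.trans (hst.trans (Nat.card_coe_set_eq _))))
  have hwM := TypeP.W₁_le h.data hw
  have hwfix : (⟨w, hwM⟩ : ↥M) ∈ {g | conjBy (baseHC M U) φ g = φ} := by
    funext x
    rw [conjBy_apply, hφ]
    exact congrArg Units.val (hfix w hw x _ rfl)
  rw [← heq] at hwfix
  have h2 : w ∈ W₁ ⊓ ⁅M, M⁆ := ⟨hw, h.HC_le_derived hwfix⟩
  rw [TypeP.W₁_inf_derived h.data, Subgroup.mem_bot] at h2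
  exact hw1 h2

/-- `Λ` is invariant under conjugation. -/
theorem conj_regular [(baseHC M U).Normal] {θ₀ : ↥(baseHC M U) →* ℂˣ} (hθ₀ : θ₀ ∈ lamChars M U)
    (g : ↥M) : θ₀.comp (MulAut.conjNormal g).toMonoidHom ∈ lamChars M U := by
  intro v hv hfix
  have hgv : (g : G) * v * (g : G)⁻¹ ∈ ⁅M, M⁆ :=
    (derIn_normal M).conj_mem (⟨v, typeP_U_le h.data hv⟩ : ↥M) (TypeP.U_le_derived h.data hv) g
  have h1 := h.regular_derived hθ₀ hgv fun x y hx hy => ?_
  · refine h.HC_inf_U ?_ hv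
    have h2 := h.baseHC_normal.conj_mem ⟨_, h.HC_le h1⟩ h1 g⁻¹
    rw [mem_baseHC] at h2
    simpa [mul_assoc] using h2
  · set x' : ↥(baseHC M U) := MulAut.conjNormal g⁻¹ x with hx'
    set y' : ↥(baseHC M U) := MulAut.conjNormal g⁻¹ y with hy'
    have ex : ((x' : ↥M) : G) = (g : G)⁻¹ * ((x : ↥M) : G) * (g : G) := by
      rw [hx', MulAut.conjNormal_apply]; simp
    have ey : ((y' : ↥M) : G) = (g : G)⁻¹ * ((y : ↥M) : G) * (g : G) := by
      rw [hy', MulAut.conjNormal_apply]; simp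
    have hx'H : ((x' : ↥M) : G) ∈ fittingHallOf M := by
      have := mul_mem_conj (le_normalizer_fittingHallOf M (inv_mem g.2)) hx
      rw [ex]; simpa using this
    have h3 := hfix x' y' hx'H (by rw [ex, ey, hy]; group)
    have e : ∀ z : ↥(baseHC M U), MulAut.conjNormal g (MulAut.conjNormal g⁻¹ z) = z :=
      fun z => Subtype.ext (by rw [MulAut.conjNormal_apply, MulAut.conjNormal_apply]; group)
    change θ₀ (MulAut.conjNormal g y') = θ₀ (MulAut.conjNormal g x') at h3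
    rwa [hx', hy', e, e] at h3

/-- Every column sum outside the first occurs. -/
theorem exists_lam_muSum {l : rightHat W₁ W₂} (hl : l ≠ 1) :
    ∃ θ ∈ lamChars M U, lamInd M U θ = muSum μ l := by
  obtain ⟨θ, hθ, -, l₀, hl₀, e⟩ := h.exists_muSum
  obtain ⟨σ, hσ⟩ := h.exists_gal_right hl₀ hl
  exact ⟨galHom σ θ, galHom_regular hθ σ, by rw [lamInd_galHom, e, h.muSum_galHom σ l₀ l hσ]⟩

theorem mu_one {l : rightHat W₁ W₂} (hl : l ≠ 1) (k : leftHat W₁ W₂) :
    μ (k.1 * l.1) 1 = ((centU M U).relIndex U : ℂ) := by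
  obtain ⟨θ, -, e⟩ := h.exists_lam_muSum hl
  have h1 := h.lamInd_one θ
  rw [e, h.muSum_der l (one_mem _)] at h1
  have h2 := mul_left_cancel₀ (Nat.cast_ne_zero.2 Nat.card_pos.ne') h1
  rw [← h2]
  exact h.pmu.res_eq h.base h.oddM k l.1 1

theorem delta_one {l : rightHat W₁ W₂} (hl : l ≠ 1) : δ l.1 = 1 := by
  refine (h.pmu.sign l.1).resolve_right fun e => ?_
  obtain ⟨n, hn⟩ := h.pmu.degree l.1
  obtain ⟨t, ht⟩ := h.u_modEq
  have h1 := h.mu_one hl 1
  rw [leftHat_coe_one, show (1 : ↥(W₁ ⊔ W₂) →* ℂˣ) * l.1 = l.1 from MonoidHom.ext fun w => one_mul _] at h1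
  rw [h1, e] at hn
  have hu : ((centU M U).relIndex U : ℂ) = (Nat.card W₁ : ℂ) * t + 1 := by
    have := h.one_lt_u
    rw [← Nat.cast_mul, ← ht, Nat.cast_sub this.le]
    simp
  rw [hu] at hn
  have h2 : ((Nat.card W₁ : ℤ) * t + 1) - (-1) = n * Nat.card W₁ := by exact_mod_cast hn
  have hd : (Nat.card W₁ : ℤ) ∣ 2 := ⟨n - t, by linarith⟩
  have h3 := Int.le_of_dvd (by norm_num) hd
  have := h.three_le_a
  omega

/-- The sum over `l ≠ 1` of the multiplicities: without irreducible `Ind θ`, `C = 1`. -/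
theorem centU_eq_bot (hn : ¬ HasLam M U) : centU M U = ⊥ := by
  classical
  haveI := h.baseHC_normal
  set C := centU M U with hCdef
  haveI : Group.IsNilpotent C := by
    haveI := h.data.U_nilpotent
    exact nilpotent_of_mulEquiv (Subgroup.subgroupOfEquivOfLe (centU_le_U (M := M) (U := U)))
  by_contra hne
  haveI : Nontrivial C := (Subgroup.nontrivial_iff_ne_bot C).2 hne
  haveI : Group.IsSolvable C := inferInstance
  have hlt : commutator C < ⊤ := IsSolvable.commutator_lt_top_of_nontrivial C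
  obtain ⟨z, hz⟩ : ∃ z : C, z ∉ commutator C := by
    by_contra hall
    push Not at hall
    exact hlt.ne (eq_top_iff.2 fun x _ => hall x)
  haveI : NeZero (Monoid.exponent (Abelianization C)) := ⟨Monoid.exponent_ne_zero_of_finite⟩
  obtain ⟨f, hf⟩ := CommGroup.exists_apply_ne_one_of_hasEnoughRootsOfUnity (Abelianization C) ℂ
    (a := Abelianization.of z) (fun e => hz (by rwa [← Abelianization.ker_of, MonoidHom.mem_ker]))
  set ψ : C →* ℂˣ := f.comp Abelianization.of with hψ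
  obtain ⟨θ, hθ, hC, hW⟩ := h.exists_fixed ψ
  obtain ⟨l, -, e⟩ := (h.lamInd_cases hθ).resolve_left fun hi => hn ⟨θ, hθ, hi.1⟩
  set φ : ↥(baseHC M U) → ℂ := fun x => (θ x : ℂ) with hφ
  -- something outside `M'` fixes `θ`
  obtain ⟨g, hgfix, hgK⟩ : ∃ g : ↥M, conjBy (baseHC M U) φ g = φ ∧ g ∉ baseHC M U := by
    by_contra hall
    push Not at hall
    have h1 : Coherence.stabCard (baseHC M U) φ ≤ Nat.card (baseHC M U) :=
      Nat.card_le_card_of_injective (fun g => (⟨g.1, hall g.1 g.2⟩ : ↥(baseHC M U)))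
        fun a b e' => Subtype.ext (congrArg Subtype.val e' :)
    have h2 := h.ci_muSum l l
    rw [if_pos rfl, ← e, lamInd_def, Coherence.ci_ind_self (baseHC M U) (isIrr_linChar θ),
      div_eq_iff (Nat.cast_ne_zero.2 Nat.card_pos.ne'), ← Nat.cast_mul, Nat.cast_inj] at h2
    have := h.three_le_a
    have := Nat.card_pos (α := ↥(baseHC M U))
    nlinarith
  have hfixG : ∀ x y : ↥(baseHC M U), ((y : ↥M) : G) = (g : G) * ((x : ↥M) : G) * (g : G)⁻¹ →
      θ y = θ x := fun x y hy => by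
    have h1 := congrFun hgfix x
    rw [conjBy_apply, hφ] at h1
    exact Units.ext (Eq.trans (congrArg (fun z => (θ z : ℂ)) (Subtype.ext (Subtype.ext hy))) h1)
  obtain ⟨a, ha, w, hw, hga⟩ := h.data.W₁_compl.2.2.2 g g.2
  have hwM := TypeP.W₁_le h.data hw
  have haM : a ∈ M := M.commutator_le_self ha
  -- the part in `M'` lies in `HC`
  have haK : a ∈ fittingHallOf M ⊔ C := by
    refine h.regular_derived hθ ha fun x y hx hy => ?_
    set x' : G := w⁻¹ * ((x : ↥M) : G) * w with hx'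
    have hx'H : x' ∈ fittingHallOf M := by
      have := mul_mem_conj (le_normalizer_fittingHallOf M (inv_mem hwM)) hx
      simpa [hx'] using this
    have hx'F : x' ∈ fittingHallOf M ⊔ C := Subgroup.mem_sup_left hx'H
    let z : ↥(baseHC M U) := ⟨⟨x', h.HC_le hx'F⟩, hx'F⟩
    have h1 : θ y = θ z := hfixG z y (by rw [hy, hga, show ((z : ↥M) : G) = x' from rfl, hx']; group)
    have h2 : θ x = θ z := hW w hw z x hx'H
      (by rw [show ((z : ↥M) : G) = x' from rfl, hx']; group)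
    rw [h1, h2]
  have hw1 : w ≠ 1 := fun e' => hgK (by rw [mem_baseHC, hga, e', mul_one]; exact haK)
  -- `ψ` is fixed by `w`
  have hψw : ∀ c : C, ∀ hc : w * (c : G) * w⁻¹ ∈ C, ψ ⟨_, hc⟩ = ψ c := by
    intro c hc
    have hcF : (c : G) ∈ fittingHallOf M ⊔ C := Subgroup.mem_sup_right c.2
    have hc'F : w * (c : G) * w⁻¹ ∈ fittingHallOf M ⊔ C := Subgroup.mem_sup_right hc
    let x : ↥(baseHC M U) := ⟨⟨_, h.HC_le hcF⟩, hcF⟩
    let x' : ↥(baseHC M U) := ⟨⟨_, h.HC_le hc'F⟩, hc'F⟩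
    let ya : ↥(baseHC M U) := ⟨⟨a, haM⟩, haK⟩
    have h1 : θ (ya * x' * ya⁻¹) = θ x := hfixG x _ (by
      show a * (w * (c : G) * w⁻¹) * a⁻¹ = (g : G) * (c : G) * (g : G)⁻¹
      rw [hga]; group)
    rw [map_mul, map_mul, map_inv, mul_comm (θ ya), mul_inv_cancel_right, hC x' hc, hC x c.2] at h1
    exact h1
  have hnorm : ∀ c : C, w * (c : G) * w⁻¹ ∈ C := fun c =>
    mul_mem_conj (TypeP.centralizer_inf_U_normal h.data hwM) c.2
  set com : C → C := fun c => ⟨_, hnorm c⟩ * c⁻¹ with hcom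
  have hinj : Function.Injective com := by
    intro c d e'
    have e1 : w * (c : G) * w⁻¹ * (c : G)⁻¹ = w * (d : G) * w⁻¹ * (d : G)⁻¹ :=
      congrArg Subtype.val e'
    have hx : ((c⁻¹ * d : C) : G) ∈ U ⊓ centralizer ({w} : Set G) := by
      refine ⟨centU_le_U (c⁻¹ * d).2, Subgroup.mem_centralizer_singleton_iff.2 ?_⟩
      show (c : G)⁻¹ * d * w = w * ((c : G)⁻¹ * d)
      refine Eq.symm ?_
      calc w * ((c : G)⁻¹ * d) = (w * (c : G) * w⁻¹)⁻¹ * (w * (d : G) * w⁻¹) * w := by group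
        _ = (w * (c : G) * w⁻¹)⁻¹ * ((w * (c : G) * w⁻¹ * (c : G)⁻¹) * (d : G)) * w := by
            rw [e1]; group
        _ = _ := by group
    rw [TypeP.U_fpf h.data w hw hw1, Subgroup.mem_bot] at hx
    exact inv_mul_eq_one.1 (Subtype.ext hx)
  obtain ⟨c, hc⟩ := (Finite.injective_iff_surjective.1 hinj) z
  apply hf
  show ψ z = 1
  rw [← hc, hcom]
  simp only [map_mul, map_inv, hψw c (hnorm c), mul_inv_cancel]

/-- Without irreducible `Ind θ` there are `(b - 1) u` members of `Λ`. -/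
theorem card_lamChars (hn : ¬ HasLam M U) :
    Nat.card ↥(lamChars M U) = (Nat.card W₂ - 1) * (centU M U).relIndex U := by
  classical
  haveI := h.baseHC_normal
  haveI : Finite ↥(lamChars M U) := Subtype.finite
  letI : Fintype ↥(lamChars M U) := Fintype.ofFinite _
  have hex : ∀ θ : ↥(lamChars M U), ∃ l : rightHat W₁ W₂, l ≠ 1 ∧ lamInd M U θ.1 = muSum μ l :=
    fun θ => (h.lamInd_cases θ.2).resolve_left fun hi => hn ⟨θ.1, θ.2, hi.1⟩
  choose F hF1 hF using hex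
  have hfib : ∀ l ∈ Finset.univ.erase (1 : rightHat W₁ W₂),
      (Finset.univ.filter fun θ => F θ = l).card = (centU M U).relIndex U := by
    intro l hl
    obtain ⟨θ₀, hθ₀, e₀⟩ := h.exists_lam_muSum (Finset.mem_erase.1 hl).1
    set φ : ↥(baseHC M U) → ℂ := fun x => (θ₀ x : ℂ) with hφ
    have horb : (conjOrbit (baseHC M U) φ).card = (centU M U).relIndex U := by
      have h1 := Coherence.card_orbit_mul_stab (baseHC M U) φ
      have h2 := h.ci_muSum l l
      rw [if_pos rfl, ← e₀, lamInd_def, Coherence.ci_ind_self (baseHC M U) (isIrr_linChar θ₀),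
        div_eq_iff (Nat.cast_ne_zero.2 Nat.card_pos.ne'), ← Nat.cast_mul, Nat.cast_inj] at h2
      rw [h2, ← (baseHC M U).index_mul_card, h.index_baseHC, ← mul_assoc] at h1
      have h3 := Nat.eq_of_mul_eq_mul_right Nat.card_pos h1
      rw [mul_comm] at h3
      exact Nat.eq_of_mul_eq_mul_left Nat.card_pos h3
    rw [← horb]
    refine Finset.card_bij (fun θ _ => fun x => (θ.1 x : ℂ)) (fun θ hθ => ?_)
      (fun a _ b _ e => Subtype.ext (MonoidHom.ext fun x => Units.ext (congrFun e x))) fun ψ hψ => ?_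
    · refine Coherence.conjOrbit_eq_of_ind_eq (baseHC M U) (isIrr_linChar θ₀) (isIrr_linChar θ.1) ?_
      rw [← lamInd_def, ← lamInd_def, hF θ, (Finset.mem_filter.1 hθ).2, e₀]
    · obtain ⟨g, rfl⟩ := (mem_conjOrbit (baseHC M U)).1 hψ
      let θ : ↥(baseHC M U) →* ℂˣ := θ₀.comp (MulAut.conjNormal g).toMonoidHom
      have hfun : (fun x => (θ x : ℂ)) = conjBy (baseHC M U) φ g := funext fun x => by
        rw [conjBy_apply, hφ]
        exact congrArg (fun z => (θ₀ z : ℂ)) (Subtype.ext (MulAut.conjNormal_apply _ _))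
      have hθ : θ ∈ lamChars M U := h.conj_regular hθ₀ g
      refine ⟨⟨θ, hθ⟩, Finset.mem_filter.2 ⟨Finset.mem_univ _, h.muSum_inj ?_⟩, hfun⟩
      rw [← hF ⟨θ, hθ⟩, lamInd_def, hfun, indFun_conjBy, ← lamInd_def, e₀]
  rw [Nat.card_eq_fintype_card, ← Finset.card_univ,
    Finset.card_eq_sum_card_fiberwise (f := F) (t := Finset.univ.erase 1)
      (fun θ _ => Finset.mem_erase.2 ⟨hF1 θ, Finset.mem_univ _⟩),
    Finset.sum_congr rfl hfib, Finset.sum_const, smul_eq_mul,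
    Finset.card_erase_of_mem (Finset.mem_univ _), Finset.card_univ, h.ti.card_right]

/-- Without irreducible `Ind θ`: `C = 1` and `|Λ| = (b - 1) u`. -/
theorem no_lam (hn : ¬ HasLam M U) : centU M U = ⊥ ∧
    Nat.card ↥(lamChars M U) = (Nat.card W₂ - 1) * (centU M U).relIndex U :=
  ⟨h.centU_eq_bot hn, h.card_lamChars hn⟩

end Chars

end LamSide

end CfsgLib.OddOrder
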