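import Cfsg.Agent.OddOrder.PF10.Singer
import Cfsg.Agent.OddOrder.PF10.LambdaBase

/-!
# How many members `Λ` has

* `LamSide.singerSetting`: the setting of the Singer files for `H = M_F`.
* `LamSide.lam_cases`: `U` is full with `C = 1`, or of index `a` in full (then `b ≡ 1` modulo `a`),
  or in the exceptional case `a = 3`, `u = ((b - 1) / 2) ^ 2`, or `|Λ| ≥ (b - 1) (2a + 1) u`.
* `LamSide.full_of_not_hasLam`: without irreducible `Ind θ` the first case holds.
-/

set_option autoImplicit false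
set_option linter.style.haveILetI false
set_option linter.unusedSectionVars false

namespace CfsgLib.OddOrder

open Cfsg CfsgLib.Characters CfsgLib.Coherence CfsgLib.OddOrderChar
open Subgroup (centralizer normalizer)

universe u

variable {G : Type u} [Group G] [Fintype G] {M W₁ U W₂ : Subgroup G} [Fintype M]

theorem two_mul_add_one_le_two_pow {a : ℕ} (ha : 5 ≤ a) : 2 * a + 1 ≤ 2 ^ (a - 1) := by
  induction a, ha using Nat.le_induction with
  | base => norm_num
  | succ n hn ih =>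
    have h1 : 2 ^ (n + 1 - 1) = 2 ^ (n - 1) * 2 := by
      rw [← pow_succ]; congr 1; omega
    omega

namespace LamSide

variable {χ : (↥(W₁ ⊔ W₂) →* ℂˣ) → (G → ℂ)} {μ : (↥(W₁ ⊔ W₂) →* ℂˣ) → (↥M → ℂ)}
  {δ : (↥(W₁ ⊔ W₂) →* ℂˣ) → ℤ} (h : LamSide M W₁ U W₂ χ μ δ)
include h

theorem singerSetting (hne : Nat.card W₁ ≠ Nat.card W₂) :
    Singer.SingerSetting (fittingHallOf M) U W₁ W₂ where
  prime₁ := h.prime₁
  prime₂ := h.prime₂
  ne_two₁ := by have := h.three_le_a; omega
  ne_two₂ := by have := h.three_le_b; omega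
  ne := hne
  odd_U := h.oddG.of_dvd_nat (Subgroup.card_subgroup_dvd_card U)
  coprime_U := by
    have h1 := TypeP.coprime_U_H h.data
    rw [h.card_H] at h1
    exact h1.coprime_dvd_right (dvd_pow_self _ Nat.card_pos.ne')
  elem := h.elem
  card_P := h.card_H
  normU := (typeP_U_le h.data).trans (le_normalizer_fittingHallOf M)
  norm₁ := (TypeP.W₁_le h.data).trans (le_normalizer_fittingHallOf M)
  norm₁U := h.data.U_normal
  fixed := le_antisymm (le_inf (TypeP.W₂_le_H h.data)
      ((TypeP.derived_inf_centralizer_W₁ h.data).ge.trans inf_le_right))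
    ((inf_le_inf_right _ (TypeP.H_le_derived h.data)).trans
      (TypeP.derived_inf_centralizer_W₁ h.data).le)
  free := TypeP.U_fpf h.data
  lt := TypeP.kernel_lt h.data h.U_ne
  derived := h.derived_U

/-- The regular characters of `H` times the linear characters of `C` are counted in `Λ`. -/
theorem card_regular_mul_le :
    Nat.card {lam : ↥(fittingHallOf M) →* ℂˣ //
        ∀ x ∈ U, Singer.FixesChar (fittingHallOf M) lam x →
          x ∈ U ⊓ centralizer (fittingHallOf M : Set G)} *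
      Nat.card (↥(centU M U) →* ℂˣ) ≤ Nat.card ↥(lamChars M U) := by
  classical
  haveI : Finite ↥(lamChars M U) := Subtype.finite
  rw [← Nat.card_prod]
  choose θ hθH hθC using fun p : ({lam : ↥(fittingHallOf M) →* ℂˣ //
      ∀ x ∈ U, Singer.FixesChar (fittingHallOf M) lam x →
        x ∈ U ⊓ centralizer (fittingHallOf M : Set G)}) × (↥(centU M U) →* ℂˣ) =>
    h.exists_hom p.1.1 p.2
  have hreg : ∀ p, θ p ∈ lamChars M U := fun p v hv hfix => p.1.2 v hv fun z z' e => by
    have hzF : (z : G) ∈ fittingHallOf M ⊔ centU M U := Subgroup.mem_sup_left z.2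
    have hz'F : (z' : G) ∈ fittingHallOf M ⊔ centU M U := Subgroup.mem_sup_left z'.2
    have h1 := hfix ⟨⟨_, h.HC_le hzF⟩, hzF⟩ ⟨⟨_, h.HC_le hz'F⟩, hz'F⟩ z.2 e
    rwa [hθH p _ z'.2, hθH p _ z.2] at h1
  refine Nat.card_le_card_of_injective (fun p => (⟨θ p, hreg p⟩ : ↥(lamChars M U))) fun p q e => ?_
  have e' : θ p = θ q := congrArg Subtype.val e
  refine Prod.ext (Subtype.ext (MonoidHom.ext fun z => ?_)) (MonoidHom.ext fun c => ?_)
  · have hzF : (z : G) ∈ fittingHallOf M ⊔ centU M U := Subgroup.mem_sup_left z.2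
    rw [← hθH p ⟨⟨_, h.HC_le hzF⟩, hzF⟩ z.2, ← hθH q ⟨⟨_, h.HC_le hzF⟩, hzF⟩ z.2, e']
  · have hcF : (c : G) ∈ fittingHallOf M ⊔ centU M U := Subgroup.mem_sup_right c.2
    rw [← hθC p ⟨⟨_, h.HC_le hcF⟩, hcF⟩ c.2, ← hθC q ⟨⟨_, h.HC_le hcF⟩, hcF⟩ c.2, e']

/-- A nontrivial `C` has at least `2a + 1` linear characters. -/
theorem card_centU_chars_ge (hC : centU M U ≠ ⊥) :
    2 * Nat.card W₁ + 1 ≤ Nat.card (↥(centU M U) →* ℂˣ) := by
  classical
  have h1 : Nat.card (↥(centU M U) →* ℂˣ) =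
      (⁅centU M U, centU M U⁆).relIndex (centU M U) := by
    haveI : NeZero (Monoid.exponent (Abelianization ↥(centU M U))) :=
      ⟨Monoid.exponent_ne_zero_of_finite⟩
    rw [Nat.card_congr Abelianization.lift,
      CommGroup.card_monoidHom_of_hasEnoughRootsOfUnity (Abelianization ↥(centU M U)) ℂ]
    show (commutator ↥(centU M U)).index = _
    rw [Subgroup.relIndex, ← Subgroup.map_subtype_commutator (centU M U)]
    exact congrArg Subgroup.index
      (Subgroup.comap_map_eq_self_of_injective (Subgroup.subtype_injective _) _).symm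
  have hnil : Group.IsNilpotent ↥(centU M U) := by
    haveI := h.data.U_nilpotent
    exact nilpotent_of_mulEquiv (Subgroup.subgroupOfEquivOfLe (centU_le_U (M := M) (U := U)))
  haveI := hnil
  haveI : Nontrivial ↥(centU M U) := (Subgroup.nontrivial_iff_ne_bot _).2 hC
  have hne : (⁅centU M U, centU M U⁆).relIndex (centU M U) ≠ 1 := by
    intro e
    have h2 : commutator ↥(centU M U) = ⊤ := by
      rw [eq_top_iff]
      intro x _
      have h3 : (x : G) ∈ (commutator ↥(centU M U)).map (centU M U).subtype := by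
        rw [Subgroup.map_subtype_commutator]
        exact Subgroup.relIndex_eq_one.1 e x.2
      obtain ⟨y, hy, hye⟩ := h3
      exact Subtype.ext hye ▸ hy
    exact (IsSolvable.commutator_lt_top_of_nontrivial ↥(centU M U)).ne h2
  have hW : W₁ ≤ normalizer (centU M U : Set G) :=
    (TypeP.W₁_le h.data).trans (TypeP.centralizer_inf_U_normal h.data)
  have hdvd := card_dvd_relIndex_sub_one (W := W₁) (A := centU M U)
    (B := ⁅centU M U, centU M U⁆) (centU M U).commutator_le_self hW (le_normalizer_commutator hW hW)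
    ((TypeP.coprime_W₁_U h.data).coprime_dvd_right (Subgroup.card_dvd_of_le
      ((centU M U).commutator_le_self.trans centU_le_U)))
    (fun w hw hw1 => ((inf_le_inf_right _ centU_le_U).trans
      (TypeP.U_fpf h.data w hw hw1).le).trans bot_le)
  have hodd : Odd ((⁅centU M U, centU M U⁆).relIndex (centU M U)) :=
    h.oddG.of_dvd_nat ((Subgroup.relIndex_dvd_card _ _).trans (Subgroup.card_subgroup_dvd_card _))
  rw [h1]
  obtain ⟨t, ht⟩ := hdvd
  obtain ⟨i, hi⟩ := hodd
  obtain ⟨j, hj⟩ := h.oddG.of_dvd_nat (Subgroup.card_subgroup_dvd_card W₁)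
  rcases t with _ | _ | t
  · omega
  · exfalso
    rw [zero_add, mul_one] at ht
    omega
  · have h2 : Nat.card W₁ * 2 ≤ Nat.card W₁ * (t + 1 + 1) := Nat.mul_le_mul_left _ (by omega)
    omega

/-- The cases, each with its lower bound for `|Λ|`. -/
theorem lam_cases_bound (hne : Nat.card W₁ ≠ Nat.card W₂) :
    (centU M U = ⊥ ∧
        (∀ x ∈ U, x ∉ centU M U → fittingHallOf M ⊓ centralizer ({x} : Set G) = ⊥) ∧
        (centU M U).relIndex U * (Nat.card W₂ - 1) = Nat.card W₂ ^ Nat.card W₁ - 1) ∨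
    ((centU M U = ⊥ ∧
        (∀ x ∈ U, x ∉ centU M U → fittingHallOf M ⊓ centralizer ({x} : Set G) = ⊥) ∧
        Nat.card W₂ % Nat.card W₁ = 1 ∧
        Nat.card W₁ * ((centU M U).relIndex U * (Nat.card W₂ - 1)) =
          Nat.card W₂ ^ Nat.card W₁ - 1) ∧
      Nat.card W₂ ^ Nat.card W₁ - 1 ≤ Nat.card ↥(lamChars M U)) ∨
    ((centU M U = ⊥ ∧ Nat.card W₁ = 3 ∧
        (centU M U).relIndex U = ((Nat.card W₂ - 1) / 2) ^ 2 ∧
        ∃ x ∈ U, x ∉ centU M U ∧ fittingHallOf M ⊓ centralizer ({x} : Set G) ≠ ⊥) ∧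
      (Nat.card W₂ - 1) ^ Nat.card W₁ ≤ Nat.card ↥(lamChars M U)) ∨
    (Nat.card W₂ - 1) * (2 * Nat.card W₁ + 1) * (centU M U).relIndex U ≤
      Nat.card ↥(lamChars M U) := by
  classical
  have hS := h.singerSetting hne
  haveI : Finite ↥(lamChars M U) := Subtype.finite
  have hcount := h.card_regular_mul_le
  have hb3 := h.three_le_b
  set R := Nat.card {lam : ↥(fittingHallOf M) →* ℂˣ //
      ∀ x ∈ U, Singer.FixesChar (fittingHallOf M) lam x →
        x ∈ U ⊓ centralizer (fittingHallOf M : Set G)} with hR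
  set c := Nat.card (↥(centU M U) →* ℂˣ) with hc
  have hc1 : 1 ≤ c := Nat.card_pos
  set v := (centU M U).relIndex U with hv
  have hv' : Singer.uIndex (fittingHallOf M) U = v := rfl
  rcases Singer.dichotomy hS with ⟨hfree, hdvd, -, hall⟩ | ⟨-, hle, h3⟩
  · rw [hv'] at hdvd
    have hfpf : ∀ x ∈ U, x ∉ centU M U → fittingHallOf M ⊓ centralizer ({x} : Set G) = ⊥ :=
      fun x hx hxC => hfree x hx fun hc' => hxC ⟨hx, hc'⟩
    have hRge : Nat.card W₂ ^ Nat.card W₁ - 1 ≤ R := by
      haveI := Singer.finite_chars hS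
      letI := Fintype.ofFinite (↥(fittingHallOf M) →* ℂˣ)
      refine le_trans (le_of_eq ?_) (Nat.card_le_card_of_injective
        (fun l : {lam : ↥(fittingHallOf M) →* ℂˣ // lam ≠ 1} =>
          (⟨l.1, fun x hx hf => hall l.1 l.2 x hx hf⟩ : {lam : ↥(fittingHallOf M) →* ℂˣ //
            ∀ x ∈ U, Singer.FixesChar (fittingHallOf M) lam x →
              x ∈ U ⊓ centralizer (fittingHallOf M : Set G)}))
        (fun p q e => Subtype.ext (congrArg Subtype.val e :)))
      rw [Nat.card_eq_fintype_card (α := {lam : ↥(fittingHallOf M) →* ℂˣ // lam ≠ 1}),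
        Fintype.card_subtype_compl, Fintype.card_subtype_eq, ← Nat.card_eq_fintype_card,
        Singer.card_chars hS]
    obtain ⟨e, he⟩ := hdvd
    have hedvd : e ∣ Singer.singerNum W₁ W₂ := ⟨v, by rw [he, mul_comm]⟩
    have hpow : v * e * (Nat.card W₂ - 1) = Nat.card W₂ ^ Nat.card W₁ - 1 := by
      rw [← he]; exact Singer.singer_mul h.prime₂
    have hepos : 1 ≤ e := Nat.pos_of_ne_zero fun e0 => by
      rw [e0, mul_zero] at he
      exact (Singer.singer_pos h.prime₂ h.prime₁.pos).ne' he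
    have hbig : 2 * Nat.card W₁ + 1 ≤ e * c →
        (Nat.card W₂ - 1) * (2 * Nat.card W₁ + 1) * v ≤ Nat.card ↥(lamChars M U) := by
      intro hec
      refine le_trans ?_ ((Nat.mul_le_mul_right c hRge).trans hcount)
      rw [← hpow]
      calc (Nat.card W₂ - 1) * (2 * Nat.card W₁ + 1) * v
          ≤ (Nat.card W₂ - 1) * (e * c) * v :=
            Nat.mul_le_mul_right _ (Nat.mul_le_mul_left _ hec)
        _ = v * e * (Nat.card W₂ - 1) * c := by ring
    by_cases hC : centU M U = ⊥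
    · rcases Singer.dvd_singer_cases h.prime₁ hS.ne_two₁ h.prime₂ hS.ne_two₂ hedvd with e1 | e1 | e1
      · exact Or.inl ⟨hC, hfpf, by rw [← hpow, e1, mul_one]⟩
      · refine Or.inr (Or.inl ⟨⟨hC, hfpf, (Singer.dvd_singer_iff h.prime₁ h.prime₂).1 (by rw [e1] at hedvd; exact hedvd),
          by rw [← hpow, e1]; ring⟩, le_trans ?_ hcount⟩)
        exact le_trans hRge (Nat.le_mul_of_pos_right R hc1)
      · exact Or.inr (Or.inr (Or.inr (hbig (e1.trans (Nat.le_mul_of_pos_right e hc1)))))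
    · exact Or.inr (Or.inr (Or.inr (hbig
        ((h.card_centU_chars_ge hC).trans (Nat.le_mul_of_pos_left c hepos)))))
  · rw [hv'] at hle h3
    have hRge : (Nat.card W₂ - 1) ^ Nat.card W₁ ≤ R := Singer.pow_le_card_regular hS
    have hpow : (Nat.card W₂ - 1) ^ Nat.card W₁ =
        (Nat.card W₂ - 1) * (Nat.card W₂ - 1) ^ (Nat.card W₁ - 1) := by
      rw [← pow_succ', Nat.sub_add_cancel h.prime₁.one_le]
    have hbig : (2 * Nat.card W₁ + 1) * v ≤ (Nat.card W₂ - 1) ^ (Nat.card W₁ - 1) * c →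
        (Nat.card W₂ - 1) * (2 * Nat.card W₁ + 1) * v ≤ Nat.card ↥(lamChars M U) := by
      intro hx
      refine le_trans ?_ ((Nat.mul_le_mul_right c hRge).trans hcount)
      rw [hpow, mul_assoc, mul_assoc]
      exact Nat.mul_le_mul_left _ hx
    by_cases hC : centU M U = ⊥
    · rcases le_or_gt 5 (Nat.card W₁) with ha5 | ha5
      · refine Or.inr (Or.inr (Or.inr (hbig ?_)))
        exact ((Nat.mul_le_mul_right v (two_mul_add_one_le_two_pow ha5)).trans hle).trans
          (Nat.le_mul_of_pos_right _ hc1)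
      · have ha : Nat.card W₁ = 3 := by
          have h4 := h.three_le_a
          rcases (show Nat.card W₁ = 3 ∨ Nat.card W₁ = 4 by omega) with e | e
          · exact e
          · exact absurd (e ▸ h.prime₁) (by norm_num)
        rcases h3 ha with ⟨e, x, hx, hxC, hne'⟩ | e
        · exact Or.inr (Or.inr (Or.inl ⟨⟨hC, ha, e, x, hx, fun hh => hxC hh.2, hne'⟩,
            hRge.trans (le_trans (Nat.le_mul_of_pos_right R hc1) hcount)⟩))
        · refine Or.inr (Or.inr (Or.inr (hbig ?_)))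
          have h5 : (2 * Nat.card W₁ + 1) * v ≤ (Nat.card W₂ - 1) ^ (Nat.card W₁ - 1) := by
            rw [ha]
            show 7 * v ≤ (Nat.card W₂ - 1) ^ 2
            omega
          exact h5.trans (Nat.le_mul_of_pos_right _ hc1)
    · refine Or.inr (Or.inr (Or.inr (hbig ?_)))
      have h6 : v ≤ (Nat.card W₂ - 1) ^ (Nat.card W₁ - 1) :=
        (Nat.le_mul_of_pos_left v (by positivity)).trans hle
      rw [mul_comm]
      exact Nat.mul_le_mul h6 (h.card_centU_chars_ge hC)

/-- The four cases. -/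
theorem lam_cases (hne : Nat.card W₁ ≠ Nat.card W₂) :
    (centU M U = ⊥ ∧
        (∀ x ∈ U, x ∉ centU M U → fittingHallOf M ⊓ centralizer ({x} : Set G) = ⊥) ∧
        (centU M U).relIndex U * (Nat.card W₂ - 1) = Nat.card W₂ ^ Nat.card W₁ - 1) ∨
    (centU M U = ⊥ ∧
        (∀ x ∈ U, x ∉ centU M U → fittingHallOf M ⊓ centralizer ({x} : Set G) = ⊥) ∧
        Nat.card W₂ % Nat.card W₁ = 1 ∧
        Nat.card W₁ * ((centU M U).relIndex U * (Nat.card W₂ - 1)) =
          Nat.card W₂ ^ Nat.card W₁ - 1) ∨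
    (centU M U = ⊥ ∧ Nat.card W₁ = 3 ∧
        (centU M U).relIndex U = ((Nat.card W₂ - 1) / 2) ^ 2 ∧
        ∃ x ∈ U, x ∉ centU M U ∧ fittingHallOf M ⊓ centralizer ({x} : Set G) ≠ ⊥) ∨
    (Nat.card W₂ - 1) * (2 * Nat.card W₁ + 1) * (centU M U).relIndex U ≤
      Nat.card ↥(lamChars M U) := by
  rcases h.lam_cases_bound hne with h1 | ⟨h1, -⟩ | ⟨h1, -⟩ | h1
  · exact Or.inl h1
  · exact Or.inr (Or.inl h1)
  · exact Or.inr (Or.inr (Or.inl h1))
  · exact Or.inr (Or.inr (Or.inr h1))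

/-- Without irreducible `Ind θ` the group `U` is full. -/
theorem full_of_not_hasLam (hne : Nat.card W₁ ≠ Nat.card W₂) (hn : ¬ HasLam M U) :
    centU M U = ⊥ ∧
      (∀ x ∈ U, x ∉ centU M U → fittingHallOf M ⊓ centralizer ({x} : Set G) = ⊥) ∧
      (centU M U).relIndex U * (Nat.card W₂ - 1) = Nat.card W₂ ^ Nat.card W₁ - 1 := by
  have hL := (h.no_lam hn).2
  have hu := h.one_lt_u
  have hb3 := h.three_le_b
  have ha3 := h.three_le_a
  have hpos : 0 < (Nat.card W₂ - 1) * (centU M U).relIndex U :=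
    Nat.mul_pos (by omega) (by omega)
  rcases h.lam_cases_bound hne with h1 | ⟨⟨-, -, -, e⟩, h1⟩ | ⟨⟨-, ha, e, -⟩, h1⟩ | h1
  · exact h1
  · exfalso
    rw [hL, ← e, mul_comm ((centU M U).relIndex U)] at h1
    nlinarith
  · exfalso
    rw [hL, ha, pow_succ', e] at h1
    have h2 := Nat.le_of_mul_le_mul_left h1 (by omega)
    have h3 : 2 * ((Nat.card W₂ - 1) / 2) ≤ Nat.card W₂ - 1 := Nat.mul_div_le _ _
    have h4 : (2 * ((Nat.card W₂ - 1) / 2)) ^ 2 ≤ (Nat.card W₂ - 1) ^ 2 :=
      Nat.pow_le_pow_left h3 2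
    have h5 : 0 < ((Nat.card W₂ - 1) / 2) ^ 2 := e ▸ (by omega)
    rw [mul_pow] at h4
    omega
  · exfalso
    rw [hL] at h1
    nlinarith

end LamSide

end CfsgLib.OddOrder
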