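import Cfsg.Agent.OddOrder.PF10.LambdaBase
import Cfsg.Agent.OddOrder.PF10.PairSides

/-!
# The Dade images of the characters `Ind (λ χ)`

* `LamSide.tau_mu`: `τ (μ_kj - μ_kl) = η_kj - η_kl`; `LamSide.col_eq_off`, `LamSide.col_int_off`: off
  the support of `(HC)#` the columns `l ≠ 1` agree and are rational integers.
* `LamSide.exists_lamExt`: `τ (Ind θ - μ_j₀) = f θ + ε col m` for all irreducible `Ind θ`.
* `LamSide.no_cross`: the two sides of a pair do not both have an irreducible `Ind θ`.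
-/

set_option autoImplicit false
set_option linter.style.haveILetI false
set_option linter.unusedSectionVars false

namespace CfsgLib.OddOrder

open Cfsg CfsgLib.Characters CfsgLib.Coherence CfsgLib.OddOrderChar
open Subgroup (centralizer normalizer)
open scoped ComplexConjugate

universe u

variable {G : Type u} [Group G] [Fintype G] {M W₁ U W₂ : Subgroup G} [Fintype M]

noncomputable local instance fintypeSubLambdaTau (S : Subgroup ↥M) : Fintype S := Fintype.ofFinite S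

/-- The data of (13.x): the images of `Ind θ - μ_j₀`. -/
structure LamExt (M W₁ U W₂ : Subgroup G) [Fintype M] (χ : (↥(W₁ ⊔ W₂) →* ℂˣ) → (G → ℂ))
    (μ : (↥(W₁ ⊔ W₂) →* ℂˣ) → (↥M → ℂ)) (f : (↥(baseHC M U) →* ℂˣ) → G → ℂ) (ε : ℤ)
    (m j₀ : rightHat W₁ W₂) : Prop where
  sign : ε = 1 ∨ ε = -1
  m_ne : m ≠ 1
  j_ne : j₀ ≠ 1
  tau : ∀ θ ∈ lamChars M U, IsIrrCharacter M (lamInd M U θ) →
    tauM M (lamInd M U θ - muSum μ j₀) = f θ + (ε : ℂ) • col χ m
  signed : ∀ θ ∈ lamChars M U, IsIrrCharacter M (lamInd M U θ) → IsSignedIrr (f θ)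
  orth : ∀ θ ∈ lamChars M U, IsIrrCharacter M (lamInd M U θ) →
    ∀ k l, classInner (f θ) (eta χ k l) = 0
  inner_eq : ∀ θ ∈ lamChars M U, ∀ θ' ∈ lamChars M U, IsIrrCharacter M (lamInd M U θ) →
    lamInd M U θ = lamInd M U θ' → classInner (f θ) (f θ') = 1
  inner_ne : ∀ θ ∈ lamChars M U, ∀ θ' ∈ lamChars M U, IsIrrCharacter M (lamInd M U θ) →
    IsIrrCharacter M (lamInd M U θ') → lamInd M U θ ≠ lamInd M U θ' → classInner (f θ) (f θ') = 0
  conj_eq : ∀ θ ∈ lamChars M U, IsIrrCharacter M (lamInd M U θ) → conjFun (f θ) = f θ⁻¹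

/-- Functions with disjoint supports are orthogonal. -/
theorem ci_eq_zero_of_supp {S T : Set G} (hST : Disjoint S T) {α β : G → ℂ}
    (hα : ∀ g, g ∉ S → α g = 0) (hβ : ∀ g, g ∉ T → β g = 0) : classInner α β = 0 := by
  unfold classInner
  rw [Finset.sum_eq_zero, mul_zero]
  intro g _
  by_cases hg : g ∈ S
  · rw [hβ g (Set.disjoint_left.1 hST hg), map_zero, mul_zero]
  · rw [hα g hg, zero_mul]

theorem lamInd_gen (θ : ↥(baseHC M U) →* ℂˣ) : IsGeneralizedCharacter ↥M (lamInd M U θ) :=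
  Characters.isGen_indFun (baseHC M U) (Coherence.isGen_of_isIrr (isIrr_linChar θ))

theorem lamInd_cf (θ : ↥(baseHC M U) →* ℂˣ) : IsClassFunction ↥M (lamInd M U θ) :=
  OddOrderChar.isClassFunction_ind _ _

namespace LamSide

variable {χ : (↥(W₁ ⊔ W₂) →* ℂˣ) → (G → ℂ)} {μ : (↥(W₁ ⊔ W₂) →* ℂˣ) → (↥M → ℂ)}
  {δ : (↥(W₁ ⊔ W₂) →* ℂˣ) → ℤ} (h : LamSide M W₁ U W₂ χ μ δ)
include h

theorem lamInd_off (θ : ↥(baseHC M U) →* ℂˣ) {x : ↥M} (hx : x ∉ baseHC M U) :
    lamInd M U θ x = 0 := by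
  haveI := h.baseHC_normal
  exact indFun_normal_eq_zero _ _ hx

theorem lamInd_inv (θ : ↥(baseHC M U) →* ℂˣ) :
    lamInd M U θ⁻¹ = conjFun (lamInd M U θ) := by
  haveI := h.baseHC_normal
  rw [lamInd_def, lamInd_def, Coherence.conjFun_ind]
  refine congrArg (indFun (baseHC M U)) (funext fun x => ?_)
  exact (Eq.symm (conj_hom_eq θ x))

theorem muSum_off {l : rightHat W₁ W₂} (hl : l ≠ 1) {x : ↥M} (hx : x ∉ baseHC M U) :
    muSum μ l x = 0 := by
  obtain ⟨θ, -, e⟩ := h.exists_lam_muSum hl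
  rw [← e, h.lamInd_off θ hx]

theorem muSum_one {l : rightHat W₁ W₂} (hl : l ≠ 1) :
    muSum μ l 1 = (Nat.card W₁ : ℂ) * ((centU M U).relIndex U : ℂ) := by
  obtain ⟨θ, -, e⟩ := h.exists_lam_muSum hl
  rw [← e, h.lamInd_one θ]

theorem muSum_gen (l : rightHat W₁ W₂) : IsGeneralizedCharacter ↥M (muSum μ l) :=
  Coherence.isGen_sum _ _ fun _ _ => Coherence.isGen_of_isIrr (h.pmu.irr _)

/-- Two functions on `HC` with the same value at `1` differ on `(HC)#` only. -/
theorem sub_supp {α β : ↥M → ℂ} (hα : ∀ x, x ∉ baseHC M U → α x = 0)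
    (hβ : ∀ x, x ∉ baseHC M U → β x = 0) (h1 : α 1 = β 1) (x : ↥M) (hx : (x : G) ∉ lamSet M U) :
    (α - β) x = 0 := by
  by_cases hK : x ∈ baseHC M U
  · have : x = 1 := by
      by_contra hne
      exact hx ⟨hK, fun e => hne (Subtype.ext (Set.mem_singleton_iff.1 e))⟩
    subst this
    rw [Pi.sub_apply, h1, sub_self]
  · rw [Pi.sub_apply, hα x hK, hβ x hK, sub_self]

theorem supp0 {α : ↥M → ℂ} (hα : ∀ x : ↥M, (x : G) ∉ lamSet M U → α x = 0) (x : ↥M)
    (hx : (x : G) ∉ supportA0 M) : α x = 0 := hα x fun e => hx (h.lamSet_subset0 e)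

theorem lamSet_zero_V {α : ↥M → ℂ} (hα : ∀ x : ↥M, (x : G) ∉ lamSet M U → α x = 0)
    (w : ↥(W₁ ⊔ W₂)) (_h1 : (w : G) ∉ W₁) (h2 : (w : G) ∉ W₂) : α ⟨w, h.le w.2⟩ = 0 :=
  hα _ fun e => h2 (h.base.mem_W₂_of_mem (h.HC_le_derived e.1))

/-- The image of a function on `(HC)#` vanishes off the support of `(HC)#`. -/
theorem tau_off {α : ↥M → ℂ} (hcl : IsClassFunction ↥M α)
    (hs : ∀ x : ↥M, (x : G) ∉ lamSet M U → α x = 0) {g : G}
    (hg : g ∉ dadeSupp (lamSet M U) (supportR M)) : tauM M α g = 0 := by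
  rw [tauM, dade_restrict h.dade h.lamSet_subset0 h.lamSet_conj hcl hs, dade_apply_notMem α hg]

theorem tau_lam {α : ↥M → ℂ} (hcl : IsClassFunction ↥M α)
    (hs : ∀ x : ↥M, (x : G) ∉ lamSet M U → α x = 0) :
    tauM M α = dadeIsometry (lamSet M U) M (supportR M) α :=
  dade_restrict h.dade h.lamSet_subset0 h.lamSet_conj hcl hs

theorem mu_supp (k : leftHat W₁ W₂) {j l : rightHat W₁ W₂} (hj : j ≠ 1) (hl : l ≠ 1) :
    ∀ x : ↥M, (x : G) ∉ supportA0 M → (μ (k.1 * j.1) - μ (k.1 * l.1)) x = 0 := by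
  refine h.supp_A0 (Coherence.isClassFunction_of_isGen (Coherence.isGen_sub
    (Coherence.isGen_of_isIrr (h.pmu.irr _)) (Coherence.isGen_of_isIrr (h.pmu.irr _))))
    (fun w hw hw1 => ?_) fun x hx hA => ?_
  · have h2 : (w : G) ∉ W₂ := fun e => hw1
      ((Subgroup.eq_bot_iff_forall _).1 h.ti.snc.2.2.1 (w : G) ⟨hw, e⟩)
    rw [Pi.sub_apply, h.pmu.value _ w h2, h.pmu.value _ w h2, (h.pmu.twist h.base h.oddM k j.1).2,
      (h.pmu.twist h.base h.oddM k l.1).2, h.delta_one hj, h.delta_one hl, MonoidHom.mul_apply,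
      MonoidHom.mul_apply, j.2 w hw, l.2 w hw, sub_self]
  · by_cases hK : x ∈ baseHC M U
    · have : x = 1 := by
        by_contra hne
        exact hA (h.lamSet_subset ⟨hK, fun e => hne (Subtype.ext (Set.mem_singleton_iff.1 e))⟩)
      subst this
      rw [Pi.sub_apply, h.mu_one hj, h.mu_one hl, sub_self]
    · have e : ∀ {i : rightHat W₁ W₂}, i ≠ 1 → μ (k.1 * i.1) x = 0 := fun {i} hi => by
        have h1 := h.muSum_der i hx
        rw [h.muSum_off hi hK, eq_comm, mul_eq_zero] at h1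
        exact (h.pmu.res_eq h.base h.oddM k i.1 ⟨x, hx⟩).trans
          (h1.resolve_left (Nat.cast_ne_zero.2 Nat.card_pos.ne'))
      rw [Pi.sub_apply, e hj, e hl, sub_self]

/-- `τ (μ_kj - μ_kl) = η_kj - η_kl`. -/
theorem tau_mu (k : leftHat W₁ W₂) {j l : rightHat W₁ W₂} (hj : j ≠ 1) (hl : l ≠ 1) :
    tauM M (μ (k.1 * j.1) - μ (k.1 * l.1)) = eta χ k j - eta χ k l := by
  classical
  have e1 : ∀ i : rightHat W₁ W₂, (1 : leftHat W₁ W₂).1 * i.1 = i.1 := fun i =>
    MonoidHom.ext fun w => one_mul _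
  have h0 : tauM M (μ j.1 - μ l.1) = eta χ 1 j - eta χ 1 l := by
    have hs := h.mu_supp 1 hj hl
    simp only [e1] at hs
    rw [h.tau_mu_sub j l hj hl (by rw [h.delta_one hj, h.delta_one hl]) hs, h.delta_one hj,
      Int.cast_one, one_smul]
  by_cases hk : k = 1
  · subst hk
    rw [e1, e1, h0]
  have e2 : μ (k.1 * j.1) - μ (k.1 * l.1) = (μ j.1 - μ l.1) +
      (indW M W₁ W₂ (tiAlpha k.1 j.1) - indW M W₁ W₂ (tiAlpha k.1 l.1)) := by
    rw [h.pmu.indW_tiAlpha h.base h.oddM, h.pmu.indW_tiAlpha h.base h.oddM, h.delta_one hj,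
      h.delta_one hl, Int.cast_one, one_smul, one_smul]
    abel
  have a1 := h.tau_tiAlpha k j hk hj
  have a2 := h.tau_tiAlpha k l hk hl
  simp only [tauM] at a1 a2 h0 ⊢
  rw [e2, dade_add, h0, dade_sub, a1, a2]
  funext g
  simp only [Pi.add_apply, Pi.sub_apply]
  ring

/-- `τ (Σ_k μ_kj - Σ_k μ_kl) = col j - col l`. -/
theorem tau_muSum {j l : rightHat W₁ W₂} (hj : j ≠ 1) (hl : l ≠ 1) :
    tauM M (muSum μ j - muSum μ l) = col χ j - col χ l := by
  rw [muSum, muSum, ← Finset.sum_sub_distrib, tauM, dade_sum, col, col, ← Finset.sum_sub_distrib]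
  exact Finset.sum_congr rfl fun k _ => h.tau_mu k hj hl

theorem muSum_supp {j l : rightHat W₁ W₂} (hj : j ≠ 1) (hl : l ≠ 1) :
    ∀ x : ↥M, (x : G) ∉ lamSet M U → (muSum μ j - muSum μ l) x = 0 :=
  h.sub_supp (fun _ => h.muSum_off hj) (fun _ => h.muSum_off hl)
    (by rw [h.muSum_one hj, h.muSum_one hl])

/-- Off the support of `(HC)#` the columns outside the first agree. -/
theorem col_eq_off {j l : rightHat W₁ W₂} (hj : j ≠ 1) (hl : l ≠ 1) {g : G}
    (hg : g ∉ dadeSupp (lamSet M U) (supportR M)) : col χ j g = col χ l g := by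
  have h1 := h.tau_off (Coherence.isClassFunction_of_isGen
    (Coherence.isGen_sub (h.muSum_gen j) (h.muSum_gen l))) (h.muSum_supp hj hl) hg
  rw [h.tau_muSum hj hl, Pi.sub_apply, sub_eq_zero] at h1
  exact h1

theorem col_galHom (σ : ℂ ≃+* ℂ) (l l' : rightHat W₁ W₂) (e : galHom σ l.1 = l'.1) (g : G) :
    σ (col χ l g) = col χ l' g := by
  classical
  simp only [col, Finset.sum_apply, map_sum]
  refine Fintype.sum_bijective (fun k : leftHat W₁ W₂ =>
    (⟨galHom σ k.1, fun w hw => Units.ext (by simp [galHom_apply, k.2 w hw])⟩ : leftHat W₁ W₂))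
    (Finite.injective_iff_bijective.1 fun a b e' => ?_) _ _ fun k => ?_
  · exact Subtype.ext (MonoidHom.ext fun w => Units.ext (σ.injective (by
      have := congrArg (fun z : leftHat W₁ W₂ => (z.1 w : ℂ)) e'
      simpa [galHom_apply] using this)))
  · refine (congrFun (h.ti.galois σ (k.1 * l.1)) g).trans (congrFun (congrArg χ ?_) g)
    rw [galHom_mul, e]

/-- Off the support of `(HC)#` the columns outside the first take rational integer values. -/
theorem col_int_off {l : rightHat W₁ W₂} (hl : l ≠ 1) {g : G}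
    (hg : g ∉ dadeSupp (lamSet M U) (supportR M)) : ∃ z : ℤ, col χ l g = z := by
  classical
  obtain ⟨ι, _, c, ν, hν, heq⟩ := cosetMean_expansion (h.ti.col_gen l) (a := g) (R := ⊥) bot_le
  rw [cosetMean_bot] at heq
  haveI : NeZero (orderOf g) := ⟨(orderOf_pos g).ne'⟩
  refine int_of_galois_fixed Finset.univ (orderOf g) c ν heq (fun i _ => hν i) fun σ _ _ _ => ?_
  let l' : rightHat W₁ W₂ := ⟨galHom σ l.1, fun w hw => Units.ext (by simp [galHom_apply, l.2 w hw])⟩
  have hl' : l' ≠ 1 := fun e => hl (Subtype.ext (MonoidHom.ext fun w => Units.ext (σ.injective (by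
    have := congrArg (fun z : rightHat W₁ W₂ => (z.1 w : ℂ)) e
    simpa [l', galHom_apply, rightHat_coe_one] using this))))
  rw [h.col_galHom σ l l' rfl g]
  exact h.col_eq_off hl' hl hg

theorem ci_one_of_ne {φ : ↥M → ℂ} (hφ : IsIrrCharacter M φ) (hne : ∀ ω, φ ≠ μ ω) :
    classInner φ (fun _ => 1) = 0 := by
  rw [← (h.pmu.one h.base h.oddM).1]
  exact classInner_isIrr_ne hφ (h.pmu.irr 1) (hne 1)

theorem muSum_ci_one {l : rightHat W₁ W₂} (hl : l ≠ 1) :
    classInner (muSum μ l) (fun _ => 1) = 0 := by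
  classical
  rw [← (h.pmu.one h.base h.oddM).1,
    show (1 : ↥(W₁ ⊔ W₂) →* ℂˣ) = (1 : leftHat W₁ W₂).1 * (1 : rightHat W₁ W₂).1 from
      MonoidHom.ext fun w => (one_mul _).symm,
    ← ci_conj, h.ci_mu_muSum, if_neg (Ne.symm hl), map_zero]

theorem ci_col_eta (l : rightHat W₁ W₂) (k : leftHat W₁ W₂) (x : rightHat W₁ W₂)
    [Decidable (x = l)] : classInner (col χ l) (eta χ k x) = if x = l then 1 else 0 := by
  classical
  rw [col, ci_sum_left, Finset.sum_eq_single k]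
  · by_cases e : x = l
    · rw [if_pos e, e]; exact h.ti.eta_ortho.1 (k, l)
    · rw [if_neg e]; exact h.ti.eta_ortho.2 (k, l) (k, x) fun e' => e (congrArg Prod.snd e').symm
  · exact fun i _ hi => h.ti.eta_ortho.2 (i, l) (k, x) fun e' => hi (congrArg Prod.fst e')
  · simp

theorem ci_col_col (l l' : rightHat W₁ W₂) [Decidable (l' = l)] :
    classInner (col χ l) (col χ l') = if l' = l then (Nat.card W₁ : ℂ) else 0 := by
  classical
  conv_lhs => arg 2; rw [col]
  rw [ci_sum_right, Finset.sum_congr rfl fun k _ => h.ci_col_eta l k l', Finset.sum_const,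
    Finset.card_univ, h.ti.card_left, nsmul_eq_mul]
  split_ifs <;> simp

section Ext

variable {θ θ' : ↥(baseHC M U) →* ℂˣ}

theorem lam_supp (θ θ' : ↥(baseHC M U) →* ℂˣ) :
    ∀ x : ↥M, (x : G) ∉ lamSet M U → (lamInd M U θ - lamInd M U θ') x = 0 :=
  h.sub_supp (fun _ => h.lamInd_off θ) (fun _ => h.lamInd_off θ')
    (by rw [h.lamInd_one, h.lamInd_one])

theorem beta_supp (θ : ↥(baseHC M U) →* ℂˣ) {l : rightHat W₁ W₂} (hl : l ≠ 1) :
    ∀ x : ↥M, (x : G) ∉ lamSet M U → (lamInd M U θ - muSum μ l) x = 0 :=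
  h.sub_supp (fun _ => h.lamInd_off θ) (fun _ => h.muSum_off hl)
    (by rw [h.lamInd_one, h.muSum_one hl])

theorem inv_irr (hi : IsIrrCharacter M (lamInd M U θ)) : IsIrrCharacter M (lamInd M U θ⁻¹) :=
  h.lamInd_inv θ ▸ Coherence.isIrr_conjFun hi

theorem inv_ne (hθ : θ ∈ lamChars M U) (hi : IsIrrCharacter M (lamInd M U θ)) :
    lamInd M U θ⁻¹ ≠ lamInd M U θ := by
  intro e
  rw [h.lamInd_inv] at e
  refine h.irr_ne_mu hθ hi 1 ?_
  rw [(h.pmu.one h.base h.oddM).1]
  exact eq_one_of_real_of_odd h.oddM hi fun g => Complex.conj_eq_iff_im.1 (congrFun e g)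

/-- The image of a difference of two irreducible `Ind θ` is orthogonal to the family. -/
theorem tau_sub_orth (hθ : θ ∈ lamChars M U) (hθ' : θ' ∈ lamChars M U)
    (hi : IsIrrCharacter M (lamInd M U θ)) (hi' : IsIrrCharacter M (lamInd M U θ'))
    (k : leftHat W₁ W₂) (l : rightHat W₁ W₂) :
    classInner (tauM M (lamInd M U θ - lamInd M U θ')) (eta χ k l) = 0 := by
  classical
  set α := lamInd M U θ - lamInd M U θ' with hα
  have hgen : IsGeneralizedCharacter ↥M α := Coherence.isGen_sub (lamInd_gen θ) (lamInd_gen θ')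
  have hs := h.lam_supp θ θ'
  have hcl := Coherence.isClassFunction_of_isGen hgen
  have hτ := h.tau_gen hgen (h.supp0 hs)
  have h00 : coefT χ (tauM M α) 1 1 = 0 := h.ti.coefT_one_one hτ (by
    rw [h.tau_ci_one hcl (h.supp0 hs), hα, ci_sub_left, h.ci_one_of_ne hi (h.irr_ne_mu hθ hi),
      h.ci_one_of_ne hi' (h.irr_ne_mu hθ' hi'), sub_zero, Int.cast_zero])
  have hnorm : sqNorm (tauM M α) ≤ 2 := by
    rw [h.tau_sqNorm hcl (h.supp0 hs), Coherence.sqNorm, hα, ci_sub_left, ci_sub_right, ci_sub_right,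
      classInner_isIrr_self hi, classInner_isIrr_self hi', ← ci_conj (lamInd M U θ) (lamInd M U θ'),
      Coherence.ci_irr hi hi']
    split_ifs <;> norm_num
  have hb := h.ti.table_bessel (κ := Empty) (v := fun i => i.elim) ⟨fun i => i.elim, fun i => i.elim⟩
    (fun i => i.elim) hτ
  rw [Finset.univ_eq_empty, Finset.sum_empty, zero_add] at hb
  have hb' : tableSq (coefT χ (tauM M α)) ≤ 2 := by
    have h2 : (tableSq (coefT χ (tauM M α)) : ℝ) ≤ 2 := le_trans hb hnorm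
    exact_mod_cast h2
  rw [h.ti.coefT_spec hτ, (h.tau_additive hgen (h.supp0 hs) (h.lamSet_zero_V hs)).eq_zero_of_small
    h.ti.three_le_left h.ti.three_le_right h00 hb' k l, Int.cast_zero]

theorem tau_beta_gen (θ : ↥(baseHC M U) →* ℂˣ) {l : rightHat W₁ W₂} (hl : l ≠ 1) :
    IsGeneralizedCharacter G (tauM M (lamInd M U θ - muSum μ l)) :=
  h.tau_gen (Coherence.isGen_sub (lamInd_gen θ) (h.muSum_gen l)) (h.supp0 (h.beta_supp θ hl))

theorem tau_beta_shift (θ : ↥(baseHC M U) →* ℂˣ) {j l : rightHat W₁ W₂} (hj : j ≠ 1) (hl : l ≠ 1) :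
    tauM M (lamInd M U θ - muSum μ l) =
      tauM M (lamInd M U θ - muSum μ j) + (col χ j - col χ l) := by
  rw [← h.tau_muSum hj hl]
  simp only [tauM]
  rw [← dade_add]
  exact congrArg _ (by abel)

theorem tau_beta_ci (hθ : θ ∈ lamChars M U) (hθ' : θ' ∈ lamChars M U)
    (hi : IsIrrCharacter M (lamInd M U θ)) (hi' : IsIrrCharacter M (lamInd M U θ'))
    {j : rightHat W₁ W₂} (hj : j ≠ 1) :
    classInner (tauM M (lamInd M U θ - muSum μ j)) (tauM M (lamInd M U θ' - muSum μ j)) =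
      classInner (lamInd M U θ) (lamInd M U θ') + (Nat.card W₁ : ℂ) := by
  classical
  rw [h.tau_ci (Coherence.isClassFunction_of_isGen (Coherence.isGen_sub (lamInd_gen θ)
    (h.muSum_gen j))) (h.supp0 (h.beta_supp θ hj)) (Coherence.isClassFunction_of_isGen
    (Coherence.isGen_sub (lamInd_gen θ') (h.muSum_gen j))) (h.supp0 (h.beta_supp θ' hj)),
    ci_sub_left, ci_sub_right, ci_sub_right, h.ci_muSum, if_pos rfl,
    h.ci_irr_muSum hi (h.irr_ne_mu hθ hi), ← ci_conj (lamInd M U θ') (muSum μ j),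
    h.ci_irr_muSum hi' (h.irr_ne_mu hθ' hi'), map_zero]
  ring

/-- With some irreducible `Ind θ`: `τ (Ind θ - μ_j₀) = f θ + ε col m`. -/
theorem exists_lamExt (hL : HasLam M U) :
    ∃ (f : (↥(baseHC M U) →* ℂˣ) → G → ℂ) (ε : ℤ) (m j₀ : rightHat W₁ W₂),
      LamExt M W₁ U W₂ χ μ f ε m j₀ := by
  classical
  obtain ⟨θ₀, hθ₀, hi₀⟩ := hL
  -- two columns outside the first
  obtain ⟨j₁, hj₁, l₁, hl₁, hne⟩ : ∃ j₁ : rightHat W₁ W₂, j₁ ≠ 1 ∧
      ∃ l₁ : rightHat W₁ W₂, l₁ ≠ 1 ∧ j₁ ≠ l₁ := by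
    have h3 := h.ti.three_le_right
    have hc : 1 < (Finset.univ.erase (1 : rightHat W₁ W₂)).card := by
      rw [Finset.card_erase_of_mem (Finset.mem_univ _), Finset.card_univ]; omega
    obtain ⟨j₁, hj₁, l₁, hl₁, hne⟩ := Finset.one_lt_card.1 hc
    exact ⟨j₁, (Finset.mem_erase.1 hj₁).1, l₁, (Finset.mem_erase.1 hl₁).1, hne⟩
  set D : rightHat W₁ W₂ → G → ℂ := fun j => tauM M (lamInd M U θ₀ - muSum μ j) with hD
  have hgenD : ∀ {j : rightHat W₁ W₂}, j ≠ 1 → IsGeneralizedCharacter G (D j) := fun hj =>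
    h.tau_beta_gen θ₀ hj
  have h00 : ∀ {j : rightHat W₁ W₂}, j ≠ 1 → coefT χ (D j) 1 1 = 0 := fun {j} hj =>
    h.ti.coefT_one_one (hgenD hj) (by
      rw [hD, h.tau_ci_one (Coherence.isClassFunction_of_isGen (Coherence.isGen_sub (lamInd_gen θ₀)
        (h.muSum_gen j))) (h.supp0 (h.beta_supp θ₀ hj)), ci_sub_left,
        h.ci_one_of_ne hi₀ (h.irr_ne_mu hθ₀ hi₀), h.muSum_ci_one hj, sub_zero, Int.cast_zero])
  obtain ⟨j, hj, hnc⟩ : ∃ j : rightHat W₁ W₂, j ≠ 1 ∧
      ∃ x, coefT χ (D j) 1 x ≠ coefT χ (D j) 1 1 := by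
    by_contra hall
    push Not at hall
    have h1 := hall j₁ hj₁ j₁
    have h2 := hall l₁ hl₁ j₁
    rw [h00 hj₁] at h1
    rw [h00 hl₁] at h2
    have h3 : classInner (D l₁) (eta χ 1 j₁) = 1 := by
      simp only [hD]
      rw [h.tau_beta_shift θ₀ hj₁ hl₁, ci_add_left, ci_sub_left, h.ci_col_eta, h.ci_col_eta,
        if_pos rfl, if_neg hne, h.ti.coefT_spec (h.tau_beta_gen θ₀ hj₁)]
      simp only [hD] at h1
      rw [h1]
      simp
    rw [h.ti.coefT_spec (hgenD hl₁), h2, Int.cast_zero] at h3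
    exact zero_ne_one h3
  have hgen0 := hgenD hj
  have hnorm : classInner (D j) (D j) = (Nat.card W₁ : ℂ) + 1 := by
    rw [hD, h.tau_beta_ci hθ₀ hθ₀ hi₀ hi₀ hj, classInner_isIrr_self hi₀, add_comm]
  have hsmall : tableSq (coefT χ (D j)) ≤ Nat.card W₁ := by
    by_contra hbig
    push Not at hbig
    have hge : sqNorm (D j) ≤ (tableSq (coefT χ (D j)) : ℝ) := by
      have h1 : ((Nat.card W₁ : ℤ) : ℝ) + 1 ≤ (tableSq (coefT χ (D j)) : ℝ) := by exact_mod_cast hbig
      rw [Coherence.sqNorm, hnorm]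
      simpa using h1
    have hexp := h.ti.table_expansion (κ := Empty) (v := fun i => i.elim)
      ⟨fun i => i.elim, fun i => i.elim⟩ (fun i => i.elim) hgen0
      (by rw [Finset.univ_eq_empty, Finset.sum_empty, zero_add]; exact hge)
    rw [Finset.univ_eq_empty, Finset.sum_empty, zero_add] at hexp
    have hθi := inv_regular hθ₀
    have hii := h.inv_irr hi₀
    set E := tauM M (lamInd M U θ₀ - lamInd M U θ₀⁻¹) with hE
    have h1 : classInner (D j) E = 0 := by
      rw [hexp, ci_sum_left]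
      refine Finset.sum_eq_zero fun k _ => ?_
      rw [ci_sum_left]
      refine Finset.sum_eq_zero fun l _ => ?_
      rw [ci_smul_left, ← ci_conj, h.tau_sub_orth hθ₀ hθi hi₀ hii, map_zero, mul_zero]
    have h2 : classInner (D j) E = 1 := by
      rw [hD, hE, h.tau_ci (Coherence.isClassFunction_of_isGen (Coherence.isGen_sub (lamInd_gen θ₀)
        (h.muSum_gen j))) (h.supp0 (h.beta_supp θ₀ hj)) (Coherence.isClassFunction_of_isGen
        (Coherence.isGen_sub (lamInd_gen _) (lamInd_gen _))) (h.supp0 (h.lam_supp _ _)),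
        ci_sub_left, ci_sub_right, ci_sub_right, classInner_isIrr_self hi₀,
        classInner_isIrr_ne hi₀ hii (Ne.symm (h.inv_ne hθ₀ hi₀)),
        ← ci_conj (lamInd M U θ₀) (muSum μ j), h.ci_irr_muSum hi₀ (h.irr_ne_mu hθ₀ hi₀),
        ← ci_conj (lamInd M U θ₀⁻¹) (muSum μ j), h.ci_irr_muSum hii (h.irr_ne_mu hθi hii)]
      simp
    exact one_ne_zero (h2.symm.trans h1)
  have hadd : AdditiveAt (coefT χ (D j)) 1 1 :=
    h.tau_additive (Coherence.isGen_sub (lamInd_gen θ₀) (h.muSum_gen j))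
      (h.supp0 (h.beta_supp θ₀ hj)) (h.lamSet_zero_V (h.beta_supp θ₀ hj))
  obtain ⟨-, hcol⟩ := hadd.one_column h.ti.three_le_right hnc
  obtain ⟨m, s, hs, hc⟩ := hcol (by rw [h.ti.card_left]; exact hsmall)
  have hm : m ≠ 1 := fun e => by
    have h1 := (hc 1 1).1 e.symm
    rw [h00 hj] at h1
    omega
  have hcoef : ∀ k x, classInner (D j) (eta χ k x) = (s : ℂ) * (if x = m then 1 else 0) := fun k x => by
    rw [h.ti.coefT_spec hgen0]
    split_ifs with e
    · rw [(hc k x).1 e, mul_one]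
    · rw [(hc k x).2 e, Int.cast_zero, mul_zero]
  set f : (↥(baseHC M U) →* ℂˣ) → G → ℂ :=
    fun θ => tauM M (lamInd M U θ - muSum μ j) - (s : ℂ) • col χ m with hf
  have hDθ : ∀ θ ∈ lamChars M U, IsIrrCharacter M (lamInd M U θ) → ∀ k x,
      classInner (tauM M (lamInd M U θ - muSum μ j)) (eta χ k x) =
        (s : ℂ) * (if x = m then 1 else 0) := by
    intro θ hθ hi k x
    have e : tauM M (lamInd M U θ - muSum μ j) = tauM M (lamInd M U θ - lamInd M U θ₀) + D j := by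
      simp only [hD, tauM]
      rw [← dade_add]
      exact congrArg _ (by abel)
    rw [e, ci_add_left, h.tau_sub_orth hθ hθ₀ hi hi₀, hcoef, zero_add]
  have horth : ∀ θ ∈ lamChars M U, IsIrrCharacter M (lamInd M U θ) →
      ∀ k l, classInner (f θ) (eta χ k l) = 0 := by
    intro θ hθ hi k l
    rw [hf, ci_sub_left, ci_smul_left, hDθ θ hθ hi, h.ci_col_eta, sub_self]
  have hDcol : ∀ θ ∈ lamChars M U, IsIrrCharacter M (lamInd M U θ) →
      classInner (tauM M (lamInd M U θ - muSum μ j)) (col χ m) = (s : ℂ) * Nat.card W₁ := by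
    intro θ hθ hi
    rw [col, ci_sum_right, Finset.sum_congr rfl fun k _ => hDθ θ hθ hi k m, if_pos rfl,
      Finset.sum_const, Finset.card_univ, h.ti.card_left, nsmul_eq_mul]
    ring
  have hss : (s : ℂ) * (s : ℂ) = 1 := by rcases hs with rfl | rfl <;> norm_num
  have hinner : ∀ θ ∈ lamChars M U, ∀ θ' ∈ lamChars M U, IsIrrCharacter M (lamInd M U θ) →
      IsIrrCharacter M (lamInd M U θ') →
      classInner (f θ) (f θ') = classInner (lamInd M U θ) (lamInd M U θ') := by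
    intro θ hθ θ' hθ' hi hi'
    simp only [hf]
    rw [ci_sub_left, ci_sub_right, ci_sub_right, ci_smul_left, ci_smul_left, ci_smul_right,
      ci_smul_right, h.tau_beta_ci hθ hθ' hi hi' hj, hDcol θ hθ hi,
      ← ci_conj (tauM M (lamInd M U θ' - muSum μ j)) (col χ m), hDcol θ' hθ' hi', h.ci_col_col,
      if_pos rfl, map_mul, Complex.conj_natCast, map_intCast]
    linear_combination (-(Nat.card W₁ : ℂ)) * hss
  have hsigned : ∀ θ ∈ lamChars M U, IsIrrCharacter M (lamInd M U θ) → IsSignedIrr (f θ) := by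
    intro θ hθ hi
    refine Coherence.gen_norm_one ?_ ((hinner θ hθ θ hθ hi hi).trans (classInner_isIrr_self hi))
    exact Coherence.isGen_sub (h.tau_beta_gen θ hj)
      (Coherence.isGen_intCast_smul (h.ti.col_gen m) s)
  refine ⟨f, s, m, j, hs, hm, hj, fun θ _ _ => by simp only [hf, sub_add_cancel], hsigned, horth,
    fun θ hθ θ' hθ' hi e => ?_, fun θ hθ θ' hθ' hi hi' e => ?_, fun θ hθ hi => ?_⟩
  · rw [hinner θ hθ θ' hθ' hi (e ▸ hi), ← e, classInner_isIrr_self hi]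
  · rw [hinner θ hθ θ' hθ' hi hi', classInner_isIrr_ne hi hi' e]
  · have hθi := inv_regular hθ
    have hii := h.inv_irr hi
    have hE : f θ - f θ⁻¹ = tauM M (lamInd M U θ - lamInd M U θ⁻¹) := by
      simp only [hf, tauM]
      rw [sub_sub_sub_cancel_right, ← dade_sub]
      exact congrArg _ (by abel)
    have hc' : conjFun (f θ) - conjFun (f θ⁻¹) = f θ⁻¹ - f θ := by
      have h1 : conjFun (f θ - f θ⁻¹) = tauM M (conjFun (lamInd M U θ - lamInd M U θ⁻¹)) := by
        rw [hE, h.tau_conj]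
      have e1 : conjFun (lamInd M U θ - lamInd M U θ⁻¹) = lamInd M U θ⁻¹ - lamInd M U θ := by
        rw [h.lamInd_inv]
        funext x
        simp [conjFun]
      have e2 : conjFun (f θ - f θ⁻¹) = conjFun (f θ) - conjFun (f θ⁻¹) := by
        funext x; simp [conjFun]
      rw [← e2, h1, e1, ← neg_sub (lamInd M U θ), tauM, dade_neg, ← tauM, ← hE, neg_sub]
    have h1 := congrArg (fun z => classInner z (f θ⁻¹)) hc'
    simp only [ci_sub_left] at h1
    have hz1 : classInner (f θ⁻¹) (fun _ => 1) = 0 := by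
      rw [← eta_one_one h.ti]; exact horth _ hθi hii 1 1
    rw [ci_conj_self_eq_zero h.oddG (hsigned _ hθi hii) hz1, sub_zero,
      hinner _ hθi _ hθi hii hii, classInner_isIrr_self hii, hinner _ hθ _ hθi hi hii,
      classInner_isIrr_ne hi hii (Ne.symm (h.inv_ne hθ hi)), sub_zero] at h1
    have hX : IsSignedIrr (conjFun (f θ)) := by
      rcases hsigned θ hθ hi with h2 | h2
      · exact Or.inl (Coherence.isIrr_conjFun h2)
      · refine Or.inr ?_
        have := Coherence.isIrr_conjFun h2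
        convert this using 1
        funext x; simp [conjFun]
    obtain ⟨e, he, he'⟩ := Coherence.classInner_signed hX (hsigned _ hθi hii)
      (by rw [h1]; exact one_ne_zero)
    have hself : classInner (conjFun (f θ)) (conjFun (f θ)) = 1 := by
      rw [ci_conjFun, hinner θ hθ θ hθ hi hi, classInner_isIrr_self hi]
    rw [he', ci_smul_right, hself, map_intCast, mul_one] at h1
    rw [he', h1, one_smul]

/-- The shift to another column. -/
theorem tau_ext {f : (↥(baseHC M U) →* ℂˣ) → G → ℂ} {ε : ℤ} {m j₀ : rightHat W₁ W₂}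
    (E : LamExt M W₁ U W₂ χ μ f ε m j₀) (hθ : θ ∈ lamChars M U)
    (hi : IsIrrCharacter M (lamInd M U θ)) {l : rightHat W₁ W₂} (hl : l ≠ 1) :
    tauM M (lamInd M U θ - muSum μ l) = f θ + (ε : ℂ) • col χ m + (col χ j₀ - col χ l) := by
  rw [h.tau_beta_shift θ E.j_ne hl, E.tau θ hθ hi]

end Ext

/-- The two sides of a pair do not both have an irreducible `Ind θ`. -/
theorem no_cross {N V : Subgroup G} [Fintype N] {μ' : (↥(W₂ ⊔ W₁) →* ℂˣ) → (↥N → ℂ)}
    {δ' : (↥(W₂ ⊔ W₁) →* ℂˣ) → ℤ} (h' : LamSide N W₂ V W₁ (swapFam χ) μ' δ')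
    (hL : HasLam M U) (hL' : HasLam N V)
    (hdisj : Disjoint (dadeSupp (lamSet M U) (supportR M))
      (dadeSupp (lamSet N V) (supportR N))) : False := by
  classical
  obtain ⟨f, ε, m, j, E⟩ := h.exists_lamExt hL
  obtain ⟨f', ε', m', j', E'⟩ := h'.exists_lamExt hL'
  obtain ⟨θ, hθ, hi⟩ := hL
  obtain ⟨θ', hθ', hi'⟩ := hL'
  have hθi := inv_regular hθ
  have hii := h.inv_irr hi
  have hθi' := inv_regular hθ'
  have hii' := h'.inv_irr hi'
  have hzero : ∀ {α : ↥M → ℂ} {β : ↥N → ℂ}, IsClassFunction ↥M α →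
      (∀ x : ↥M, (x : G) ∉ lamSet M U → α x = 0) → IsClassFunction ↥N β →
      (∀ x : ↥N, (x : G) ∉ lamSet N V → β x = 0) → classInner (tauM M α) (tauM N β) = 0 :=
    fun hα hs hβ hs' => ci_eq_zero_of_supp hdisj (fun _ hg => h.tau_off hα hs hg)
      fun _ hg => h'.tau_off hβ hs' hg
  -- the second family is the first
  obtain ⟨k₀, rfl⟩ := swapRight_bijective.2 m'
  have horth' : ∀ θ' ∈ lamChars N V, IsIrrCharacter N (lamInd N V θ') →
      ∀ k l, classInner (f' θ') (eta χ k l) = 0 := fun θ' hθ' hi' k l => by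
    rw [← eta_swap χ k l]; exact E'.orth θ' hθ' hi' _ _
  have hrow : col (swapFam χ) (swapRight k₀) = ∑ l, eta χ k₀ l := by
    rw [col]
    exact (Fintype.sum_bijective swapLeft swapLeft_bijective (fun l => eta χ k₀ l) _
      fun l => (eta_swap χ k₀ l).symm).symm
  have hcr : classInner (col χ m) (col (swapFam χ) (swapRight k₀)) = 1 := by
    rw [hrow, ci_sum_right, Finset.sum_eq_single m (fun l _ hl => by
      rw [h.ci_col_eta, if_neg hl]) (by simp), h.ci_col_eta, if_pos rfl]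
  have hfcol : ∀ θ ∈ lamChars M U, IsIrrCharacter M (lamInd M U θ) →
      classInner (f θ) (col (swapFam χ) (swapRight k₀)) = 0 := fun θ hθ hi => by
    rw [hrow, ci_sum_right]; exact Finset.sum_eq_zero fun l _ => E.orth θ hθ hi k₀ l
  have hcolf : classInner (col χ m) (f' θ') = 0 := by
    rw [← ci_conj, col, ci_sum_right,
      Finset.sum_eq_zero fun k _ => horth' θ' hθ' hi' k m, map_zero]
  have h1 := hzero (Coherence.isClassFunction_of_isGen (Coherence.isGen_sub (lamInd_gen θ)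
      (h.muSum_gen j))) (h.beta_supp θ E.j_ne)
    (Coherence.isClassFunction_of_isGen (Coherence.isGen_sub (lamInd_gen θ') (h'.muSum_gen j')))
      (h'.beta_supp θ' E'.j_ne)
  rw [E.tau θ hθ hi, E'.tau θ' hθ' hi', ci_add_left, ci_add_right, ci_add_right, ci_smul_left,
    ci_smul_left, ci_smul_right, ci_smul_right, hfcol θ hθ hi, hcolf, hcr] at h1
  simp only [map_intCast, mul_zero, add_zero, mul_one] at h1
  obtain ⟨e, he, heq⟩ := Coherence.classInner_signed (E.signed θ hθ hi) (E'.signed θ' hθ' hi')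
    (fun e0 => by
      rw [e0] at h1
      rcases E.sign with s1 | s1 <;> rcases E'.sign with s2 | s2 <;> simp [s1, s2] at h1)
  have hbar : f' θ'⁻¹ = (e : ℂ) • f θ⁻¹ := by
    rw [← E.conj_eq θ hθ hi, ← E'.conj_eq θ' hθ' hi', heq]
    funext x; simp [conjFun]
  have h2 := hzero (Coherence.isClassFunction_of_isGen (Coherence.isGen_sub (lamInd_gen θ)
      (lamInd_gen θ⁻¹))) (h.lam_supp θ θ⁻¹)
    (Coherence.isClassFunction_of_isGen (Coherence.isGen_sub (lamInd_gen θ') (lamInd_gen θ'⁻¹)))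
      (h'.lam_supp θ' θ'⁻¹)
  have eM : tauM M (lamInd M U θ - lamInd M U θ⁻¹) = f θ - f θ⁻¹ := by
    have e0 := congrArg₂ (· - ·) (E.tau θ hθ hi) (E.tau θ⁻¹ hθi hii)
    simp only [tauM] at e0 ⊢
    rw [← dade_sub, sub_sub_sub_cancel_right, add_sub_add_right_eq_sub] at e0
    exact e0
  have eN : tauM N (lamInd N V θ' - lamInd N V θ'⁻¹) = f' θ' - f' θ'⁻¹ := by
    have e0 := congrArg₂ (· - ·) (E'.tau θ' hθ' hi') (E'.tau θ'⁻¹ hθi' hii')
    simp only [tauM] at e0 ⊢
    rw [← dade_sub, sub_sub_sub_cancel_right, add_sub_add_right_eq_sub] at e0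
    exact e0
  rw [eM, eN, heq, hbar, ← smul_sub, ci_smul_right, ci_sub_left, ci_sub_right, ci_sub_right,
    E.inner_eq θ hθ θ hθ hi rfl, E.inner_eq _ hθi _ hθi hii rfl,
    E.inner_ne θ hθ _ hθi hi hii (Ne.symm (h.inv_ne hθ hi)),
    E.inner_ne _ hθi θ hθ hii hi (h.inv_ne hθ hi), map_intCast] at h2
  rcases he with rfl | rfl <;> norm_num at h2

end LamSide

end CfsgLib.OddOrder
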