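import Cfsg.Agent.OddOrder.PF10.MuBasic
import Cfsg.Agent.Coherence.Induced
import Cfsg.Agent.Coherence.Irr

/-!
# Peterfalvi (4.3)-(4.5): consequences for the characters `μ`
-/

set_option autoImplicit false
set_option linter.style.haveILetI false
set_option linter.unusedSectionVars false

namespace CfsgLib.OddOrder

open Cfsg CfsgLib.Characters CfsgLib.Coherence CfsgLib.OddOrderChar
open scoped ComplexConjugate

universe u

variable {G : Type u} [Group G] [Fintype G] {M W₁ W₂ : Subgroup G}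

theorem PBase.exists_not_mem (hB : PBase M W₁ W₂) :
    ∃ w : ↥(W₁ ⊔ W₂), (w : G) ∈ W₁ ∧ (w : G) ∉ W₂ := by
  obtain ⟨⟨a, ha⟩, ha'⟩ := Subgroup.ne_bot_iff_exists_ne_one.1 hB.snc.1
  have ha1 : a ≠ 1 := fun e => ha' (Subtype.ext e)
  refine ⟨⟨a, Subgroup.mem_sup_left ha⟩, ha, fun h2 => ha1 ?_⟩
  have : a ∈ W₁ ⊓ W₂ := ⟨ha, h2⟩
  rwa [hB.snc.2.2.1, Subgroup.mem_bot] at this

theorem PBase.factor (hB : PBase M W₁ W₂) : FactorPair W₁ W₂ := factorPair_of_snc hB.snc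

theorem PBase.not_mem_derIn (hB : PBase M W₁ W₂) (hle : W₁ ⊔ W₂ ≤ M) {w : ↥(W₁ ⊔ W₂)} (hw : (w : G) ∉ W₂) :
    (⟨w, hle w.2⟩ : ↥M) ∉ derIn M :=
  fun h => hw (hB.mem_W₂_of_mem h)

/-- The linear character of `M` extending `k` and trivial on `M'`. -/
theorem PBase.exists_lift (hB : PBase M W₁ W₂) (k : leftHat W₁ W₂) :
    ∃ τ : ↥M →* ℂˣ, (∀ x ∈ derIn M, τ x = 1) ∧
      ∀ w : ↥(W₁ ⊔ W₂), τ ⟨w, hB.le w.2⟩ = k.1 w := by
  letI : Fintype ↥M := Fintype.ofFinite _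
  obtain ⟨π, hπK, hπ, -⟩ := exists_compl_proj hB.derIn_inf hB.derIn_sup
  let incl : ↥(W₁.subgroupOf M) →* ↥(W₁ ⊔ W₂) :=
    (Subgroup.inclusion le_sup_left).comp (Subgroup.subgroupOfEquivOfLe hB.le₁).toMonoidHom
  refine ⟨k.1.comp (incl.comp π), fun x hx => by simp [hπK x hx], fun w => ?_⟩
  have hfac := hB.factor
  have e1 : incl (π ⟨w, hB.le w.2⟩) = hfac.fst w := by
    have e2 : (⟨w, hB.le w.2⟩ : ↥M) = ⟨hfac.fst w, hB.le (hfac.fst w).2⟩ * ⟨hfac.snd w, hB.le (hfac.snd w).2⟩ :=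
      Subtype.ext (congrArg Subtype.val (hfac.fst_mul_snd w)).symm
    rw [e2, map_mul, hπK ⟨_, hB.le (hfac.snd w).2⟩ (hB.le₂ (hfac.snd_mem w)), mul_one]
    refine Subtype.ext ?_
    have := hπ ⟨⟨hfac.fst w, hB.le (hfac.fst w).2⟩, hfac.fst_mem w⟩
    show (((π _ : ↥(W₁.subgroupOf M)) : ↥M) : G) = _
    rw [this]
  show k.1 (incl (π ⟨w, hB.le w.2⟩)) = k.1 w
  rw [e1]
  conv_rhs => rw [← hfac.fst_mul_snd w, map_mul, k.2 _ (hfac.snd_mem w), mul_one]

/-- The linear character of `M` attached to `k`. -/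
noncomputable def liftHat (hB : PBase M W₁ W₂) (k : leftHat W₁ W₂) : ↥M →* ℂˣ :=
  (hB.exists_lift k).choose

theorem liftHat_der (hB : PBase M W₁ W₂) (k : leftHat W₁ W₂) {x : ↥M} (hx : x ∈ derIn M) :
    liftHat hB k x = 1 :=
  (hB.exists_lift k).choose_spec.1 x hx

theorem liftHat_W (hB : PBase M W₁ W₂) (k : leftHat W₁ W₂) (w : ↥(W₁ ⊔ W₂)) :
    liftHat hB k ⟨w, hB.le w.2⟩ = k.1 w :=
  (hB.exists_lift k).choose_spec.2 w

variable [Fintype M] {hle : W₁ ⊔ W₂ ≤ M}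
  {μ : (↥(W₁ ⊔ W₂) →* ℂˣ) → (↥M → ℂ)} {δ : (↥(W₁ ⊔ W₂) →* ℂˣ) → ℤ}

noncomputable local instance fintypeSubMuFacts (H : Subgroup ↥M) : Fintype H := Fintype.ofFinite H

/-- Off `M'` a class function is determined on `W \ W₂`. -/
theorem PBase.eq_off (hB : PBase M W₁ W₂) {f f' : ↥M → ℂ} (hf : IsClassFunction ↥M f) (hf' : IsClassFunction ↥M f')
    (h : ∀ w : ↥(W₁ ⊔ W₂), (w : G) ∉ W₂ → f ⟨w, hB.le w.2⟩ = f' ⟨w, hB.le w.2⟩)
    {x : ↥M} (hx : x ∉ derIn M) : f x = f' x := by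
  obtain ⟨z, w, hw, he⟩ := hB.exists_conj hx
  have e : z * x * z⁻¹ = (⟨w, hB.le w.2⟩ : ↥M) := Subtype.ext he
  rw [← hf x z, ← hf' x z, e, h w hw]

/-- The sum of the linear characters of `M / M'` is the character induced from `1` of `M'`. -/
theorem PBase.sum_liftHat (hB : PBase M W₁ W₂) :
    ∑ k : leftHat W₁ W₂, (fun x : ↥M => (liftHat hB k x : ℂ)) = indFun (derIn M) (fun _ => 1) := by
  funext x
  rw [Finset.sum_apply]
  by_cases hx : x ∈ derIn M
  · rw [show x = ((⟨x, hx⟩ : derIn M) : ↥M) from rfl, indFun_normal_apply]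
    simp only [conjBy, Finset.sum_const, Finset.card_univ, nsmul_eq_mul, mul_one]
    rw [Finset.sum_congr rfl (g := fun _ => (1 : ℂ)) (fun k _ => by rw [liftHat_der hB k hx, Units.val_one]),
      Finset.sum_const, Finset.card_univ, nsmul_one, ← Nat.card_eq_fintype_card,
      hB.factor.card_leftHat, Fintype.card_eq_nat_card, ← hB.index_derIn, ← (derIn M).index_mul_card,
      Nat.cast_mul, mul_left_comm, inv_mul_cancel₀ (Nat.cast_ne_zero.2 Nat.card_pos.ne'), mul_one]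
  · rw [indFun_normal_eq_zero _ _ hx]
    refine (hB.eq_off (f := fun y => ∑ k, (liftHat hB k y : ℂ)) (f' := 0) (fun a b => ?_)
      (fun _ _ => rfl) (fun w hw => ?_) hx)
    · exact Finset.sum_congr rfl fun k _ => congrArg Units.val (by
        rw [map_mul, map_mul, mul_comm (liftHat hB k b), mul_assoc, ← map_mul, mul_inv_cancel, map_one, mul_one])
    · simp only [liftHat_W, Pi.zero_apply]
      exact hB.factor.sum_leftHat_eq_zero hw

namespace PMu

variable (hμ : PMu M W₁ W₂ hle μ δ) (hB : PBase M W₁ W₂) (hodd : Odd (Nat.card M))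
include hμ hB hodd

/-- A sign and a linear character are determined by their product on `W \ W₂`. -/
theorem agree {s s' : ℤ} (hs : s = 1 ∨ s = -1) (hs' : s' = 1 ∨ s' = -1)
    {ω ω' : ↥(W₁ ⊔ W₂) →* ℂˣ}
    (h : ∀ w : ↥(W₁ ⊔ W₂), (w : G) ∉ W₂ → (s : ℂ) * (ω w : ℂ) = (s' : ℂ) * (ω' w : ℂ)) :
    s = s' ∧ ω = ω' := by
  have hoddW : Odd (Nat.card ↥(W₁ ⊔ W₂)) := hodd.of_dvd_nat (Subgroup.card_dvd_of_le hB.le)
  set c := ω' * ω⁻¹ with hc
  have hss : (s' : ℂ) * (s' : ℂ) = 1 := by rcases hs' with rfl | rfl <;> norm_num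
  have hval : ∀ w : ↥(W₁ ⊔ W₂), (w : G) ∉ W₂ → (c w : ℂ) = (s' : ℂ) * (s : ℂ) := by
    intro w hw
    rw [hc, MonoidHom.mul_apply, MonoidHom.inv_apply, Units.val_mul, Units.val_inv_eq_inv_val,
      ← div_eq_mul_inv, div_eq_iff (Units.ne_zero _), mul_assoc, h w hw, ← mul_assoc, hss, one_mul]
  obtain ⟨x, hx1, hx2⟩ := hB.exists_not_mem
  have hone : (s' : ℂ) * (s : ℂ) = 1 := by
    have h1 : ((s' : ℂ) * (s : ℂ)) ^ Nat.card ↥(W₁ ⊔ W₂) = 1 := by
      rw [← hval x hx2, ← Units.val_pow_eq_pow_val, ← map_pow, pow_card_eq_one', map_one, Units.val_one]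
    rcases hs with rfl | rfl <;> rcases hs' with rfl | rfl <;>
      simp only [Int.cast_one, Int.cast_neg, mul_one, mul_neg, neg_neg, hoddW.neg_pow,
        one_pow] at h1 ⊢
    all_goals norm_num at h1
  have hc1 : c = 1 := by
    refine MonoidHom.ext fun w => ?_
    by_cases hw : (w : G) ∈ W₂
    · have hxw : ((x * w : ↥(W₁ ⊔ W₂)) : G) ∉ W₂ := fun h2 => hx2 (by
        rw [Subgroup.coe_mul] at h2
        exact (Subgroup.mul_mem_cancel_right W₂ hw).1 h2)
      have e1 : c x = 1 := Units.ext (by rw [hval x hx2, hone, Units.val_one])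
      have e2 : c (x * w) = 1 := Units.ext (by rw [hval _ hxw, hone, Units.val_one])
      rwa [map_mul, e1, one_mul] at e2
    · exact Units.ext (by rw [hval w hw, hone, MonoidHom.one_apply, Units.val_one])
  refine ⟨?_, (mul_inv_eq_one.1 hc1).symm⟩
  have : s' * s = 1 := by exact_mod_cast hone
  rcases hs with rfl | rfl <;> rcases hs' with rfl | rfl <;> omega

/-- An irreducible character with those values on `W \ W₂` is the corresponding `μ`. -/
theorem eq_of_values {θ : ↥M → ℂ} (hθ : IsIrrCharacter M θ) {s : ℤ} (hs : s = 1 ∨ s = -1)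
    {ω : ↥(W₁ ⊔ W₂) →* ℂˣ}
    (h : ∀ w : ↥(W₁ ⊔ W₂), (w : G) ∉ W₂ → θ ⟨w, hle w.2⟩ = (s : ℂ) * (ω w : ℂ)) :
    θ = μ ω ∧ δ ω = s := by
  obtain ⟨x, -, hx2⟩ := hB.exists_not_mem
  obtain ⟨ω', rfl⟩ : ∃ ω', θ = μ ω' := by
    by_contra hne
    push Not at hne
    have := hμ.others θ hθ hne x hx2
    rw [h x hx2] at this
    rcases hs with rfl | rfl <;> simp at this
  obtain ⟨h1, rfl⟩ := hμ.agree hB hodd (hμ.sign ω') hs fun w hw => by
    rw [← hμ.value ω' w hw, h w hw]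
  exact ⟨rfl, h1⟩

theorem one : μ 1 = (fun _ => 1) ∧ δ 1 = 1 := by
  obtain ⟨h1, h2⟩ := hμ.eq_of_values hB hodd (θ := fun _ => (1 : ℂ)) Characters.isIrr_one
    (Or.inl rfl) (ω := 1) fun w _ => by simp
  exact ⟨h1.symm, h2⟩

theorem twist (k : leftHat W₁ W₂) (ω : ↥(W₁ ⊔ W₂) →* ℂˣ) :
    μ (k.1 * ω) = (fun x => (liftHat hB k x : ℂ) * μ ω x) ∧ δ (k.1 * ω) = δ ω := by
  obtain ⟨h1, h2⟩ := hμ.eq_of_values hB hodd (isIrr_linear_mul (hμ.irr ω) (liftHat hB k))
    (hμ.sign ω) (ω := k.1 * ω) fun w hw => by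
      show (liftHat hB k ⟨w, hle w.2⟩ : ℂ) * μ ω ⟨w, hle w.2⟩ = _
      rw [liftHat_W, hμ.value ω w hw, MonoidHom.mul_apply, Units.val_mul]
      ring
  exact ⟨h1.symm, h2⟩

theorem left (k : leftHat W₁ W₂) : μ k.1 = (fun x => (liftHat hB k x : ℂ)) ∧ δ k.1 = 1 := by
  have h := hμ.twist hB hodd k 1
  have e : k.1 * 1 = k.1 := MonoidHom.ext fun w => mul_one _
  rw [e, (hμ.one hB hodd).1, (hμ.one hB hodd).2] at h
  simpa using h

theorem galois (σ : ℂ ≃+* ℂ) (ω : ↥(W₁ ⊔ W₂) →* ℂˣ) :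
    μ (galHom σ ω) = (fun x => σ (μ ω x)) ∧ δ (galHom σ ω) = δ ω := by
  obtain ⟨h1, h2⟩ := hμ.eq_of_values hB hodd (GaloisConj.isIrrCharacter_comp σ (hμ.irr ω))
    (hμ.sign ω) (ω := galHom σ ω) fun w hw => by
      rw [hμ.value ω w hw, map_mul, map_intCast, galHom_apply]
  exact ⟨h1.symm, h2⟩

theorem conjugate (ω : ↥(W₁ ⊔ W₂) →* ℂˣ) : μ ω⁻¹ = conjFun (μ ω) ∧ δ ω⁻¹ = δ ω := by
  obtain ⟨h1, h2⟩ := hμ.eq_of_values hB hodd (Coherence.isIrr_conjFun (hμ.irr ω))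
    (hμ.sign ω) (ω := ω⁻¹) fun w hw => by
      rw [conjFun, hμ.value ω w hw, map_mul, map_intCast, conj_hom_eq]
  exact ⟨h1.symm, h2⟩

/-- The restriction to `M'`; it depends on the `W₂`-part only. -/
theorem res_eq (k : leftHat W₁ W₂) (ω : ↥(W₁ ⊔ W₂) →* ℂˣ) (x : derIn M) :
    μ (k.1 * ω) x = μ ω x := by
  rw [(hμ.twist hB hodd k ω).1]
  show (liftHat hB k (x : ↥M) : ℂ) * μ ω x = _
  rw [liftHat_der hB k x.2, Units.val_one, one_mul]

theorem ind_res (l : rightHat W₁ W₂) :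
    indFun (derIn M) (fun x => μ l.1 x) = ∑ k : leftHat W₁ W₂, μ (k.1 * l.1) := by
  rw [show (fun x : derIn M => μ l.1 x) = fun x : derIn M => (fun _ : derIn M => (1 : ℂ)) x * μ l.1 x from
      funext fun x => (one_mul _).symm,
    Characters.indFun_mul _ _ (isClassFunction_of_isIrr (hμ.irr _)), ← hB.sum_liftHat]
  funext g
  simp only [Finset.sum_apply, Finset.sum_mul, (hμ.twist hB hodd _ l.1).1]

theorem ci_res (l l' : rightHat W₁ W₂) [Decidable (l = l')] :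
    classInner (fun x : derIn M => μ l.1 x) (fun x : derIn M => μ l'.1 x) =
      if l = l' then 1 else 0 := by
  classical
  rw [← OddOrderChar.classInner_indFun_left (derIn M) (fun x => μ l.1 x)
    (isClassFunction_of_isIrr (hμ.irr l'.1)), hμ.ind_res hB hodd l, ci_sum_left]
  have e : ∀ k : leftHat W₁ W₂, classInner (μ (k.1 * l.1)) (μ l'.1) =
      if k = 1 ∧ l = l' then (1 : ℂ) else 0 := by
    intro k
    rw [Coherence.ci_irr (hμ.irr _) (hμ.irr _)]
    by_cases hkl : k = 1 ∧ l = l'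
    · obtain ⟨rfl, rfl⟩ := hkl
      rw [if_pos, if_pos ⟨rfl, rfl⟩]
      rw [leftHat_coe_one]
      exact congrArg μ (MonoidHom.ext fun w => one_mul _)
    · rw [if_neg hkl, if_neg]
      intro e
      have e' : k.1 * l.1 = (1 : leftHat W₁ W₂).1 * l'.1 := (hμ.inj e).trans (MonoidHom.ext fun w => (one_mul _).symm)
      have := hB.factor.hatEquiv.injective (a₁ := (k, l)) (a₂ := (1, l')) e'
      exact hkl ⟨congrArg Prod.fst this, congrArg Prod.snd this⟩
  rw [Finset.sum_congr rfl fun k _ => e k]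
  by_cases hl : l = l'
  · simp [hl]
  · simp [hl]

theorem res_irr (l : rightHat W₁ W₂) : IsIrrCharacter ↥(derIn M) (fun x => μ l.1 x) := by
  classical
  exact isIrr_of_classInner_self (isCharacter_restrict _ (isCharacter_of_isIrr (hμ.irr _)))
    (by rw [hμ.ci_res hB hodd, if_pos rfl])

theorem res_inj {l l' : rightHat W₁ W₂}
    (e : (fun x : derIn M => μ l.1 x) = fun x : derIn M => μ l'.1 x) : l = l' := by
  classical
  by_contra hne
  have h1 := hμ.ci_res hB hodd l l'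
  rw [e, hμ.ci_res hB hodd, if_pos rfl, if_neg hne] at h1
  exact one_ne_zero h1

/-- The other irreducible characters of `M` vanish off `M'`. -/
theorem others_zero {θ : ↥M → ℂ} (hθ : IsIrrCharacter M θ) (hne : ∀ ω, θ ≠ μ ω) {x : ↥M}
    (hx : x ∉ derIn M) : θ x = 0 :=
  hB.eq_off (f' := 0) (isClassFunction_of_isIrr hθ) (fun _ _ => rfl) (fun w hw => hμ.others θ hθ hne w hw) hx

/-- For `|W₁|` prime every other irreducible character of `M'` induces an irreducible one. -/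
theorem ind_irr (hq : (Nat.card W₁).Prime) {θ : derIn M → ℂ} (hθ : IsIrrCharacter ↥(derIn M) θ)
    (hne : ∀ l : rightHat W₁ W₂, θ ≠ fun x : derIn M => μ l.1 x) :
    IsIrrCharacter M (indFun (derIn M) θ) ∧ ∀ ω, indFun (derIn M) θ ≠ μ ω := by
  classical
  have hξ : IsCharacter M (indFun (derIn M) θ) := OddOrderChar.isCharacter_indFun (derIn M) (isCharacter_of_isIrr hθ)
  have hres : ∀ χ, IsIrrCharacter M χ → classInner (indFun (derIn M) θ) χ = classInner θ (fun x : (derIn M) => χ x) :=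
    fun χ hχ => OddOrderChar.classInner_indFun_left (derIn M) θ (isClassFunction_of_isIrr hχ)
  have hnotμ : ∀ ω, classInner (indFun (derIn M) θ) (μ ω) = 0 := by
    intro ω
    obtain ⟨⟨k, l⟩, rfl⟩ := hB.factor.hatEquiv.surjective ω
    rw [hB.factor.hatEquiv_apply, hres _ (hμ.irr _),
      show (fun x : (derIn M) => μ (k.1 * l.1) x) = fun x : (derIn M) => μ l.1 x from
        funext fun x => hμ.res_eq hB hodd k l.1 x]
    exact classInner_isIrr_ne hθ (hμ.res_irr hB hodd l) (hne l)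
  obtain ⟨χ, hχ, hχ0⟩ := OddOrderChar.exists_constituent hξ (Coherence.ind_ne_zero (derIn M) hθ)
  have hχμ : ∀ ω, χ ≠ μ ω := fun ω e => hχ0 (e ▸ hnotμ ω)
  have hχres : indFun (derIn M) (fun x : (derIn M) => χ x) = ((derIn M).index : ℂ) • χ := by
    funext g
    by_cases hg : g ∈ (derIn M)
    · rw [show g = ((⟨g, hg⟩ : (derIn M)) : ↥M) from rfl, indFun_normal_apply, Pi.smul_apply, smul_eq_mul]
      have e : ∀ y : ↥M, conjBy (derIn M) (fun x : (derIn M) => χ x) y ⟨g, hg⟩ = χ g := fun y => by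
        rw [conjBy_apply]
        simpa using isClassFunction_of_isIrr hχ g y
      rw [Finset.sum_congr rfl fun y _ => e y, Finset.sum_const, Finset.card_univ, nsmul_eq_mul,
        Fintype.card_eq_nat_card, ← (derIn M).index_mul_card, Nat.cast_mul]
      field_simp
    · rw [indFun_normal_eq_zero _ _ hg, Pi.smul_apply, smul_eq_mul,
        hμ.others_zero hB hodd hχ hχμ hg, mul_zero]
  have honly : ∀ χ' : IrrCharacter ↥M, χ'.1 ≠ χ → classInner (indFun (derIn M) θ) χ'.1 = 0 := by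
    intro χ' hne'
    have h0 : classInner (fun x : (derIn M) => χ x) (fun x : (derIn M) => χ'.1 x) = 0 := by
      rw [← OddOrderChar.classInner_indFun_left (derIn M) (fun x : (derIn M) => χ x) (isClassFunction_of_isIrr χ'.2),
        hχres, ci_smul_left, classInner_isIrr_ne hχ χ'.2 (Ne.symm hne'), mul_zero]
    rcases classInner_eq_zero_constituent (isCharacter_restrict (derIn M) (isCharacter_of_isIrr hχ))
      (isCharacter_restrict (derIn M) (isCharacter_of_isIrr χ'.2)) h0 hθ with h1 | h1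
    · refine absurd ?_ hχ0
      rw [hres χ hχ, ← ci_conj, h1, map_zero]
    · rw [hres _ χ'.2, ← ci_conj, h1, map_zero]
  obtain ⟨m, hm⟩ := classInner_character_irr hξ hχ
  have heq : indFun (derIn M) θ = (m : ℂ) • χ := by
    have h := classFunction_expansion (isClassFunction_of_isCharacter hξ)
    refine h.trans ?_
    refine (Finset.sum_eq_single (⟨χ, hχ⟩ : IrrCharacter ↥M) (fun χ' _ hne' => ?_) (by simp)).trans ?_
    · rw [honly χ' fun e => hne' (Subtype.ext e), zero_smul]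
    · rw [hm]
  have hnorm : ((m * m : ℕ) : ℂ) = (stabCard (derIn M) θ : ℂ) / (Nat.card (derIn M) : ℂ) := by
    rw [← Coherence.ci_ind_self (derIn M) hθ, heq, ci_smul_left, ci_smul_right, classInner_isIrr_self hχ,
      Complex.conj_natCast, mul_one, Nat.cast_mul]
  have hst : stabCard (derIn M) θ = m * m * Nat.card (derIn M) := by
    rw [eq_div_iff (Nat.cast_ne_zero.2 Nat.card_pos.ne'), ← Nat.cast_mul] at hnorm
    exact (Nat.cast_injective hnorm).symm
  have hm1 : m = 1 := by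
    have hdvd : m * m ∣ Nat.card W₁ := by
      have h := Coherence.card_orbit_mul_stab (derIn M) θ
      rw [hst, ← (derIn M).index_mul_card, ← mul_assoc] at h
      have h2 := Nat.eq_of_mul_eq_mul_right Nat.card_pos h
      rw [hB.index_derIn] at h2
      exact ⟨_, h2.symm.trans (mul_comm _ _)⟩
    rcases (Nat.dvd_prime hq).1 (dvd_trans (dvd_mul_right m m) hdvd) with h1 | h1
    · exact h1
    · rw [h1] at hdvd
      exact absurd (Nat.le_of_dvd hq.pos hdvd) (by nlinarith [hq.two_le])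
  rw [hm1, Nat.cast_one, one_smul] at heq
  exact ⟨heq ▸ hχ, fun ω => heq ▸ hχμ ω⟩

/-- For `|W₂|` prime the signs and degrees of all `μ` outside the first column agree. -/
theorem sign_degree_const (hp : (Nat.card W₂).Prime) {l l' : rightHat W₁ W₂} (hl : l ≠ 1) (hl' : l' ≠ 1) :
    δ l.1 = δ l'.1 ∧ μ l.1 1 = μ l'.1 1 := by
  classical
  have hfac := hB.factor
  haveI := hfac.cyclic
  letI : CommGroup ↥(W₁ ⊔ W₂) := IsCyclic.commGroup
  -- a power `i` with `l' = l ^ i`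
  have hcard : Nat.card (rightHat W₁ W₂) = Nat.card W₂ := hfac.card_rightHat
  let S : Subgroup (↥(W₁ ⊔ W₂) →* ℂˣ) :=
    { carrier := {ω | ∀ w : ↥(W₁ ⊔ W₂), (w : G) ∈ W₁ → ω w = 1}
      one_mem' := fun _ _ => rfl
      mul_mem' := fun {a b} ha hb w hw => by rw [MonoidHom.mul_apply, ha w hw, hb w hw, mul_one]
      inv_mem' := fun {a} ha w hw => by rw [MonoidHom.inv_apply, ha w hw, inv_one] }
  have hS : Nat.card S = Nat.card W₂ := hcard
  haveI : Fact (Nat.card W₂).Prime := ⟨hp⟩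
  have hlS : (⟨l.1, l.2⟩ : S) ≠ 1 := fun e => hl (Subtype.ext (congrArg Subtype.val e))
  obtain ⟨j, hj⟩ : ∃ j : ℕ, (⟨l.1, l.2⟩ : S) ^ j = ⟨l'.1, l'.2⟩ :=
    mem_powers_iff_mem_zpowers.2 (mem_zpowers_of_prime_card hS hlS)
  set p := Nat.card W₂ with hpdef
  have hpw : ∀ (z : S) (n : ℕ) (w : ↥(W₁ ⊔ W₂)), (z ^ n).1 w = z.1 w ^ n := by
    intro z n w
    induction n with
    | zero => rw [pow_zero, pow_zero]; rfl
    | succ n ih => rw [pow_succ, pow_succ, ← ih]; rfl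
  have hlp : ∀ w, l.1 w ^ p = 1 := fun w => by
    have h0 := congrArg (fun z : S => z.1 w) (pow_card_eq_one' (x := (⟨l.1, l.2⟩ : S)))
    simp only [hpw, hS] at h0
    exact h0
  have hjw : ∀ w, l'.1 w = l.1 w ^ j := fun w => by
    have h0 := congrArg (fun z : S => z.1 w) hj
    simp only [hpw] at h0
    exact h0.symm
  have hcopp : Nat.Coprime p j := by
    refine (hp.coprime_iff_not_dvd).2 fun hd => hl' (Subtype.ext (MonoidHom.ext fun w => ?_))
    obtain ⟨t, ht⟩ := hd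
    rw [hjw w, ht, pow_mul, hlp, one_pow]
    rfl
  have hW : Nat.card ↥(W₁ ⊔ W₂) = Nat.card W₁ * p := hfac.card_sup
  have hcopW : Nat.Coprime (Nat.card W₁) p :=
    (hB.hall).coprime_dvd_right (Subgroup.card_dvd_of_le hB.le₂)
  obtain ⟨k, hk1, hk2⟩ := Nat.chineseRemainder hcopW 1 j
  have hkcop : Nat.Coprime k (Nat.card W₁ * p) := by
    refine Nat.Coprime.mul_right ?_ ?_
    · rw [Nat.Coprime, hk1.gcd_eq, Nat.gcd_one_left]
    · rw [Nat.Coprime, hk2.gcd_eq]; exact hcopp.symm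
  haveI : NeZero (Nat.card W₁ * p) := ⟨Nat.mul_ne_zero Nat.card_pos.ne' hp.ne_zero⟩
  obtain ⟨σ, hσ⟩ := GaloisConj.exists_ringEquiv_pow _ k hkcop
  have hgal : galHom σ l.1 = l'.1 := by
    refine MonoidHom.ext fun w => Units.ext ?_
    have h1 : (l.1 w : ℂ) ^ (Nat.card W₁ * p) = 1 := by
      rw [← hW, ← Units.val_pow_eq_pow_val, ← map_pow, pow_card_eq_one', map_one, Units.val_one]
    rw [galHom_apply, hσ _ h1, hjw, Units.val_pow_eq_pow_val]
    refine pow_eq_pow_of_modEq hk2 ?_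
    rw [← Units.val_pow_eq_pow_val, hlp, Units.val_one]
  obtain ⟨h1, h2⟩ := hμ.galois hB hodd σ l.1
  rw [hgal] at h1 h2
  refine ⟨h2.symm, ?_⟩
  rw [h1]
  obtain ⟨d, -, hd⟩ := exists_degree_pos (hμ.irr l.1)
  show μ l.1 1 = σ (μ l.1 1)
  rw [hd, map_natCast]

end PMu

end CfsgLib.OddOrder
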