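import Cfsg.Agent.OddOrder.PF10.Setting
import Cfsg.Agent.OddOrder.BG16.TypeP
import Cfsg.Agent.PLocal.CommutatorFacts
import Cfsg.Agent.OddOrder.BG13.Basic

/-!
# The pair of maximal subgroups of type P (Peterfalvi (8.8), (8.14))

Facts on type P data and the standard factorisation that follow from `FTFacts`, and the structure
`FTPair S T W₁ U W₂ V` of a pair of maximal subgroups with data of type P over the same `W₁ × W₂`.
-/

set_option autoImplicit false
set_option linter.style.haveILetI false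
set_option linter.unusedSectionVars false

namespace CfsgLib.OddOrder

open Cfsg
open Subgroup (centralizer normalizer)

universe u

variable {G : Type u} [Group G] [Finite G] {M W₁ U W₂ : Subgroup G}

/-! ### Self-normalising cyclic pairs -/

theorem snc_symm {A B : Subgroup G} (h : IsSelfNormalizingCyclic A B) :
    IsSelfNormalizingCyclic B A := by
  obtain ⟨h1, h2, h3, h4, h5, h6⟩ := h
  refine ⟨h2, h1, inf_comm A B ▸ h3, fun a ha b hb => (h4 b hb a ha).symm, sup_comm A B ▸ h5,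
    fun X hX hne => ?_⟩
  rw [sup_comm B A, Set.union_comm] at hX
  rw [sup_comm B A]
  exact h6 X hX hne

theorem snc_coprime {A B : Subgroup G} (h : IsSelfNormalizingCyclic A B) :
    (Nat.card A).Coprime (Nat.card B) := by
  refine Nat.coprime_of_dvd fun r hr ha hb => ?_
  haveI := Fact.mk hr
  obtain ⟨a, ha'⟩ := exists_prime_orderOf_dvd_card' (G := A) r ha
  have hor : orderOf (a : G) = r := (Subgroup.orderOf_coe a).trans ha'
  have hmem : (a : G) ∈ B := by
    rw [CfsgLib.OddOrderChar.mem_iff_pow_card h le_sup_right (Subgroup.mem_sup_left a.2)]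
    exact orderOf_dvd_iff_pow_eq_one.1 (hor ▸ hb)
  have h1 := (Subgroup.eq_bot_iff_forall _).1 h.2.2.1 (a : G) ⟨a.2, hmem⟩
  rw [h1, orderOf_one] at hor
  exact hr.ne_one hor.symm

/-! ### Type P data and the standard factorisation -/

theorem typeP_le₁ (hP : IsTypePWith M W₁ U W₂) : W₁ ≤ M := hP.W₁_compl.2.1

theorem typeP_W₂_le (hP : IsTypePWith M W₁ U W₂) : W₂ ≤ ⁅M, M⁆ :=
  hP.W₂_le.trans (inf_le_left.trans hP.U_compl.1)

theorem typeP_derived_coprime (hP : IsTypePWith M W₁ U W₂) :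
    (Nat.card W₁).Coprime (Nat.card ↥⁅M, M⁆) := by
  have h := hP.W₁_hall
  have h2 := card_mul_relIndex (typeP_le₁ hP)
  rw [← compl_card hP.W₁_compl, mul_comm (Nat.card ↥⁅M, M⁆)] at h2
  rwa [Nat.eq_of_mul_eq_mul_left Nat.card_pos h2] at h

/-- Two choices of type P data are conjugate in `M` as far as `W₁` and `W₂` go. -/
theorem typeP_data_conj (hsolv : Group.IsSolvable M) {A B C : Subgroup G}
    (hP : IsTypePWith M W₁ U W₂) (hP' : IsTypePWith M A B C) :
    ∃ m ∈ M, A.map (MulAut.conj m).toMonoidHom = W₁ ∧ C.map (MulAut.conj m).toMonoidHom = W₂ := by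
  have hc : Nat.card A = Nat.card W₁ := Nat.eq_of_mul_eq_mul_left Nat.card_pos
    ((compl_card hP'.W₁_compl).trans (compl_card hP.W₁_compl).symm)
  have hH : IsPiHallOf {r | r ∣ Nat.card W₁} W₁ M :=
    ⟨typeP_le₁ hP, fun r _ hd => hd,
      fun r hr hd h => hr.ne_one (Nat.eq_one_of_dvd_coprimes hP.W₁_hall hd h)⟩
  obtain ⟨m, hm, hle⟩ := exists_conj_le_isPiHallOf hsolv (typeP_le₁ hP')
    (fun r _ hd => hc ▸ hd) hH
  have hA : A.map (MulAut.conj m).toMonoidHom = W₁ :=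
    Subgroup.eq_of_le_of_card_ge hle (by rw [card_map_conj, hc])
  refine ⟨m, hm, hA, ?_⟩
  have h' := typePWith_map (MulAut.conj m) hP'
  rw [map_conj_eq_self_of_mem hm, hA] at h'
  obtain ⟨x, hx, hx1⟩ := (Subgroup.bot_or_exists_ne_one W₁).resolve_left hP.W₁_ne
  rw [← hP.W₂_centralizer x hx hx1, h'.W₂_centralizer x hx hx1]

/-- `W₁` and `W₂` found as factors of a self-normalising cyclic subgroup carry type P data. -/
theorem typeP_of_compl (hsolv : Group.IsSolvable M) {A B C : Subgroup G}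
    (hP : IsTypePWith M A B C) (hW : IsSelfNormalizingCyclic W₁ W₂) (h1 : IsComplIn ⁅M, M⁆ W₁ M)
    (hle : W₁ ⊔ W₂ ≤ M) : ∃ V : Subgroup G, IsTypePWith M W₁ V W₂ := by
  have hc : Nat.card A = Nat.card W₁ := Nat.eq_of_mul_eq_mul_left Nat.card_pos
    ((compl_card hP.W₁_compl).trans (compl_card h1).symm)
  have hW1M : W₁ ≤ M := le_sup_left.trans hle
  have hcop : (Nat.card W₁).Coprime (Nat.card ↥⁅M, M⁆) := hc ▸ typeP_derived_coprime hP
  have hH : IsPiHallOf {r | r ∣ Nat.card W₁} W₁ M := by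
    refine ⟨hW1M, fun r _ hd => hd, fun r hr hd h => hr.ne_one (Nat.eq_one_of_dvd_coprimes hcop hd ?_)⟩
    have h2 := card_mul_relIndex hW1M
    rw [← compl_card h1, mul_comm (Nat.card ↥⁅M, M⁆)] at h2
    rwa [Nat.eq_of_mul_eq_mul_left Nat.card_pos h2] at h
  obtain ⟨m, hm, hmle⟩ := exists_conj_le_isPiHallOf hsolv (typeP_le₁ hP)
    (fun r _ hd => hc ▸ hd) hH
  have hA : A.map (MulAut.conj m).toMonoidHom = W₁ :=
    Subgroup.eq_of_le_of_card_ge hmle (by rw [card_map_conj, hc])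
  have h' := typePWith_map (MulAut.conj m) hP
  rw [map_conj_eq_self_of_mem hm, hA] at h'
  set D := C.map (MulAut.conj m).toMonoidHom
  refine ⟨B.map (MulAut.conj m).toMonoidHom, ?_⟩
  obtain ⟨x, hx, hx1⟩ := (Subgroup.bot_or_exists_ne_one W₁).resolve_left hW.1
  obtain ⟨y, hy, hy1⟩ := (Subgroup.bot_or_exists_ne_one W₂).resolve_left hW.2.1
  -- `W₂ ≤ M'`
  have h2D : W₂ ≤ D := by
    intro w hw
    obtain ⟨a, ha, b, hb, hab⟩ := h1.2.2.2 w (hle (Subgroup.mem_sup_right hw))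
    have hbw : Commute b w := hW.2.2.2.1 b hb w hw
    have ha' : a = w * b⁻¹ := by rw [hab, mul_inv_cancel_right]
    have hwn : w ^ Nat.card W₂ = 1 :=
      congrArg Subtype.val (pow_card_eq_one' (G := W₂) (x := ⟨w, hw⟩))
    have hbn : (b⁻¹) ^ Nat.card W₂ = 1 := by
      have h3 : a ^ Nat.card W₂ = (b⁻¹) ^ Nat.card W₂ := by
        rw [ha', (hbw.inv_left).symm.mul_pow, hwn, one_mul]
      exact (Subgroup.eq_bot_iff_forall _).1 h1.2.2.1 _
        ⟨h3 ▸ pow_mem ha _, pow_mem (inv_mem hb) _⟩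
    have hb1 : b = 1 := by
      refine inv_eq_one.1 (orderOf_eq_one_iff.1 (Nat.eq_one_of_dvd_coprimes (snc_coprime hW) ?_
        (orderOf_dvd_of_pow_eq_one hbn)))
      exact Subgroup.orderOf_dvd_natCard _ (inv_mem hb)
    have hwa : w = a := by rw [hab, hb1, mul_one]
    rw [← h'.W₂_centralizer x hx hx1]
    exact ⟨hwa ▸ ha, Subgroup.mem_centralizer_singleton_iff.2 (hW.2.2.2.1 x hx w hw).symm⟩
  have hout : x * y ∈ W₁ ⊔ W₂ ∧ x * y ∉ W₁ ∧ x * y ∉ W₂ := by
    refine ⟨Subgroup.mul_mem_sup hx hy, fun h => hy1 ?_, fun h => hx1 ?_⟩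
    · exact (Subgroup.eq_bot_iff_forall _).1 hW.2.2.1 y ⟨(Subgroup.mul_mem_cancel_left _ hx).1 h, hy⟩
    · exact (Subgroup.eq_bot_iff_forall _).1 hW.2.2.1 x ⟨hx, (Subgroup.mul_mem_cancel_right _ hy).1 h⟩
  have hD2 : D ≤ W₂ := by
    intro d hd
    have hcy : IsCyclic ↥(W₁ ⊔ D) := h'.selfNormalizing.2.2.2.2.1
    haveI := hcy
    have hdW : d ∈ W₁ ⊔ W₂ := by
      refine CfsgLib.OddOrderChar.snc_normalizer_single hW hout.1 hout.2.1 hout.2.2 ?_
      have hcomm : d * (x * y) = (x * y) * d := setLike_mul_comm (s := W₁ ⊔ D)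
        (Subgroup.mem_sup_right hd) (Subgroup.mul_mem_sup hx (h2D hy))
      rw [hcomm, mul_inv_cancel_right]
    obtain ⟨a, ha, b, hb, rfl⟩ := Coprime.exists_mul_of_mem_sup
      ((Subgroup.le_centralizer_iff.1 fun b hb => Subgroup.mem_centralizer_iff.2
        fun a ha => hW.2.2.2.1 a ha b hb).trans (Subgroup.centralizer_le_normalizer _))
      (sup_comm W₁ W₂ ▸ hdW)
    have hb1 : b = 1 := (Subgroup.eq_bot_iff_forall _).1 h1.2.2.1 b
      ⟨(Subgroup.mul_mem_cancel_left _ (typeP_W₂_le h' (h2D ha))).1 (typeP_W₂_le h' hd), hb⟩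
    rwa [hb1, mul_one]
  rwa [le_antisymm hD2 h2D] at h'

namespace FTFacts

variable (hG : IsMinSimpleOddOrder G) (F : FTFacts G) (hM : IsCoatom M)
include hG F hM

theorem typeII_III_IV_V (hI : ¬ IsTypeI M) :
    IsOfTypeII M ∨ IsOfTypeIII M ∨ IsOfTypeIV M ∨ IsOfTypeV M := by
  obtain ⟨K, U, hKU⟩ := F.toBG16Facts.exists_sigmaDecomposition hM
  obtain ⟨-, -, hσ, hlt⟩ := F.chain M hM
  by_cases hU : U = ⊥
  · have hK : K ≠ ⊥ := fun hK => by
      refine hlt.not_ge (le_trans (fun m hm => ?_) hσ)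
      obtain ⟨a, ha, b, hb, rfl⟩ := hKU.compl.2.2.2 m hm
      rw [hU, Subgroup.mem_bot] at ha
      rw [hK, bot_sup_eq] at hb
      simpa [ha] using hb
    by_cases he : fittingHallOf M = sigmaCore M
    · exact Or.inr (Or.inr (Or.inr ((F.typeV M K U hM hKU).2 ⟨hK, hU, he⟩)))
    · exact Or.inr (((F.typeIII_IV M K U hM hKU).2 ⟨hK, hU, he⟩).imp id Or.inl)
  · refine Or.inl ((F.typeII M K U hM hKU).2 ⟨fun hK => hI ?_, hU⟩)
    exact (F.typeI M K U hM hKU).2 ⟨hK, hU⟩

theorem exists_data_of_not_I (hI : ¬ IsTypeI M) :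
    ∃ A B C : Subgroup G, IsTypePWith M A B C := by
  rcases F.typeII_III_IV_V hG hM hI with h | h | h | h <;>
    exact ⟨h.choose, h.choose_spec.choose, h.choose_spec.choose_spec.choose,
      h.choose_spec.choose_spec.choose_spec.1⟩

/-- `M' = U M_σ` meets `K` trivially, so `(|K|, |M'|) = 1`. -/
theorem coprime_kappa_derived {K U₀ : Subgroup G} (hKU : IsSigmaDecomposition M K U₀) :
    (Nat.card K).Coprime (Nat.card ↥⁅M, M⁆) := by
  have hn := BG16.le_normalizer_U_sup hKU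
  have hsup : M = (U₀ ⊔ sigmaCore M) ⊔ K := by
    conv_lhs => rw [← BG16.sup_eq_of_isComplIn hKU.compl]
    ac_rfl
  have hle : ⁅M, M⁆ ≤ U₀ ⊔ sigmaCore M := by
    have hKK : ⁅K, K⁆ = ⊥ := by
      haveI := hKU.cyclic
      exact Subgroup.commutator_eq_bot_iff_le_centralizer.2
        (Subgroup.le_centralizer_iff_isMulCommutative.2 inferInstance)
    simpa [hKK] using BG13.commutator_le_sup_commutator hn hsup
  refine Nat.coprime_of_dvd fun r hr h1 h2 => ?_
  have hk := hKU.hall.2.1 r hr h1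
  have h3 : r ∣ Nat.card ↥(U₀ ⊔ sigmaCore M) := h2.trans (Subgroup.card_dvd_of_le hle)
  have hndU : ¬ r ∣ Nat.card U₀ := fun hd => hKU.hall.2.2 r hr hk (by
    have h4 := card_mul_relIndex hKU.hall.1
    rw [← compl_card hKU.compl, BG16.card_sup_sigmaCore hKU.hall,
      show Nat.card U₀ * (Nat.card K * Nat.card (sigmaCore M)) =
        Nat.card K * (Nat.card U₀ * Nat.card (sigmaCore M)) by ring] at h4
    rw [Nat.eq_of_mul_eq_mul_left Nat.card_pos h4]
    exact hd.mul_right _)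
  have hd : Nat.card ↥(U₀ ⊔ sigmaCore M) ∣ Nat.card U₀ * Nat.card (sigmaCore M) := by
    exact Dvd.intro _ (PLocal.card_sup_mul_card_inf
      ((BG16.decomp_U_le hKU).trans (le_normalizer_sigmaCore M)))
  exact (hr.dvd_mul.1 (h3.trans hd)).elim hndU
    fun h => hk.2.2.1 (isPiSubgroup_sigmaCore M r hr h)

/-- Type P data come from the standard factorisation. -/
theorem exists_decomp_of_data (hP : IsTypePWith M W₁ U W₂) :
    (∃ U₀ : Subgroup G, IsSigmaDecomposition M W₁ U₀) ∧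
      sigmaCore M ⊓ centralizer (W₁ : Set G) = W₂ := by
  obtain ⟨K, U₁, hKU⟩ := F.toBG16Facts.exists_sigmaDecomposition hM
  have hcop := typeP_derived_coprime hP
  have hσ : sigmaCore M ≤ ⁅M, M⁆ := (F.chain M hM).2.2.1
  have hW₂σ : W₂ ≤ sigmaCore M := hP.W₂_le.trans (inf_le_left.trans (F.chain M hM).2.1)
  have hcW : ∀ a ∈ W₁, ∀ b ∈ W₂, a * b = b * a := hP.selfNormalizing.2.2.2.1
  -- every prime of `|W₁|` is in `κ(M)`
  have hκ : IsPiSubgroup (kappa M) W₁ := by
    intro r hr hd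
    haveI := Fact.mk hr
    have hs : r ∉ sigma M := fun h => hr.ne_one (Nat.eq_one_of_dvd_coprimes hcop hd
      ((BG16.dvd_sigmaCore_of_sigma hG hM h).trans (Subgroup.card_dvd_of_le hσ)))
    obtain ⟨T, hT⟩ := exists_isSylowIn (p := r) W₁
    have hTM : CfsgLib.ConjFunctor.IsSylowIn r T M := by
      refine ⟨hT.le.trans (typeP_le₁ hP), hT.isPGroup, fun hd' => ?_⟩
      rw [← Subgroup.relIndex_mul_relIndex T W₁ M hT.le (typeP_le₁ hP)] at hd'
      exact (hr.dvd_mul.1 hd').elim hT.not_dvd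
        fun h => hr.ne_one (Nat.eq_one_of_dvd_coprimes hP.W₁_hall hd h)
    obtain ⟨a, ha⟩ := exists_prime_orderOf_dvd_card' (G := W₁) r hd
    haveI := hP.W₁_cyclic
    obtain ⟨y, hy, hy1⟩ := (Subgroup.bot_or_exists_ne_one W₂).resolve_left hP.selfNormalizing.2.1
    exact BG16.mem_kappa_of_fix hs hTM (Subgroup.isCyclic_of_le hT.le)
      ((Subgroup.orderOf_coe a).trans ha)
      ⟨typeP_le₁ hP a.2, y, hW₂σ hy, hy1, hcW a a.2 y hy⟩
  obtain ⟨m, hm, hle⟩ := exists_conj_le_isPiHallOf (minSimple_coatom_solvable hG hM) (typeP_le₁ hP)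
    hκ hKU.hall
  have hdvd : Nat.card K ∣ Nat.card W₁ := by
    have h1 : Nat.card K ∣ Nat.card ↥⁅M, M⁆ * Nat.card W₁ := by
      rw [compl_card hP.W₁_compl]; exact Subgroup.card_dvd_of_le hKU.hall.1
    exact (F.coprime_kappa_derived hG hM hKU).dvd_of_dvd_mul_left h1
  have heq : W₁.map (MulAut.conj m).toMonoidHom = K := Subgroup.eq_of_le_of_card_ge hle
    (by rw [card_map_conj]; exact Nat.le_of_dvd Nat.card_pos hdvd)
  have h' := BG16.decomp_map_conj hKU (inv_mem hm)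
  rw [← heq, map_conj_map_conj, inv_mul_cancel, map_conj_one] at h'
  refine ⟨⟨_, h'⟩, le_antisymm ?_ (le_inf hW₂σ fun b hb =>
    Subgroup.mem_centralizer_iff.2 fun a ha => hcW a ha b hb)⟩
  obtain ⟨x, hx, hx1⟩ := (Subgroup.bot_or_exists_ne_one W₁).resolve_left hP.W₁_ne
  rw [← hP.W₂_centralizer x hx hx1]
  exact inf_le_inf hσ (Subgroup.centralizer_le (Set.singleton_subset_iff.2 hx))

/-- A subgroup with data of type P is not of Type I. -/
theorem not_I_of_data (hP : IsTypePWith M W₁ U W₂) : ¬ IsTypeI M := by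
  obtain ⟨⟨U₀, hKU⟩, -⟩ := F.exists_decomp_of_data hG hM hP
  exact fun h => hP.W₁_ne ((F.typeI M W₁ U₀ hM hKU).1 h).1

/-- `M_F = M_σ` for Types I, II and V. -/
theorem kernel_eq_sigma (h : ¬ (IsOfTypeIII M ∨ IsOfTypeIV M)) : fittingHallOf M = sigmaCore M := by
  obtain ⟨K, U₀, hKU⟩ := F.toBG16Facts.exists_sigmaDecomposition hM
  by_contra hne
  have hU := F.fitting_sigma M K U₀ hM hKU hne
  refine h ((F.typeIII_IV M K U₀ hM hKU).2 ⟨fun hK => ?_, hU, hne⟩)
  obtain ⟨-, -, hσ, hlt⟩ := F.chain M hM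
  refine hlt.not_ge (le_trans (fun m hm => ?_) hσ)
  obtain ⟨a, ha, b, hb, rfl⟩ := hKU.compl.2.2.2 m hm
  rw [hU, Subgroup.mem_bot] at ha
  rw [hK, bot_sup_eq] at hb
  simpa [ha] using hb

/-- For `U = 1` the derived subgroup is `M_σ`. -/
theorem derived_eq_sigma {K U₀ : Subgroup G} (hKU : IsSigmaDecomposition M K U₀) (hU : U₀ = ⊥) :
    ⁅M, M⁆ = sigmaCore M := by
  refine le_antisymm ?_ (F.chain M hM).2.2.1
  have hsup : M = sigmaCore M ⊔ K := by
    conv_lhs => rw [← BG16.sup_eq_of_isComplIn hKU.compl, hU, bot_sup_eq, sup_comm]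
  have hKK : ⁅K, K⁆ = ⊥ := by
    haveI := hKU.cyclic
    exact Subgroup.commutator_eq_bot_iff_le_centralizer.2
      (Subgroup.le_centralizer_iff_isMulCommutative.2 inferInstance)
  simpa [hKK] using BG13.commutator_le_sup_commutator (le_normalizer_sigmaCore M) hsup

/-- `M_s = M_σ`. -/
theorem core_eq_sigma : typeCore M = sigmaCore M := by
  obtain ⟨K, U₀, hKU⟩ := F.toBG16Facts.exists_sigmaDecomposition hM
  rw [typeCore]
  split_ifs with h
  · exact F.derived_eq_sigma hG hM hKU ((F.typeIII_IV M K U₀ hM hKU).1 h).2.1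
  · exact F.kernel_eq_sigma hG hM h

/-- For the subgroups not of Type II the derived subgroup is `M_σ` and `W₂` has prime order. -/
theorem data_not_II (hP : IsTypePWith M W₁ U W₂) (hII : ¬ IsOfTypeII M) :
    ⁅M, M⁆ = sigmaCore M ∧ (Nat.card W₂).Prime := by
  obtain ⟨⟨U₀, hKU⟩, hW₂⟩ := F.exists_decomp_of_data hG hM hP
  have hU : U₀ = ⊥ := by
    by_contra hU
    exact hII ((F.typeII M W₁ U₀ hM hKU).2 ⟨hP.W₁_ne, hU⟩)
  exact ⟨F.derived_eq_sigma hG hM hKU hU, hW₂ ▸ F.primeKstar M W₁ U₀ hM hKU hP.W₁_ne hU⟩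

/-- For the Types II, III, IV the group `W₁` has prime order and `U ≠ 1`. -/
theorem data_II_III_IV (hP : IsTypePWith M W₁ U W₂)
    (h : IsOfTypeII M ∨ IsOfTypeIII M ∨ IsOfTypeIV M) :
    (Nat.card W₁).Prime ∧ U ≠ ⊥ := by
  obtain ⟨A, B, C, hP', hB, hA⟩ : ∃ A B C : Subgroup G, IsTypePWith M A B C ∧ B ≠ ⊥ ∧
      (Nat.card A).Prime := by
    rcases h with ⟨A, B, C, h1, h2, h3, -⟩ | ⟨A, B, C, h1, h2, h3, -⟩ | ⟨A, B, C, h1, h2, h3, -⟩ <;>
      exact ⟨A, B, C, h1, h2, h3⟩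
  obtain ⟨m, -, hm, -⟩ := typeP_data_conj (minSimple_coatom_solvable hG hM) hP hP'
  refine ⟨by rwa [← hm, card_map_conj], fun hU => hB ?_⟩
  have h1 := compl_card hP.U_compl
  have h2 := compl_card hP'.U_compl
  rw [hU, Subgroup.card_bot, mul_one] at h1
  rw [← h1] at h2
  exact Subgroup.eq_bot_of_card_eq _
    (Nat.eq_of_mul_eq_mul_left Nat.card_pos (h2.trans (mul_one _).symm))

end FTFacts

/-- A non-identity element of `W₁` fixes no non-identity element of `U`. -/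
theorem typeP_U_fpf (hP : IsTypePWith M W₁ U W₂) {w : G} (hw : w ∈ W₁) (hw1 : w ≠ 1) :
    U ⊓ centralizer ({w} : Set G) = ⊥ := by
  rw [Subgroup.eq_bot_iff_forall]
  rintro u ⟨hu, huc⟩
  have h : u ∈ W₂ := hP.W₂_centralizer w hw hw1 ▸ ⟨hP.U_compl.2.1 hu, huc⟩
  exact (Subgroup.eq_bot_iff_forall _).1 hP.U_compl.2.2.1 u ⟨(le_inf_iff.1 hP.W₂_le).1 h, hu⟩

/-- `|U| ≥ 2 |W₁| + 1`. -/
theorem typeP_U_card (hG : IsMinSimpleOddOrder G) (hP : IsTypePWith M W₁ U W₂)
    (hq : (Nat.card W₁).Prime) (hU : U ≠ ⊥) : 2 * Nat.card W₁ + 1 ≤ Nat.card U := by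
  haveI := Fact.mk hq
  letI : MulDistribMulAction W₁ U :=
    MulDistribMulAction.compHom U (U.normalizerMonoidHom.comp (Subgroup.inclusion hP.U_normal))
  have hW : IsPGroup (Nat.card W₁) W₁ := IsPGroup.of_card (n := 1) (pow_one _).symm
  have hfix : MulAction.fixedPoints W₁ U = {1} := by
    refine Set.eq_singleton_iff_unique_mem.2 ⟨fun e => smul_one e, fun z hz => ?_⟩
    obtain ⟨w, hw, hw1⟩ := (Subgroup.bot_or_exists_ne_one W₁).resolve_left hP.W₁_ne
    refine Subtype.ext ((Subgroup.eq_bot_iff_forall _).1 (typeP_U_fpf hP hw hw1) _ ⟨z.2, ?_⟩)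
    refine Subgroup.mem_centralizer_singleton_iff.2 ?_
    have h : w * (z : G) * w⁻¹ = z := congrArg Subtype.val (hz ⟨w, hw⟩)
    exact (mul_inv_eq_iff_eq_mul.1 h).symm
  have h := hW.card_modEq_card_fixedPoints U
  rw [hfix, Nat.card_eq_fintype_card (α := ({1} : Set U)), Set.card_singleton] at h
  obtain ⟨t, ht⟩ := (Nat.modEq_iff_dvd' Nat.card_pos).1 h.symm
  have h1 : 1 < Nat.card U := (Subgroup.one_lt_card_iff_ne_bot U).2 hU
  obtain ⟨a, ha⟩ := minSimple_odd_subgroup hG U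
  obtain ⟨b, hb⟩ := minSimple_odd_subgroup hG W₁
  rcases t with _ | _ | t
  · omega
  · omega
  · have : Nat.card W₁ * (t + 1 + 1) = Nat.card W₁ * t + Nat.card W₁ + Nat.card W₁ := by ring
    omega

/-! ### Pairs -/

/-- Two maximal subgroups with type P data over the same self-normalising cyclic group, the first of
Type II, representing all maximal subgroups not of Type I. -/
structure FTPair (S T W₁ U W₂ V : Subgroup G) : Prop where
  coatomS : IsCoatom S
  coatomT : IsCoatom T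
  typeII : IsOfTypeII S
  dataS : IsTypePWith S W₁ U W₂
  dataT : IsTypePWith T W₂ V W₁
  inter : S ⊓ T = W₁ ⊔ W₂
  classes : ∀ M : Subgroup G, IsCoatom M → IsTypeI M ∨ ∃ g : G,
    M = S.map (MulAut.conj g).toMonoidHom ∨ M = T.map (MulAut.conj g).toMonoidHom

theorem FTFacts.exists_pair (hG : IsMinSimpleOddOrder G) (F : FTFacts G) :
    (∀ M : Subgroup G, IsCoatom M → IsTypeI M) ∨
      ∃ S T W₁ U W₂ V : Subgroup G, FTPair S T W₁ U W₂ V := by
  rcases F.exceptional with h | ⟨W₁, W₂, S, T, hW, hS, hT, hcS, hcT, hi, hII, hS4, hT4, hcl⟩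
  · exact Or.inl h
  right
  have hdata : ∀ {X : Subgroup G}, IsCoatom X →
      (IsOfTypeII X ∨ IsOfTypeIII X ∨ IsOfTypeIV X ∨ IsOfTypeV X) →
      ∃ A B C : Subgroup G, IsTypePWith X A B C := fun hX h => by
    rcases h with h | h | h | h <;>
      exact ⟨h.choose, h.choose_spec.choose, h.choose_spec.choose_spec.choose,
        h.choose_spec.choose_spec.choose_spec.1⟩
  obtain ⟨A, B, C, hA⟩ := hdata hS hS4
  obtain ⟨A', B', C', hA'⟩ := hdata hT hT4
  obtain ⟨U, hU⟩ := typeP_of_compl (minSimple_coatom_solvable hG hS) hA hW hcS (hi ▸ inf_le_left)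
  obtain ⟨V, hV⟩ := typeP_of_compl (minSimple_coatom_solvable hG hT) hA' (snc_symm hW) hcT
    (sup_comm W₁ W₂ ▸ hi ▸ inf_le_right)
  rcases hII with h | h
  · exact ⟨S, T, W₁, U, W₂, V, hS, hT, h, hU, hV, hi, hcl⟩
  · refine ⟨T, S, W₂, V, W₁, U, hT, hS, h, hV, hU, ?_, fun M hM => ?_⟩
    · rw [inf_comm, hi, sup_comm]
    · exact (hcl M hM).imp_right fun ⟨g, hg⟩ => ⟨g, hg.symm⟩

namespace FTPair

variable {S T V : Subgroup G} (h : FTPair S T W₁ U W₂ V)
include h

theorem snc : IsSelfNormalizingCyclic W₁ W₂ := h.dataS.selfNormalizing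

theorem le_S : W₁ ⊔ W₂ ≤ S := h.inter ▸ inf_le_left

theorem le_T : W₁ ⊔ W₂ ≤ T := h.inter ▸ inf_le_right

theorem coprime_W : (Nat.card W₁).Coprime (Nat.card W₂) := snc_coprime h.snc

theorem odd_W (hG : IsMinSimpleOddOrder G) : Odd (Nat.card ↥(W₁ ⊔ W₂)) :=
  minSimple_odd_subgroup hG _

theorem not_conj (g : G) : T ≠ S.map (MulAut.conj g).toMonoidHom := by
  intro hT
  have h1 := compl_card h.dataT.W₁_compl
  rw [hT, card_map_conj, ← compl_card h.dataS.W₁_compl,
    commutator_map, card_map_conj] at h1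
  have h2 : Nat.card W₂ = Nat.card W₁ := Nat.eq_of_mul_eq_mul_left Nat.card_pos h1
  have h3 := h.coprime_W
  rw [h2, Nat.coprime_self] at h3
  exact h.snc.1 (Subgroup.eq_bot_of_card_eq _ h3)

theorem not_conj' (g : G) : S ≠ T.map (MulAut.conj g).toMonoidHom := fun hS =>
  h.not_conj g⁻¹ (by rw [hS, map_conj_map_conj, inv_mul_cancel, map_conj_one])

theorem map_conj (g : G) : FTPair (S.map (MulAut.conj g).toMonoidHom)
    (T.map (MulAut.conj g).toMonoidHom) (W₁.map (MulAut.conj g).toMonoidHom)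
    (U.map (MulAut.conj g).toMonoidHom) (W₂.map (MulAut.conj g).toMonoidHom)
    (V.map (MulAut.conj g).toMonoidHom) where
  coatomS := isCoatom_map_conj h.coatomS g
  coatomT := isCoatom_map_conj h.coatomT g
  typeII := typeII_map (MulAut.conj g) h.typeII
  dataS := typePWith_map (MulAut.conj g) h.dataS
  dataT := typePWith_map (MulAut.conj g) h.dataT
  inter := by rw [← Subgroup.map_inf _ _ _ (MulAut.conj g).injective, h.inter, Subgroup.map_sup]
  classes M hM := (h.classes M hM).imp_right fun ⟨k, hk⟩ =>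
    ⟨k * g⁻¹, by rw [map_conj_map_conj, map_conj_map_conj, inv_mul_cancel_right]; exact hk⟩

theorem swap (hT : IsOfTypeII T) : FTPair T S W₂ V W₁ U where
  coatomS := h.coatomT
  coatomT := h.coatomS
  typeII := hT
  dataS := h.dataT
  dataT := h.dataS
  inter := by rw [inf_comm, h.inter, sup_comm]
  classes M hM := (h.classes M hM).imp_right fun ⟨g, hg⟩ => ⟨g, hg.symm⟩

variable (hG : IsMinSimpleOddOrder G) (F : FTFacts G)
include hG F

theorem notI_S : ¬ IsTypeI S := F.not_I_of_data hG h.coatomS h.dataS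

theorem notI_T : ¬ IsTypeI T := F.not_I_of_data hG h.coatomT h.dataT

theorem typeT : IsOfTypeII T ∨ IsOfTypeIII T ∨ IsOfTypeIV T ∨ IsOfTypeV T :=
  F.typeII_III_IV_V hG h.coatomT (h.notI_T hG F)

theorem prime_W₁ : (Nat.card W₁).Prime :=
  (F.data_II_III_IV hG h.coatomS h.dataS (Or.inl h.typeII)).1

theorem U_ne : U ≠ ⊥ := (F.data_II_III_IV hG h.coatomS h.dataS (Or.inl h.typeII)).2

theorem prime_W₂ (hT : IsOfTypeII T ∨ IsOfTypeIII T ∨ IsOfTypeIV T) : (Nat.card W₂).Prime :=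
  (F.data_II_III_IV hG h.coatomT h.dataT hT).1

theorem V_ne (hT : IsOfTypeII T ∨ IsOfTypeIII T ∨ IsOfTypeIV T) : V ≠ ⊥ :=
  (F.data_II_III_IV hG h.coatomT h.dataT hT).2

theorem U_card : 2 * Nat.card W₁ + 1 ≤ Nat.card U :=
  typeP_U_card hG h.dataS (h.prime_W₁ hG F) (h.U_ne hG F)

theorem V_card (hT : IsOfTypeII T ∨ IsOfTypeIII T ∨ IsOfTypeIV T) :
    2 * Nat.card W₂ + 1 ≤ Nat.card V :=
  typeP_U_card hG h.dataT (h.prime_W₂ hG F hT) (h.V_ne hG F hT)

theorem core_S : fittingHallOf S = sigmaCore S ∧ typeCore S = sigmaCore S :=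
  ⟨(F.toBG16Facts.core_eq h.coatomS (Or.inr h.typeII)).symm.trans
    (F.core_eq_sigma hG h.coatomS), F.core_eq_sigma hG h.coatomS⟩

theorem card_derived_S : Nat.card ↥⁅S, S⁆ = Nat.card (sigmaCore S) * Nat.card U := by
  rw [← (h.core_S hG F).1, compl_card h.dataS.U_compl]

theorem coprime_sigma :
    (Nat.card (sigmaCore S)).Coprime (Nat.card (sigmaCore T)) := by
  rw [← F.core_eq_sigma hG h.coatomS, ← F.core_eq_sigma hG h.coatomT]
  exact F.toBG16Facts.coprime_cores h.coatomS h.coatomT h.not_conj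

end FTPair

/-- Every maximal subgroup of type P not of Type II is the second member of a pair, with given
data. -/
theorem FTFacts.pair_of_bad (hG : IsMinSimpleOddOrder G) (F : FTFacts G) {L A B C : Subgroup G}
    (hL : IsCoatom L) (hP : IsTypePWith L A B C) (hII : ¬ IsOfTypeII L) :
    ∃ S U : Subgroup G, FTPair S L C U A B := by
  obtain h | ⟨S, T, W₁, U, W₂, V, h⟩ := F.exists_pair hG
  · exact absurd (h L hL) (F.not_I_of_data hG hL hP)
  obtain ⟨g, hg⟩ := (h.classes L hL).resolve_left (F.not_I_of_data hG hL hP)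
  rcases hg with hg | hg
  · exact absurd (hg ▸ typeII_map (MulAut.conj g) h.typeII) hII
  subst hg
  obtain ⟨m, hm, hA, hC⟩ := typeP_data_conj (minSimple_coatom_solvable hG hL) hP (h.map_conj g).dataT
  have h2 := (h.map_conj g).map_conj m
  rw [hA, hC, map_conj_eq_self_of_mem hm] at h2
  exact ⟨_, _, { h2 with dataT := hP }⟩

end CfsgLib.OddOrder
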