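import Cfsg.Agent.OddOrder.PF10.PairLam
import Cfsg.Agent.OddOrder.PF10.LamCount

/-!
# The members of a pair without a member of Type V are full (Peterfalvi 13)

With `q = |W₁| < p = |W₂|`: `C_V(T_F) = 1` and `|V| = (q ^ p - 1) / (q - 1)`; `C_U(S_F) = 1` and
`U` is full, or of index `q` in full, or exceptional.
-/

set_option autoImplicit false
set_option linter.style.haveILetI false
set_option linter.unusedSectionVars false

namespace CfsgLib.OddOrder

open Cfsg CfsgLib.Characters CfsgLib.Coherence CfsgLib.OddOrderChar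
open Subgroup (centralizer normalizer)

universe u

namespace PairNum

theorem geom_three_le {p q u : ℕ} (hp : 2 ≤ p) (hq : 3 ≤ q) (h : u * (p - 1) = p ^ q - 1) :
    p ^ 2 + p + 1 ≤ u := by
  by_contra hlt
  push Not at hlt
  have h1 : u * (p - 1) ≤ (p ^ 2 + p) * (p - 1) := Nat.mul_le_mul_right _ (by omega)
  have h2 : (p ^ 2 + p) * (p - 1) + p = p ^ 3 := by
    obtain ⟨d, rfl⟩ : ∃ d, p = d + 1 := ⟨p - 1, by omega⟩
    simp only [Nat.add_sub_cancel]; ring
  have h3 : p ^ 3 ≤ p ^ q := Nat.pow_le_pow_right (by omega) hq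
  omega

theorem pow_pred_lt {p q v : ℕ} (hq : 2 ≤ q) (hp : 2 ≤ p) (h : v * (q - 1) = q ^ p - 1) :
    q ^ (p - 1) < v := by
  by_contra hlt
  push Not at hlt
  have h1 : v * (q - 1) ≤ q ^ (p - 1) * (q - 1) := Nat.mul_le_mul_right _ hlt
  have h2 : q ^ (p - 1) * (q - 1) + q ^ (p - 1) = q ^ p := by
    rw [← Nat.mul_succ, Nat.succ_eq_add_one, Nat.sub_add_cancel (by omega), ← pow_succ,
      Nat.sub_add_cancel (by omega)]
  have h3 : q ≤ q ^ (p - 1) := Nat.le_self_pow (by omega) q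
  omega

/-- The inequality for a member with `|Λ| ≥ (q - 1) (2p + 1) v`, the other one full. -/
theorem absurd_T {p q u v L G : ℝ} (hq : 3 ≤ q) (hq2 : q = 3 ∨ 5 ≤ q) (hpq : q + 2 ≤ p)
    (hu : p ^ 2 + p + 1 ≤ u) (hv : 2 * p + 1 ≤ v) (hG : p * q * u ≤ G)
    (hL : (q - 1) * (2 * p + 1) * v ≤ L)
    (h : 1 / q + 1 / p - 1 / (q * p) - 1 / G - 1 / (u * q) - 1 / (v * p) ≤ p * v / L + 1 / p) :
    False := by
  have hp : 5 ≤ p := by linarith
  have hp0 : 0 < p := by linarith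
  have hq0 : 0 < q := by linarith
  have hu0 : 0 < u := by nlinarith
  have hv0 : 0 < v := by linarith
  have hq1 : 0 < q - 1 := by linarith
  have hu31 : 31 ≤ u := by nlinarith
  have e1 : p * v / L ≤ p / ((q - 1) * (2 * p + 1)) := by
    calc p * v / L ≤ p * v / ((q - 1) * (2 * p + 1) * v) :=
          div_le_div_of_nonneg_left (by positivity) (by positivity) hL
      _ = _ := by field_simp
  have e2 : 1 / G ≤ 1 / (5 * (u * q)) := by
    refine one_div_le_one_div_of_le (by positivity) (le_trans ?_ hG)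
    calc 5 * (u * q) ≤ p * (u * q) := mul_le_mul_of_nonneg_right hp (by positivity)
      _ = p * q * u := by ring
  have e3 : 1 / (v * p) ≤ 1 / ((2 * p + 1) * p) :=
    one_div_le_one_div_of_le (by positivity) (mul_le_mul_of_nonneg_right hv hp0.le)
  have e4 : 1 / (u * q) ≤ 1 / (31 * q) :=
    one_div_le_one_div_of_le (by positivity) (mul_le_mul_of_nonneg_right hu31 hq0.le)
  have e5 : 1 / (5 * (u * q)) ≤ 1 / (5 * (31 * q)) :=
    one_div_le_one_div_of_le (by positivity)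
      (by nlinarith [mul_le_mul_of_nonneg_right hu31 hq0.le])
  have key : 1 / q - 1 / (q * p) - 1 / (5 * (31 * q)) - 1 / (31 * q) - 1 / ((2 * p + 1) * p) ≤
      p / ((q - 1) * (2 * p + 1)) := by linarith
  rcases hq2 with rfl | hq5
  · field_simp at key
    nlinarith
  · have f1 : p / ((q - 1) * (2 * p + 1)) ≤ 5 / (8 * q) := by
      rw [div_le_div_iff₀ (by positivity) (by positivity)]
      nlinarith
    have f2 : 1 / (q * p) ≤ 1 / (7 * q) :=
      one_div_le_one_div_of_le (by positivity) (by nlinarith)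
    have f3 : 1 / ((2 * p + 1) * p) ≤ 1 / (15 * q) :=
      one_div_le_one_div_of_le (by positivity) (by nlinarith)
    have f4 : 1 / q - 1 / (7 * q) - 1 / (5 * (31 * q)) - 1 / (31 * q) - 1 / (15 * q) - 5 / (8 * q) =
        (1 - 1 / 7 - 1 / 155 - 1 / 31 - 1 / 15 - 5 / 8) / q := by
      field_simp; ring
    have f5 : (0 : ℝ) < (1 - 1 / 7 - 1 / 155 - 1 / 31 - 1 / 15 - 5 / 8) / q :=
      div_pos (by norm_num) hq0
    linarith

/-- The inequality for a member of Type II with `|Λ| ≥ (p - 1) (2q + 1) u`, the other one full. -/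
theorem absurd_S {p q u v L G : ℝ} (hq : 3 ≤ q) (hpq : q + 2 ≤ p)
    (hu : 2 * q + 1 ≤ u) (hv : 81 ≤ v) (hG : p * v ≤ G)
    (hL : (p - 1) * (2 * q + 1) * u ≤ L)
    (h : 1 / q + 1 / p - 1 / (q * p) - 1 / G - 1 / (u * q) - 1 / (v * p) ≤
      q * u / L + 1 / q - 1 / (q * u * (1 + 1 / L))) : False := by
  have hp : 5 ≤ p := by linarith
  have hp0 : 0 < p := by linarith
  have hq0 : 0 < q := by linarith
  have hu0 : 0 < u := by linarith
  have hv0 : 0 < v := by linarith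
  have hp1 : 0 < p - 1 := by linarith
  have hD : 0 < (p - 1) * (2 * q + 1) * u := by positivity
  have hL0 : 0 < L := lt_of_lt_of_le hD hL
  have e1 : q * u / L ≤ q / ((p - 1) * (2 * q + 1)) := by
    calc q * u / L ≤ q * u / ((p - 1) * (2 * q + 1) * u) :=
          div_le_div_of_nonneg_left (by positivity) (by positivity) hL
      _ = _ := by field_simp
  have e2 : 1 / G ≤ 1 / (p * v) := one_div_le_one_div_of_le (by positivity) hG
  have e3 : 1 / (u * q) - 1 / (q * u * (1 + 1 / L)) ≤ 1 / (q * u * L) := by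
    have : 1 / (u * q) - 1 / (q * u * (1 + 1 / L)) = 1 / (q * u * (L + 1)) := by
      field_simp; ring
    rw [this]
    exact one_div_le_one_div_of_le (by positivity) (by nlinarith [mul_pos hq0 hu0])
  have e4 : 1 / (q * u * L) ≤ 1 / (p * 500) := by
    refine one_div_le_one_div_of_le (by positivity) ?_
    have h1 : (p - 1) * 7 * 7 ≤ L := by
      refine le_trans ?_ hL
      have : (7 : ℝ) ≤ 2 * q + 1 := by linarith
      gcongr
      linarith
    have h2 : 21 * L ≤ q * u * L := by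
      refine mul_le_mul_of_nonneg_right ?_ hL0.le
      nlinarith
    nlinarith
  have e5 : 1 / (p * v) ≤ 1 / (p * 81) :=
    one_div_le_one_div_of_le (by positivity) (mul_le_mul_of_nonneg_left hv hp0.le)
  have e6 : q / ((p - 1) * (2 * q + 1)) ≤ 5 / (8 * p) := by
    rw [div_le_div_iff₀ (by positivity) (by positivity)]
    nlinarith
  have e7 : 1 / (q * p) ≤ 1 / (3 * p) :=
    one_div_le_one_div_of_le (by positivity) (mul_le_mul_of_nonneg_right hq hp0.le)
  have e8 : 1 / (v * p) = 1 / (p * v) := by rw [mul_comm]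
  have f4 : 1 / p - 1 / (3 * p) - 1 / (p * 81) - 1 / (p * 81) - 1 / (p * 500) - 5 / (8 * p) =
      (1 - 1 / 3 - 2 / 81 - 1 / 500 - 5 / 8) / p := by
    field_simp; ring
  have f5 : (0 : ℝ) < (1 - 1 / 3 - 2 / 81 - 1 / 500 - 5 / 8) / p := div_pos (by norm_num) hp0
  linarith

end PairNum

namespace FTPair

variable {G : Type u} [Group G] [Fintype G] {S T W₁ U W₂ V : Subgroup G}
  (h : FTPair S T W₁ U W₂ V) (hG : IsMinSimpleOddOrder G) (F : FTFacts G)
include h hG F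

/-- Elements of `h.lamRest` have order prime to `|W₂|` when `U` is free modulo `C`. -/
theorem lamRest_coprime₂ [Fintype S] {χ : (↥(W₁ ⊔ W₂) →* ℂˣ) → (G → ℂ)}
    {μ : (↥(W₁ ⊔ W₂) →* ℂˣ) → (↥S → ℂ)} {δ : (↥(W₁ ⊔ W₂) →* ℂˣ) → ℤ}
    (hs : LamSide S W₁ U W₂ χ μ δ) (hne : Nat.card W₁ ≠ Nat.card W₂)
    (hfpf : ∀ x ∈ U, x ∉ centU S U → fittingHallOf S ⊓ centralizer ({x} : Set G) = ⊥)
    {g : G} (hg : g ∈ h.lamRest) : (orderOf g).Coprime (Nat.card W₂) := by
  refine Nat.Coprime.symm (hs.prime₂.coprime_iff_not_dvd.2 fun hd => ?_)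
  simp only [lamRest, Set.mem_compl_iff, Set.mem_union, not_or] at hg
  rcases hs.mem_of_dvd_order hne (h.cent_S hG F hs) hfpf hd with e | e
  · exact hg.1.2 e
  · exact hg.1.1.2 e

/-- Elements of `h.lamRest` have order prime to `|W₁|` when `V` is free modulo its kernel. -/
theorem lamRest_coprime₁ (hV : ¬ IsOfTypeV T) [Fintype T]
    {χ : (↥(W₂ ⊔ W₁) →* ℂˣ) → (G → ℂ)}
    {μ : (↥(W₂ ⊔ W₁) →* ℂˣ) → (↥T → ℂ)} {δ : (↥(W₂ ⊔ W₁) →* ℂˣ) → ℤ}
    (ht : LamSide T W₂ V W₁ χ μ δ) (hne : Nat.card W₁ ≠ Nat.card W₂)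
    (hfpf : ∀ x ∈ V, x ∉ centU T V → fittingHallOf T ⊓ centralizer ({x} : Set G) = ⊥)
    {g : G} (hg : g ∈ h.lamRest) : (orderOf g).Coprime (Nat.card W₁) := by
  refine Nat.Coprime.symm (ht.prime₂.coprime_iff_not_dvd.2 fun hd => ?_)
  simp only [lamRest, Set.mem_compl_iff, Set.mem_union, not_or] at hg
  rcases ht.mem_of_dvd_order hne.symm (h.cent_T hG F hV ht) hfpf hd with e | e
  · exact hg.2 e
  · rw [vConj_comm] at e
    exact hg.1.1.2 e

/-- The bound for the mass of `h.lamRest` in terms of `u`, `v`. -/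
theorem gMass_lamRest_ge [Fintype S] [Fintype T]
    {χ : (↥(W₁ ⊔ W₂) →* ℂˣ) → (G → ℂ)} {μ : (↥(W₁ ⊔ W₂) →* ℂˣ) → (↥S → ℂ)}
    {δ : (↥(W₁ ⊔ W₂) →* ℂˣ) → ℤ} (hs : LamSide S W₁ U W₂ χ μ δ)
    {χ' : (↥(W₂ ⊔ W₁) →* ℂˣ) → (G → ℂ)} {μ' : (↥(W₂ ⊔ W₁) →* ℂˣ) → (↥T → ℂ)}
    {δ' : (↥(W₂ ⊔ W₁) →* ℂˣ) → ℤ} (ht : LamSide T W₂ V W₁ χ' μ' δ') :
    1 / (Nat.card W₁ : ℝ) + 1 / (Nat.card W₂ : ℝ) - 1 / ((Nat.card W₁ : ℝ) * Nat.card W₂) -
        1 / (Nat.card G : ℝ) -
        1 / (((centU S U).relIndex U : ℝ) * Nat.card W₁) -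
        1 / (((centU T V).relIndex V : ℝ) * Nat.card W₂) ≤
      gMass h.lamRest (fun _ => 1) := by
  refine le_trans ?_ (h.gMass_lamRest hG F hs ht)
  have key : ∀ {F₀ k m M : ℕ}, M = F₀ * (k * m) → 0 < F₀ → 0 < k → 0 < m →
      ((F₀ : ℝ) - 1) / M ≤ 1 / ((k : ℝ) * m) := by
    intro F₀ k m M e hF hk hm
    subst e
    push_cast
    rw [div_le_div_iff₀ (by positivity) (by positivity)]
    have : (0 : ℝ) < (k : ℝ) * m := by positivity
    nlinarith
  have eS := key hs.card_M Nat.card_pos (by have := hs.one_lt_u; omega) Nat.card_pos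
  have eT := key ht.card_M Nat.card_pos (by have := ht.one_lt_u; omega) Nat.card_pos
  linarith

/-- Peterfalvi (13.x): the member `T` is full. -/
theorem T_full (hV : ¬ IsOfTypeV T) (hlt : Nat.card W₁ < Nat.card W₂) :
    V ⊓ centralizer (fittingHallOf T : Set G) = ⊥ ∧
      (∀ x ∈ V, x ≠ 1 → fittingHallOf T ⊓ centralizer ({x} : Set G) = ⊥) ∧
      Nat.card V * (Nat.card W₁ - 1) = Nat.card W₁ ^ Nat.card W₂ - 1 := by
  classical
  letI : Fintype S := Fintype.ofFinite _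
  letI : Fintype T := Fintype.ofFinite _
  obtain ⟨χ, -, ⟨μ, δ, hs⟩, μ', δ', ht⟩ := h.exists_lamSides hG F hV
  suffices hsuff : centU T V = ⊥ ∧
      (∀ x ∈ V, x ∉ centU T V → fittingHallOf T ⊓ centralizer ({x} : Set G) = ⊥) ∧
      (centU T V).relIndex V * (Nat.card W₁ - 1) = Nat.card W₁ ^ Nat.card W₂ - 1 by
    obtain ⟨h1, h2, h3⟩ := hsuff
    refine ⟨h1, fun x hx hx1 => h2 x hx fun hc => hx1 ?_, ?_⟩
    · rw [h1, Subgroup.mem_bot] at hc
      exact hc
    · rw [h1, Subgroup.relIndex_bot_left] at h3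
      exact h3
  by_cases hL : HasLam T V
  swap
  · exact ht.full_of_not_hasLam hlt.ne' hL
  rcases ht.lam_cases hlt.ne' with h1 | ⟨-, -, h1, -⟩ | ⟨-, h1, -, -⟩ | hbig
  · exact h1
  · exfalso
    rw [Nat.mod_eq_of_lt hlt] at h1
    exact hs.prime₁.ne_one h1
  · exfalso
    have := hs.three_le_a
    omega
  exfalso
  -- `S` has no such character, so it is full
  have hnS : ¬ HasLam S U := fun hLS =>
    hs.no_cross ht hLS hL (h.lamSupp_disjoint hG F hV hs ht)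
  obtain ⟨hC, hfpf, hfull⟩ := hs.full_of_not_hasLam hlt.ne hnS
  have hZ : ∀ g ∈ h.lamRest, g ∉ dadeSupp (lamSet T V) (supportR T) ∧ g ∉ vConj W₂ W₁ ∧
      (orderOf g).Coprime (Nat.card W₂) := by
    intro g hg
    refine ⟨fun e => ?_, fun e => ?_, h.lamRest_coprime₂ hG F hs hlt.ne hfpf hg⟩ <;>
      simp only [lamRest, Set.mem_compl_iff, Set.mem_union, not_or] at hg
    · exact hg.2 e
    · rw [vConj_comm] at e
      exact hg.1.1.2 e
  have hineq := (h.gMass_lamRest_ge hG F hs ht).trans (ht.gMass_ineq hL hZ)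
  have hq3 := hs.three_le_a
  have hqodd : Odd (Nat.card W₁) := minSimple_odd_subgroup hG W₁
  have hpodd : Odd (Nat.card W₂) := minSimple_odd_subgroup hG W₂
  have hpq : Nat.card W₁ + 2 ≤ Nat.card W₂ := by
    obtain ⟨i, hi⟩ := hqodd; obtain ⟨j, hj⟩ := hpodd; omega
  have hq2 : Nat.card W₁ = 3 ∨ 5 ≤ Nat.card W₁ := by
    obtain ⟨i, hi⟩ := hqodd; omega
  have hu := PairNum.geom_three_le (by have := hs.three_le_b; omega) hq3 hfull
  have hcard : Nat.card W₂ * Nat.card W₁ * (centU S U).relIndex U ≤ Nat.card G := by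
    refine le_trans ?_ (Nat.le_of_dvd Nat.card_pos (Subgroup.card_subgroup_dvd_card S))
    rw [hs.card_M, mul_assoc, mul_comm (Nat.card W₁)]
    refine Nat.mul_le_mul_right _ (Nat.le_of_dvd Nat.card_pos ?_)
    exact (Subgroup.card_dvd_of_le ((TypeP.W₂_le_H h.dataS).trans
      (le_trans le_sup_left h.dataS.fitting_eq.le)))
  refine PairNum.absurd_T (u := ((centU S U).relIndex U : ℝ))
    (v := ((centU T V).relIndex V : ℝ)) (L := (Nat.card ↥(lamChars T V) : ℝ))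
    (G := (Nat.card G : ℝ)) (p := (Nat.card W₂ : ℝ)) (q := (Nat.card W₁ : ℝ))
    (by exact_mod_cast hq3) (by exact_mod_cast hq2) (by exact_mod_cast hpq)
    (by exact_mod_cast hu) (by exact_mod_cast ht.u_ge) (by exact_mod_cast hcard) ?_ hineq
  have h1 : (1 : ℕ) ≤ Nat.card W₁ := by omega
  exact_mod_cast hbig

/-- Peterfalvi (13.x): the member `S`. -/
theorem S_cases (hV : ¬ IsOfTypeV T) (hlt : Nat.card W₁ < Nat.card W₂) :
    U ⊓ centralizer (fittingHallOf S : Set G) = ⊥ ∧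
      (((∀ x ∈ U, x ≠ 1 → fittingHallOf S ⊓ centralizer ({x} : Set G) = ⊥) ∧
          Nat.card U * (Nat.card W₂ - 1) = Nat.card W₂ ^ Nat.card W₁ - 1) ∨
        ((∀ x ∈ U, x ≠ 1 → fittingHallOf S ⊓ centralizer ({x} : Set G) = ⊥) ∧
          Nat.card W₂ % Nat.card W₁ = 1 ∧
          Nat.card W₁ * (Nat.card U * (Nat.card W₂ - 1)) = Nat.card W₂ ^ Nat.card W₁ - 1) ∨
        (Nat.card W₁ = 3 ∧ Nat.card U = ((Nat.card W₂ - 1) / 2) ^ 2 ∧
          ∃ x ∈ U, x ≠ 1 ∧ fittingHallOf S ⊓ centralizer ({x} : Set G) ≠ ⊥)) := by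
  classical
  letI : Fintype S := Fintype.ofFinite _
  letI : Fintype T := Fintype.ofFinite _
  obtain ⟨χ, -, ⟨μ, δ, hs⟩, μ', δ', ht⟩ := h.exists_lamSides hG F hV
  obtain ⟨hD, hfpfT, hfullT⟩ := h.T_full hG F hV hlt
  have hconv : centU S U = ⊥ → ∀ P : G → Prop,
      (∀ x ∈ U, x ∉ centU S U → P x) → ∀ x ∈ U, x ≠ 1 → P x := fun hC P hP x hx hx1 =>
    hP x hx fun hc => hx1 (by rw [hC, Subgroup.mem_bot] at hc; exact hc)
  have hfin : ∀ hC : centU S U = ⊥, (centU S U).relIndex U = Nat.card U := fun hC => by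
    rw [hC, Subgroup.relIndex_bot_left]
  by_cases hL : HasLam S U
  swap
  · obtain ⟨hC, hf, hfull⟩ := hs.full_of_not_hasLam hlt.ne hL
    rw [hfin hC] at hfull
    exact ⟨hC, Or.inl ⟨hconv hC _ hf, hfull⟩⟩
  rcases hs.lam_cases hlt.ne with ⟨hC, hf, e⟩ | ⟨hC, hf, hm, e⟩ | ⟨hC, ha, e, x, hx, hxC, hne⟩ | hbig
  · rw [hfin hC] at e
    exact ⟨hC, Or.inl ⟨hconv hC _ hf, e⟩⟩
  · rw [hfin hC] at e
    exact ⟨hC, Or.inr (Or.inl ⟨hconv hC _ hf, hm, e⟩)⟩
  · rw [hfin hC] at e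
    exact ⟨hC, Or.inr (Or.inr ⟨ha, e, x, hx, fun h1 => hxC (h1 ▸ one_mem _), hne⟩)⟩
  exfalso
  have hfpf' : ∀ x ∈ V, x ∉ centU T V → fittingHallOf T ⊓ centralizer ({x} : Set G) = ⊥ :=
    fun x hx hxC => hfpfT x hx fun h1 => hxC (h1 ▸ one_mem _)
  have hZ : ∀ g ∈ h.lamRest, g ∉ dadeSupp (lamSet S U) (supportR S) ∧ g ∉ vConj W₁ W₂ ∧
      (orderOf g).Coprime (Nat.card W₁) := by
    intro g hg
    refine ⟨fun e => ?_, fun e => ?_, h.lamRest_coprime₁ hG F hV ht hlt.ne hfpf' hg⟩ <;>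
      simp only [lamRest, Set.mem_compl_iff, Set.mem_union, not_or] at hg
    · exact hg.1.2 e
    · exact hg.1.1.2 e
  have hineq := (h.gMass_lamRest_ge hG F hs ht).trans
    (hs.gMass_ineq' hL (h.cent_S hG F hs) hZ)
  have hq3 := hs.three_le_a
  have hqodd : Odd (Nat.card W₁) := minSimple_odd_subgroup hG W₁
  have hpodd : Odd (Nat.card W₂) := minSimple_odd_subgroup hG W₂
  have hpq : Nat.card W₁ + 2 ≤ Nat.card W₂ := by
    obtain ⟨i, hi⟩ := hqodd; obtain ⟨j, hj⟩ := hpodd; omega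
  have hCT : centU T V = ⊥ := hD
  rw [← Subgroup.relIndex_bot_left V, ← hCT] at hfullT
  have hv : 81 ≤ (centU T V).relIndex V := by
    have h1 := PairNum.pow_pred_lt (by omega) (by omega) hfullT
    have h2 : 3 ^ 4 ≤ Nat.card W₁ ^ (Nat.card W₂ - 1) :=
      le_trans (Nat.pow_le_pow_left hq3 4) (Nat.pow_le_pow_right (by omega) (by omega))
    omega
  have hcard : Nat.card W₂ * (centU T V).relIndex V ≤ Nat.card G := by
    refine le_trans ?_ (Nat.le_of_dvd Nat.card_pos (Subgroup.card_subgroup_dvd_card T))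
    rw [ht.card_M, mul_comm (Nat.card W₂)]
    exact Nat.le_mul_of_pos_left _ Nat.card_pos
  refine PairNum.absurd_S (u := ((centU S U).relIndex U : ℝ))
    (v := ((centU T V).relIndex V : ℝ)) (L := (Nat.card ↥(lamChars S U) : ℝ))
    (G := (Nat.card G : ℝ)) (p := (Nat.card W₂ : ℝ)) (q := (Nat.card W₁ : ℝ))
    (by exact_mod_cast hq3) (by exact_mod_cast hpq)
    (by exact_mod_cast hs.u_ge) (by exact_mod_cast hv) (by exact_mod_cast hcard) ?_ hineq
  have h1 : (1 : ℕ) ≤ Nat.card W₂ := by omega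
  exact_mod_cast hbig

end FTPair

end CfsgLib.OddOrder
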