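import Cfsg.Agent.OddOrder.PF10.LambdaMass
import Cfsg.Agent.OddOrder.PF10.BadTypeIII

/-!
# The two sides of a pair without a member of Type V, with their sets `(HC)#`

`FTPair.lamSide_S`, `FTPair.lamSide_T`; the centralisers of `(HC)#` lie in the maximal subgroup and
the two sets have no conjugate element in common; `LamSide.mem_of_dvd_order`: the elements of order
divisible by `b` are known; `FTPair.lamRest`: the region of the inequality and its mass.
-/

set_option autoImplicit false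
set_option linter.style.haveILetI false
set_option linter.unusedSectionVars false

namespace CfsgLib.OddOrder

open Cfsg CfsgLib.Characters CfsgLib.Coherence CfsgLib.OddOrderChar
open Subgroup (centralizer normalizer)

universe u

variable {G : Type u} [Group G] [Fintype G]

/-- The mass of a union is at most the sum of the masses. -/
theorem gMass_union_le (S T : Set G) (f : G → ℂ) : gMass (S ∪ T) f ≤ gMass S f + gMass T f := by
  rw [← Set.union_sdiff_self, gMass_union Set.disjoint_sdiff_right]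
  exact add_le_add_right (gMass_mono Set.sdiff_subset f) _

theorem typeII_III_IV_fitting_TI {M : Subgroup G}
    (h : IsOfTypeII M ∨ IsOfTypeIII M ∨ IsOfTypeIV M) : IsTISubset (fittingOf M : Set G) := by
  rcases h with ⟨_, _, _, _, _, _, h, -⟩ | ⟨_, _, _, _, _, _, h, -⟩ | ⟨_, _, _, _, _, _, h, -⟩ <;>
    exact h

namespace LamSide

variable {M W₁ U W₂ : Subgroup G} [Fintype M] {χ : (↥(W₁ ⊔ W₂) →* ℂˣ) → (G → ℂ)}
  {μ : (↥(W₁ ⊔ W₂) →* ℂˣ) → (↥M → ℂ)} {δ : (↥(W₁ ⊔ W₂) →* ℂˣ) → ℤ}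
variable (h : LamSide M W₁ U W₂ χ μ δ)
include h

theorem lamSet_eq : lamSet M U = (fittingOf M : Set G) \ {1} := by
  rw [lamSet, h.HC_eq]

/-- For a TI-subgroup `F(M)` the centralisers of `(HC)#` lie in `M`. -/
theorem centralizer_le_of_TI (hTI : IsTISubset (fittingOf M : Set G)) :
    ∀ x ∈ lamSet M U, centralizer ({x} : Set G) ≤ M := by
  intro x hx c hc
  rw [h.lamSet_eq] at hx
  have hne : fittingOf M ≠ ⊥ := fun e => hx.2 (by
    have h1 : x ∈ fittingOf M := hx.1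
    rw [e, Subgroup.mem_bot] at h1
    exact h1)
  have hN : normalizer (fittingOf M : Set G) = M :=
    minSimple_normalizer_eq_coatom_of_le h.minSimple h.coatom hne (fittingOf_le M)
      (le_normalizer_fittingOf M)
  by_contra hcM
  refine hx.2 (hTI c (fun hc' => hcM (hN ▸ hc')) x hx.1 ?_)
  rw [Subgroup.mem_centralizer_singleton_iff.1 hc, mul_inv_cancel_right]
  exact hx.1

/-- The support of `(HC)#` when the centralisers lie in `M`. -/
theorem mem_dadeSupp_lamSet (hcent : ∀ x ∈ lamSet M U, centralizer ({x} : Set G) ≤ M) {g : G} :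
    g ∈ dadeSupp (lamSet M U) (supportR M) ↔ ∃ y : G, y * g * y⁻¹ ∈ lamSet M U := by
  constructor
  · rintro ⟨a, ha, u, hu, x, he⟩
    rw [supportR_eq_bot (hcent a ha), Subgroup.mem_bot] at hu
    exact ⟨x, by rw [he, hu, mul_one]; exact ha⟩
  · rintro ⟨y, hy⟩
    exact ⟨_, hy, 1, one_mem _, y, by rw [mul_one]⟩

/-- `M_F` is a Sylow `b`-subgroup of `G`. -/
theorem not_dvd_index_H (hne : Nat.card W₁ ≠ Nat.card W₂) :
    ¬ Nat.card W₂ ∣ (fittingHallOf M).index := by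
  haveI := Fact.mk h.prime₂
  intro hd
  set H := fittingHallOf M with hH
  have hdvd : Nat.card W₂ ^ (Nat.card W₁ + 1) ∣ Nat.card G := by
    rw [← H.card_mul_index, h.card_H, pow_succ]
    exact mul_dvd_mul_left _ hd
  have h1 := Sylow.prime_pow_dvd_card_normalizer hdvd h.card_H
  have hHne : H ≠ ⊥ := fun e => by
    have := h.card_H
    rw [← hH, e, Subgroup.card_bot] at this
    exact (Nat.one_lt_pow h.prime₁.ne_zero h.prime₂.one_lt).ne this
  rw [minSimple_normalizer_eq_coatom_of_le h.minSimple h.coatom hHne (fittingHallOf_le M)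
    (le_normalizer_fittingHallOf M), ← compl_card h.data.W₁_compl, ← compl_card h.data.U_compl,
    h.card_H, pow_succ, mul_assoc] at h1
  have h2 := Nat.dvd_of_mul_dvd_mul_left (pow_pos h.prime₂.pos _) h1
  rcases h.prime₂.dvd_mul.1 h2 with h3 | h3
  · refine h.prime₂.ne_one (Nat.eq_one_of_dvd_coprimes (TypeP.coprime_U_H h.data) h3 ?_)
    rw [h.card_H]
    exact dvd_pow_self _ h.prime₁.ne_zero
  · exact hne ((Nat.prime_dvd_prime_iff_eq h.prime₂ h.prime₁).1 h3).symm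

/-- An element of order divisible by `b` lies in the support of `(HC)#` or is conjugate into `V`. -/
theorem mem_of_dvd_order (hne : Nat.card W₁ ≠ Nat.card W₂)
    (hcent : ∀ x ∈ lamSet M U, centralizer ({x} : Set G) ≤ M)
    (hfpf : ∀ x ∈ U, x ∉ centU M U → fittingHallOf M ⊓ centralizer ({x} : Set G) = ⊥) {g : G}
    (hg : Nat.card W₂ ∣ orderOf g) :
    g ∈ dadeSupp (lamSet M U) (supportR M) ∨ g ∈ vConj W₁ W₂ := by
  haveI := Fact.mk h.prime₂
  set H := fittingHallOf M with hH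
  obtain ⟨c, hc⟩ := hg
  have hc0 : 0 < c := by
    have := orderOf_pos g
    rw [hc] at this
    exact Nat.pos_of_mul_pos_left this
  set x := g ^ c with hx
  have hxo : orderOf x = Nat.card W₂ := by
    rw [hx, orderOf_pow_of_dvd hc0.ne' ⟨Nat.card W₂, by rw [hc, mul_comm]⟩, hc,
      Nat.mul_div_cancel _ hc0]
  let P : Sylow (Nat.card W₂) G :=
    (IsPGroup.of_card (n := Nat.card W₁) h.card_H).toSylow (h.not_dvd_index_H hne)
  obtain ⟨Q, hQ⟩ := (IsPGroup.of_card (G := Subgroup.zpowers x) (p := Nat.card W₂) (n := 1)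
    (by rw [Nat.card_zpowers, hxo, pow_one])).exists_le_sylow
  obtain ⟨y, hy⟩ := MulAction.exists_smul_eq G Q P
  have hyH : y * x * y⁻¹ ∈ H := by
    have h1 : y * x * y⁻¹ ∈ ((P : Subgroup G) : Set G) := by
      rw [← hy, Sylow.coe_subgroup_smul]
      exact ⟨x, hQ (Subgroup.mem_zpowers x), rfl⟩
    exact h1
  set a := y * x * y⁻¹ with ha
  have ha1 : a ≠ 1 := fun e => h.prime₂.ne_one (by
    rw [← hxo, show x = 1 from conj_eq_one_iff.1 e, orderOf_one])
  have haL : a ∈ lamSet M U := ⟨Subgroup.mem_sup_left hyH, ha1⟩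
  set g' := y * g * y⁻¹ with hg'
  have hag : g' * a = a * g' := by
    have hpow : a = g' ^ c := by rw [ha, hx, hg', conj_pow]
    rw [hpow]
    exact (Commute.self_pow g' c).eq
  have hgM : g' ∈ M := hcent a haL (Subgroup.mem_centralizer_singleton_iff.2 hag)
  by_cases hd : (⟨g', hgM⟩ : ↥M) ∈ derIn M
  · refine Or.inl ((h.mem_dadeSupp_lamSet hcent).2 ⟨y, ?_, ?_⟩)
    · obtain ⟨a', ha', v, hv, e⟩ := h.data.U_compl.2.2.2 g' hd
      rw [← hg', e]
      refine Subgroup.mul_mem_sup ha' ?_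
      by_contra hvC
      refine ha1 ((Subgroup.eq_bot_iff_forall _).1 (hfpf v hv hvC) a
        ⟨hyH, Subgroup.mem_centralizer_singleton_iff.2 ?_⟩)
      have hvn := le_normalizer_fittingHallOf M (typeP_U_le h.data hv)
      have hva : v * a * v⁻¹ ∈ H := mul_mem_conj hvn hyH
      have e1 : a' * (v * a * v⁻¹) * a'⁻¹ = a := by
        have e2 : a' * v * a = a * (a' * v) := by rw [← e]; exact hag
        calc a' * (v * a * v⁻¹) * a'⁻¹ = a' * v * a * (a' * v)⁻¹ := by group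
          _ = a := by rw [e2]; group
      rw [h.comm_H ha' hva, mul_inv_cancel_right] at e1
      calc a * v = v * a * v⁻¹ * v := by rw [e1]
        _ = v * a := by group
    · intro e
      refine h.prime₂.ne_one ?_
      rw [Set.mem_singleton_iff] at e
      rw [show g = 1 from conj_eq_one_iff.1 e, orderOf_one] at hc
      exact Nat.eq_one_of_mul_eq_one_right hc.symm
  · obtain ⟨z, w, hw, he⟩ := h.base.exists_conj hd
    by_cases hw1 : (w : G) ∈ W₁
    · exfalso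
      refine hne ((Nat.prime_dvd_prime_iff_eq h.prime₂ h.prime₁).1 ?_).symm
      have h1 : orderOf (w : G) = orderOf g := by
        rw [← he]
        show orderOf ((MulAut.conj (z : G)) ((MulAut.conj y) g)) = _
        rw [MulEquiv.orderOf_eq, MulEquiv.orderOf_eq]
      have h2 := Subgroup.orderOf_dvd_natCard W₁ hw1
      rw [h1, hc] at h2
      exact dvd_trans (dvd_mul_right _ _) h2
    · refine Or.inr ⟨((z : G) * y)⁻¹, w, w.2, hw1, hw, ?_⟩
      rw [← he]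
      show g = _ * ((z : G) * g' * (z : G)⁻¹) * _
      rw [hg']
      group

/-- The mass of the support of `(HC)#`. -/
theorem gMass_lamSupp : gMass (dadeSupp (lamSet M U) (supportR M)) (fun _ => 1) =
    ((Nat.card (fittingOf M) : ℝ) - 1) / Nat.card M := by
  classical
  rw [gMass_dadeSupp_one h.dadeLam, h.lamSet_eq,
    Set.ncard_sdiff_singleton_of_mem (fittingOf M).one_mem, ← Nat.card_coe_set_eq,
    Nat.cast_sub Nat.card_pos]
  simp

/-- `|M| = |F(M)| a u`. -/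
theorem card_M : Nat.card M =
    Nat.card (fittingOf M) * ((centU M U).relIndex U * Nat.card W₁) := by
  rw [← compl_card h.data.W₁_compl, ← mul_assoc]
  congr 1
  rw [centU, ← TypeP.relIndex_fitting h.data]
  exact (card_mul_relIndex h.data.fitting_le).symm

end LamSide

namespace FTPair

variable {S T W₁ U W₂ V : Subgroup G} (h : FTPair S T W₁ U W₂ V) (hG : IsMinSimpleOddOrder G)
  (F : FTFacts G)
include h hG F

theorem typeT_ne_V (hV : ¬ IsOfTypeV T) : IsOfTypeII T ∨ IsOfTypeIII T ∨ IsOfTypeIV T := by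
  rcases h.typeT hG F with e | e | e | e
  exacts [Or.inl e, Or.inr (Or.inl e), Or.inr (Or.inr e), absurd e hV]

/-- `T_F` is elementary abelian of order `|W₁| ^ |W₂|`. -/
theorem elementary_T (hV : ¬ IsOfTypeV T) : IsElementaryAbelian (Nat.card W₁) (fittingHallOf T) ∧
    Nat.card (fittingHallOf T) = Nat.card W₁ ^ Nat.card W₂ := by
  by_cases hII : IsOfTypeII T
  · exact ⟨TypeP.elementary_typeII h.dataT hII (h.prime_W₁ hG F),
      TypeP.card_typeII h.dataT hII⟩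
  · exact ⟨(h.typeT_III_IV hG F hII hV).2.1, (h.typeT_III_IV hG F hII hV).2.2.1⟩

/-- Both sides over one family. -/
theorem exists_lamSides [Fintype S] [Fintype T] (hV : ¬ IsOfTypeV T) : ∃ χ, TIData W₁ W₂ χ ∧
    (∃ μ δ, LamSide S W₁ U W₂ χ μ δ) ∧ ∃ μ δ, LamSide T W₂ V W₁ (swapFam χ) μ δ := by
  obtain ⟨χ, hχ, ⟨μ, δ, hs⟩, μ', δ', ht⟩ := h.exists_sides hG F
  have hT := h.typeT_ne_V hG F hV
  refine ⟨χ, hχ, ⟨μ, δ, ?_⟩, μ', δ', ?_⟩
  · exact { hs with
      data := h.dataS, prime₁ := h.prime_W₁ hG F, prime₂ := h.prime_W₂ hG F hT,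
      U_ne := h.U_ne hG F,
      elem := TypeP.elementary_typeII h.dataS h.typeII (h.prime_W₂ hG F hT),
      card_H := TypeP.card_typeII h.dataS h.typeII,
      derived_U := typeP_commutator_U h.dataS }
  · exact { ht with
      data := h.dataT, prime₁ := h.prime_W₂ hG F hT, prime₂ := h.prime_W₁ hG F,
      U_ne := h.V_ne hG F hT,
      elem := (h.elementary_T hG F hV).1,
      card_H := (h.elementary_T hG F hV).2,
      derived_U := typeP_commutator_U h.dataT }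

/-- The centralisers of the elements of `F(S)#` lie in `S`. -/
theorem cent_S [Fintype S] {χ : (↥(W₁ ⊔ W₂) →* ℂˣ) → (G → ℂ)} {μ : (↥(W₁ ⊔ W₂) →* ℂˣ) → (↥S → ℂ)}
    {δ : (↥(W₁ ⊔ W₂) →* ℂˣ) → ℤ} (hs : LamSide S W₁ U W₂ χ μ δ) :
    ∀ x ∈ lamSet S U, centralizer ({x} : Set G) ≤ S :=
  hs.centralizer_le_of_TI (typeII_III_IV_fitting_TI (Or.inl h.typeII))

/-- The centralisers of the elements of `F(T)#` lie in `T`. -/
theorem cent_T (hV : ¬ IsOfTypeV T) [Fintype T] {χ : (↥(W₂ ⊔ W₁) →* ℂˣ) → (G → ℂ)}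
    {μ : (↥(W₂ ⊔ W₁) →* ℂˣ) → (↥T → ℂ)} {δ : (↥(W₂ ⊔ W₁) →* ℂˣ) → ℤ}
    (ht : LamSide T W₂ V W₁ χ μ δ) :
    ∀ x ∈ lamSet T V, centralizer ({x} : Set G) ≤ T :=
  ht.centralizer_le_of_TI (typeII_III_IV_fitting_TI (h.typeT_ne_V hG F hV))

/-- The two supports are disjoint. -/
theorem lamSupp_disjoint (hV : ¬ IsOfTypeV T) [Fintype S] [Fintype T]
    {χ : (↥(W₁ ⊔ W₂) →* ℂˣ) → (G → ℂ)} {μ : (↥(W₁ ⊔ W₂) →* ℂˣ) → (↥S → ℂ)}
    {δ : (↥(W₁ ⊔ W₂) →* ℂˣ) → ℤ} (hs : LamSide S W₁ U W₂ χ μ δ)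
    {χ' : (↥(W₂ ⊔ W₁) →* ℂˣ) → (G → ℂ)} {μ' : (↥(W₂ ⊔ W₁) →* ℂˣ) → (↥T → ℂ)}
    {δ' : (↥(W₂ ⊔ W₁) →* ℂˣ) → ℤ} (ht : LamSide T W₂ V W₁ χ' μ' δ') :
    Disjoint (dadeSupp (lamSet S U) (supportR S)) (dadeSupp (lamSet T V) (supportR T)) := by
  rw [Set.disjoint_left]
  intro g hgS hgT
  obtain ⟨y, hy⟩ := (hs.mem_dadeSupp_lamSet (h.cent_S hG F hs)).1 hgS
  obtain ⟨z, hz⟩ := (ht.mem_dadeSupp_lamSet (h.cent_T hG F hV ht)).1 hgT
  set a := y * g * y⁻¹ with ha
  set b := z * g * z⁻¹ with hb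
  have hle : (fittingHallOf S).map (MulAut.conj (z * y⁻¹)).toMonoidHom ≤ T := by
    rintro _ ⟨x, hx, rfl⟩
    refine h.cent_T hG F hV ht b hz (Subgroup.mem_centralizer_singleton_iff.2 ?_)
    have hxa : x * a = a * x := by
      obtain ⟨x', hx', c, hc, e⟩ := hs.exists_HC hy.1
      rw [e, ← mul_assoc, hs.comm_H hx hx', mul_assoc, hs.comm_centU hx hc, ← mul_assoc]
    show (z * y⁻¹) * x * (z * y⁻¹)⁻¹ * b = b * ((z * y⁻¹) * x * (z * y⁻¹)⁻¹)
    have hb' : b = (z * y⁻¹) * a * (z * y⁻¹)⁻¹ := by rw [ha, hb]; group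
    rw [hb']
    calc (z * y⁻¹) * x * (z * y⁻¹)⁻¹ * ((z * y⁻¹) * a * (z * y⁻¹)⁻¹)
        = (z * y⁻¹) * (x * a) * (z * y⁻¹)⁻¹ := by group
      _ = (z * y⁻¹) * (a * x) * (z * y⁻¹)⁻¹ := by rw [hxa]
      _ = _ := by group
  have hd := Subgroup.card_dvd_of_le hle
  rw [card_map_conj, hs.card_H, ← compl_card h.dataT.W₁_compl, ← compl_card h.dataT.U_compl,
    ht.card_H] at hd
  have hcW := h.coprime_W
  have hcV : (Nat.card W₂).Coprime (Nat.card V) := TypeP.coprime_W₁_U h.dataT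
  have hc : (Nat.card W₂ ^ Nat.card W₁).Coprime (Nat.card W₁ ^ Nat.card W₂ * Nat.card V) :=
    Nat.Coprime.mul_right (Nat.Coprime.pow _ _ hcW.symm) (hcV.pow_left _)
  have h2 := Nat.le_of_dvd Nat.card_pos (hc.dvd_of_dvd_mul_left hd)
  have h3 := Nat.pow_le_pow_right hs.prime₂.pos hs.prime₁.two_le
  have h4 := Nat.mul_lt_mul_of_pos_left hs.prime₂.one_lt hs.prime₂.pos
  rw [mul_one, ← sq] at h4
  omega

omit hG F in
/-- The region of the inequality. -/
def lamRest (_h : FTPair S T W₁ U W₂ V) : Set G :=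
  (({1} : Set G) ∪ vConj W₁ W₂ ∪ dadeSupp (lamSet S U) (supportR S) ∪
    dadeSupp (lamSet T V) (supportR T))ᶜ

/-- The mass of the region. -/
theorem gMass_lamRest [Fintype S] [Fintype T] {χ : (↥(W₁ ⊔ W₂) →* ℂˣ) → (G → ℂ)}
    {μ : (↥(W₁ ⊔ W₂) →* ℂˣ) → (↥S → ℂ)}
    {δ : (↥(W₁ ⊔ W₂) →* ℂˣ) → ℤ} (hs : LamSide S W₁ U W₂ χ μ δ)
    {χ' : (↥(W₂ ⊔ W₁) →* ℂˣ) → (G → ℂ)} {μ' : (↥(W₂ ⊔ W₁) →* ℂˣ) → (↥T → ℂ)}
    {δ' : (↥(W₂ ⊔ W₁) →* ℂˣ) → ℤ} (ht : LamSide T W₂ V W₁ χ' μ' δ') :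
    1 / (Nat.card W₁ : ℝ) + 1 / (Nat.card W₂ : ℝ) - 1 / ((Nat.card W₁ : ℝ) * Nat.card W₂) -
        1 / (Nat.card G : ℝ) - ((Nat.card (fittingOf S) : ℝ) - 1) / Nat.card S -
        ((Nat.card (fittingOf T) : ℝ) - 1) / Nat.card T ≤
      gMass h.lamRest (fun _ => 1) := by
  classical
  set X := ({1} : Set G) ∪ vConj W₁ W₂ ∪ dadeSupp (lamSet S U) (supportR S) ∪
    dadeSupp (lamSet T V) (supportR T) with hX
  have htot := gMass_add_compl X (fun _ : G => (1 : ℂ))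
  rw [show Coherence.sqNorm (fun _ : G => (1 : ℂ)) = 1 from by
    rw [Coherence.sqNorm, classInner_isIrr_self isIrr_one, Complex.one_re]] at htot
  have hle : gMass X (fun _ => 1) ≤ 1 / (Nat.card G : ℝ) +
      (((Nat.card W₁ : ℝ) - 1) * ((Nat.card W₂ : ℝ) - 1)) / (Nat.card W₁ * Nat.card W₂) +
      ((Nat.card (fittingOf S) : ℝ) - 1) / Nat.card S +
      ((Nat.card (fittingOf T) : ℝ) - 1) / Nat.card T := by
    refine (gMass_union_le _ _ _).trans (add_le_add ?_ (le_of_eq ht.gMass_lamSupp))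
    refine (gMass_union_le _ _ _).trans (add_le_add ?_ (le_of_eq hs.gMass_lamSupp))
    refine (gMass_union_le _ _ _).trans (add_le_add ?_ (le_of_eq (h.gMass_vConj hG F)))
    rw [gMass_one, Set.ncard_singleton, Nat.cast_one]
  have e : (((Nat.card W₁ : ℝ) - 1) * ((Nat.card W₂ : ℝ) - 1)) / (Nat.card W₁ * Nat.card W₂) =
      1 - (1 / (Nat.card W₁ : ℝ) + 1 / (Nat.card W₂ : ℝ) -
        1 / ((Nat.card W₁ : ℝ) * Nat.card W₂)) := by
    have h1 : (Nat.card W₁ : ℝ) ≠ 0 := Nat.cast_ne_zero.2 Nat.card_pos.ne'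
    have h2 : (Nat.card W₂ : ℝ) ≠ 0 := Nat.cast_ne_zero.2 Nat.card_pos.ne'
    field_simp; ring
  show _ ≤ gMass Xᶜ (fun _ => 1)
  linarith

end FTPair

end CfsgLib.OddOrder
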