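import Cfsg.Agent.OddOrder.PF10.Facts
import Cfsg.Agent.OddOrder.PF10.MuFacts
import Cfsg.Agent.OddOrder.PF10.DadeTools
import Cfsg.Agent.OddOrder.PF8.Dade
import Cfsg.Agent.OddOrder.Setup

/-!
# A maximal subgroup of type P with its Dade map and its two families of characters
-/

set_option autoImplicit false
set_option linter.style.haveILetI false
set_option linter.unusedSectionVars false

namespace CfsgLib.OddOrder

open Cfsg CfsgLib.Characters CfsgLib.Coherence CfsgLib.OddOrderChar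
open Subgroup (centralizer normalizer)
open scoped ComplexConjugate

universe u

variable {G : Type u} [Group G] [Fintype G]

/-- `τ`: the Dade map of `(A₀(M), M, R)`. -/
noncomputable abbrev tauM (M : Subgroup G) (α : ↥M → ℂ) : G → ℂ :=
  dadeIsometry (supportA0 M) M (supportR M) α

/-- The `M`-conjugates of the elements of `W` outside `W₁ ∪ W₂`. -/
def vSet (M W₁ W₂ : Subgroup G) : Set G :=
  {v | ∃ m ∈ M, ∃ w ∈ W₁ ⊔ W₂, w ∉ W₁ ∧ w ∉ W₂ ∧ v = m * w * m⁻¹}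

/-- The conjugates in `G` of the elements of `W` outside `W₁ ∪ W₂`. -/
def vConj (W₁ W₂ : Subgroup G) : Set G :=
  {v | ∃ y : G, ∃ w ∈ W₁ ⊔ W₂, w ∉ W₁ ∧ w ∉ W₂ ∧ v = y * w * y⁻¹}

theorem mem_vConj_or {W₁ W₂ : Subgroup G} {g : G} (hg : g ∉ vConj W₁ W₂) (x : G) (w : ↥(W₁ ⊔ W₂))
    (h : x⁻¹ * g * x = (w : G)) : (w : G) ∈ W₁ ∨ (w : G) ∈ W₂ := by
  by_contra hc
  push Not at hc
  exact hg ⟨x, w, w.2, hc.1, hc.2, by rw [← h]; group⟩

/-- A side: a maximal subgroup with data of type P, the cyclic TI family and the characters `μ`. -/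
structure Side (M W₁ W₂ : Subgroup G) [Fintype M]
    (χ : (↥(W₁ ⊔ W₂) →* ℂˣ) → (G → ℂ))
    (μ : (↥(W₁ ⊔ W₂) →* ℂˣ) → (↥M → ℂ)) (δ : (↥(W₁ ⊔ W₂) →* ℂˣ) → ℤ) : Prop where
  minSimple : IsMinSimpleOddOrder G
  coatom : IsCoatom M
  notI : ¬ IsTypeI M
  dataP : ∃ U : Subgroup G, IsTypePWith M W₁ U W₂
  base : PBase M W₁ W₂
  ti : TIData W₁ W₂ χ
  pmu : PMu M W₁ W₂ base.le μ δ
  dade : DadeHypothesis (supportA0 M) M (supportR M)

theorem exists_side (hG : IsMinSimpleOddOrder G) (F : BG16Facts G) {M W₁ U W₂ : Subgroup G}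
    [Fintype M] (hM : IsCoatom M) (hI : ¬ IsTypeI M) (hP : IsTypePWith M W₁ U W₂)
    (χ : (↥(W₁ ⊔ W₂) →* ℂˣ) → (G → ℂ)) (hχ : TIData W₁ W₂ χ) :
    ∃ μ δ, Side M W₁ W₂ χ μ δ := by
  have hB := pBase_of_typePWith hP
  obtain ⟨μ, δ, hμ⟩ := exists_pMu hB (minSimple_odd_subgroup hG M)
  exact ⟨μ, δ, hG, hM, hI, ⟨U, hP⟩, hB, hχ, hμ, F.dade hM (Or.inr (Or.inr rfl))⟩

namespace Side

variable {M W₁ W₂ : Subgroup G} [Fintype M] {χ : (↥(W₁ ⊔ W₂) →* ℂˣ) → (G → ℂ)}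
  {μ : (↥(W₁ ⊔ W₂) →* ℂˣ) → (↥M → ℂ)} {δ : (↥(W₁ ⊔ W₂) →* ℂˣ) → ℤ}
variable (h : Side M W₁ W₂ χ μ δ)
include h

theorem oddG : Odd (Nat.card G) := h.minSimple.1

theorem oddM : Odd (Nat.card M) := minSimple_odd_subgroup h.minSimple M

theorem le : W₁ ⊔ W₂ ≤ M := h.base.le

theorem vSet_subset : vSet M W₁ W₂ ⊆ supportA0 M := by
  rintro v ⟨m, hm, w, hw, h1, h2, rfl⟩
  obtain ⟨U, hP⟩ := h.dataP
  exact Or.inr ⟨h.notI, W₁, U, W₂, hP, m, hm, w, hw, h1, h2, rfl⟩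

theorem vSet_conj : ∀ x ∈ M, ∀ b ∈ vSet M W₁ W₂, x * b * x⁻¹ ∈ vSet M W₁ W₂ := by
  rintro x hx b ⟨m, hm, w, hw, h1, h2, rfl⟩
  exact ⟨x * m, mul_mem hx hm, w, hw, h1, h2, by group⟩

theorem v_mem_A0 {w : ↥(W₁ ⊔ W₂)} (h1 : (w : G) ∉ W₁) (h2 : (w : G) ∉ W₂) : (w : G) ∈ supportA0 M :=
  h.vSet_subset ⟨1, one_mem M, w, w.2, h1, h2, by simp⟩

theorem vSet_centralizer {v : G} (hv : v ∈ vSet M W₁ W₂) : centralizer ({v} : Set G) ≤ M := by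
  obtain ⟨m, hm, w, hw, h1, h2, rfl⟩ := hv
  intro c hc
  rw [Subgroup.mem_centralizer_singleton_iff] at hc
  have hc' : m⁻¹ * c * m ∈ W₁ ⊔ W₂ := by
    refine snc_normalizer_single h.ti.snc hw h1 h2 ?_
    calc m⁻¹ * c * m * w * (m⁻¹ * c * m)⁻¹ = m⁻¹ * (c * (m * w * m⁻¹)) * c⁻¹ * m := by group
      _ = m⁻¹ * (m * w * m⁻¹ * c) * c⁻¹ * m := by rw [hc]
      _ = w := by group
  have := M.mul_mem (M.mul_mem hm (h.le hc')) (M.inv_mem hm)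
  simpa [mul_assoc] using this

theorem vSet_supportR {v : G} (hv : v ∈ vSet M W₁ W₂) : supportR M v = ⊥ :=
  supportR_eq_bot (h.vSet_centralizer hv)

theorem vSet_fusion : ∀ a ∈ vSet M W₁ W₂, ∀ g : G, g * a * g⁻¹ ∈ vSet M W₁ W₂ → g ∈ M := by
  rintro a ⟨m, hm, w, hw, h1, h2, rfl⟩ g ⟨m', hm', w', hw', h1', h2', he⟩
  have e : (m'⁻¹ * g * m) * w * (m'⁻¹ * g * m)⁻¹ = w' := by
    calc (m'⁻¹ * g * m) * w * (m'⁻¹ * g * m)⁻¹ = m'⁻¹ * (g * (m * w * m⁻¹) * g⁻¹) * m' := by group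
      _ = m'⁻¹ * (m' * w' * m'⁻¹) * m' := by rw [he]
      _ = w' := by group
  have := snc_mem_of_conj h.ti.snc hw h1 h2 (g := m'⁻¹ * g * m) (e.symm ▸ hw') (e.symm ▸ h1') (e.symm ▸ h2')
  have := M.mul_mem (M.mul_mem hm' (h.le this)) (M.inv_mem hm)
  simpa [mul_assoc] using this

/-- A class function vanishing at `W₁#` and on `M'` off `A(M)` lives on `A₀(M)`. -/
theorem supp_A0 {α : ↥M → ℂ} (hα : IsClassFunction ↥M α)
    (hW : ∀ w : ↥(W₁ ⊔ W₂), (w : G) ∈ W₁ → (w : G) ≠ 1 → α ⟨w, h.le w.2⟩ = 0)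
    (hD : ∀ x : ↥M, x ∈ derIn M → (x : G) ∉ supportA M → α x = 0) :
    ∀ x : ↥M, (x : G) ∉ supportA0 M → α x = 0 := by
  intro x hx
  by_cases hd : x ∈ derIn M
  · exact hD x hd fun ha => hx (Or.inl ha)
  obtain ⟨z, w, hw, he⟩ := h.base.exists_conj hd
  have hz : z * x * z⁻¹ = (⟨w, h.le w.2⟩ : ↥M) := Subtype.ext he
  rw [← hα x z, hz]
  by_cases h1 : (w : G) ∈ W₁
  · exact hW w h1 fun e => hw (e ▸ one_mem W₂)
  · exfalso
    refine hx (h.vSet_subset ⟨(z : G)⁻¹, inv_mem z.2, w, w.2, h1, hw, ?_⟩)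
    rw [← he]; group

section Map

variable {α β : ↥M → ℂ}

theorem tau_gen (hα : IsGeneralizedCharacter ↥M α)
    (hs : ∀ x : ↥M, (x : G) ∉ supportA0 M → α x = 0) : IsGeneralizedCharacter G (tauM M α) :=
  isGen_dade h.dade hα hs

theorem tau_ci (hα : IsClassFunction ↥M α) (hs : ∀ x : ↥M, (x : G) ∉ supportA0 M → α x = 0)
    (hβ : IsClassFunction ↥M β) (hs' : ∀ x : ↥M, (x : G) ∉ supportA0 M → β x = 0) :
    classInner (tauM M α) (tauM M β) = classInner α β :=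
  classInner_dade h.dade hα hs hβ hs'

theorem tau_sqNorm (hα : IsClassFunction ↥M α) (hs : ∀ x : ↥M, (x : G) ∉ supportA0 M → α x = 0) :
    sqNorm (tauM M α) = sqNorm α :=
  congrArg Complex.re (h.tau_ci hα hs hα hs)

theorem tau_ci_one (hα : IsClassFunction ↥M α) (hs : ∀ x : ↥M, (x : G) ∉ supportA0 M → α x = 0) :
    classInner (tauM M α) (fun _ => 1) = classInner α (fun _ => 1) :=
  classInner_dade_one h.dade hα hs

theorem tau_conj (α : ↥M → ℂ) : conjFun (tauM M α) = tauM M (conjFun α) :=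
  (dade_conjFun α).symm

theorem tau_on_V (hα : IsClassFunction ↥M α) (w : ↥(W₁ ⊔ W₂)) (h1 : (w : G) ∉ W₁)
    (h2 : (w : G) ∉ W₂) : tauM M α (w : G) = α ⟨w, h.le w.2⟩ :=
  dade_apply_mem h.dade hα ⟨w, h.le w.2⟩ (h.v_mem_A0 h1 h2)

/-- The table of the image of a virtual character vanishing on `V` is additive. -/
theorem tau_additive (hα : IsGeneralizedCharacter ↥M α)
    (hs : ∀ x : ↥M, (x : G) ∉ supportA0 M → α x = 0)
    (hV : ∀ w : ↥(W₁ ⊔ W₂), (w : G) ∉ W₁ → (w : G) ∉ W₂ → α ⟨w, h.le w.2⟩ = 0) :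
    AdditiveAt (coefT χ (tauM M α)) 1 1 :=
  h.ti.additive (h.tau_gen hα hs) fun w h1 h2 => by
    rw [h.tau_on_V (Coherence.isClassFunction_of_isGen hα) w h1 h2, hV w h1 h2]

/-- Functions induced from `W` vanishing on `W₁ ∪ W₂` live on the conjugates of `V`. -/
theorem indW_supp {f : ↥(W₁ ⊔ W₂) → ℂ}
    (hf : ∀ w : ↥(W₁ ⊔ W₂), (w : G) ∈ W₁ ∨ (w : G) ∈ W₂ → f w = 0) (x : ↥M)
    (hx : (x : G) ∉ vSet M W₁ W₂) : indW M W₁ W₂ f x = 0 := by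
  unfold indW indFun
  rw [Finset.sum_eq_zero, mul_zero]
  intro z _
  by_cases hm : z⁻¹ * x * z ∈ (W₁ ⊔ W₂).subgroupOf M
  · rw [OddOrderChar.extendByZero_of_mem _ _ hm]
    refine hf _ ?_
    by_contra hc
    push Not at hc
    refine hx ⟨z, z.2, _, hm, hc.1, hc.2, ?_⟩
    simp [mul_assoc]
  · exact OddOrderChar.extendByZero_of_notMem _ _ hm

theorem tau_indW {f : ↥(W₁ ⊔ W₂) → ℂ}
    (hf : ∀ w : ↥(W₁ ⊔ W₂), (w : G) ∈ W₁ ∨ (w : G) ∈ W₂ → f w = 0) :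
    tauM M (indW M W₁ W₂ f) = indFun (W₁ ⊔ W₂) f := by
  classical
  have hcl : IsClassFunction ↥M (indW M W₁ W₂ f) := OddOrderChar.isClassFunction_ind _ _
  have hD := dade_subset h.dade h.vSet_subset h.vSet_conj
  rw [tauM, dade_restrict h.dade h.vSet_subset h.vSet_conj hcl (h.indW_supp hf),
    dade_eq_indFun hD (fun a ha => h.vSet_supportR ha) h.vSet_fusion hcl (h.indW_supp hf)]
  exact Characters.indFun_trans (W₁ ⊔ W₂) M h.le f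

end Map

end Side

end CfsgLib.OddOrder
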