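import Mathlib.Algebra.Ring.GeomSum
import Mathlib.Algebra.Field.ZMod
import Mathlib.FieldTheory.Finite.Basic
import Mathlib.Data.Nat.Factors
import Mathlib.NumberTheory.Multiplicity
import Mathlib.Tactic

/-!
# The number `(b ^ a - 1) / (b - 1)` for odd primes `a`, `b`
-/

set_option autoImplicit false

namespace CfsgLib.OddOrder.Singer

open Finset

variable {a b : ℕ}

theorem singer_eq_sum (hb : b.Prime) : (b ^ a - 1) / (b - 1) = ∑ k ∈ range a, b ^ k :=
  (Nat.geomSum_eq hb.two_le a).symm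

theorem singer_mul (hb : b.Prime) : (b ^ a - 1) / (b - 1) * (b - 1) = b ^ a - 1 := by
  refine Nat.div_mul_cancel ?_
  have := Nat.sub_dvd_pow_sub_pow b 1 a
  rwa [one_pow] at this

theorem pow_pred_le_singer (hb : b.Prime) (ha : 0 < a) : b ^ (a - 1) ≤ (b ^ a - 1) / (b - 1) := by
  rw [singer_eq_sum hb]
  exact single_le_sum (f := fun k => b ^ k) (fun _ _ => Nat.zero_le _) (by simp; omega)

theorem singer_pos (hb : b.Prime) (ha : 0 < a) : 0 < (b ^ a - 1) / (b - 1) :=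
  lt_of_lt_of_le (pow_pos hb.pos _) (pow_pred_le_singer hb ha)

theorem odd_singer (hb : b.Prime) (hb2 : b ≠ 2) (ha : Odd a) :
    Odd ((b ^ a - 1) / (b - 1)) := by
  rw [singer_eq_sum hb]
  have key : ∀ n : ℕ, (Odd (∑ k ∈ range n, b ^ k) ↔ Odd n) := by
    intro n
    induction n with
    | zero => simp
    | succ n ih =>
      rw [sum_range_succ, Nat.odd_add, ih, Nat.odd_add_one]
      simp [Nat.not_even_iff_odd.2 ((hb.odd_of_ne_two hb2).pow (n := n))]
  exact (key a).2 ha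

/-- Modulo a prime divisor of `b - 1` the number is `a`. -/
theorem singer_cast (hb : b.Prime) {r : ℕ} (h : (b : ZMod r) = 1) :
    (((b ^ a - 1) / (b - 1) : ℕ) : ZMod r) = a := by
  rw [singer_eq_sum hb]
  push_cast
  simp [h]

/-- A prime divisor is `a` or is `1` modulo `2a`. -/
theorem prime_dvd_singer (ha : a.Prime) (ha2 : a ≠ 2) (hb : b.Prime) (hb2 : b ≠ 2) {r : ℕ}
    (hr : r.Prime) (hd : r ∣ (b ^ a - 1) / (b - 1)) :
    r = a ∨ (r ≡ 1 [MOD 2 * a] ∧ 2 * a + 1 ≤ r) := by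
  haveI := Fact.mk hr
  haveI := Fact.mk ha
  by_cases h1 : (b : ZMod r) = 1
  · left
    have hza : ((a : ℕ) : ZMod r) = 0 := by
      rw [← singer_cast hb h1]
      exact (ZMod.natCast_eq_zero_iff _ _).2 hd
    exact (Nat.prime_dvd_prime_iff_eq hr ha).1 ((ZMod.natCast_eq_zero_iff _ _).1 hza)
  · right
    have hpow : (b : ZMod r) ^ a = 1 := by
      have h2 : ((b ^ a - 1 : ℕ) : ZMod r) = 0 := by
        rw [← singer_mul (a := a) hb, Nat.cast_mul, (ZMod.natCast_eq_zero_iff _ _).2 hd, zero_mul]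
      rw [Nat.cast_sub (Nat.one_le_pow _ _ hb.pos), Nat.cast_pow, Nat.cast_one, sub_eq_zero] at h2
      exact h2
    have hne : (b : ZMod r) ≠ 0 := fun h => by
      rw [h, zero_pow ha.ne_zero] at hpow
      exact zero_ne_one hpow
    have hord : orderOf (b : ZMod r) = a := orderOf_eq_prime hpow h1
    have hdiv : a ∣ r - 1 := hord ▸ orderOf_dvd_of_pow_eq_one (ZMod.pow_card_sub_one_eq_one hne)
    have hr2 : r ≠ 2 := fun h => by
      subst h
      have h3 := (odd_singer hb hb2 (ha.odd_of_ne_two ha2))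
      exact Nat.not_even_iff_odd.2 h3 (even_iff_two_dvd.2 hd)
    have h2 : 2 ∣ r - 1 := by obtain ⟨k, hk⟩ := hr.odd_of_ne_two hr2; omega
    have h2a : 2 * a ∣ r - 1 :=
      ((Nat.coprime_primes Nat.prime_two ha).2 (Ne.symm ha2)).mul_dvd_of_dvd_of_dvd h2 hdiv
    refine ⟨((Nat.modEq_iff_dvd' hr.one_le).2 h2a).symm, ?_⟩
    have := Nat.le_of_dvd (by have := hr.two_le; omega) h2a
    clear * - this ha hr; have := hr.two_le; omega

/-- `a` divides it exactly when `b ≡ 1` modulo `a`. -/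
theorem dvd_singer_iff (ha : a.Prime) (hb : b.Prime) :
    a ∣ (b ^ a - 1) / (b - 1) ↔ b % a = 1 := by
  haveI := Fact.mk ha
  have key : (b : ZMod a) = 1 ↔ b % a = 1 := by
    rw [← Nat.cast_one, ZMod.natCast_eq_natCast_iff', Nat.mod_eq_of_lt ha.one_lt]
  rw [← key]
  constructor
  · intro hd
    have h2 : ((b ^ a - 1 : ℕ) : ZMod a) = 0 := by
      rw [← singer_mul (a := a) hb, Nat.cast_mul, (ZMod.natCast_eq_zero_iff _ _).2 hd, zero_mul]
    rw [Nat.cast_sub (Nat.one_le_pow _ _ hb.pos), Nat.cast_pow, Nat.cast_one, ZMod.pow_card,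
      sub_eq_zero] at h2
    exact h2
  · intro h
    rw [← ZMod.natCast_eq_zero_iff, singer_cast hb h, ZMod.natCast_self]

/-- `a ^ 2` does not divide it. -/
theorem sq_not_dvd_singer (ha : a.Prime) (ha2 : a ≠ 2) (hb : b.Prime) :
    ¬ a ^ 2 ∣ (b ^ a - 1) / (b - 1) := by
  intro hd
  have hmod := (dvd_singer_iff ha hb).1 ((dvd_pow_self a two_ne_zero).trans hd)
  obtain ⟨k, hk⟩ : ∃ k : ℕ, b = 1 + a * k := ⟨b / a, by have := Nat.mod_add_div b a; omega⟩
  have h := odd_sq_dvd_geom_sum₂_sub (1 : ℤ) (k : ℤ) (ha.odd_of_ne_two ha2)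
  simp only [one_pow, mul_one] at h
  have h1 : ((a : ℤ)) ^ 2 ∣ ∑ i ∈ range a, (1 + (a : ℤ) * k) ^ i := by
    have h2 : ((a ^ 2 : ℕ) : ℤ) ∣ (((b ^ a - 1) / (b - 1) : ℕ) : ℤ) := Int.natCast_dvd_natCast.2 hd
    rw [singer_eq_sum hb, hk] at h2
    push_cast at h2
    exact h2
  have h3 : ((a ^ 2 : ℕ) : ℤ) ∣ (a : ℤ) := by
    push_cast
    simpa using dvd_sub h1 h
  have h4 := Nat.le_of_dvd ha.pos (Int.natCast_dvd_natCast.1 h3)
  have := ha.two_le
  nlinarith

/-- A divisor is `1`, `a` or at least `2a + 1`. -/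
theorem dvd_singer_cases (ha : a.Prime) (ha2 : a ≠ 2) (hb : b.Prime) (hb2 : b ≠ 2) {e : ℕ}
    (he : e ∣ (b ^ a - 1) / (b - 1)) : e = 1 ∨ e = a ∨ 2 * a + 1 ≤ e := by
  have hpos : 0 < e := Nat.pos_of_dvd_of_pos he (singer_pos hb ha.pos)
  by_cases h : ∃ r : ℕ, r.Prime ∧ r ∣ e ∧ r ≠ a
  · obtain ⟨r, hr, hre, hra⟩ := h
    exact Or.inr (Or.inr (((prime_dvd_singer ha ha2 hb hb2 hr (hre.trans he)).resolve_left hra).2.trans
      (Nat.le_of_dvd hpos hre)))
  · push Not at h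
    obtain ⟨k, hk⟩ : ∃ k, e = a ^ k :=
      ⟨_, Nat.eq_prime_pow_of_unique_prime_dvd hpos.ne' fun hd hde => h _ hd hde⟩
    rcases k with _ | _ | k
    · exact Or.inl (by simpa using hk)
    · exact Or.inr (Or.inl (by simpa using hk))
    · exact absurd ((pow_dvd_pow a (show 2 ≤ k + 1 + 1 by omega)).trans (hk ▸ he))
        (sq_not_dvd_singer ha ha2 hb)

/-- For `b ≢ 1` modulo `a` every divisor is `1` modulo `2a`. -/
theorem dvd_singer_modEq (ha : a.Prime) (ha2 : a ≠ 2) (hb : b.Prime) (hb2 : b ≠ 2)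
    (hba : b % a ≠ 1) {e : ℕ} (he : e ∣ (b ^ a - 1) / (b - 1)) : e ≡ 1 [MOD 2 * a] := by
  induction e using Nat.recOnPrimeCoprime with
  | zero => exact absurd (singer_pos hb ha.pos) (by rw [Nat.eq_zero_of_zero_dvd he]; simp)
  | prime_pow p n hp =>
    rcases Nat.eq_zero_or_pos n with rfl | hn
    · rfl
    have hpd : p ∣ (b ^ a - 1) / (b - 1) := (dvd_pow_self p hn.ne').trans he
    have h1 : p ≡ 1 [MOD 2 * a] := ((prime_dvd_singer ha ha2 hb hb2 hp hpd).resolve_left fun h =>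
      hba ((dvd_singer_iff ha hb).1 (h ▸ hpd))).1
    simpa using h1.pow n
  | coprime m n _ _ _ ihm ihn =>
    simpa using (ihm (Dvd.dvd.trans ⟨n, rfl⟩ he)).mul (ihn (Dvd.dvd.trans ⟨m, mul_comm m n⟩ he))

/-- For `b ≢ 1` modulo `a` it is prime to `b - 1`. -/
theorem coprime_singer (ha : a.Prime) (hb : b.Prime) (hba : b % a ≠ 1) :
    ((b ^ a - 1) / (b - 1)).Coprime (b - 1) := by
  refine Nat.coprime_of_dvd fun r hr h1 h2 => ?_
  have hb1 : (b : ZMod r) = 1 := by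
    rw [← sub_eq_zero, ← Nat.cast_one, ← Nat.cast_sub hb.one_le]
    exact (ZMod.natCast_eq_zero_iff _ _).2 h2
  have hra : r ∣ a := by
    rw [← ZMod.natCast_eq_zero_iff, ← singer_cast hb hb1]
    exact (ZMod.natCast_eq_zero_iff _ _).2 h1
  have := (Nat.prime_dvd_prime_iff_eq hr ha).1 hra
  subst this
  exact hba ((dvd_singer_iff ha hb).1 h1)

end CfsgLib.OddOrder.Singer
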