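import Cfsg.Agent.OddOrder.PF10.SingerSetting
import Cfsg.Agent.OddOrder.PF10.SingerNumber
import Mathlib.FieldTheory.Finite.Basic

/-!
# The case in which `U` is irreducible on `P`: `P` is a field and `U / C` lies in its unit group
-/

set_option autoImplicit false
set_option linter.style.haveILetI false
set_option linter.unusedSectionVars false

namespace CfsgLib.OddOrder.Singer

open Subgroup CfsgLib
open scoped commutatorElement

universe u

variable {G : Type u} [Group G] [Finite G] {P U W₁ W₂ : Subgroup G}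

/-- `U` leaves no proper nontrivial subgroup of `P` invariant. -/
def IsUIrreducible (P U : Subgroup G) : Prop :=
  ∀ V : Subgroup G, V ≤ P → U ≤ normalizer (V : Set G) → V = ⊥ ∨ V = P

theorem le_normalizer_of_conj {A V : Subgroup G} (hA : ∀ n ∈ A, ∀ g ∈ V, n * g * n⁻¹ ∈ V) :
    A ≤ normalizer (V : Set G) := fun n hn => mem_normalizer_iff.2 fun g =>
  ⟨hA n hn g, fun hg => by simpa [mul_assoc] using hA n⁻¹ (inv_mem hn) _ hg⟩

variable (h : SingerSetting P U W₁ W₂)
include h

/-- Two elements of `U` commute in their action on `P`. -/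
theorem conj_comm {x y z : G} (hx : x ∈ U) (hy : y ∈ U) (hz : z ∈ P) :
    x * (y * z * y⁻¹) * x⁻¹ = y * (x * z * x⁻¹) * y⁻¹ := by
  have hm : y * (x * z * x⁻¹) * y⁻¹ ∈ P :=
    (mem_normalizer_iff.1 (h.normU hy) _).1 ((mem_normalizer_iff.1 (h.normU hx) z).1 hz)
  have hc := mem_centralizer_iff.1 (h.derived (commutator_mem_commutator hx hy)) _ hm
  calc x * (y * z * y⁻¹) * x⁻¹ = ⁅x, y⁆ * (y * (x * z * x⁻¹) * y⁻¹) * ⁅x, y⁆⁻¹ := by
        rw [commutatorElement_def]; group
    _ = y * (x * z * x⁻¹) * y⁻¹ := by rw [← hc, mul_inv_cancel_right]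

theorem mem_centU_iff {x : G} (hx : x ∈ U) :
    x ∈ U ⊓ centralizer (P : Set G) ↔ ∀ z ∈ P, x * z * x⁻¹ = z :=
  ⟨fun hc z hz => by rw [← mem_centralizer_iff.1 hc.2 z hz, mul_inv_cancel_right],
    fun hh => ⟨hx, mem_centralizer_iff.2 fun z hz => (mul_inv_eq_iff_eq_mul.1 (hh z hz)).symm⟩⟩

/-- `P` is the additive group of a field of order `b ^ a`, `U` acting by multiplication. -/
theorem exists_field (hirr : IsUIrreducible P U) :
    ∃ (F : Type u) (_ : Field F) (_ : Fintype F) (f ψ : G → F),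
      Fintype.card F = Nat.card W₂ ^ Nat.card W₁ ∧ Set.BijOn f (P : Set G) Set.univ ∧
      (∀ x ∈ P, ∀ z ∈ P, f (x * z) = f x + f z) ∧
      (∀ x ∈ U, ψ x ≠ 0 ∧ ∀ z ∈ P, f (x * z * x⁻¹) = ψ x * f z) ∧
      (∀ x ∈ U, ∀ y ∈ U, ψ (x * y) = ψ x * ψ y) ∧
      (∀ x ∈ U, ψ x = 1 ↔ x ∈ U ⊓ centralizer (P : Set G)) ∧
      ∀ z ∈ P, f z ^ Nat.card W₂ = f z ↔ z ∈ W₂ := by
  classical
  haveI := Fact.mk h.prime₂
  letI : CommGroup P := { (inferInstance : Group P) with
    mul_comm := fun p q => Subtype.ext (commP h p.2 q.2) }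
  let cj : U → P →* P := fun x => MonoidHom.mk'
    (fun z => ⟨(x : G) * z * (x : G)⁻¹, (mem_normalizer_iff.1 (h.normU x.2) z).1 z.2⟩)
    fun p q => Subtype.ext (by
      change (x : G) * (p * q) * (x : G)⁻¹ = (x * p * (x : G)⁻¹) * (x * q * (x : G)⁻¹); group)
  let act : U →* AddMonoid.End (Additive P) :=
    { toFun := fun x => MonoidHom.toAdditive (cj x)
      map_one' := by
        refine AddMonoidHom.ext fun z => Subtype.ext ?_
        change (1 : G) * (Additive.toMul z : P) * (1 : G)⁻¹ = (Additive.toMul z : P)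
        group
      map_mul' := fun x y => by
        refine AddMonoidHom.ext fun z => Subtype.ext ?_
        change (x * y : G) * (Additive.toMul z : P) * (x * y : G)⁻¹ =
          x * (y * (Additive.toMul z : P) * (y : G)⁻¹) * (x : G)⁻¹
        group }
  have hact : ∀ (x : U) (z : P), act x (Additive.ofMul z) = Additive.ofMul (cj x z) := fun _ _ => rfl
  have hcomm : ∀ p ∈ Set.range act, ∀ q ∈ Set.range act, p * q = q * p := by
    rintro _ ⟨x, rfl⟩ _ ⟨y, rfl⟩
    refine AddMonoidHom.ext fun z => Subtype.ext ?_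
    exact conj_comm h x.2 y.2 (Additive.toMul z).2
  set K := Subring.closure (Set.range act)
  haveI hKc : IsMulCommutative K := Subring.isMulCommutative_closure hcomm
  letI : CommRing K := { (inferInstance : Ring K) with mul_comm := fun p q => hKc.is_comm.comm p q }
  haveI : Finite (AddMonoid.End (Additive P)) :=
    Finite.of_injective (fun g : AddMonoid.End (Additive P) => (g : Additive P → Additive P))
      DFunLike.coe_injective
  haveI : Nontrivial W₂ := (Finite.one_lt_card_iff_nontrivial (α := W₂)).1 h.prime₂.one_lt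
  obtain ⟨⟨v₀, hv₀⟩, hv1⟩ := exists_ne (1 : W₂)
  set v : Additive P := Additive.ofMul (⟨v₀, W₂_le h hv₀⟩ : P)
  have hv : v ≠ 0 := fun e => hv1 (Subtype.ext (congrArg (fun q : P => (q : G))
    (Additive.ofMul.injective (e.trans ofMul_one.symm) : (⟨v₀, W₂_le h hv₀⟩ : P) = 1)))
  -- an invariant additive subgroup is trivial or everything
  have hinv : ∀ S : AddSubgroup (Additive P), (∀ x : U, ∀ s ∈ S, act x s ∈ S) →
      S = ⊥ ∨ S = ⊤ := by
    intro S hS
    set V : Subgroup G := (AddSubgroup.toSubgroup' S).map P.subtype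
    rcases hirr V (map_subtype_le _) (le_normalizer_of_conj fun n hn g hg => by
      obtain ⟨z, hz, rfl⟩ := hg
      exact ⟨cj ⟨n, hn⟩ z, hS ⟨n, hn⟩ _ hz, rfl⟩) with he | he
    · left
      refine (AddSubgroup.eq_bot_iff_forall S).2 fun s hs => ?_
      have h1 : ((Additive.toMul s : P) : G) ∈ V := ⟨Additive.toMul s, hs, rfl⟩
      rw [he, mem_bot] at h1
      exact Additive.toMul.injective (Subtype.ext h1)
    · right
      refine (AddSubgroup.eq_top_iff' S).2 fun s => ?_
      obtain ⟨z, hz, e⟩ : ((Additive.toMul s : P) : G) ∈ V := he.ge (Additive.toMul s).2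
      rw [show s = Additive.ofMul z from Additive.toMul.injective (Subtype.ext e.symm)]
      exact hz
  let ev : K →+ Additive P :=
    { toFun := fun k => (k : AddMonoid.End (Additive P)) v
      map_zero' := rfl
      map_add' := fun _ _ => rfl }
  have hsurj : Function.Surjective ev := by
    rcases hinv ev.range (by
      rintro x _ ⟨k, rfl⟩
      exact ⟨⟨act x, Subring.subset_closure ⟨x, rfl⟩⟩ * k, rfl⟩) with he | he
    · refine absurd (AddSubgroup.mem_bot.1 (he ▸ (⟨1, rfl⟩ : v ∈ ev.range))) hv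
    · exact AddMonoidHom.range_eq_top.1 he
  have hker : ∀ k : K, ev k = 0 → k = 0 := fun k hk => Subtype.ext <| AddMonoidHom.ext fun z => by
    obtain ⟨k', rfl⟩ := hsurj z
    change ((k * k' : K) : AddMonoid.End (Additive P)) v = 0
    rw [mul_comm k k']
    change (k' : AddMonoid.End (Additive P)) (ev k) = 0
    rw [hk, map_zero]
  have hinj : Function.Injective ev := (injective_iff_map_eq_zero ev).2 hker
  haveI : Nontrivial K := ⟨0, 1, fun e => hv (congrArg ev e).symm⟩
  haveI : NoZeroDivisors K := ⟨fun {p q} hpq => by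
    let S : AddSubgroup (Additive P) := AddMonoidHom.ker (p : AddMonoid.End (Additive P))
    rcases hinv S (fun x s hs => by
      change (p : AddMonoid.End (Additive P)) (act x s) = 0
      have e := congrArg (fun r : K => (r : AddMonoid.End (Additive P)) s)
        (mul_comm p ⟨act x, Subring.subset_closure ⟨x, rfl⟩⟩)
      refine e.trans ?_
      change act x ((p : AddMonoid.End (Additive P)) s) = 0
      exact (congrArg (act x) (hs : (p : AddMonoid.End (Additive P)) s = 0)).trans (map_zero _))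
      with he | he
    · right
      refine hker q (AddSubgroup.mem_bot.1 (he ▸ (?_ : ev q ∈ S)))
      change ((p * q : K) : AddMonoid.End (Additive P)) v = 0
      rw [hpq]; rfl
    · left
      refine Subtype.ext (AddMonoidHom.ext fun z => ?_)
      exact he.ge (AddSubgroup.mem_top z)⟩
  haveI : IsDomain K := NoZeroDivisors.to_isDomain K
  haveI := Fintype.ofFinite K
  letI : Field K := Fintype.fieldOfDomain K
  let e := Equiv.ofBijective ev ⟨hinj, hsurj⟩
  let f : G → K := fun z => if hz : z ∈ P then e.symm (Additive.ofMul ⟨z, hz⟩) else 0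
  let ψ : G → K := fun x =>
    if hx : x ∈ U then ⟨act ⟨x, hx⟩, Subring.subset_closure ⟨_, rfl⟩⟩ else 0
  have hf : ∀ (z : G) (hz : z ∈ P), ev (f z) = Additive.ofMul ⟨z, hz⟩ := fun z hz => by
    simp only [f, dif_pos hz]
    exact e.apply_symm_apply _
  have hcard : Fintype.card K = Nat.card W₂ ^ Nat.card W₁ := by
    rw [← Nat.card_eq_fintype_card, Nat.card_congr (e.trans Additive.toMul), h.card_P]
  have hbij : Set.BijOn f (P : Set G) Set.univ := by
    refine ⟨fun _ _ => Set.mem_univ _, fun x hx z hz e' => ?_, fun k _ => ?_⟩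
    · have h1 := congrArg ev e'
      rw [hf x hx, hf z hz] at h1
      exact congrArg Subtype.val (Additive.ofMul.injective h1)
    · refine ⟨(Additive.toMul (ev k) : P), (Additive.toMul (ev k)).2, hinj ?_⟩
      rw [hf _ (Additive.toMul (ev k)).2]
      rfl
  have hψ : ∀ x (hx : x ∈ U), ∀ z ∈ P, f (x * z * x⁻¹) = ψ x * f z := fun x hx z hz => hinj <| by
    rw [hf _ ((mem_normalizer_iff.1 (h.normU hx) z).1 hz)]
    change _ = (ψ x : AddMonoid.End (Additive P)) (ev (f z))
    simp only [ψ, dif_pos hx, hf z hz]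
    rfl
  have hψ1 : ∀ x ∈ U, ψ x = 1 ↔ x ∈ U ⊓ centralizer (P : Set G) := fun x hx => by
    rw [mem_centU_iff h hx]
    simp only [ψ, dif_pos hx]
    refine ⟨fun e1 z hz => ?_, fun hh => Subtype.ext <| AddMonoidHom.ext fun z => ?_⟩
    · exact congrArg Subtype.val (Additive.ofMul.injective
        (DFunLike.congr_fun (congrArg Subtype.val e1) (Additive.ofMul (⟨z, hz⟩ : P))))
    · exact Subtype.ext (hh _ (Additive.toMul z).2)
  refine ⟨K, inferInstance, inferInstance, f, ψ, hcard, hbij, fun x hx z hz => ?_, fun x hx =>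
    ⟨fun e0 => ?_, hψ x hx⟩, fun x hx y hy => ?_, hψ1, ?_⟩
  · refine hinj ?_
    rw [map_add, hf x hx, hf z hz, hf _ (P.mul_mem hx hz)]
    rfl
  · have h1 := hψ x hx v₀ (W₂_le h hv₀)
    rw [e0, zero_mul] at h1
    have h2 := hf _ ((mem_normalizer_iff.1 (h.normU hx) v₀).1 (W₂_le h hv₀))
    rw [h1, map_zero] at h2
    have h3 : x * v₀ * x⁻¹ = 1 :=
      congrArg Subtype.val (Additive.ofMul.injective (h2.symm.trans ofMul_one.symm))
    exact hv1 (Subtype.ext (conj_eq_one_iff.1 h3))
  · refine Subtype.ext ?_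
    simp only [ψ, dif_pos hx, dif_pos hy, dif_pos (U.mul_mem hx hy)]
    exact map_mul act ⟨x, hx⟩ ⟨y, hy⟩
  · -- the fixed points of `t ↦ t ^ b` form the image of `W₂`
    haveI : CharP K (Nat.card W₂) := charP_of_card_eq_prime_pow hcard
    have hW : ∀ z ∈ W₂, f z ^ Nat.card W₂ = f z := by
      intro z hz
      obtain ⟨n, hn⟩ : ∃ n : ℕ, v₀ ^ n = z := by
        have hg := mem_powers_of_prime_card (g := (⟨v₀, hv₀⟩ : W₂)) (g' := ⟨z, hz⟩) rfl hv1
        obtain ⟨n, hn⟩ := hg
        exact ⟨n, congrArg Subtype.val hn⟩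
      have e1 : f z = (n : K) := hinj <| by
        rw [hf z (W₂_le h hz), ← nsmul_one n, map_nsmul]
        refine Additive.toMul.injective (Subtype.ext ?_)
        change z = (((⟨v₀, W₂_le h hv₀⟩ : P) ^ n : P) : G)
        rw [SubgroupClass.coe_pow, hn]
      rw [e1, ← map_natCast (ZMod.castHom dvd_rfl K), ← map_pow, ZMod.pow_card]
    intro z hz
    refine ⟨fun e1 => ?_, hW z⟩
    set S : Set K := {t | t ^ Nat.card W₂ = t}
    have hS : Nat.card S ≤ Nat.card W₂ := by
      have h1 := FiniteField.X_pow_card_sub_X_natDegree_eq K h.prime₂.one_lt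
      have h2 := Polynomial.card_roots'
        (Polynomial.X ^ Nat.card W₂ - Polynomial.X : Polynomial K)
      rw [h1] at h2
      refine le_trans ?_ ((Multiset.toFinset_card_le _).trans h2)
      rw [Nat.card_eq_fintype_card, ← Set.toFinset_card]
      refine Finset.card_le_card fun t ht => ?_
      rw [Set.mem_toFinset] at ht
      rw [Multiset.mem_toFinset, Polynomial.mem_roots
        (FiniteField.X_pow_card_sub_X_ne_zero K h.prime₂.one_lt)]
      simp only [Polynomial.IsRoot, Polynomial.eval_sub, Polynomial.eval_pow, Polynomial.eval_X]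
      exact sub_eq_zero.2 ht
    let g : W₂ → S := fun w => ⟨f w, hW w w.2⟩
    have hg : Function.Injective g := fun p q e2 => Subtype.ext
      (hbij.2.1 (W₂_le h p.2) (W₂_le h q.2) (congrArg Subtype.val e2))
    obtain ⟨w, hw⟩ := (Function.Injective.bijective_of_nat_card_le hg hS).2 ⟨f z, e1⟩
    exact hbij.2.1 (W₂_le h w.2) hz (congrArg Subtype.val hw) ▸ w.2

/-- In the irreducible case `U` acts freely modulo `C`. -/
theorem free_of_irreducible (hirr : IsUIrreducible P U) {x : G} (hx : x ∈ U)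
    (hxC : x ∉ U ⊓ centralizer (P : Set G)) : P ⊓ centralizer ({x} : Set G) = ⊥ := by
  obtain ⟨F, _, _, f, ψ, -, hb, hadd, hψ, -, hψ1, -⟩ := exists_field h hirr
  refine (eq_bot_iff_forall _).2 fun z hz => ?_
  have h1 : x * z * x⁻¹ = z := mul_inv_eq_iff_eq_mul.2 (mem_centralizer_singleton_iff.1 hz.2).symm
  have h2 := (hψ x hx).2 z hz.1
  rw [h1] at h2
  have h3 : f z = 0 := by
    rcases mul_left_eq_self₀.1 h2.symm with e | e
    · exact absurd ((hψ1 x hx).1 e) hxC
    · exact e
  have h0 : f 1 = 0 := by simpa using hadd 1 P.one_mem 1 P.one_mem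
  exact hb.2.1 hz.1 P.one_mem (h3.trans h0.symm)

/-- In the irreducible case every nonprincipal character of `P` has stabiliser `C`. -/
theorem mem_of_fixesChar_of_irreducible (hirr : IsUIrreducible P U) {lam : P →* ℂˣ}
    (hne : lam ≠ 1) {x : G} (hx : x ∈ U) (hfx : FixesChar P lam x) :
    x ∈ U ⊓ centralizer (P : Set G) := by
  obtain ⟨F, _, _, f, ψ, -, hb, hadd, hψ, -, hψ1, -⟩ := exists_field h hirr
  by_contra hxC
  refine hne (MonoidHom.ext fun t => ?_)
  have hne1 : ψ x - 1 ≠ 0 := fun e => hxC ((hψ1 x hx).1 (sub_eq_zero.1 e))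
  obtain ⟨z, hz, hzt⟩ := hb.2.2 (Set.mem_univ (f t / (ψ x - 1)))
  have hm := (mem_normalizer_iff.1 (h.normU hx) z).1 hz
  have h1 : x * z * x⁻¹ = t * z := by
    refine hb.2.1 hm (P.mul_mem t.2 hz) ?_
    rw [(hψ x hx).2 z hz, hadd _ t.2 _ hz, hzt]
    field_simp
    ring
  have h2 := hfx ⟨z, hz⟩ (t * ⟨z, hz⟩) h1.symm
  rw [map_mul] at h2
  exact mul_eq_right.1 h2

/-- In the irreducible case `|U : C|` divides `(b ^ a - 1) / (b - 1)`. -/
theorem relIndex_dvd_singer (hirr : IsUIrreducible P U) :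
    (U ⊓ centralizer (P : Set G)).relIndex U ∣
      (Nat.card W₂ ^ Nat.card W₁ - 1) / (Nat.card W₂ - 1) := by
  classical
  obtain ⟨F, _, _, f, ψ, hF, hb, hadd, hψ, hmul, hψ1, hfix⟩ := exists_field h hirr
  haveI := Fact.mk h.prime₂
  let Ψ : U →* Fˣ := MonoidHom.mk' (fun x => Units.mk0 (ψ x) (hψ x x.2).1)
    fun p q => Units.ext (hmul p p.2 q q.2)
  have hker : Ψ.ker = (U ⊓ centralizer (P : Set G)).subgroupOf U := by
    ext x
    rw [MonoidHom.mem_ker, mem_subgroupOf, ← hψ1 x x.2, Units.ext_iff]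
    rfl
  have hu : (U ⊓ centralizer (P : Set G)).relIndex U = Nat.card Ψ.range := by
    rw [← Subgroup.index_ker, hker]; rfl
  rw [hu]
  have h1 : Nat.card Ψ.range ∣ Nat.card W₂ ^ Nat.card W₁ - 1 := by
    have := Ψ.range.card_subgroup_dvd_card
    rwa [Nat.card_units, Nat.card_eq_fintype_card (α := F), hF] at this
  rw [← singer_mul h.prime₂] at h1
  refine Nat.Coprime.dvd_of_dvd_mul_right (Nat.coprime_of_dvd fun r hr hru hrb => ?_) h1
  haveI := Fact.mk hr
  obtain ⟨⟨s, x, hxs⟩, hs⟩ := exists_prime_orderOf_dvd_card' (G := Ψ.range) r hru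
  rw [← Subgroup.orderOf_coe] at hs
  change orderOf s = r at hs
  have hsb : ψ x ^ (Nat.card W₂ - 1) = 1 := by
    obtain ⟨c, hc⟩ := hrb
    have : s ^ (Nat.card W₂ - 1) = 1 := by
      rw [hc, pow_mul, ← hs, pow_orderOf_eq_one, one_pow]
    rw [← hxs] at this
    exact congrArg Units.val this
  -- conjugation by `x` preserves `W₂`
  have hxW : ∀ z ∈ W₂, (x : G) * z * (x : G)⁻¹ ∈ W₂ := by
    intro z hz
    refine (hfix _ ((mem_normalizer_iff.1 (h.normU x.2) z).1 (W₂_le h hz))).1 ?_
    rw [(hψ x x.2).2 z (W₂_le h hz), mul_pow, (hfix z (W₂_le h hz)).2 hz]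
    congr 1
    conv_lhs => rw [show Nat.card W₂ = Nat.card W₂ - 1 + 1 by
      have := h.prime₂.one_lt; omega, pow_succ, hsb, one_mul]
  have hxC : (x : G) ∈ U ⊓ centralizer (P : Set G) := by
    refine mem_of_fixed_coset h inf_le_left (centU_normalizer h) x.2 fun w hw => ?_
    have hm : w * x * w⁻¹ ∈ U := (mem_normalizer_iff.1 (h.norm₁U hw) x).1 x.2
    have hd : (x : G)⁻¹ * (w * x * w⁻¹) ∈ U := U.mul_mem (U.inv_mem x.2) hm
    refine (hψ1 _ hd).1 ?_
    haveI : Nontrivial W₂ := (Finite.one_lt_card_iff_nontrivial (α := W₂)).1 h.prime₂.one_lt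
    obtain ⟨⟨z, hz⟩, hz1⟩ := exists_ne (1 : W₂)
    have hzw : ∀ t ∈ W₂, w * t * w⁻¹ = t := fun t ht => by
      have h1 : t ∈ P ⊓ centralizer (W₁ : Set G) := h.fixed ▸ ht
      rw [mem_centralizer_iff.1 h1.2 w hw, mul_inv_cancel_right]
    have e : ((x : G)⁻¹ * (w * x * w⁻¹)) * z * ((x : G)⁻¹ * (w * x * w⁻¹))⁻¹ = z := by
      have hwz : w⁻¹ * z * w = z := by
        conv_lhs => rw [← hzw z hz]
        group
      calc _ = (x : G)⁻¹ * (w * ((x : G) * (w⁻¹ * z * w) * (x : G)⁻¹) * w⁻¹) * (x : G) := by group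
        _ = z := by rw [hwz, hzw _ (hxW z hz)]; group
    have h2 := (hψ _ hd).2 z (W₂_le h hz)
    rw [e] at h2
    refine (mul_left_eq_self₀.1 h2.symm).resolve_right fun e0 => hz1 (Subtype.ext ?_)
    have h0 : f 1 = 0 := by simpa using hadd 1 P.one_mem 1 P.one_mem
    exact hb.2.1 (W₂_le h hz) P.one_mem (e0.trans h0.symm)
  have hs1 : s = 1 := by
    rw [← hxs]
    exact Units.ext ((hψ1 x x.2).2 hxC)
  rw [hs1, orderOf_one] at hs
  exact hr.one_lt.ne hs

end CfsgLib.OddOrder.Singer
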