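import Cfsg.Agent.OddOrder.PF10.SingerSetting
import Cfsg.Agent.OddOrder.PF10.SingerField

/-!
# The case in which `U` is reducible on `P`: `P` is the sum of `a` lines permuted by `W₁`
-/

set_option autoImplicit false
set_option linter.style.haveILetI false
set_option linter.unusedSectionVars false

namespace CfsgLib.OddOrder.Singer

open Subgroup CfsgLib
open scoped commutatorElement

universe u

variable {G : Type u} [Group G] [Finite G] {P U W₁ W₂ : Subgroup G}
variable (h : SingerSetting P U W₁ W₂)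
include h

theorem card_sup_of_le_P {A B : Subgroup G} (hA : A ≤ P) (hB : B ≤ P) (hAB : A ⊓ B = ⊥) :
    Nat.card ↥(A ⊔ B) = Nat.card A * Nat.card B := by
  refine Coprime.card_sup_eq (fun y hy => mem_normalizer_iff.2 fun t => ?_) hAB
  constructor
  · intro ht
    rwa [commP h (hB hy) (hA ht), mul_inv_cancel_right]
  · intro ht
    have e : y * t * y⁻¹ = t := by
      calc y * t * y⁻¹ = y⁻¹ * (y * t * y⁻¹ * y) := by
            rw [commP h (hA ht) (hB hy)]; group
        _ = t := by group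
    rwa [e] at ht

theorem normalizer_map_conj {L : Subgroup G} (hL : U ≤ normalizer (L : Set G)) {w : G}
    (hw : w ∈ W₁) : U ≤ normalizer ((L.map (MulAut.conj w).toMonoidHom : Subgroup G) : Set G) := by
  refine le_normalizer_of_conj ?_
  rintro n hn _ ⟨t, ht, rfl⟩
  have hn' : w⁻¹ * n * w ∈ U := ((mem_normalizer_iff'').1 (h.norm₁U hw) n).1 hn
  refine ⟨w⁻¹ * n * w * t * (w⁻¹ * n * w)⁻¹, (mem_normalizer_iff.1 (hL hn') t).1 ht, ?_⟩
  simp only [MulEquiv.coe_toMonoidHom, MulAut.conj_apply]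
  group

/-- In the reducible case `P` is spanned by the conjugates of a line invariant under `U`. -/
theorem exists_line (hred : ¬ IsUIrreducible P U) :
    ∃ L : Subgroup G, L ≤ P ∧ Nat.card L = Nat.card W₂ ∧ U ≤ normalizer (L : Set G) ∧
      ⨆ w : W₁, L.map (MulAut.conj (w : G)).toMonoidHom = P := by
  classical
  haveI := Fact.mk h.prime₂
  haveI := Fintype.ofFinite W₁
  set Q : Set (Subgroup G) := {V | V ≤ P ∧ U ≤ normalizer (V : Set G) ∧ V ≠ ⊥}
  simp only [IsUIrreducible, not_forall, not_or] at hred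
  obtain ⟨V₀, hV₀, hV₀U, hV₀1, hV₀P⟩ := hred
  obtain ⟨L, hLQ, hmin⟩ := Set.exists_min_image Q (fun V => Nat.card V) Q.toFinite
    ⟨V₀, hV₀, hV₀U, hV₀1⟩
  obtain ⟨hLP, hLU, hL1⟩ := hLQ
  set Lw : W₁ → Subgroup G := fun w => L.map (MulAut.conj (w : G)).toMonoidHom
  have hLwP : ∀ w, Lw w ≤ P := by
    rintro w _ ⟨t, ht, rfl⟩
    exact (mem_normalizer_iff.1 (h.norm₁ w.2) t).1 (hLP ht)
  have hLwc : ∀ w, Nat.card (Lw w) = Nat.card L := fun w =>
    card_map_of_injective (MulAut.conj (w : G)).injective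
  have hLwU : ∀ w, U ≤ normalizer (Lw w : Set G) := fun w => normalizer_map_conj h hLU w.2
  -- the partial sums
  have hsum : ∀ s : Finset W₁, s.sup Lw ≤ P ∧ U ≤ normalizer ((s.sup Lw : Subgroup G) : Set G) ∧
      ∃ k, k ≤ s.card ∧ Nat.card ↥(s.sup Lw) = Nat.card L ^ k := by
    intro s
    induction s using Finset.induction_on with
    | empty =>
      refine ⟨by simp, ?_, 0, le_rfl, by simp⟩
      rw [Finset.sup_empty]
      exact le_normalizer_of_conj fun n _ g hg => by simp [mem_bot.1 hg]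
    | @insert w s hws ih =>
      obtain ⟨hsP, hsU, k, hk, hkc⟩ := ih
      rw [Finset.sup_insert]
      refine ⟨sup_le (hLwP w) hsP, ?_, ?_⟩
      · exact fun n hn => mem_normalizer_iff_map_conj_eq.2 <| by
          have h1 := mem_normalizer_iff_map_conj_eq.1 (hLwU w hn)
          have h2 := mem_normalizer_iff_map_conj_eq.1 (hsU hn)
          rw [Subgroup.map_sup, h1, h2]
      by_cases hle : Lw w ≤ s.sup Lw
      · exact ⟨k, hk.trans (Finset.card_le_card (Finset.subset_insert w s)),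
          by rw [sup_eq_right.2 hle, hkc]⟩
      · have hI : Lw w ⊓ s.sup Lw = ⊥ := by
          by_contra hne
          refine hle (inf_eq_left.1 (eq_of_le_of_card_ge inf_le_left ?_))
          rw [hLwc]
          exact hmin _ ⟨inf_le_left.trans (hLwP w),
            (le_inf (hLwU w) hsU).trans inf_normalizer_le_normalizer_inf, hne⟩
        exact ⟨k + 1, by rw [Finset.card_insert_of_notMem hws]; omega,
          by rw [card_sup_of_le_P h (hLwP w) hsP hI, hLwc, hkc, pow_succ, mul_comm]⟩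
  obtain ⟨-, hTU, k, hk, hkc⟩ := hsum Finset.univ
  have hTsup : Finset.univ.sup Lw = ⨆ w, Lw w := Finset.sup_univ_eq_iSup Lw
  rw [hTsup] at hTU hkc
  have hT : ⨆ w, Lw w = P := by
    refine (eq_of_invariant h (iSup_le hLwP) hTU ?_).resolve_left fun e => hL1 ?_
    · refine le_normalizer_of_conj fun n hn g hg => ?_
      have h1 : (⨆ w, Lw w).map (MulAut.conj n).toMonoidHom ≤ ⨆ w, Lw w := by
        rw [Subgroup.map_iSup]
        refine iSup_le fun w => ?_
        refine le_trans ?_ (le_iSup Lw (⟨n, hn⟩ * w))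
        rintro _ ⟨_, ⟨t, ht, rfl⟩, rfl⟩
        refine ⟨t, ht, ?_⟩
        simp only [MulEquiv.coe_toMonoidHom, MulAut.conj_apply, Subgroup.coe_mul]
        group
      exact h1 ⟨g, hg, rfl⟩
    · have h1 : Lw 1 ≤ ⊥ := e ▸ le_iSup Lw 1
      have h2 := hLwc 1
      rw [le_bot_iff.1 h1, Subgroup.card_bot] at h2
      exact Subgroup.card_eq_one.1 h2.symm
  refine ⟨L, hLP, ?_, hLU, hT⟩
  obtain ⟨d, -, hd⟩ := (Nat.dvd_prime_pow h.prime₂).1 (h.card_P ▸ card_dvd_of_le hLP)
  rw [hT, h.card_P, hd, ← pow_mul] at hkc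
  rcases h.prime₁.eq_one_or_self_of_dvd d
    ⟨k, Nat.pow_right_injective h.prime₂.two_le hkc⟩ with hd1 | hd1
  · rw [hd, hd1, pow_one]
  · exfalso
    have hlt := hmin V₀ ⟨hV₀, hV₀U, hV₀1⟩
    simp only [hd, hd1] at hlt
    exact hV₀P (eq_of_le_of_card_ge hV₀ (by rw [h.card_P]; exact hlt))

/-- The map `∏ L^w → P` is bijective. -/
theorem exists_line_equiv {L : Subgroup G} (hLP : L ≤ P) (hLc : Nat.card L = Nat.card W₂)
    (hT : ⨆ w : W₁, L.map (MulAut.conj (w : G)).toMonoidHom = P) [Fintype W₁] :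
    ∃ e : ((w : W₁) → ↥(L.map (MulAut.conj (w : G)).toMonoidHom)) ≃* P,
      ∀ [DecidableEq W₁] (w : W₁) (t : ↥(L.map (MulAut.conj (w : G)).toMonoidHom)),
        (e (Pi.mulSingle w t) : G) = t := by
  classical
  set H : W₁ → Subgroup G := fun w => L.map (MulAut.conj (w : G)).toMonoidHom
  have hHP : ∀ w, H w ≤ P := fun w => hT ▸ le_iSup H w
  have hHc : ∀ w, Nat.card (H w) = Nat.card W₂ := fun w =>
    (card_map_of_injective (f := (MulAut.conj (w : G)).toMonoidHom)
      (MulAut.conj (w : G)).injective).trans hLc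
  have hcomm : Pairwise fun i j => ∀ (x : H i) (y : H j),
      Commute ((H i).subtype x) ((H j).subtype y) :=
    fun i j _ x y => commP h (hHP i x.2) (hHP j y.2)
  let φ := MonoidHom.noncommPiCoprod (fun w => (H w).subtype) hcomm
  have hr : φ.range = P := by
    rw [MonoidHom.noncommPiCoprod_range]
    simp only [range_subtype]
    exact hT
  have hinj : Function.Injective φ := by
    have h1 : Nat.card ((w : W₁) → H w) = Nat.card φ.range := by
      rw [hr, h.card_P, Nat.card_pi]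
      rw [Finset.prod_congr rfl fun w _ => hHc w, Finset.prod_const, Finset.card_univ,
        ← Nat.card_eq_fintype_card]
    have h2 : Function.Surjective φ.rangeRestrict := φ.rangeRestrict_surjective
    haveI : Finite ((w : W₁) → H w) := Pi.finite
    intro x y e
    exact ((Nat.bijective_iff_surjective_and_card φ.rangeRestrict).2 ⟨h2, h1⟩).1 (Subtype.ext e)
  refine ⟨(MonoidHom.ofInjective hinj).trans (MulEquiv.subgroupCongr hr), ?_⟩
  intro _ w t
  change φ (Pi.mulSingle w t) = t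
  refine Eq.trans ?_ (rfl : (H w).subtype t = (t : G))
  convert MonoidHom.noncommPiCoprod_mulSingle (fun w => (H w).subtype) w t

/-- In the reducible case at least `(b - 1) ^ a` characters have stabiliser `C`. -/
theorem pow_le_card_regular_of_reducible (hred : ¬ IsUIrreducible P U) :
    (Nat.card W₂ - 1) ^ Nat.card W₁ ≤ Nat.card {lam : P →* ℂˣ //
      ∀ x ∈ U, FixesChar P lam x → x ∈ U ⊓ centralizer (P : Set G)} := by
  classical
  haveI := Fact.mk h.prime₂
  haveI := Fintype.ofFinite W₁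
  obtain ⟨L, hLP, hLc, hLU, hT⟩ := exists_line h hred
  obtain ⟨e, he⟩ := exists_line_equiv h hLP hLc hT
  set H : W₁ → Subgroup G := fun w => L.map (MulAut.conj (w : G)).toMonoidHom
  have hHP : ∀ w, H w ≤ P := fun w => hT ▸ le_iSup H w
  have hHc : ∀ w, Nat.card (H w) = Nat.card W₂ := fun w =>
    (card_map_of_injective (f := (MulAut.conj (w : G)).toMonoidHom)
      (MulAut.conj (w : G)).injective).trans hLc
  haveI : ∀ w, IsCyclic (H w) := fun w => isCyclic_of_prime_card (hHc w)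
  letI : ∀ w, CommGroup (H w) := fun w => IsCyclic.commGroup
  letI : CommGroup P := { (inferInstance : Group P) with
    mul_comm := fun p q => Subtype.ext (commP h p.2 q.2) }
  haveI : Finite (P →* ℂˣ) := Nat.finite_of_card_ne_zero
    (by rw [CommGroup.card_monoidHom_of_hasEnoughRootsOfUnity P ℂ]; exact Nat.card_pos.ne')
  let mk : ((w : W₁) → {μ : H w →* ℂˣ // μ ≠ 1}) → (P →* ℂˣ) := fun F =>
    (∏ w, (F w).1.comp (Pi.evalMonoidHom (fun w => ↥(H w)) w)).comp e.symm.toMonoidHom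
  have hmk : ∀ F w (t : H w), mk F ⟨t, hHP w t.2⟩ = (F w).1 t := by
    intro F w t
    have h1 : e.symm ⟨t, hHP w t.2⟩ = Pi.mulSingle w t :=
      e.injective (by rw [MulEquiv.apply_symm_apply]; exact Subtype.ext (he w t).symm)
    simp only [mk, MonoidHom.comp_apply, MulEquiv.coe_toMonoidHom, h1, MonoidHom.finsetProd_apply,
      Pi.evalMonoidHom_apply]
    rw [Finset.prod_eq_single w (fun v _ hvw => by rw [Pi.mulSingle_eq_of_ne hvw, map_one])
      (by simp), Pi.mulSingle_eq_same]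
  have hcard : Nat.card ((w : W₁) → {μ : H w →* ℂˣ // μ ≠ 1}) =
      (Nat.card W₂ - 1) ^ Nat.card W₁ := by
    have hμ : ∀ w, Nat.card {μ : H w →* ℂˣ // μ ≠ 1} = Nat.card W₂ - 1 := by
      intro w
      haveI : Finite (H w →* ℂˣ) := Nat.finite_of_card_ne_zero
        (by rw [CommGroup.card_monoidHom_of_hasEnoughRootsOfUnity (H w) ℂ]; exact Nat.card_pos.ne')
      haveI := Fintype.ofFinite (H w →* ℂˣ)
      rw [Nat.card_eq_fintype_card, Fintype.card_subtype_compl, Fintype.card_subtype_eq,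
        ← Nat.card_eq_fintype_card, CommGroup.card_monoidHom_of_hasEnoughRootsOfUnity (H w) ℂ, hHc]
    rw [Nat.card_pi, Finset.prod_congr rfl fun w _ => hμ w, Finset.prod_const,
      Finset.card_univ, ← Nat.card_eq_fintype_card]
  rw [← hcard]
  refine Nat.card_le_card_of_injective (fun F => ⟨mk F, fun x hx hfx => ?_⟩) fun F F' e' => ?_
  · rw [mem_centU_iff h hx]
    intro z hz
    have key : ∀ w, ∀ t ∈ H w, x * t * x⁻¹ = t := by
      intro w t ht
      have hxt : x * t * x⁻¹ ∈ H w :=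
        (mem_normalizer_iff.1 (normalizer_map_conj h hLU w.2 hx) t).1 ht
      have h1 := hfx ⟨t, hHP w ht⟩ ⟨_, hHP w hxt⟩ rfl
      rw [hmk F w ⟨t, ht⟩, hmk F w ⟨_, hxt⟩] at h1
      have hinj : Function.Injective (F w).1 := by
        rw [← MonoidHom.ker_eq_bot_iff]
        haveI := Fact.mk ((hHc w).symm ▸ h.prime₂ : (Nat.card (H w)).Prime)
        rcases Subgroup.eq_bot_or_eq_top_of_prime_card (F w).1.ker with hk | hk
        · exact hk
        · exact absurd (MonoidHom.ext fun s => MonoidHom.mem_ker.1 (hk.ge (mem_top s))) (F w).2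
      exact congrArg Subtype.val (hinj h1)
    have hle : ⨆ w, H w ≤ centralizer ({x} : Set G) := iSup_le fun w t ht =>
      mem_centralizer_singleton_iff.2 (mul_inv_eq_iff_eq_mul.1 (key w t ht)).symm
    exact mul_inv_eq_iff_eq_mul.2 (mem_centralizer_singleton_iff.1 (hle (hT.ge hz))).symm
  · funext w
    refine Subtype.ext (MonoidHom.ext fun t => ?_)
    rw [← hmk F w t, ← hmk F' w t]
    exact DFunLike.congr_fun (congrArg Subtype.val e') _

/-- The scalars by which `U` acts on the lines. -/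
theorem exists_scalars (hred : ¬ IsUIrreducible P U) :
    ∃ (L : Subgroup G) (Φ : U →* ({w : W₁ // w ≠ 1} → (powMonoidHom ((Nat.card W₂ - 1) / 2) :
        (ZMod (Nat.card W₂))ˣ →* (ZMod (Nat.card W₂))ˣ).ker)),
      Φ.ker = (U ⊓ centralizer (P : Set G)).subgroupOf U ∧ L ≤ P ∧ Nat.card L = Nat.card W₂ ∧
      ∀ (x : U) (w : {w : W₁ // w ≠ 1}), Φ x w = 1 → ∀ t ∈ L,
        (x : G) * (((w : W₁) : G) * t * ((w : W₁) : G)⁻¹) * (x : G)⁻¹ =
          ((w : W₁) : G) * t * ((w : W₁) : G)⁻¹ := by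
  classical
  haveI := Fact.mk h.prime₂
  haveI := Fintype.ofFinite W₁
  obtain ⟨L, hLP, hLc, hLU, hT⟩ := exists_line h hred
  haveI : IsCyclic L := isCyclic_of_prime_card hLc
  let χ : U →* (ZMod (Nat.card L))ˣ := (IsCyclic.mulAutMulEquiv L).toMonoidHom.comp
    ((normalizerMonoidHom L).comp (Subgroup.inclusion hLU))
  have hχ : ∀ x : U, χ x = 1 → ∀ t ∈ L, (x : G) * t * (x : G)⁻¹ = t := by
    intro x hx t ht
    have h1 : normalizerMonoidHom L (Subgroup.inclusion hLU x) = 1 :=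
      (map_eq_one_iff _ (IsCyclic.mulAutMulEquiv L).injective).1 hx
    exact congrArg Subtype.val (DFunLike.congr_fun h1 ⟨t, ht⟩)
  have hχ' : ∀ x : U, (∀ t ∈ L, (x : G) * t * (x : G)⁻¹ = t) → χ x = 1 := by
    intro x hx
    have h1 : normalizerMonoidHom L (Subgroup.inclusion hLU x) = 1 :=
      MulEquiv.ext fun t => Subtype.ext (hx t t.2)
    change IsCyclic.mulAutMulEquiv L (normalizerMonoidHom L (Subgroup.inclusion hLU x)) = 1
    rw [h1, map_one]
  -- twists by `W₁`
  let tw : W₁ → U →* U := fun w => MonoidHom.mk'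
    (fun x => ⟨(w : G)⁻¹ * x * w, ((mem_normalizer_iff'').1 (h.norm₁U w.2) x).1 x.2⟩)
    fun p q => Subtype.ext (by
      change (w : G)⁻¹ * (p * q) * w = ((w : G)⁻¹ * p * w) * ((w : G)⁻¹ * q * w); group)
  let e : (ZMod (Nat.card L))ˣ ≃* (ZMod (Nat.card W₂))ˣ :=
    Units.mapEquiv (ZMod.ringEquivCongr hLc).toMulEquiv
  let η : W₁ → U →* (ZMod (Nat.card W₂))ˣ := fun w => e.toMonoidHom.comp (χ.comp (tw w))
  have hη : ∀ (x : U) (w : W₁), η w x = 1 ↔ ∀ t ∈ L,
      (x : G) * ((w : G) * t * (w : G)⁻¹) * (x : G)⁻¹ = (w : G) * t * (w : G)⁻¹ := by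
    intro x w
    have h1 : η w x = 1 ↔ χ (tw w x) = 1 := map_eq_one_iff _ e.injective
    rw [h1]
    refine ⟨fun e1 t ht => ?_, fun hh => hχ' _ fun t ht => ?_⟩
    · have h2 : (w : G)⁻¹ * x * w * t * ((w : G)⁻¹ * x * w)⁻¹ = t := hχ _ e1 t ht
      calc _ = (w : G) * ((w : G)⁻¹ * x * w * t * ((w : G)⁻¹ * x * w)⁻¹) * (w : G)⁻¹ := by group
        _ = _ := by rw [h2]
    · change (w : G)⁻¹ * x * w * t * ((w : G)⁻¹ * x * w)⁻¹ = t
      calc _ = (w : G)⁻¹ * ((x : G) * ((w : G) * t * (w : G)⁻¹) * (x : G)⁻¹) * w := by group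
        _ = t := by rw [hh t ht]; group
  -- the product over `W₁` is trivial
  have hprod : ∀ x : U, (∏ w, η w) x = 1 := by
    set K := (∏ w, η w).ker.map U.subtype
    have hinvK : ∀ v ∈ W₁, ∀ x : U, ∀ hm : v * (x : G) * v⁻¹ ∈ U,
        (∏ w, η w) ⟨v * x * v⁻¹, hm⟩ = (∏ w, η w) x := by
      intro v hv x hm
      rw [MonoidHom.finsetProd_apply, MonoidHom.finsetProd_apply]
      refine (Equiv.prod_comp (Equiv.mulLeft (⟨v, hv⟩ : W₁))
        fun w => η w (⟨v * x * v⁻¹, hm⟩ : U)).symm.trans ?_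
      refine Finset.prod_congr rfl fun w _ => congrArg (e.toMonoidHom.comp χ) (Subtype.ext ?_)
      change (v * w : G)⁻¹ * (v * x * v⁻¹) * (v * w) = (w : G)⁻¹ * x * w
      group
    have hKW : W₁ ≤ normalizer (K : Set G) := le_normalizer_of_conj fun v hv g hg => by
      obtain ⟨x, hx, rfl⟩ := hg
      exact ⟨⟨v * x * v⁻¹, (mem_normalizer_iff.1 (h.norm₁U hv) x).1 x.2⟩,
        (hinvK v hv x _).trans hx, rfl⟩
    intro x
    obtain ⟨y, hy, hyx⟩ := mem_of_fixed_coset h (map_subtype_le _) hKW x.2 fun v hv => by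
      refine ⟨x⁻¹ * ⟨v * x * v⁻¹, (mem_normalizer_iff.1 (h.norm₁U hv) x).1 x.2⟩, ?_, rfl⟩
      show (∏ w, η w) _ = 1
      rw [map_mul, map_inv, hinvK v hv x, inv_mul_cancel]
    rw [← Subtype.ext (a1 := y) (a2 := x) hyx]
    exact hy
  -- the values have order dividing `(b - 1) / 2`
  have hval : ∀ (x : U) (w : W₁), η w x ^ ((Nat.card W₂ - 1) / 2) = 1 := by
    intro x w
    refine orderOf_dvd_iff_pow_eq_one.1 ?_
    have h1 : orderOf (η w x) ∣ Nat.card U :=
      (orderOf_map_dvd (η w) x).trans (orderOf_dvd_natCard x)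
    have h2 : orderOf (η w x) ∣ 2 * ((Nat.card W₂ - 1) / 2) := by
      obtain ⟨m, hm⟩ := h.prime₂.odd_of_ne_two h.ne_two₂
      rw [show 2 * ((Nat.card W₂ - 1) / 2) = Nat.card W₂ - 1 by omega]
      exact orderOf_dvd_of_pow_eq_one (ZMod.units_pow_card_sub_one_eq_one _ _)
    exact (Nat.Coprime.coprime_dvd_left h1 (Nat.coprime_two_right.2 h.odd_U)).dvd_of_dvd_mul_left h2
  refine ⟨L, MonoidHom.pi fun w => (η (w : W₁)).codRestrict _ fun x => hval x w, ?_, hLP, hLc, ?_⟩
  · ext x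
    rw [MonoidHom.mem_ker, mem_subgroupOf, mem_centU_iff h x.2]
    refine ⟨fun hx z hz => ?_, fun hx => ?_⟩
    · have hall : ∀ w : W₁, η w x = 1 := by
        intro w
        have h1 : ∀ v : W₁, v ≠ 1 → η v x = 1 := fun v hv =>
          congrArg Subtype.val (congrFun hx ⟨v, hv⟩)
        by_cases hw : w = 1
        · subst hw
          have h2 := hprod x
          rw [MonoidHom.finsetProd_apply, Finset.prod_eq_single (1 : W₁)
            (fun v _ hv => h1 v hv) (by simp)] at h2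
          exact h2
        · exact h1 w hw
      have hle : ⨆ w : W₁, L.map (MulAut.conj (w : G)).toMonoidHom ≤
          centralizer ({(x : G)} : Set G) := iSup_le fun w => by
        rintro _ ⟨t, ht, rfl⟩
        exact mem_centralizer_singleton_iff.2
          (mul_inv_eq_iff_eq_mul.1 ((hη x w).1 (hall w) t ht)).symm
      exact mul_inv_eq_iff_eq_mul.2 (mem_centralizer_singleton_iff.1 (hle (hT.ge hz))).symm
    · funext w
      refine Subtype.ext ((hη x _).2 fun t ht => hx _ ?_)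
      exact (mem_normalizer_iff.1 (h.norm₁ (w : W₁).2) t).1 (hLP ht)
  · intro x w e1
    exact (hη x _).1 (congrArg Subtype.val e1)

/-- In the reducible case `|U : C|` divides `((b - 1) / 2) ^ (a - 1)`; with equality some element
outside `C` has a fixed point. -/
theorem relIndex_of_reducible (hred : ¬ IsUIrreducible P U) :
    (U ⊓ centralizer (P : Set G)).relIndex U ∣
        ((Nat.card W₂ - 1) / 2) ^ (Nat.card W₁ - 1) ∧
      ((U ⊓ centralizer (P : Set G)).relIndex U = ((Nat.card W₂ - 1) / 2) ^ (Nat.card W₁ - 1) →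
        ∃ x ∈ U, x ∉ centralizer (P : Set G) ∧ P ⊓ centralizer ({x} : Set G) ≠ ⊥) := by
  classical
  haveI := Fact.mk h.prime₂
  haveI := Fintype.ofFinite W₁
  set m := (Nat.card W₂ - 1) / 2 with hm0
  set M := (powMonoidHom m : (ZMod (Nat.card W₂))ˣ →* (ZMod (Nat.card W₂))ˣ).ker with hM0
  obtain ⟨L, Φ, hker, hLP, hLc, hfix⟩ : ∃ (L : Subgroup G) (Φ : U →* ({w : W₁ // w ≠ 1} → M)),
      Φ.ker = (U ⊓ centralizer (P : Set G)).subgroupOf U ∧ L ≤ P ∧ Nat.card L = Nat.card W₂ ∧
      ∀ (x : U) (w : {w : W₁ // w ≠ 1}), Φ x w = 1 → ∀ t ∈ L,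
        (x : G) * (((w : W₁) : G) * t * ((w : W₁) : G)⁻¹) * (x : G)⁻¹ =
          ((w : W₁) : G) * t * ((w : W₁) : G)⁻¹ := exists_scalars h hred
  have hM : Nat.card M = m := by
    rw [IsCyclic.card_powMonoidHom_ker, Nat.card_units, Nat.card_zmod]
    refine Nat.gcd_eq_right ⟨2, ?_⟩
    obtain ⟨j, hj⟩ := h.prime₂.odd_of_ne_two h.ne_two₂
    simp only [m]
    omega
  have hpi : Nat.card ({w : W₁ // w ≠ 1} → M) = m ^ (Nat.card W₁ - 1) := by
    rw [Nat.card_fun, hM]
    congr 1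
    rw [Nat.card_eq_fintype_card, Fintype.card_subtype_compl, Fintype.card_subtype_eq,
      Nat.card_eq_fintype_card]
  have hu : (U ⊓ centralizer (P : Set G)).relIndex U = Nat.card Φ.range := by
    rw [← Subgroup.index_ker, hker]; rfl
  rw [hu, ← hpi]
  refine ⟨Φ.range.card_subgroup_dvd_card, fun heq => ?_⟩
  have hsurj : Function.Surjective Φ := MonoidHom.range_eq_top.1 ((card_eq_iff_eq_top _).1 heq)
  -- `m > 1`, and there are two indices
  have hm : 1 < m := by
    by_contra hle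
    have h1 := one_lt_relIndex h
    rw [hu, heq, hpi] at h1
    interval_cases m
    · rw [zero_pow] at h1
      · exact Nat.not_lt_zero _ h1
      · have := h.prime₁.two_le; omega
    · simp at h1
  haveI : Nontrivial M := (Finite.one_lt_card_iff_nontrivial (α := M)).1 (hM.symm ▸ hm)
  obtain ⟨g, hg⟩ := exists_ne (1 : M)
  have h3 : 2 < Nat.card W₁ := lt_of_le_of_ne h.prime₁.two_le (Ne.symm h.ne_two₁)
  have h2 : 1 < Fintype.card {w : W₁ // w ≠ 1} := by
    rw [Fintype.card_subtype_compl, Fintype.card_subtype_eq, ← Nat.card_eq_fintype_card]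
    omega
  obtain ⟨w₀, w₁, hne⟩ := Fintype.exists_pair_of_one_lt_card h2
  obtain ⟨x, hx⟩ := hsurj (fun w => if w = w₀ then 1 else g)
  refine ⟨x, x.2, fun hxC => hg ?_, fun hbot => ?_⟩
  · have h4 : x ∈ Φ.ker := by rw [hker, mem_subgroupOf]; exact ⟨x.2, hxC⟩
    have h5 := congrFun h4 w₁
    rw [hx] at h5
    simp only [if_neg (Ne.symm hne)] at h5
    exact h5
  · haveI : Nontrivial L := (Finite.one_lt_card_iff_nontrivial (α := L)).1
      (hLc.symm ▸ h.prime₂.one_lt)
    obtain ⟨⟨t, ht⟩, ht1⟩ := exists_ne (1 : L)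
    have h6 := hfix x w₀ (by rw [hx]; exact if_pos rfl) t ht
    have h7 : ((w₀ : W₁) : G) * t * ((w₀ : W₁) : G)⁻¹ ∈ P ⊓ centralizer ({(x : G)} : Set G) :=
      ⟨(mem_normalizer_iff.1 (h.norm₁ (w₀ : W₁).2) t).1 (hLP ht),
        mem_centralizer_singleton_iff.2 (mul_inv_eq_iff_eq_mul.1 h6).symm⟩
    rw [hbot, mem_bot, conj_eq_one_iff] at h7
    exact ht1 (Subtype.ext h7)

end CfsgLib.OddOrder.Singer
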