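import Cfsg.Agent.OddOrder.AppCFinal
import Cfsg.Agent.OddOrder.PF10.SingerNumber
import Cfsg.Agent.OddOrder.PF10.SingerField
import Cfsg.Agent.OddOrder.PF10.SingerSplit

/-!
# The action of `U W₁` on an elementary group of order `b ^ a`: the dichotomy, and Appendix C

With `C = C_U(P)` and `u = |U : C|`: either `U` is irreducible on `P`, and then it is free modulo
`C`, `u` divides `(b ^ a - 1) / (b - 1)` and every nonprincipal character has stabiliser `C`; or
`P` is a sum of lines permuted by `W₁`, and then `u` divides `((b - 1) / 2) ^ (a - 1)`.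
-/

set_option autoImplicit false
set_option linter.style.haveILetI false
set_option linter.unusedSectionVars false

namespace CfsgLib.OddOrder.Singer

open Subgroup CfsgLib

universe u

variable {G : Type u} [Group G] [Finite G] {P U W₁ W₂ : Subgroup G}

/-- `u = |U : C_U(P)|`. -/
noncomputable abbrev uIndex (P U : Subgroup G) : ℕ :=
  (U ⊓ centralizer (P : Set G)).relIndex U

/-- The number `(b ^ a - 1) / (b - 1)`. -/
noncomputable abbrev singerNum (W₁ W₂ : Subgroup G) : ℕ :=
  (Nat.card W₂ ^ Nat.card W₁ - 1) / (Nat.card W₂ - 1)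

variable (h : SingerSetting P U W₁ W₂)
include h

theorem finite_chars : Finite (P →* ℂˣ) := by
  letI : CommGroup P := { (inferInstance : Group P) with
    mul_comm := fun p q => Subtype.ext (commP h p.2 q.2) }
  exact Nat.finite_of_card_ne_zero
    (by rw [CommGroup.card_monoidHom_of_hasEnoughRootsOfUnity P ℂ]; exact Nat.card_pos.ne')

theorem card_chars : Nat.card (P →* ℂˣ) = Nat.card W₂ ^ Nat.card W₁ := by
  letI : CommGroup P := { (inferInstance : Group P) with
    mul_comm := fun p q => Subtype.ext (commP h p.2 q.2) }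
  rw [CommGroup.card_monoidHom_of_hasEnoughRootsOfUnity P ℂ, h.card_P]

/-- The dichotomy. -/
theorem dichotomy :
    ((∀ x ∈ U, x ∉ centralizer (P : Set G) → P ⊓ centralizer ({x} : Set G) = ⊥) ∧
      uIndex P U ∣ singerNum W₁ W₂ ∧ Odd (singerNum W₁ W₂ / uIndex P U) ∧
      ∀ lam : P →* ℂˣ, lam ≠ 1 → ∀ x ∈ U, FixesChar P lam x → x ∈ U ⊓ centralizer (P : Set G)) ∨
    (uIndex P U ∣ ((Nat.card W₂ - 1) / 2) ^ (Nat.card W₁ - 1) ∧
      2 ^ (Nat.card W₁ - 1) * uIndex P U ≤ (Nat.card W₂ - 1) ^ (Nat.card W₁ - 1) ∧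
      (Nat.card W₁ = 3 →
        (uIndex P U = ((Nat.card W₂ - 1) / 2) ^ 2 ∧
          ∃ x ∈ U, x ∉ centralizer (P : Set G) ∧ P ⊓ centralizer ({x} : Set G) ≠ ⊥) ∨
        2 * uIndex P U * 4 ≤ (Nat.card W₂ - 1) ^ 2)) := by
  by_cases hirr : IsUIrreducible P U
  · left
    have hd := relIndex_dvd_singer h hirr
    refine ⟨fun x hx hxC => free_of_irreducible h hirr hx fun hh => hxC hh.2, hd, ?_,
      fun lam hl x hx hf => mem_of_fixesChar_of_irreducible h hirr hl hx hf⟩
    exact (odd_singer h.prime₂ h.ne_two₂ (h.prime₁.odd_of_ne_two h.ne_two₁)).of_dvd_nat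
      (Nat.div_dvd_of_dvd hd)
  · right
    obtain ⟨hd, heq⟩ := relIndex_of_reducible h hirr
    have hm2 : 2 * ((Nat.card W₂ - 1) / 2) = Nat.card W₂ - 1 := by
      obtain ⟨j, hj⟩ := h.prime₂.odd_of_ne_two h.ne_two₂
      omega
    have hmpos : 0 < (Nat.card W₂ - 1) / 2 := by
      have := h.prime₂.two_le
      have := h.ne_two₂
      omega
    have hle := Nat.le_of_dvd (pow_pos hmpos _) hd
    refine ⟨hd, ?_, fun h3 => ?_⟩
    · calc 2 ^ (Nat.card W₁ - 1) * uIndex P U
          ≤ 2 ^ (Nat.card W₁ - 1) * ((Nat.card W₂ - 1) / 2) ^ (Nat.card W₁ - 1) :=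
            Nat.mul_le_mul_left _ hle
        _ = (Nat.card W₂ - 1) ^ (Nat.card W₁ - 1) := by rw [← mul_pow, hm2]
    by_cases e : uIndex P U = ((Nat.card W₂ - 1) / 2) ^ 2
    · exact Or.inl ⟨e, heq (by rw [h3]; exact e)⟩
    · right
      rw [h3] at hd
      obtain ⟨c, hc⟩ := hd
      have hc2 : 2 ≤ c := by
        rcases c with _ | _ | c
        · simp only [mul_zero] at hc
          exact absurd hc (pow_pos hmpos 2).ne'
        · exact absurd (by rw [hc]; simp) e
        · omega
      calc 2 * uIndex P U * 4 ≤ c * uIndex P U * 4 :=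
            Nat.mul_le_mul_right _ (Nat.mul_le_mul_right _ hc2)
        _ = 4 * (uIndex P U * c) := by ring
        _ = 4 * ((Nat.card W₂ - 1) / 2) ^ 2 := by rw [← hc]
        _ = (2 * ((Nat.card W₂ - 1) / 2)) ^ 2 := by ring
        _ = (Nat.card W₂ - 1) ^ 2 := by rw [hm2]

/-- In both cases at least `(b - 1) ^ a` characters have stabiliser `C`. -/
theorem pow_le_card_regular :
    (Nat.card W₂ - 1) ^ Nat.card W₁ ≤ Nat.card {lam : P →* ℂˣ //
      ∀ x ∈ U, FixesChar P lam x → x ∈ U ⊓ centralizer (P : Set G)} := by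
  by_cases hirr : IsUIrreducible P U
  · classical
    haveI := finite_chars h
    haveI := Fintype.ofFinite (P →* ℂˣ)
    refine le_trans ?_ (Nat.card_le_card_of_injective
      (fun l : {lam : P →* ℂˣ // lam ≠ 1} => (⟨l.1, fun x hx hf =>
        mem_of_fixesChar_of_irreducible h hirr l.2 hx hf⟩ : {lam : P →* ℂˣ //
          ∀ x ∈ U, FixesChar P lam x → x ∈ U ⊓ centralizer (P : Set G)}))
      (fun p q e => by simp only [Subtype.mk.injEq] at e; exact Subtype.ext e))
    rw [Nat.card_eq_fintype_card (α := {lam : P →* ℂˣ // lam ≠ 1}), Fintype.card_subtype_compl,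
      Fintype.card_subtype_eq, ← Nat.card_eq_fintype_card, card_chars h]
    have h1 : (Nat.card W₂ - 1) ^ Nat.card W₁ < Nat.card W₂ ^ Nat.card W₁ :=
      Nat.pow_lt_pow_left (by have := h.prime₂.two_le; omega) h.prime₁.ne_zero
    omega
  · exact pow_le_card_regular_of_reducible h hirr

/-- The characters fixed by `W₁` other than `1` have stabiliser `C`; there are `b - 1` of them. -/
theorem card_fixed_chars_ne_one :
    Nat.card {lam : P →* ℂˣ // lam ≠ 1 ∧ ∀ w ∈ W₁, FixesChar P lam w} = Nat.card W₂ - 1 := by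
  classical
  haveI := finite_chars h
  haveI := Fintype.ofFinite (P →* ℂˣ)
  rw [← card_fixed_chars h, Nat.card_eq_fintype_card, Nat.card_eq_fintype_card,
    Fintype.card_subtype, Fintype.card_subtype]
  rw [← Finset.card_erase_of_mem (s := Finset.univ.filter
    (fun lam : P →* ℂˣ => ∀ w ∈ W₁, FixesChar P lam w)) (a := 1)]
  · congr 1
    ext lam
    simp
  · simp [FixesChar]

/-- The final configuration of Appendix C gives `b ≤ a`. -/
theorem le_of_config (hC : U ⊓ centralizer (P : Set G) = ⊥)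
    (hU : Nat.card U * (Nat.card W₂ - 1) = Nat.card W₂ ^ Nat.card W₁ - 1)
    (hba : Nat.card W₂ % Nat.card W₁ ≠ 1) {Q : Subgroup G} (hQc : IsMulCommutative Q)
    (hQ : (Nat.card Q).Coprime (Nat.card W₂)) (hWQ : W₂ ≤ normalizer (Q : Set G)) {y : G}
    (hy : y ∈ Q) (hyU : W₂.map (MulAut.conj y).toMonoidHom ≤ normalizer (U : Set G)) :
    Nat.card W₂ ≤ Nat.card W₁ := by
  haveI := Fact.mk h.prime₁
  haveI := Fact.mk h.prime₂
  have hirr : IsUIrreducible P U := by
    by_contra hred
    obtain ⟨hd, -⟩ := relIndex_of_reducible h hred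
    rw [hC, relIndex_bot_left] at hd
    have hu : Nat.card U = singerNum W₁ W₂ :=
      Nat.eq_of_mul_eq_mul_right (by have := h.prime₂.two_le; omega)
        (hU.trans (singer_mul h.prime₂).symm)
    have hlt : ((Nat.card W₂ - 1) / 2) ^ (Nat.card W₁ - 1) < Nat.card U :=
      hu ▸ lt_of_lt_of_le (Nat.pow_lt_pow_left (by have := h.prime₂.two_le; omega)
        (by have := h.prime₁.two_le; omega)) (pow_pred_le_singer h.prime₂ h.prime₁.pos)
    have hmpos : 0 < (Nat.card W₂ - 1) / 2 := by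
      have := h.prime₂.two_le
      have := h.ne_two₂
      omega
    exact absurd (Nat.le_of_dvd (pow_pos hmpos _) hd) (not_le.2 hlt)
  obtain ⟨F, _, _, f, ψ, hF, hb, hadd, hψ, hmul, hψ1, hfix⟩ := exists_field h hirr
  refine AppC.le_of_final_configuration (Nat.card W₂) (Nat.card W₁)
    (coprime_singer h.prime₁ h.prime₂ hba) hF P U Q f ψ hb hadd h.normU hψ hmul ?_ hU hQc hQ
    (fun x hx e => hWQ ((hfix x hx).1 e)) y hy
    (fun x hx e => hyU ⟨x, (hfix x hx).1 e, rfl⟩)
  intro p hp q hq e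
  have h1 : ψ (p * q⁻¹) = 1 := by
    have h2 := hmul (p * q⁻¹) (U.mul_mem hp (U.inv_mem hq)) q hq
    rw [inv_mul_cancel_right] at h2; rw [e] at h2
    exact mul_right_cancel₀ (hψ q hq).1 (h2.symm.trans (one_mul _).symm)
  have h3 := (hψ1 _ (U.mul_mem hp (U.inv_mem hq))).1 h1
  rwa [hC, mem_bot, mul_inv_eq_one] at h3

end CfsgLib.OddOrder.Singer
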