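import Cfsg.Prelude.Def_Transfer
import Cfsg.Agent.Coprime.Action
import Cfsg.Agent.OddOrder.BG3.Wielandt
import Cfsg.Agent.OddOrder.BG7.Superset
import Mathlib.Analysis.Complex.Polynomial.Basic
import Mathlib.RingTheory.RootsOfUnity.EnoughRootsOfUnity

/-!
# A group `U W₁` acting on an elementary group `P` of order `b ^ a` (setting of PF 10-14)

`a = |W₁|` and `b = |W₂|` are primes, `W₂ = C_P(W₁)` and `W₁` acts freely on `U`.
-/

set_option autoImplicit false
set_option linter.style.haveILetI false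
set_option linter.unusedSectionVars false

namespace CfsgLib.OddOrder.Singer

open Subgroup CfsgLib CfsgLib.OddOrder
open scoped commutatorElement

universe u

variable {G : Type u} [Group G] [Finite G] {P U W₁ W₂ : Subgroup G}

/-- `λ` takes the same values at `z` and at `x z x⁻¹`. -/
def FixesChar (P : Subgroup G) (lam : P →* ℂˣ) (x : G) : Prop :=
  ∀ z z' : P, (z' : G) = x * z * x⁻¹ → lam z' = lam z

/-- The setting. -/
structure SingerSetting (P U W₁ W₂ : Subgroup G) : Prop where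
  prime₁ : (Nat.card W₁).Prime
  prime₂ : (Nat.card W₂).Prime
  ne_two₁ : Nat.card W₁ ≠ 2
  ne_two₂ : Nat.card W₂ ≠ 2
  ne : Nat.card W₁ ≠ Nat.card W₂
  odd_U : Odd (Nat.card U)
  coprime_U : (Nat.card U).Coprime (Nat.card W₂)
  elem : Cfsg.IsElementaryAbelian (Nat.card W₂) P
  card_P : Nat.card P = Nat.card W₂ ^ Nat.card W₁
  normU : U ≤ normalizer (P : Set G)
  norm₁ : W₁ ≤ normalizer (P : Set G)
  norm₁U : W₁ ≤ normalizer (U : Set G)
  fixed : W₂ = P ⊓ centralizer (W₁ : Set G)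
  free : ∀ w ∈ W₁, w ≠ 1 → U ⊓ centralizer ({w} : Set G) = ⊥
  lt : U ⊓ centralizer (P : Set G) < U
  derived : ⁅U, U⁆ ≤ centralizer (P : Set G)

variable (h : SingerSetting P U W₁ W₂)
include h

theorem W₂_le : W₂ ≤ P := h.fixed ▸ inf_le_left

theorem commP {x y : G} (hx : x ∈ P) (hy : y ∈ P) : x * y = y * x := by
  haveI := h.elem.1
  exact setLike_mul_comm (s := P) hx hy

theorem solvable_W₁ : Group.IsSolvable W₁ := by
  haveI := Fact.mk h.prime₁
  haveI : IsCyclic W₁ := isCyclic_of_prime_card (p := Nat.card W₁) rfl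
  exact Group.isSolvable_of_comm fun x y => IsCyclic.commutative.is_comm.comm x y

theorem U_inf_centralizer_W₁ : U ⊓ centralizer (W₁ : Set G) = ⊥ := by
  haveI := Fact.mk h.prime₁
  haveI : Nontrivial W₁ := (Finite.one_lt_card_iff_nontrivial (α := W₁)).1 h.prime₁.one_lt
  obtain ⟨⟨w, hw⟩, hw1⟩ := exists_ne (1 : W₁)
  refine le_bot_iff.1 ((h.free w hw fun e => hw1 (Subtype.ext e)).le.trans' ?_)
  exact inf_le_inf_left _ (centralizer_le (Set.singleton_subset_iff.2 hw))

/-- A `W₁`-invariant subgroup of `U` has order `≡ 1` modulo `a`. -/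
theorem card_modEq_one {K : Subgroup G} (hK : K ≤ U) (hKW : W₁ ≤ normalizer (K : Set G)) :
    Nat.card K ≡ 1 [MOD Nat.card W₁] := by
  haveI := Fact.mk h.prime₁
  letI : MulAction W₁ K :=
    { smul := fun w k => ⟨(w : G) * k * (w : G)⁻¹, (mem_normalizer_iff.1 (hKW w.2) k).1 k.2⟩
      one_smul := fun k => Subtype.ext (by change (1 : G) * k * (1 : G)⁻¹ = k; group)
      mul_smul := fun v w k => Subtype.ext (by
        change (v * w : G) * k * (v * w : G)⁻¹ = v * (w * k * (w : G)⁻¹) * (v : G)⁻¹; group) }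
  have hp : IsPGroup (Nat.card W₁) W₁ := IsPGroup.of_card (n := 1) (by rw [pow_one])
  refine (hp.card_modEq_card_fixedPoints K).trans ?_
  rw [show MulAction.fixedPoints W₁ K = {1} from ?_]
  · simp only [Nat.card_eq_fintype_card, Fintype.card_ofSubsingleton]; rfl
  refine Set.eq_singleton_iff_unique_mem.2 ⟨fun w => Subtype.ext ?_, fun k hk => ?_⟩
  · change (w : G) * 1 * (w : G)⁻¹ = 1; group
  have h1 : (k : G) ∈ U ⊓ centralizer (W₁ : Set G) := by
    refine ⟨hK k.2, mem_centralizer_iff.2 fun w hw => ?_⟩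
    exact mul_inv_eq_iff_eq_mul.1 (congrArg Subtype.val (hk ⟨w, hw⟩))
  exact Subtype.ext (mem_bot.1 (U_inf_centralizer_W₁ h ▸ h1))

theorem coprime_card_W₁ {K : Subgroup G} (hK : K ≤ U) (hKW : W₁ ≤ normalizer (K : Set G)) :
    (Nat.card W₁).Coprime (Nat.card K) := by
  refine h.prime₁.coprime_iff_not_dvd.2 fun hd => ?_
  have h1 := (card_modEq_one h hK hKW).symm.trans (Nat.modEq_zero_iff_dvd.2 hd)
  exact h.prime₁.one_lt.ne' (Nat.dvd_one.1 (Nat.modEq_zero_iff_dvd.1 h1))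

/-- A coset of an invariant subgroup of `U` fixed by `W₁` is the subgroup. -/
theorem mem_of_fixed_coset {K : Subgroup G} (hK : K ≤ U) (hKW : W₁ ≤ normalizer (K : Set G))
    {x : G} (hx : x ∈ U) (hfix : ∀ w ∈ W₁, x⁻¹ * (w * x * w⁻¹) ∈ K) : x ∈ K := by
  obtain ⟨c, hc, hcK⟩ := Coprime.exists_fixed_mem_coset hKW (coprime_card_W₁ h hK hKW)
    (Or.inl (solvable_W₁ h)) hfix
  have h1 : c ∈ U ⊓ centralizer (W₁ : Set G) :=
    ⟨by simpa using U.mul_mem hx (hK hcK), hc⟩
  rw [U_inf_centralizer_W₁ h, mem_bot] at h1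
  rw [h1, mul_one] at hcK
  simpa using inv_mem hcK

theorem centU_normalizer : W₁ ≤ normalizer ((U ⊓ centralizer (P : Set G) : Subgroup G) : Set G) :=
  le_trans (le_inf h.norm₁U (h.norm₁.trans (normalizer_le_normalizer_centralizer_subgroup P)))
    inf_normalizer_le_normalizer_inf

theorem relIndex_modEq_one :
    (U ⊓ centralizer (P : Set G)).relIndex U ≡ 1 [MOD Nat.card W₁] := by
  have h1 := card_modEq_one h inf_le_left (centU_normalizer h)
  have h2 := card_modEq_one h le_rfl h.norm₁U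
  have h3 := Subgroup.relIndex_mul_relIndex (⊥ : Subgroup G) (U ⊓ centralizer (P : Set G)) U
    bot_le inf_le_left
  rw [relIndex_bot_left, relIndex_bot_left] at h3
  rw [← h3] at h2
  simpa using ((h1.symm.mul_right _).trans h2)

theorem one_lt_relIndex : 1 < (U ⊓ centralizer (P : Set G)).relIndex U := by
  refine Nat.one_lt_iff_ne_zero_and_ne_one.2 ⟨ne_zero_of_dvd_ne_zero Nat.card_pos.ne' (relIndex_dvd_card _ _), fun e => ?_⟩
  exact h.lt.not_ge (relIndex_eq_one.1 e)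

theorem centralizer_sup (A B : Subgroup G) :
    centralizer ((A ⊔ B : Subgroup G) : Set G) =
      centralizer (A : Set G) ⊓ centralizer (B : Set G) := by
  refine le_antisymm (le_inf (centralizer_le (le_sup_left : A ≤ A ⊔ B))
    (centralizer_le (le_sup_right : B ≤ A ⊔ B))) ?_
  rw [le_centralizer_iff]
  exact sup_le (le_centralizer_iff.1 inf_le_left) (le_centralizer_iff.1 inf_le_right)

theorem fixed_formula {V : Subgroup G} (hV : V ≤ P) (hU : U ≤ normalizer (V : Set G))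
    (hW : W₁ ≤ normalizer (V : Set G)) :
    Nat.card ↥((V ⊓ centralizer (U : Set G)) ⊓ W₂) ^ Nat.card W₁ * Nat.card V =
      Nat.card ↥(V ⊓ W₂) ^ Nat.card W₁ * Nat.card ↥(V ⊓ centralizer (U : Set G)) := by
  have hb := Fact.mk h.prime₂
  have hdisj : U ⊓ W₁ = ⊥ :=
    Coprime.inf_eq_bot_of_coprime (coprime_card_W₁ h le_rfl h.norm₁U).symm
  have hcop : (Nat.card ↥(U ⊔ W₁)).Coprime (Nat.card V) := by
    rw [Coprime.card_sup_eq h.norm₁U hdisj]
    refine Nat.Coprime.coprime_dvd_right (card_dvd_of_le hV) ?_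
    rw [h.card_P]
    exact Nat.Coprime.pow_right _ (h.coprime_U.mul_left ((Nat.coprime_primes h.prime₁ h.prime₂).2 h.ne))
  have hsolv : Group.IsSolvable V :=
    Group.isSolvable_of_comm fun x y => Subtype.ext (commP h (hV x.2) (hV y.2))
  have key := frobenius_fixed_point_formula hdisj h.norm₁U
    (fun e he he1 x hx hc => mem_bot.1 (h.free e he he1 ▸
      (⟨hx, mem_centralizer_singleton_iff.2 hc.symm⟩ : x ∈ U ⊓ centralizer ({e} : Set G))))
    (sup_le hU hW) hsolv hcop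
  have e1 : V ⊓ centralizer (W₁ : Set G) = V ⊓ W₂ := by
    rw [h.fixed, ← inf_assoc, inf_eq_left.2 hV]
  rw [centralizer_sup h, e1] at key
  rw [show (V ⊓ centralizer (U : Set G)) ⊓ W₂ =
      V ⊓ (centralizer (U : Set G) ⊓ centralizer (W₁ : Set G)) by
    rw [h.fixed, inf_inf_inf_comm, inf_eq_left.2 hV]]
  exact key

theorem card_eq_or_of_le_W₂ {X : Subgroup G} (hX : X ≤ W₂) :
    Nat.card X = 1 ∨ Nat.card X = Nat.card W₂ :=
  h.prime₂.eq_one_or_self_of_dvd _ (card_dvd_of_le hX)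

theorem inf_centralizer_U : P ⊓ centralizer (U : Set G) = ⊥ := by
  have key := fixed_formula h le_rfl h.normU h.norm₁
  rw [inf_eq_right.2 (W₂_le h), h.card_P] at key
  rcases card_eq_or_of_le_W₂ h (inf_le_right :
    (P ⊓ centralizer (U : Set G)) ⊓ W₂ ≤ W₂) with hc | hc
  · rw [hc, one_pow, one_mul] at key
    refine Subgroup.card_eq_one.1 ?_
    exact mul_left_cancel₀ (pow_ne_zero (Nat.card W₁) h.prime₂.ne_zero)
      (key.symm.trans (mul_one _).symm)
  · rw [hc] at key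
    have h1 : Nat.card ↥(P ⊓ centralizer (U : Set G)) = Nat.card P := by
      rw [h.card_P]
      exact (mul_left_cancel₀ (pow_ne_zero (Nat.card W₁) h.prime₂.ne_zero) key).symm
    have h2 : P ≤ centralizer (U : Set G) :=
      (Subgroup.eq_of_le_of_card_ge inf_le_left h1.ge).ge.trans inf_le_right
    exact absurd (inf_eq_left.2 (le_centralizer_iff.1 h2)) h.lt.ne

/-- `P` has no proper nontrivial subgroup invariant under `U` and `W₁`. -/
theorem eq_of_invariant {V : Subgroup G} (hV : V ≤ P) (hU : U ≤ normalizer (V : Set G))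
    (hW : W₁ ≤ normalizer (V : Set G)) : V = ⊥ ∨ V = P := by
  have key := fixed_formula h hV hU hW
  have hz : V ⊓ centralizer (U : Set G) = ⊥ :=
    le_bot_iff.1 ((inf_le_inf_right _ hV).trans (inf_centralizer_U h).le)
  rw [hz, bot_inf_eq, Subgroup.card_bot, one_pow, one_mul, mul_one] at key
  rcases card_eq_or_of_le_W₂ h (inf_le_right : V ⊓ W₂ ≤ W₂) with hc | hc
  · rw [hc, one_pow] at key
    exact Or.inl (Subgroup.card_eq_one.1 key)
  · rw [hc, ← h.card_P] at key
    exact Or.inr (Subgroup.eq_of_le_of_card_ge hV key.ge)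

/-- A nontrivial character fixed by `W₁` is fixed only by `C` in `U`. -/
theorem mem_of_fixesChar_of_fixed {lam : P →* ℂˣ} (hne : lam ≠ 1)
    (hW : ∀ w ∈ W₁, FixesChar P lam w) {x : G} (hx : x ∈ U) (hfx : FixesChar P lam x) :
    x ∈ U ⊓ centralizer (P : Set G) := by
  set T : Set G := {g | ∃ y ∈ U, FixesChar P lam y ∧ ∃ z ∈ P, g = y * z * y⁻¹ * z⁻¹}
  have hT : T ⊆ P := by
    rintro g ⟨y, hy, -, z, hz, rfl⟩
    exact P.mul_mem ((mem_normalizer_iff.1 (h.normU hy) z).1 hz) (P.inv_mem hz)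
  have hinv : ∀ n : G, (∀ g ∈ T, n * g * n⁻¹ ∈ closure T) → ∀ g ∈ closure T,
      n * g * n⁻¹ ∈ closure T := fun n hn g hg => by
    induction hg using Subgroup.closure_induction with
    | mem g hg => exact hn g hg
    | one => simp
    | mul p q _ _ hp hq =>
      rw [show n * (p * q) * n⁻¹ = (n * p * n⁻¹) * (n * q * n⁻¹) by group]
      exact mul_mem hp hq
    | inv p _ hp =>
      rw [show n * p⁻¹ * n⁻¹ = (n * p * n⁻¹)⁻¹ by group]
      exact inv_mem hp
  have hnorm : ∀ (A : Subgroup G), (∀ n ∈ A, ∀ g ∈ T, n * g * n⁻¹ ∈ closure T) →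
      A ≤ normalizer (closure T : Set G) := fun A hA n hn => by
    refine mem_normalizer_iff.2 fun g => ⟨hinv n (hA n hn) g, fun hg => ?_⟩
    have := hinv n⁻¹ (hA n⁻¹ (inv_mem hn)) _ hg
    simpa [mul_assoc] using this
  have hU' : U ≤ normalizer (closure T : Set G) := by
    refine hnorm U ?_
    rintro n hn g ⟨y, hy, hf, z, hz, rfl⟩
    have hnz : n * z * n⁻¹ ∈ P := (mem_normalizer_iff.1 (h.normU hn) z).1 hz
    refine subset_closure ⟨y, hy, hf, n * z * n⁻¹, hnz, ?_⟩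
    have hc : ⁅n, y⁆ * (y * (n * z * n⁻¹) * y⁻¹) = (y * (n * z * n⁻¹) * y⁻¹) * ⁅n, y⁆ :=
      (mem_centralizer_iff.1 (h.derived (commutator_mem_commutator hn hy)) _
        ((mem_normalizer_iff.1 (h.normU hy) _).1 hnz)).symm
    have h1 : n * (y * z * y⁻¹) * n⁻¹ = y * (n * z * n⁻¹) * y⁻¹ := by
      calc n * (y * z * y⁻¹) * n⁻¹
          = ⁅n, y⁆ * (y * (n * z * n⁻¹) * y⁻¹) * ⁅n, y⁆⁻¹ := by
            rw [commutatorElement_def]; group
        _ = y * (n * z * n⁻¹) * y⁻¹ := by rw [hc, mul_inv_cancel_right]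
    calc n * (y * z * y⁻¹ * z⁻¹) * n⁻¹ = n * (y * z * y⁻¹) * n⁻¹ * (n * z * n⁻¹)⁻¹ := by group
      _ = _ := by rw [h1]
  have hW' : W₁ ≤ normalizer (closure T : Set G) := by
    refine hnorm W₁ ?_
    rintro n hn g ⟨y, hy, hf, z, hz, rfl⟩
    refine subset_closure ⟨n * y * n⁻¹, (mem_normalizer_iff.1 (h.norm₁U hn) y).1 hy, ?_,
      n * z * n⁻¹, (mem_normalizer_iff.1 (h.norm₁ hn) z).1 hz, by group⟩
    intro z₁ z₂ e
    have hm : ∀ t : P, n⁻¹ * t * n ∈ P := fun t =>
      ((mem_normalizer_iff'').1 (h.norm₁ hn) (t : G)).1 t.2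
    rw [hW n hn ⟨_, hm z₂⟩ z₂ (by group), hW n hn ⟨_, hm z₁⟩ z₁ (by group)]
    exact hf _ _ (by simp only; rw [e]; group)
  rcases eq_of_invariant h ((closure_le P).2 hT) hU' hW' with he | he
  · refine ⟨hx, mem_centralizer_iff.2 fun z hz => ?_⟩
    have h1 : x * z * x⁻¹ * z⁻¹ ∈ closure T := subset_closure ⟨x, hx, hfx, z, hz, rfl⟩
    rw [he, mem_bot, mul_inv_eq_one, mul_inv_eq_iff_eq_mul] at h1
    exact h1.symm
  · refine absurd (MonoidHom.ext fun z => ?_) hne
    have hz : (z : G) ∈ closure T := he.ge z.2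
    have hker : closure T ≤ lam.ker.map P.subtype := by
      refine (closure_le _).2 ?_
      rintro g ⟨y, hy, hf, t, ht, rfl⟩
      refine ⟨⟨y * t * y⁻¹, (mem_normalizer_iff.1 (h.normU hy) t).1 ht⟩ * ⟨t, ht⟩⁻¹, ?_, rfl⟩
      change lam _ = 1
      rw [map_mul, map_inv, hf ⟨t, ht⟩ _ rfl, mul_inv_cancel]
    obtain ⟨z', hz', e⟩ := hker hz
    exact Subtype.ext e ▸ hz'

/-- Exactly `b` characters of `P` are fixed by `W₁`. -/
theorem card_fixed_chars :
    Nat.card {lam : P →* ℂˣ // ∀ w ∈ W₁, FixesChar P lam w} = Nat.card W₂ := by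
  classical
  haveI := Fact.mk h.prime₂
  haveI := Fintype.ofFinite W₁
  haveI := h.elem.1
  letI : CommGroup P := { (inferInstance : Group P) with
    mul_comm := fun p q => Subtype.ext (commP h p.2 q.2) }
  letI : CommGroup W₂ := { (inferInstance : Group W₂) with
    mul_comm := fun p q => Subtype.ext (commP h (W₂_le h p.2) (W₂_le h q.2)) }
  let cj : W₁ → P →* P := fun w => MonoidHom.mk'
    (fun z => ⟨(w : G) * z * (w : G)⁻¹, (mem_normalizer_iff.1 (h.norm₁ w.2) z).1 z.2⟩)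
    fun p q => Subtype.ext (by
      change (w : G) * (p * q) * (w : G)⁻¹ = (w * p * (w : G)⁻¹) * (w * q * (w : G)⁻¹); group)
  let N : P →* P := ∏ w : W₁, cj w
  have hN : ∀ z, (N z : G) ∈ W₂ := by
    intro z
    rw [h.fixed]
    refine ⟨(N z).2, mem_centralizer_iff.2 fun v hv => ?_⟩
    have h1 : cj ⟨v, hv⟩ (N z) = N z := by
      simp only [N, MonoidHom.finsetProd_apply, map_prod]
      refine (Equiv.prod_comp (Equiv.mulLeft (⟨v, hv⟩ : W₁)) fun w => cj w z).symm.trans ?_ |>.symm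
      refine Finset.prod_congr rfl fun w _ => Subtype.ext ?_
      change (v * w : G) * z * (v * w : G)⁻¹ = v * (w * z * (w : G)⁻¹) * v⁻¹
      group
    exact mul_inv_eq_iff_eq_mul.1 (congrArg Subtype.val h1)
  have hlamN : ∀ lam : P →* ℂˣ, (∀ w ∈ W₁, FixesChar P lam w) → ∀ z,
      lam (N z) = lam z ^ Nat.card W₁ := by
    intro lam hl z
    simp only [N, MonoidHom.finsetProd_apply, map_prod]
    rw [Finset.prod_congr rfl fun (w : W₁) _ => hl w w.2 z (cj w z) rfl, Finset.prod_const,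
      Finset.card_univ, Nat.card_eq_fintype_card]
  have hN2 : ∀ v : W₂, N ⟨v, W₂_le h v.2⟩ = (⟨v, W₂_le h v.2⟩ : P) ^ Nat.card W₁ := by
    intro v
    simp only [N, MonoidHom.finsetProd_apply]
    rw [Finset.prod_congr rfl fun w _ => ?_, Finset.prod_const, Finset.card_univ,
      Nat.card_eq_fintype_card]
    refine Subtype.ext ?_
    change (w : G) * v * (w : G)⁻¹ = v
    have h1 : (v : G) ∈ P ⊓ centralizer (W₁ : Set G) := h.fixed ▸ v.2
    rw [mem_centralizer_iff.1 h1.2 w w.2, mul_inv_cancel_right]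
  obtain ⟨k, hk⟩ : ∃ k : ℕ, Nat.card W₁ * k ≡ 1 [MOD Nat.card W₂] := by
    obtain ⟨m, -, hm⟩ := Nat.exists_mul_mod_eq_one_of_coprime
      ((Nat.coprime_primes h.prime₁ h.prime₂).2 h.ne) h.prime₂.one_lt
    exact ⟨m, by rw [Nat.ModEq, hm, Nat.mod_eq_of_lt h.prime₂.one_lt]⟩
  have hpow : ∀ z : P, z ^ (Nat.card W₁ * k) = z := fun z => by
    have h1 : z ^ Nat.card W₂ = 1 := Subtype.ext (h.elem.2 z z.2)
    rw [pow_eq_pow_mod _ h1, hk, ← pow_eq_pow_mod _ h1, pow_one]
  rw [← CommGroup.card_monoidHom_of_hasEnoughRootsOfUnity W₂ ℂ]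
  let N' : P →* W₂ := MonoidHom.mk' (fun z => ⟨N z, hN z⟩)
    fun p q => Subtype.ext (by simp only [map_mul, Subgroup.coe_mul])
  let ι : W₂ →* P := Subgroup.inclusion (W₂_le h)
  refine Nat.card_congr
    { toFun := fun lam => lam.1.comp ι
      invFun := fun μ => ⟨(μ.comp N').comp (powMonoidHom k), ?_⟩
      left_inv := fun lam => Subtype.ext (MonoidHom.ext fun z => ?_)
      right_inv := fun μ => MonoidHom.ext fun v => ?_ }
  · intro w hw z z' e
    change μ (N' (z' ^ k)) = μ (N' (z ^ k))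
    refine congrArg μ (Subtype.ext ?_)
    change ((N (z' ^ k) : P) : G) = ((N (z ^ k) : P) : G)
    refine congrArg Subtype.val ?_
    have e' : z' = cj ⟨w, hw⟩ z := Subtype.ext e
    rw [e']
    change (∏ w' : W₁, cj w') (cj ⟨w, hw⟩ z ^ k) = (∏ w' : W₁, cj w') (z ^ k)
    rw [← map_pow, MonoidHom.finsetProd_apply, MonoidHom.finsetProd_apply]
    refine (Equiv.prod_comp (Equiv.mulRight (⟨w, hw⟩ : W₁)) fun v => cj v (z ^ k)).symm.trans ?_ |>.symm
    refine Finset.prod_congr rfl fun v _ => Subtype.ext ?_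
    change (v * w : G) * _ * (v * w : G)⁻¹ = v * (w * _ * w⁻¹) * (v : G)⁻¹
    group
  · change lam.1 (N (z ^ k)) = lam.1 z
    rw [hlamN _ lam.2, ← map_pow, ← pow_mul, mul_comm k, hpow]
  · change μ (N' (⟨(v : G), W₂_le h v.2⟩ ^ k)) = μ v
    refine congrArg μ (Subtype.ext ?_)
    change ((N (⟨(v : G), W₂_le h v.2⟩ ^ k) : P) : G) = v
    rw [map_pow, hN2, ← pow_mul, hpow]

end CfsgLib.OddOrder.Singer
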