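import Cfsg.Agent.OddOrder.TypePBasic
import Cfsg.Agent.OddOrder.BG3.Wielandt
import Cfsg.Agent.OddOrder.BG1Stab
import Cfsg.Agent.OddOrder.BG4.Metacyclic
import Cfsg.Agent.OddOrder.BG8.Bender
import Cfsg.Agent.OddOrder.BG7.Superset
import Cfsg.Agent.Coprime.SchurZassenhaus
import Cfsg.Agent.Solvable.FrobeniusBasic
import Cfsg.Agent.OddOrder.PF10.Facts

/-!
# The group theory of a maximal subgroup with data of type P, for the final contradiction

Throughout `H = M_F` and the data are `hP : IsTypePWith M W₁ U W₂`.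

* `TypeP.fixed_formula`: Wielandt's formula on a `U W₁`-invariant subgroup of `H`.
* `TypeP.typeII_centralizer_U`: for a Type II subgroup `C_H(U) = 1`; `TypeP.card_typeII`:
  `|H| = |W₂| ^ |W₁|`; `TypeP.elementary_typeII`, `TypeP.minimal_typeII` when `|W₂|` is prime.
* `chiefY M U = C_H(U)` and `TypeP.chiefData`: for `U ≠ 1`, `|W₁|`, `|W₂|` prime, `H/Y` is the only
  chief factor not centralized by `U`, of order `|W₂| ^ |W₁|`, and the kernel of `U` on it is
  `C = C_U(H)`.
* `TypeP.derived_eq_of_trivial`, `TypeP.semiregular`: Type V data.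
-/

set_option autoImplicit false
set_option linter.style.haveILetI false

open scoped commutatorElement Pointwise

namespace CfsgLib.OddOrder

open Cfsg Subgroup

variable {G : Type*} [Group G]

theorem mul_mem_conj {N : Subgroup G} {g x : G} (hg : g ∈ normalizer (N : Set G)) (hx : x ∈ N) :
    g * x * g⁻¹ ∈ N :=
  (mem_normalizer_iff.1 hg x).1 hx

/-- A common normalizer normalizes the commutator subgroup. -/
theorem le_normalizer_commutator {K A B : Subgroup G} (hA : K ≤ normalizer (A : Set G))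
    (hB : K ≤ normalizer (B : Set G)) : K ≤ normalizer ((⁅A, B⁆ : Subgroup G) : Set G) := by
  intro g hg
  rw [mem_normalizer_iff_map_conj_eq, Subgroup.map_commutator,
    mem_normalizer_iff_map_conj_eq.1 (hA hg), mem_normalizer_iff_map_conj_eq.1 (hB hg)]

/-- The second isomorphism theorem for indices. -/
theorem relIndex_sup_of_normalizes {N K : Subgroup G} (hK : K ≤ normalizer (N : Set G)) :
    N.relIndex (N ⊔ K) = N.relIndex K := by
  haveI : (N.subgroupOf (N ⊔ K)).Normal :=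
    (normal_subgroupOf_iff_le_normalizer le_sup_left).mpr (sup_le le_normalizer hK)
  rw [← relIndex_subgroupOf (le_refl (N ⊔ K)), subgroupOf_sup le_sup_left le_sup_right,
    relIndex_sup_left, relIndex_subgroupOf le_sup_right]

/-- `A ≤ B [A,H]` forces `A ≤ B` in a nilpotent group `H`. -/
theorem le_of_le_sup_commutator {H A B : Subgroup G} (hH : Group.IsNilpotent H) (hA : A ≤ H)
    (hB : B ≤ H) (hBn : H ≤ normalizer (B : Set G)) (h : A ≤ B ⊔ ⁅A, H⁆) : A ≤ B := by
  haveI := hH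
  set B' := B.subgroupOf H with hB'
  set A' := A.subgroupOf H with hA'
  haveI : B'.Normal := (normal_subgroupOf_iff_le_normalizer hB).2 hBn
  have h' : A' ≤ B' ⊔ ⁅A', (⊤ : Subgroup H)⁆ := by
    refine (map_le_map_iff_of_injective (f := H.subtype) H.subtype_injective).1 ?_
    rw [Subgroup.map_sup, Subgroup.map_commutator, hA', hB', map_subgroupOf_eq_of_le hA,
      map_subgroupOf_eq_of_le hB, ← MonoidHom.range_eq_map, range_subtype]
    exact h
  set f := QuotientGroup.mk' B' with hf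
  have hbot : A'.map f = ⊥ := by
    refine BG4.eq_bot_of_le_commutator_top ((map_mono h').trans (le_of_eq ?_))
    rw [Subgroup.map_sup, (Subgroup.map_eq_bot_iff _).2 (QuotientGroup.ker_mk' B').ge, bot_sup_eq,
      Subgroup.map_commutator, map_top_of_surjective f (QuotientGroup.mk'_surjective B')]
  rw [Subgroup.map_eq_bot_iff, QuotientGroup.ker_mk'] at hbot
  intro a ha
  exact hbot (x := ⟨a, hA ha⟩) (mem_subgroupOf.2 ha)

/-- A group acting semiregularly outside a subgroup `B` of `A` has order dividing `|A : B| - 1`. -/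
theorem card_dvd_relIndex_sub_one [Finite G] {W A B : Subgroup G} (hBA : B ≤ A)
    (hA : W ≤ normalizer (A : Set G)) (hB : W ≤ normalizer (B : Set G))
    (hcop : (Nat.card W).Coprime (Nat.card B))
    (hfree : ∀ w ∈ W, w ≠ 1 → A ⊓ centralizer ({w} : Set G) ≤ B) :
    Nat.card W ∣ B.relIndex A - 1 := by
  classical
  let S := {x : G // x ∈ A ∧ x ∉ B}
  letI : MulAction W S :=
    { smul := fun w x => ⟨(w : G) * x.1 * (w : G)⁻¹, mul_mem_conj (hA w.2) x.2.1,
        fun h => x.2.2 ((mem_normalizer_iff.1 (hB w.2) x.1).2 h)⟩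
      one_smul := fun x => Subtype.ext (by
        show ((1 : W) : G) * x.1 * ((1 : W) : G)⁻¹ = x.1
        simp)
      mul_smul := fun v w x => Subtype.ext (by
        show ((v * w : W) : G) * x.1 * ((v * w : W) : G)⁻¹
          = (v : G) * ((w : G) * x.1 * (w : G)⁻¹) * (v : G)⁻¹
        rw [Subgroup.coe_mul]; group) }
  have hst : ∀ x : S, MulAction.stabilizer W x = ⊥ := by
    intro x
    rw [eq_bot_iff]
    intro w hw
    have h1 : (w : G) * x.1 * (w : G)⁻¹ = x.1 :=
      congrArg Subtype.val (MulAction.mem_stabilizer_iff.1 hw)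
    by_contra hw1
    refine x.2.2 (hfree w w.2 (fun e => hw1 (mem_bot.2 (Subtype.ext e))) ⟨x.2.1, ?_⟩)
    exact mem_centralizer_singleton_iff.2 (mul_inv_eq_iff_eq_mul.1 h1).symm
  have hcard : Nat.card S = Nat.card A - Nat.card B := by
    have h1 : Nat.card S = ((A : Set G) \ (B : Set G)).ncard := by
      rw [← Nat.card_coe_set_eq]
      rfl
    rw [h1, Set.ncard_sdiff (SetLike.coe_subset_coe.2 hBA), ← Nat.card_coe_set_eq,
      ← Nat.card_coe_set_eq]
    rfl
  have hdvd : Nat.card W ∣ Nat.card S := by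
    rw [Nat.card_congr (MulAction.selfEquivOrbitsQuotientProd hst), Nat.card_prod]
    exact dvd_mul_left _ _
  have hAB : Nat.card B * B.relIndex A = Nat.card A := by
    have h := Subgroup.relIndex_mul_relIndex (⊥ : Subgroup G) B A bot_le hBA
    rwa [Subgroup.relIndex_bot_left, Subgroup.relIndex_bot_left] at h
  rw [hcard, ← hAB] at hdvd
  refine hcop.dvd_of_dvd_mul_left ?_
  rwa [Nat.mul_sub, mul_one]

/-- The part of `M_F` centralized by `U`. -/
def chiefY (M U : Subgroup G) : Subgroup G :=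
  Cfsg.fittingHallOf M ⊓ centralizer (U : Set G)

/-- The properties of the chief factor `H/Y` of a subgroup with data of type P. -/
structure ChiefData (M W₁ U W₂ Y : Subgroup G) : Prop where
  le : Y ≤ Cfsg.fittingHallOf M
  normal : M ≤ normalizer (Y : Set G)
  inf_W₂ : Y ⊓ W₂ = ⊥
  not_le : ¬ W₂ ≤ Y
  centralized : Y ≤ centralizer (U : Set G)
  card : Nat.card (Cfsg.fittingHallOf M) = Nat.card Y * Nat.card W₂ ^ Nat.card W₁
  comm_mem : ∀ a ∈ Cfsg.fittingHallOf M, ∀ b ∈ Cfsg.fittingHallOf M, ⁅a, b⁆ ∈ Y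
  pow_mem : ∀ a ∈ Cfsg.fittingHallOf M, a ^ Nat.card W₂ ∈ Y
  chief : ∀ N : Subgroup G, Y ≤ N → N ≤ Cfsg.fittingHallOf M → M ≤ normalizer (N : Set G) →
    N = Y ∨ N = Cfsg.fittingHallOf M
  kernel : ∀ u ∈ U, (∀ h ∈ Cfsg.fittingHallOf M, ⁅u, h⁆ ∈ Y) →
    u ∈ U ⊓ centralizer (Cfsg.fittingHallOf M : Set G)

namespace TypeP

variable [Finite G] {M W₁ U W₂ : Subgroup G} (hP : Cfsg.IsTypePWith M W₁ U W₂)
include hP

omit [Finite G] in
theorem W₁_le : W₁ ≤ M := hP.W₁_compl.2.1

omit [Finite G] in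
theorem U_le_derived : U ≤ ⁅M, M⁆ := hP.U_compl.2.1

omit [Finite G] in
theorem H_le_derived : Cfsg.fittingHallOf M ≤ ⁅M, M⁆ := hP.U_compl.1

omit [Finite G] in
theorem W₂_le_H : W₂ ≤ Cfsg.fittingHallOf M := hP.W₂_le.trans inf_le_left

theorem H_nilpotent : Group.IsNilpotent (Cfsg.fittingHallOf M) :=
  isNilpotent_of_le (le_sup_left.trans hP.fitting_eq.le) (isNilpotent_fittingOf M)

theorem H_solvable : Group.IsSolvable (Cfsg.fittingHallOf M) := by
  haveI := H_nilpotent hP
  infer_instance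

theorem coprime_U_H : (Nat.card U).Coprime (Nat.card (Cfsg.fittingHallOf M)) :=
  (card_coprime_fittingHallOf (typeP_U_le hP) hP.U_compl.2.2.1).symm

omit [Finite G] in
theorem W₁_inf_derived : W₁ ⊓ ⁅M, M⁆ = ⊥ := by
  rw [inf_comm]; exact hP.W₁_compl.2.2.1

theorem W₁_relIndex : W₁.relIndex M = Nat.card ↥⁅M, M⁆ := by
  have h := Subgroup.relIndex_mul_relIndex (⊥ : Subgroup G) W₁ M bot_le (W₁_le hP)
  rw [Subgroup.relIndex_bot_left, Subgroup.relIndex_bot_left, ← compl_card hP.W₁_compl,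
    mul_comm (Nat.card ↥⁅M, M⁆)] at h
  exact Nat.eq_of_mul_eq_mul_left Nat.card_pos h

theorem coprime_W₁_derived : (Nat.card W₁).Coprime (Nat.card ↥⁅M, M⁆) :=
  W₁_relIndex hP ▸ hP.W₁_hall

theorem coprime_W₁_H : (Nat.card W₁).Coprime (Nat.card (Cfsg.fittingHallOf M)) :=
  (coprime_W₁_derived hP).coprime_dvd_right (card_dvd_of_le (H_le_derived hP))

theorem coprime_W₁_U : (Nat.card W₁).Coprime (Nat.card U) :=
  (coprime_W₁_derived hP).coprime_dvd_right (card_dvd_of_le (U_le_derived hP))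

omit [Finite G] in
theorem U_fpf : ∀ w ∈ W₁, w ≠ 1 → U ⊓ centralizer ({w} : Set G) = ⊥ := by
  intro w hw hw1
  rw [eq_bot_iff, ← hP.U_compl.2.2.1]
  refine le_inf ?_ inf_le_left
  exact ((inf_le_inf_right _ (U_le_derived hP)).trans (hP.W₂_centralizer w hw hw1).le).trans
    (W₂_le_H hP)

omit [Finite G] in
theorem U_sup_W₁_le : U ⊔ W₁ ≤ M :=
  sup_le ((U_le_derived hP).trans M.commutator_le_self) (W₁_le hP)

theorem card_U_sup_W₁ : Nat.card ↥(U ⊔ W₁) = Nat.card U * Nat.card W₁ :=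
  Coprime.card_sup_eq hP.U_normal (inf_eq_bot_of_coprime (coprime_W₁_U hP).symm)

omit [Finite G] in
theorem derived_inf_centralizer_W₁ : ⁅M, M⁆ ⊓ centralizer (W₁ : Set G) = W₂ := by
  obtain ⟨w, hw, hw1⟩ := W₁.bot_or_exists_ne_one.resolve_left hP.W₁_ne
  refine le_antisymm ?_ fun x hx => ?_
  · exact (inf_le_inf_left _ (centralizer_le (Set.singleton_subset_iff.2 hw))).trans
      (hP.W₂_centralizer w hw hw1).le
  · refine ⟨((hP.W₂_centralizer w hw hw1).ge hx).1, mem_centralizer_iff.2 fun v hv => ?_⟩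
    rcases eq_or_ne v 1 with rfl | hv1
    · rw [one_mul, mul_one]
    · exact (mem_centralizer_singleton_iff.1 ((hP.W₂_centralizer v hv hv1).ge hx).2).symm

omit [Finite G] in
theorem inf_centralizer_W₁ {A : Subgroup G} (hA : A ≤ Cfsg.fittingHallOf M) :
    A ⊓ centralizer (W₁ : Set G) = A ⊓ W₂ := by
  rw [← derived_inf_centralizer_W₁ hP, ← inf_assoc,
    inf_eq_left.2 (hA.trans (H_le_derived hP))]

/-- Wielandt's formula on a `U W₁`-invariant subgroup of `H`. -/
theorem fixed_formula {A : Subgroup G} (hA : A ≤ Cfsg.fittingHallOf M)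
    (hn : U ⊔ W₁ ≤ normalizer (A : Set G)) :
    Nat.card ↥(A ⊓ centralizer ((U ⊔ W₁ : Subgroup G) : Set G)) ^ Nat.card W₁ * Nat.card A =
      Nat.card ↥(A ⊓ W₂) ^ Nat.card W₁ * Nat.card ↥(A ⊓ centralizer (U : Set G)) := by
  haveI := H_solvable hP
  rw [← inf_centralizer_W₁ hP hA]
  refine frobenius_fixed_point_formula (inf_eq_bot_of_coprime (coprime_W₁_U hP).symm) hP.U_normal
    ?_ hn (Coprime.isSolvable_of_le hA) ?_
  · intro w hw hw1 u hu hc
    have h : u ∈ U ⊓ centralizer ({w} : Set G) :=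
      ⟨hu, mem_centralizer_singleton_iff.2 hc.symm⟩
    rw [U_fpf hP w hw hw1] at h
    exact h
  · rw [card_U_sup_W₁ hP]
    exact ((coprime_U_H hP).mul_left (coprime_W₁_H hP)).coprime_dvd_right (card_dvd_of_le hA)

/-- If no non-identity element of `A ∩ W₂` is centralized by `U`, then
`|A| = |A ∩ W₂| ^ |W₁| |C_A(U)|`. -/
theorem card_eq {A : Subgroup G} (hA : A ≤ Cfsg.fittingHallOf M)
    (hn : U ⊔ W₁ ≤ normalizer (A : Set G))
    (h0 : A ⊓ W₂ ⊓ centralizer (U : Set G) = ⊥) :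
    Nat.card A = Nat.card ↥(A ⊓ W₂) ^ Nat.card W₁ * Nat.card ↥(A ⊓ centralizer (U : Set G)) := by
  have h := fixed_formula hP hA hn
  have hbot : A ⊓ centralizer ((U ⊔ W₁ : Subgroup G) : Set G) = ⊥ := by
    rw [eq_bot_iff, ← h0]
    refine le_inf ?_ (inf_le_right.trans (centralizer_le (le_sup_left : U ≤ U ⊔ W₁)))
    rw [← inf_centralizer_W₁ hP hA]
    exact inf_le_inf_left _ (centralizer_le (le_sup_right : W₁ ≤ U ⊔ W₁))
  rwa [hbot, Subgroup.card_bot, one_pow, one_mul] at h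

/-- Invariant subgroups of `H` meeting `W₂` trivially are centralized by `U`. -/
theorem le_centralizer_U {A : Subgroup G} (hA : A ≤ Cfsg.fittingHallOf M)
    (hn : U ⊔ W₁ ≤ normalizer (A : Set G)) (hW : A ⊓ W₂ = ⊥) : A ≤ centralizer (U : Set G) := by
  have h := card_eq hP hA hn (by rw [hW, bot_inf_eq])
  rw [hW, Subgroup.card_bot, one_pow, one_mul] at h
  exact (eq_of_le_of_card_ge inf_le_left h.le).ge.trans inf_le_right

omit [Finite G] in
theorem U_sup_W₁_le_normalizer : U ⊔ W₁ ≤ normalizer (Cfsg.fittingHallOf M : Set G) :=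
  (U_sup_W₁_le hP).trans (le_normalizer_fittingHallOf M)

/-- Two sets of data have conjugate subgroups `U`. -/
theorem U_conj {W₁' U' W₂' : Subgroup G} (hP' : Cfsg.IsTypePWith M W₁' U' W₂') :
    ∃ h ∈ Cfsg.fittingHallOf M, MulAut.conj h • U' = U := by
  haveI := H_solvable hP
  have hn : ∀ {V : Subgroup G}, V ≤ ⁅M, M⁆ → V ≤ normalizer (Cfsg.fittingHallOf M : Set G) :=
    fun hV => (hV.trans M.commutator_le_self).trans (le_normalizer_fittingHallOf M)
  have hsup : ∀ {V : Subgroup G}, Cfsg.IsComplIn (Cfsg.fittingHallOf M) V ⁅M, M⁆ →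
      Cfsg.fittingHallOf M ⊔ V = ⁅M, M⁆ := fun hV =>
    le_antisymm (sup_le hV.1 hV.2.1) fun x hx => by
      obtain ⟨a, ha, b, hb, rfl⟩ := hV.2.2.2 x hx
      exact mul_mem_sup ha hb
  refine Coprime.exists_conj_eq_of_sup_eq (hn (U_le_derived hP')) (hn (U_le_derived hP))
    (coprime_U_H hP').symm ?_ ((hsup hP'.U_compl).trans (hsup hP.U_compl).symm)
    (Or.inl inferInstance)
  exact Nat.eq_of_mul_eq_mul_left Nat.card_pos
    ((compl_card hP.U_compl).trans (compl_card hP'.U_compl).symm)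

/-- Two sets of data have subgroups `W₁` of the same order. -/
theorem card_W₁_eq {W₁' U' W₂' : Subgroup G} (hP' : Cfsg.IsTypePWith M W₁' U' W₂') :
    Nat.card W₁ = Nat.card W₁' :=
  Nat.eq_of_mul_eq_mul_left Nat.card_pos
    ((compl_card hP.W₁_compl).trans (compl_card hP'.W₁_compl).symm)

theorem U_ne_bot_of_typeII (hII : Cfsg.IsOfTypeII M) :
    U ≠ ⊥ ∧ (Nat.card W₁).Prime ∧ IsMulCommutative U := by
  obtain ⟨W₁', U', W₂', hP', hU', hq, -, hab, -⟩ := hII
  obtain ⟨h, -, hconj⟩ := U_conj hP hP'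
  refine ⟨fun hbot => hU' ?_, card_W₁_eq hP hP' ▸ hq, ?_⟩
  · rw [← Subgroup.card_eq_one, ← Coprime.card_conj_smul h U', hconj, hbot, Subgroup.card_bot]
  · haveI := hab
    refine ⟨⟨fun a b => Subtype.ext ?_⟩⟩
    have hc := setLike_mul_comm (s := U') (Coprime.mem_conj_smul.1 (hconj.ge a.2))
      (Coprime.mem_conj_smul.1 (hconj.ge b.2))
    show (a : G) * b = b * a
    calc (a : G) * b = h * ((h⁻¹ * a * h) * (h⁻¹ * b * h)) * h⁻¹ := by group
      _ = h * ((h⁻¹ * b * h) * (h⁻¹ * a * h)) * h⁻¹ := by rw [hc]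
      _ = b * a := by group

/-- For a subgroup of Type II, `C_H(U) = 1`. -/
theorem typeII_centralizer_U (hII : Cfsg.IsOfTypeII M) :
    Cfsg.fittingHallOf M ⊓ centralizer (U : Set G) = ⊥ := by
  obtain ⟨-, -, -, -, -, -, -, -, -, hF, hHeq⟩ := hII
  obtain ⟨-, -, -, -, U', hU', hcompl, -, U₀, hU₀, hexp, hfree⟩ := hF
  haveI := H_solvable hP
  set H := Cfsg.fittingHallOf M with hH
  obtain ⟨u, hu, hu1⟩ : ∃ u ∈ U₀, u ≠ 1 := by
    refine U₀.bot_or_exists_ne_one.resolve_left fun hbot => hU' ?_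
    have h1 : Monoid.exponent U₀ = 1 := by
      rw [Monoid.exp_eq_one_iff, hbot]
      infer_instance
    rw [hexp, Monoid.exp_eq_one_iff] at h1
    exact Subgroup.eq_bot_of_subsingleton U'
  -- `U'` is conjugate to `U` under `H`
  set V := U'.map (⁅M, M⁆).subtype with hV
  have hVle : V ≤ ⁅M, M⁆ := map_subtype_le _
  have hcompl' : Cfsg.IsComplIn H V ⁅M, M⁆ := by
    rw [← hHeq, Cfsg.fittingHallOf]
    refine ⟨map_subtype_le _, hVle, ?_, ?_⟩
    · rw [hV, ← Subgroup.map_inf _ _ _ (⁅M, M⁆).subtype_injective, hcompl.disjoint.eq_bot,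
        Subgroup.map_bot]
    · intro x hx
      obtain ⟨⟨a, b⟩, hab⟩ := (hcompl.existsUnique ⟨x, hx⟩).exists
      exact ⟨_, mem_map_of_mem _ a.2, _, mem_map_of_mem _ b.2,
        (congrArg Subtype.val hab).symm⟩
  have hn : ∀ {K : Subgroup G}, K ≤ ⁅M, M⁆ → K ≤ normalizer (H : Set G) :=
    fun hK => (hK.trans M.commutator_le_self).trans (le_normalizer_fittingHallOf M)
  have hsup : ∀ {K : Subgroup G}, Cfsg.IsComplIn H K ⁅M, M⁆ → H ⊔ K = ⁅M, M⁆ := fun hK =>
    le_antisymm (sup_le hK.1 hK.2.1) fun x hx => by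
      obtain ⟨a, ha, b, hb, rfl⟩ := hK.2.2.2 x hx
      exact mul_mem_sup ha hb
  have hcardV : Nat.card V = Nat.card U :=
    Nat.eq_of_mul_eq_mul_left Nat.card_pos
      ((compl_card hcompl').trans (compl_card hP.U_compl).symm)
  obtain ⟨n, hnH, hconj⟩ := Coprime.exists_conj_eq_of_sup_eq (hn hVle) (hn (U_le_derived hP))
    (hcardV ▸ (coprime_U_H hP).symm) hcardV.symm
    ((hsup hcompl').trans (hsup hP.U_compl).symm) (Or.inl inferInstance)
  have hu' : n * (u : G) * n⁻¹ ∈ U :=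
    hconj ▸ Coprime.conj_mem_conj_smul (mem_map_of_mem _ (hU₀ hu))
  rw [eq_bot_iff]
  rintro x ⟨hxH, hxC⟩
  have hy : n⁻¹ * x * n ∈ H := mul_mem (mul_mem (inv_mem hnH) hxH) hnH
  have hyM : n⁻¹ * x * n ∈ ⁅M, M⁆ := H_le_derived hP hy
  have hyF : (⟨_, hyM⟩ : ↥⁅M, M⁆) ∈ Cfsg.fittingHall ↥⁅M, M⁆ := by
    have h1 : n⁻¹ * x * n ∈ Cfsg.fittingHallOf ⁅M, M⁆ := hHeq ▸ hy
    obtain ⟨z, hz, hze⟩ := h1
    have h2 : z = ⟨_, hyM⟩ := Subtype.ext hze
    exact h2 ▸ hz
  have hcomm := mem_centralizer_iff.1 hxC _ hu'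
  have h1 := hfree u hu hu1 ⟨_, hyM⟩ hyF (Subtype.ext (by
    show (u : G) * (n⁻¹ * x * n) = n⁻¹ * x * n * u
    calc (u : G) * (n⁻¹ * x * n) = n⁻¹ * ((n * u * n⁻¹) * x) * n := by group
      _ = n⁻¹ * (x * (n * u * n⁻¹)) * n := by rw [hcomm]
      _ = n⁻¹ * x * n * u := by group))
  have h2 : n⁻¹ * x * n = 1 := congrArg Subtype.val h1
  refine mem_bot.2 ?_
  calc x = n * (n⁻¹ * x * n) * n⁻¹ := by group
    _ = 1 := by rw [h2]; group

/-- In Type II every invariant subgroup of `H` is free over `W₁`. -/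
theorem card_invariant_typeII (hII : Cfsg.IsOfTypeII M) {A : Subgroup G}
    (hA : A ≤ Cfsg.fittingHallOf M) (hn : U ⊔ W₁ ≤ normalizer (A : Set G)) :
    Nat.card A = Nat.card ↥(A ⊓ W₂) ^ Nat.card W₁ := by
  have hC := typeII_centralizer_U hP hII
  have hAC : A ⊓ centralizer (U : Set G) = ⊥ := le_bot_iff.1 (hC ▸ inf_le_inf_right _ hA)
  have h := card_eq hP hA hn (le_bot_iff.1 (hAC ▸ inf_le_inf_right _ inf_le_left))
  rwa [hAC, Subgroup.card_bot, mul_one] at h

theorem card_typeII (hII : Cfsg.IsOfTypeII M) :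
    Nat.card (Cfsg.fittingHallOf M) = Nat.card W₂ ^ Nat.card W₁ := by
  rw [card_invariant_typeII hP hII le_rfl (U_sup_W₁_le_normalizer hP),
    inf_eq_right.2 (W₂_le_H hP)]

/-- In Type II with `|W₂|` prime there is no invariant subgroup strictly inside `H`. -/
theorem minimal_typeII (hII : Cfsg.IsOfTypeII M) (hp : (Nat.card W₂).Prime) {N : Subgroup G}
    (hN : N ≤ Cfsg.fittingHallOf M) (hn : M ≤ normalizer (N : Set G)) :
    N = ⊥ ∨ N = Cfsg.fittingHallOf M := by
  have h := card_invariant_typeII hP hII hN ((U_sup_W₁_le hP).trans hn)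
  rcases (Nat.dvd_prime hp).1 (card_dvd_of_le (inf_le_right : N ⊓ W₂ ≤ W₂)) with h1 | h1
  · rw [h1, one_pow] at h
    exact Or.inl (Subgroup.card_eq_one.1 h)
  · rw [h1, ← card_typeII hP hII] at h
    exact Or.inr (eq_of_le_of_card_ge hN h.ge)

theorem centralizer_inf_U_normal :
    M ≤ normalizer ((U ⊓ centralizer (Cfsg.fittingHallOf M : Set G) : Subgroup G) : Set G) := by
  intro m hm
  obtain ⟨a, ha, w, hw, rfl⟩ := hP.W₁_compl.2.2.2 m hm
  obtain ⟨c, hc, d, hd, rfl⟩ := hP.U_compl.2.2.2 a ha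
  have hHn : ∀ x ∈ M, x ∈ normalizer ((centralizer (Cfsg.fittingHallOf M : Set G) : Subgroup G) : Set G) :=
    fun x hx => normalizer_le_normalizer_centralizer_subgroup _ (le_normalizer_fittingHallOf M hx)
  refine mul_mem (mul_mem ?_ ?_) ?_
  · refine centralizer_le_normalizer _ (mem_centralizer_iff.2 fun v hv => ?_)
    exact (mem_centralizer_iff.1 hv.2 c hc).symm
  · exact inf_normalizer_le_normalizer_inf
      ⟨le_normalizer hd, hHn d (typeP_U_le hP hd)⟩
  · exact inf_normalizer_le_normalizer_inf ⟨hP.U_normal hw, hHn w (W₁_le hP hw)⟩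

/-! ### The chief factor `H / C_H(U)` -/

/-- The chief factor of `H` that `U` does not centralize. -/
theorem chiefData (hp : (Nat.card W₂).Prime) (hU : U ≠ ⊥) :
    ChiefData M W₁ U W₂ (chiefY M U) := by
  set H := Cfsg.fittingHallOf M with hH
  set Y := chiefY M U with hY
  have hYH : Y ≤ H := inf_le_left
  have hYU : Y ≤ centralizer (U : Set G) := inf_le_right
  have hHn := H_nilpotent hP
  have hHM : M ≤ normalizer (H : Set G) := le_normalizer_fittingHallOf M
  have hnot := typeP_U_not_le_centralizer hP hU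
  -- `W₂ ∩ C(U) = 1`
  have hW₂U : W₂ ⊓ centralizer (U : Set G) = ⊥ := by
    rcases (Nat.dvd_prime hp).1 (card_dvd_of_le (inf_le_left : W₂ ⊓ centralizer (U : Set G) ≤ W₂))
      with h | h
    · exact Subgroup.card_eq_one.1 h
    · exfalso
      have hle : W₂ ≤ centralizer (U : Set G) :=
        (eq_of_le_of_card_ge inf_le_left h.ge).ge.trans inf_le_right
      have hf := fixed_formula hP (A := H) le_rfl (U_sup_W₁_le_normalizer hP)
      have h2 : H ⊓ centralizer ((U ⊔ W₁ : Subgroup G) : Set G) = H ⊓ W₂ := by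
        refine le_antisymm ?_ ?_
        · rw [← inf_centralizer_W₁ hP le_rfl]
          exact inf_le_inf_left _ (centralizer_le (le_sup_right : W₁ ≤ U ⊔ W₁))
        · rintro x ⟨hxH, hxW⟩
          refine ⟨hxH, ?_⟩
          have hle' : U ⊔ W₁ ≤ centralizer ({x} : Set G) := by
            refine sup_le (fun u hu => ?_) fun w hw => ?_
            · exact mem_centralizer_singleton_iff.2 (mem_centralizer_iff.1 (hle hxW) u hu)
            · exact mem_centralizer_singleton_iff.2
                (mem_centralizer_iff.1 ((derived_inf_centralizer_W₁ hP).ge hxW).2 w hw)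
          exact mem_centralizer_iff.2 fun v hv => mem_centralizer_singleton_iff.1 (hle' hv)
      rw [h2] at hf
      have h3 := Nat.eq_of_mul_eq_mul_left (pow_pos Nat.card_pos _) hf
      exact hnot (le_centralizer_iff.1
        ((eq_of_le_of_card_ge (inf_le_left : H ⊓ centralizer (U : Set G) ≤ H) h3.le).ge.trans
          inf_le_right))
  have hcardH : Nat.card H = Nat.card Y * Nat.card W₂ ^ Nat.card W₁ := by
    rw [mul_comm]
    have h := card_eq hP (A := H) le_rfl (U_sup_W₁_le_normalizer hP)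
      (le_bot_iff.1 (hW₂U ▸ inf_le_inf_right _ inf_le_right))
    rwa [inf_eq_right.2 (W₂_le_H hP)] at h
  have hYW : Y ⊓ W₂ = ⊥ := le_bot_iff.1 (hW₂U ▸ le_inf inf_le_right (inf_le_left.trans hYU))
  have hW₂Y : ¬ W₂ ≤ Y := fun h => by
    rw [inf_eq_right.2 h] at hYW
    rw [hYW, Subgroup.card_bot] at hp
    exact Nat.not_prime_one hp
  -- the largest invariant subgroup meeting `W₂` trivially
  obtain ⟨B, ⟨hBH, hBM, hBW⟩, hBmax⟩ := Set.Finite.exists_maximal
    (s := {B : Subgroup G | B ≤ H ∧ M ≤ normalizer (B : Set G) ∧ B ⊓ W₂ = ⊥}) (Set.toFinite _)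
    ⟨⊥, bot_le, le_normalizer_of_normal, bot_inf_eq _⟩
  have hBY : B ≤ Y :=
    le_inf hBH (le_centralizer_U hP hBH ((U_sup_W₁_le hP).trans hBM) hBW)
  -- an invariant subgroup just above it
  obtain ⟨A, ⟨hAH, hAM, hBA, hWA⟩, hAmin⟩ := Set.Finite.exists_minimal
    (s := {A : Subgroup G | A ≤ H ∧ M ≤ normalizer (A : Set G) ∧ B ≤ A ∧ W₂ ≤ A}) (Set.toFinite _)
    ⟨H, le_rfl, hHM, hBH, W₂_le_H hP⟩
  have hAcomm : ⁅A, H⁆ ≤ B := by
    set D := B ⊔ ⁅A, H⁆ with hD
    have hAHA : ⁅A, H⁆ ≤ A := by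
      rw [commutator_comm, ← le_normalizer_iff_commutator_le_right]
      exact ((H_le_derived hP).trans M.commutator_le_self).trans hAM
    have hDA : D ≤ A := sup_le hBA hAHA
    have hDM : M ≤ normalizer (D : Set G) :=
      (le_inf hBM (le_normalizer_commutator hAM hHM)).trans
        (normalizer_inf_normalizer_le_normalizer_sup B ⁅A, H⁆)
    refine le_trans le_sup_right (hBmax ⟨hDA.trans hAH, hDM, ?_⟩ le_sup_left)
    rcases (Nat.dvd_prime hp).1 (card_dvd_of_le (inf_le_right : D ⊓ W₂ ≤ W₂)) with h | h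
    · exact Subgroup.card_eq_one.1 h
    · exfalso
      have hWD : W₂ ≤ D := (eq_of_le_of_card_ge inf_le_right h.ge).ge.trans inf_le_left
      have hAD : A ≤ D := hAmin ⟨hDA.trans hAH, hDM, le_sup_left, hWD⟩ hDA
      have hAB : A ≤ B := le_of_le_sup_commutator hHn hAH hBH
        (((H_le_derived hP).trans M.commutator_le_self).trans hBM) hAD
      exact hW₂Y (hWA.trans (hAB.trans hBY))
  have hAH' : H ≤ normalizer (A : Set G) :=
    ((H_le_derived hP).trans M.commutator_le_self).trans hAM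
  -- `H = A Y`
  have hAY : A ⊔ Y = H := by
    refine eq_of_le_of_card_ge (sup_le hAH hYH) ?_
    have hcA : Nat.card A = Nat.card W₂ ^ Nat.card W₁ * Nat.card ↥(A ⊓ Y) := by
      have h := card_eq hP hAH ((U_sup_W₁_le hP).trans hAM)
        (le_bot_iff.1 (hW₂U ▸ inf_le_inf_right _ inf_le_right))
      rwa [inf_eq_right.2 hWA, show A ⊓ centralizer (U : Set G) = A ⊓ Y by
        rw [hY, chiefY, ← inf_assoc, inf_eq_left.2 hAH]] at h
    have h1 := Subgroup.relIndex_mul_relIndex (⊥ : Subgroup G) A (A ⊔ Y) bot_le le_sup_left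
    have h2 := Subgroup.relIndex_mul_relIndex (⊥ : Subgroup G) (A ⊓ Y) Y bot_le inf_le_right
    rw [Subgroup.relIndex_bot_left, Subgroup.relIndex_bot_left] at h1 h2
    have h3 : A.relIndex (A ⊔ Y) = A.relIndex Y := relIndex_sup_of_normalizes (hYH.trans hAH')
    rw [Subgroup.inf_relIndex_right] at h2
    rw [h3] at h1
    rw [hcardH, ← h2, ← h1, hcA]
    exact le_of_eq (by ring)
  have hYn : M ≤ normalizer (Y : Set G) := by
    intro m hm
    obtain ⟨a, ha, w, hw, rfl⟩ := hP.W₁_compl.2.2.2 m hm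
    obtain ⟨c, hc, d, hd, rfl⟩ := hP.U_compl.2.2.2 a ha
    refine mul_mem (mul_mem ?_ ?_) ?_
    · suffices hHY : H ≤ normalizer (Y : Set G) from hHY hc
      rw [← hAY]
      refine sup_le (le_normalizer_iff_commutator_le_right.2 ?_) le_normalizer
      exact ((commutator_mono le_rfl hYH).trans hAcomm).trans hBY
    · refine centralizer_le_normalizer _ ?_
      exact (le_centralizer_iff.1 hYU) hd
    · exact inf_normalizer_le_normalizer_inf ⟨hHM (W₁_le hP hw),
        normalizer_le_normalizer_centralizer_subgroup _ (hP.U_normal hw)⟩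
  -- the chief factor
  have hchief : ∀ N : Subgroup G, Y ≤ N → N ≤ H → M ≤ normalizer (N : Set G) → N = Y ∨ N = H := by
    intro N hYN hNH hNM
    have hNU : N ⊓ centralizer (U : Set G) = Y :=
      le_antisymm (inf_le_inf_right _ hNH) (le_inf hYN hYU)
    rcases (Nat.dvd_prime hp).1 (card_dvd_of_le (inf_le_right : N ⊓ W₂ ≤ W₂)) with h | h
    · refine Or.inl (le_antisymm ?_ hYN)
      rw [← hNU]
      exact le_inf le_rfl (le_centralizer_U hP hNH ((U_sup_W₁_le hP).trans hNM)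
        (Subgroup.card_eq_one.1 h))
    · refine Or.inr (eq_of_le_of_card_ge hNH ?_)
      have hc := card_eq hP hNH ((U_sup_W₁_le hP).trans hNM)
        (le_bot_iff.1 (hW₂U ▸ inf_le_inf_right _ inf_le_right))
      rw [h, hNU, mul_comm, ← hcardH] at hc
      exact hc.ge
  have hcomm : ⁅H, H⁆ ≤ Y := by
    rcases hchief (Y ⊔ ⁅H, H⁆) le_sup_left (sup_le hYH H.commutator_le_self)
      ((le_inf hYn (le_normalizer_commutator hHM hHM)).trans
        (normalizer_inf_normalizer_le_normalizer_sup Y ⁅H, H⁆)) with h | h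
    · exact h ▸ le_sup_right
    · exfalso
      exact hW₂Y ((W₂_le_H hP).trans (le_of_le_sup_commutator hHn le_rfl hYH
        (((H_le_derived hP).trans M.commutator_le_self).trans hYn) h.ge))
  refine ⟨hYH, hYn, hYW, hW₂Y, hYU, hcardH,
    fun a ha b hb => hcomm (commutator_mem_commutator ha hb), ?_, hchief, ?_⟩
  · -- exponent
    have hYnH : H ≤ normalizer (Y : Set G) :=
      ((H_le_derived hP).trans M.commutator_le_self).trans hYn
    set Y' := Y.subgroupOf H with hY'
    haveI : Y'.Normal := (normal_subgroupOf_iff_le_normalizer hYH).2 hYnH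
    let T : Subgroup G :=
      { carrier := {a | a ∈ H ∧ a ^ Nat.card W₂ ∈ Y}
        one_mem' := ⟨one_mem H, by rw [one_pow]; exact one_mem Y⟩
        mul_mem' := fun {a b} ha hb => ⟨mul_mem ha.1 hb.1, by
          have hc : ∀ u v : ↥H ⧸ Y', u * v = v * u := by
            intro u v
            induction u using QuotientGroup.induction_on with
            | H u =>
              induction v using QuotientGroup.induction_on with
              | H v =>
                rw [← QuotientGroup.mk_mul, ← QuotientGroup.mk_mul, QuotientGroup.eq,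
                  mem_subgroupOf]
                have h := hcomm (commutator_mem_commutator (inv_mem v.2) (inv_mem u.2))
                simpa [commutatorElement_def, mul_assoc] using h
          have h1 : ((⟨a * b, mul_mem ha.1 hb.1⟩ : ↥H) : ↥H ⧸ Y') ^ Nat.card W₂ = 1 := by
            rw [show (⟨a * b, mul_mem ha.1 hb.1⟩ : ↥H) = ⟨a, ha.1⟩ * ⟨b, hb.1⟩ from rfl,
              QuotientGroup.mk_mul, (show Commute _ _ from hc _ _).mul_pow, ← QuotientGroup.mk_pow,
              ← QuotientGroup.mk_pow, (QuotientGroup.eq_one_iff _).2 (mem_subgroupOf.2 ha.2),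
              (QuotientGroup.eq_one_iff _).2 (mem_subgroupOf.2 hb.2), one_mul]
          rw [← QuotientGroup.mk_pow, QuotientGroup.eq_one_iff, mem_subgroupOf] at h1
          exact h1⟩
        inv_mem' := fun {a} ha => ⟨inv_mem ha.1, by rw [inv_pow]; exact inv_mem ha.2⟩ }
    have hTH : T ≤ H := fun a ha => ha.1
    have hTM : M ≤ normalizer (T : Set G) := by
      intro m hm
      rw [mem_normalizer_iff]
      intro x
      show (x ∈ H ∧ x ^ _ ∈ Y) ↔ (m * x * m⁻¹ ∈ H ∧ (m * x * m⁻¹) ^ _ ∈ Y)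
      rw [conj_pow, ← mem_normalizer_iff.1 (hHM hm) x, ← mem_normalizer_iff.1 (hYn hm) (x ^ _)]
    have hYT : Y ≤ T := fun a ha => ⟨hYH ha, Y.pow_mem ha _⟩
    have hWT : W₂ ≤ T := fun a ha => ⟨W₂_le_H hP ha, by
      rw [show a ^ Nat.card W₂ = 1 from
        congrArg Subtype.val (pow_card_eq_one' (x := (⟨a, ha⟩ : W₂)))]
      exact one_mem Y⟩
    rcases hchief T hYT hTH hTM with h | h
    · exact absurd (h ▸ hWT) hW₂Y
    · intro a ha
      exact (h.ge ha : a ∈ T).2
  · intro u hu hcm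
    refine ⟨hu, mem_centralizer_iff.2 fun x hx => ?_⟩
    refine (Stab.commute_of_stab_mem ?_ (hcm x hx) ?_).eq.symm
    · exact mem_centralizer_iff.1 (hYU (hcm x hx)) u hu
    · exact ((coprime_U_H hP).coprime_dvd_right (card_dvd_of_le hYH)).coprime_dvd_left
        (orderOf_dvd_natCard U hu)

/-- For Type II with `|W₂|` prime, `H` is elementary abelian. -/
theorem elementary_typeII (hII : Cfsg.IsOfTypeII M) (hp : (Nat.card W₂).Prime) :
    Cfsg.IsElementaryAbelian (Nat.card W₂) (Cfsg.fittingHallOf M) := by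
  have hU := (U_ne_bot_of_typeII hP hII).1
  have hd := chiefData hP hp hU
  have hY : chiefY M U = ⊥ := typeII_centralizer_U hP hII
  refine ⟨⟨⟨fun a b => Subtype.ext ?_⟩⟩, fun a ha => ?_⟩
  · have h := hd.comm_mem a a.2 b b.2
    rw [hY, mem_bot, commutatorElement_eq_one_iff_mul_comm] at h
    exact h
  · have h := hd.pow_mem a ha
    rwa [hY, mem_bot] at h

/-! ### The kernel `H C` of `M'` on the chief factor -/

theorem derived_U_le_kernel : ⁅U, U⁆ ≤ U ⊓ centralizer (Cfsg.fittingHallOf M : Set G) :=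
  le_inf U.commutator_le_self (typeP_commutator_U hP)

theorem kernel_lt (hU : U ≠ ⊥) : U ⊓ centralizer (Cfsg.fittingHallOf M : Set G) < U :=
  lt_of_le_of_ne inf_le_left fun h => typeP_U_not_le_centralizer hP hU (h.ge.trans inf_le_right)

theorem kernel_index_modEq (hU : U ≠ ⊥) :
    let C := U ⊓ centralizer (Cfsg.fittingHallOf M : Set G)
    Nat.card W₁ ∣ C.relIndex U - 1 ∧ 1 < C.relIndex U := by
  intro C
  constructor
  · refine card_dvd_relIndex_sub_one inf_le_left hP.U_normal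
      ((W₁_le hP).trans (centralizer_inf_U_normal hP))
      ((coprime_W₁_U hP).coprime_dvd_right (card_dvd_of_le inf_le_left)) ?_
    intro w hw hw1
    rw [U_fpf hP w hw hw1]
    exact bot_le
  · have h0 : C.relIndex U ≠ 0 := FiniteIndex.index_ne_zero
    have h1 : C.relIndex U ≠ 1 := fun h =>
      (kernel_lt hP hU).not_ge (Subgroup.relIndex_eq_one.1 h)
    omega

/-- `|U : C| ≥ 2|W₁| + 1` in a group of odd order. -/
theorem kernel_index_ge (hodd : Odd (Nat.card G)) (hU : U ≠ ⊥) :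
    2 * Nat.card W₁ + 1 ≤ (U ⊓ centralizer (Cfsg.fittingHallOf M : Set G)).relIndex U := by
  obtain ⟨⟨t, ht⟩, h1⟩ := kernel_index_modEq hP hU
  have hUodd : Odd ((U ⊓ centralizer (Cfsg.fittingHallOf M : Set G)).relIndex U) :=
    hodd.of_dvd_nat ((Subgroup.relIndex_dvd_card _ _).trans (card_subgroup_dvd_card U))
  have hWodd : Odd (Nat.card W₁) := hodd.of_dvd_nat (card_subgroup_dvd_card W₁)
  rcases t with _ | _ | t
  · omega
  · exfalso
    rw [zero_add, mul_one] at ht
    obtain ⟨i, hi⟩ := hUodd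
    obtain ⟨j, hj⟩ := hWodd
    omega
  · have h2 : Nat.card W₁ * 2 ≤ Nat.card W₁ * (t + 1 + 1) := Nat.mul_le_mul_left _ (by omega)
    omega

/-- `F(M) = H C` contains `M''` and consists of the elements of `M'` centralizing `H/Y`. -/
theorem mem_fitting_iff_of_chief (hp : (Nat.card W₂).Prime) (hU : U ≠ ⊥) {x : G}
    (hx : x ∈ ⁅M, M⁆) :
    x ∈ Cfsg.fittingOf M ↔ ∀ h ∈ Cfsg.fittingHallOf M, ⁅x, h⁆ ∈ chiefY M U := by
  have hd := chiefData hP hp hU
  obtain ⟨a, ha, b, hb, rfl⟩ := hP.U_compl.2.2.2 x hx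
  have haM : a ∈ M := M.commutator_le_self (H_le_derived hP ha)
  have hbM : b ∈ M := typeP_U_le hP hb
  have e : ∀ h, ⁅a * b, h⁆ = a * ⁅b, h⁆ * a⁻¹ * ⁅a, h⁆ := fun h =>
    commutatorElement_mul_left_eq_conj_mul a b h
  constructor
  · intro hF h hh
    have hbF : b ∈ Cfsg.fittingOf M := by
      have haF : a ∈ Cfsg.fittingOf M := hP.fitting_eq ▸ Subgroup.mem_sup_left ha
      simpa using mul_mem (inv_mem haF) hF
    have h1 : ⁅b, h⁆ = 1 := commutatorElement_eq_one_iff_mul_comm.2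
      (mem_centralizer_iff.1 (typeP_inter_fitting hP hb hbF) h hh).symm
    rw [e, h1]
    simpa using hd.comm_mem a ha h hh
  · intro hall
    rw [typeP_fitting_eq hP]
    refine mul_mem (Subgroup.mem_sup_left ha) (Subgroup.mem_sup_right (hd.kernel b hb fun h hh => ?_))
    have h1 := hall h hh
    rw [e] at h1
    have h2 : a * ⁅b, h⁆ * a⁻¹ ∈ chiefY M U :=
      (Subgroup.mul_mem_cancel_right _ (hd.comm_mem a ha h hh)).1 h1
    exact (mem_normalizer_iff.1 (hd.normal haM) _).2 h2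

theorem derived_derived_le : ⁅⁅M, M⁆, ⁅M, M⁆⁆ ≤ Cfsg.fittingOf M :=
  hP.derived_two_le.trans hP.fitting_eq.le

/-- `|F(M)| = |H| |C|`. -/
theorem card_fitting : Nat.card (Cfsg.fittingOf M) = Nat.card (Cfsg.fittingHallOf M) *
    Nat.card ↥(U ⊓ centralizer (Cfsg.fittingHallOf M : Set G)) := by
  rw [typeP_fitting_eq hP]
  refine Coprime.card_sup_eq ((inf_le_left.trans (typeP_U_le hP)).trans
    (le_normalizer_fittingHallOf M)) ?_
  rw [eq_bot_iff, ← hP.U_compl.2.2.1]
  exact inf_le_inf_left _ inf_le_left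

/-- `|M' : F(M)| = |U : C|`. -/
theorem relIndex_fitting : (Cfsg.fittingOf M).relIndex ⁅M, M⁆ =
    (U ⊓ centralizer (Cfsg.fittingHallOf M : Set G)).relIndex U := by
  set C := U ⊓ centralizer (Cfsg.fittingHallOf M : Set G) with hC
  have h1 := Subgroup.relIndex_mul_relIndex (⊥ : Subgroup G) (Cfsg.fittingOf M) ⁅M, M⁆ bot_le
    hP.fitting_le
  have h2 := Subgroup.relIndex_mul_relIndex (⊥ : Subgroup G) C U bot_le inf_le_left
  rw [Subgroup.relIndex_bot_left, Subgroup.relIndex_bot_left] at h1 h2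
  rw [card_fitting hP, ← compl_card hP.U_compl, ← h2, mul_assoc] at h1
  exact Nat.eq_of_mul_eq_mul_left Nat.card_pos (Nat.eq_of_mul_eq_mul_left Nat.card_pos h1)

/-! ### Type V data -/

omit [Finite G] in
theorem derived_eq_of_trivial (hU : U = ⊥) : ⁅M, M⁆ = Cfsg.fittingHallOf M := by
  refine le_antisymm (fun x hx => ?_) (H_le_derived hP)
  obtain ⟨a, ha, b, hb, rfl⟩ := hP.U_compl.2.2.2 x hx
  rw [hU, mem_bot] at hb
  rw [hb, mul_one]
  exact ha

omit [Finite G] in
theorem W₂_le_derived_of_trivial (hU : U = ⊥) :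
    W₂ ≤ ⁅Cfsg.fittingHallOf M, Cfsg.fittingHallOf M⁆ := by
  rw [← derived_eq_of_trivial hP hU]
  exact hP.W₂_le.trans inf_le_right

theorem typeCore_eq_of_trivial (hU : U = ⊥) : Cfsg.typeCore M = Cfsg.fittingHallOf M := by
  unfold Cfsg.typeCore
  split_ifs with h
  · rcases h with ⟨W₁', U', W₂', hP', -⟩ | ⟨W₁', U', W₂', hP', -⟩ <;>
      exact derived_eq_of_trivial hP hU
  · rfl

theorem sigmaCore_eq_of_trivial (F : BG16Facts G) (hM : IsCoatom M) (hU : U = ⊥) :
    Cfsg.sigmaCore M = Cfsg.fittingHallOf M :=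
  le_antisymm ((F.chain M hM).2.2.1.trans (derived_eq_of_trivial hP hU).le) (F.chain M hM).2.1

/-- `W₁` is semiregular on every invariant section of `H` avoiding the image of `W₂`. -/
theorem semiregular {A B : Subgroup G} (hBA : B ≤ A) (hA : A ≤ Cfsg.fittingHallOf M)
    (hnA : W₁ ≤ normalizer (A : Set G)) (hnB : W₁ ≤ normalizer (B : Set G))
    (hW : W₂ ⊓ A ≤ B) : Nat.card W₁ ∣ B.relIndex A - 1 := by
  refine card_dvd_relIndex_sub_one hBA hnA hnB
    ((coprime_W₁_H hP).coprime_dvd_right (card_dvd_of_le (hBA.trans hA))) fun w hw hw1 => ?_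
  refine le_trans (le_inf ?_ inf_le_left) hW
  exact (inf_le_inf_right _ (hA.trans (H_le_derived hP))).trans (hP.W₂_centralizer w hw hw1).le

end TypeP

end CfsgLib.OddOrder
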