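import Mathlib.Algebra.BigOperators.Fin
import Mathlib.Algebra.Order.BigOperators.Ring.Finset
import Mathlib.Data.Fintype.Card
import Mathlib.Data.Int.Basic
import Mathlib.Tactic.Linarith
import Mathlib.Tactic.Ring
import Mathlib.Tactic.Positivity

/-!
# Additive integer tables with few non-zero entries (Peterfalvi (3.5)-(3.7), as used for 10-14)

A table `c : A → B → ℤ` is additive when `c i j + c i₀ j₀ = c i j₀ + c i₀ j`. For `B` with at least
three elements either every row is constant, or every row has a non-zero entry.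
-/

set_option autoImplicit false

namespace CfsgLib.OddOrder

variable {A B : Type*}

/-- `c` is a sum of a function of the row and a function of the column. -/
def AdditiveAt (c : A → B → ℤ) (i₀ : A) (j₀ : B) : Prop :=
  ∀ i j, c i j + c i₀ j₀ = c i j₀ + c i₀ j

namespace AdditiveAt

variable {c : A → B → ℤ} {i₀ : A} {j₀ : B}

theorem row_sub (h : AdditiveAt c i₀ j₀) (i i' : A) (j j' : B) :
    c i j - c i j' = c i' j - c i' j' := by
  have h1 := h i j; have h2 := h i j'; have h3 := h i' j; have h4 := h i' j'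
  linarith

theorem sq_sum_row_ge_one [Fintype B] (h : AdditiveAt c i₀ j₀) {j j' : B}
    (hne : c i₀ j ≠ c i₀ j') (i : A) : 1 ≤ ∑ b, c i b ^ 2 := by
  classical
  have : c i j ≠ 0 ∨ c i j' ≠ 0 := by
    by_contra hh
    push Not at hh
    have := h.row_sub i i₀ j j'
    omega
  obtain ⟨b₀, hb₀⟩ : ∃ b₀, c i b₀ ≠ 0 := by
    rcases this with h1 | h1
    exacts [⟨j, h1⟩, ⟨j', h1⟩]
  refine le_trans ?_ (Finset.single_le_sum (f := fun b => c i b ^ 2) (fun b _ => sq_nonneg (c i b))
    (Finset.mem_univ b₀))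
  nlinarith [mul_self_pos.2 hb₀]

theorem col_const (h : AdditiveAt c i₀ j₀) (hG : ∀ j, c i₀ j = c i₀ j₀) (i : A) (j : B) :
    c i j = c i j₀ := by
  have := h i j; have := hG j; linarith

end AdditiveAt

section

variable [Fintype A] [Fintype B]

/-- The sum of the squares of all entries. -/
def tableSq (c : A → B → ℤ) : ℤ := ∑ i, ∑ j, c i j ^ 2

theorem tableSq_nonneg (c : A → B → ℤ) : 0 ≤ tableSq c :=
  Finset.sum_nonneg fun _ _ => Finset.sum_nonneg fun _ _ => sq_nonneg _

theorem tableSq_eq_zero {c : A → B → ℤ} (h : tableSq c ≤ 0) (i : A) (j : B) : c i j = 0 := by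
  have h1 : tableSq c = 0 := le_antisymm h (tableSq_nonneg c)
  rw [tableSq, Finset.sum_eq_zero_iff_of_nonneg
    (fun _ _ => Finset.sum_nonneg fun _ _ => sq_nonneg _)] at h1
  have h2 := h1 i (Finset.mem_univ i)
  rw [Finset.sum_eq_zero_iff_of_nonneg (fun _ _ => sq_nonneg _)] at h2
  exact pow_eq_zero_iff (by norm_num : (2 : ℕ) ≠ 0) |>.1 (h2 j (Finset.mem_univ j))

theorem row_le_tableSq (c : A → B → ℤ) (i : A) : ∑ j, c i j ^ 2 ≤ tableSq c :=
  Finset.single_le_sum (f := fun i => ∑ j, c i j ^ 2)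
    (fun _ _ => Finset.sum_nonneg fun _ _ => sq_nonneg _) (Finset.mem_univ i)

/-- A non-constant additive table has squares summing to at least the number of rows, and in case
of equality it is supported on one column. -/
theorem AdditiveAt.one_column {c : A → B → ℤ} {i₀ : A} {j₀ : B} (h : AdditiveAt c i₀ j₀)
    (hB : 3 ≤ Fintype.card B) (hne : ∃ j, c i₀ j ≠ c i₀ j₀) :
    (Fintype.card A : ℤ) ≤ tableSq c ∧
      (tableSq c ≤ Fintype.card A → ∃ (m : B) (s : ℤ), (s = 1 ∨ s = -1) ∧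
        ∀ i j, (j = m → c i j = s) ∧ (j ≠ m → c i j = 0)) := by
  classical
  obtain ⟨j₁, hj₁⟩ := hne
  have hrow := h.sq_sum_row_ge_one hj₁
  have hle : (Fintype.card A : ℤ) ≤ tableSq c := by
    have h1 : ∑ _i : A, (1 : ℤ) ≤ tableSq c := Finset.sum_le_sum fun i _ => hrow i
    simpa using h1
  refine ⟨hle, fun hsmall => ?_⟩
  have heq : ∀ i, ∑ j, c i j ^ 2 = 1 := by
    have h1 : ∑ i, ((∑ j, c i j ^ 2) - 1) = 0 := by
      rw [Finset.sum_sub_distrib]
      simp only [Finset.sum_const, Finset.card_univ, nsmul_eq_mul, mul_one]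
      have : tableSq c = Fintype.card A := le_antisymm hsmall hle
      unfold tableSq at this
      omega
    intro i
    rw [Finset.sum_eq_zero_iff_of_nonneg (fun i _ => by linarith [hrow i])] at h1
    linarith [h1 i (Finset.mem_univ i)]
  have hone : ∀ i, ∃ m, (c i m = 1 ∨ c i m = -1) ∧ ∀ j, j ≠ m → c i j = 0 := by
    intro i
    obtain ⟨m, hm⟩ : ∃ m, c i m ≠ 0 := by
      by_contra hh
      push Not at hh
      have := heq i
      simp [hh] at this
    have h2 := heq i
    rw [← Finset.add_sum_erase _ _ (Finset.mem_univ m)] at h2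
    have hnn : 0 ≤ ∑ j ∈ Finset.univ.erase m, c i j ^ 2 := Finset.sum_nonneg fun _ _ => sq_nonneg _
    have hm1 : 1 ≤ c i m ^ 2 := by nlinarith [mul_self_pos.2 hm]
    refine ⟨m, sq_eq_one_iff.1 (by linarith), fun j hj => ?_⟩
    have h3 : ∑ j ∈ Finset.univ.erase m, c i j ^ 2 = 0 := by linarith
    rw [Finset.sum_eq_zero_iff_of_nonneg (fun _ _ => sq_nonneg _)] at h3
    exact pow_eq_zero_iff (by norm_num : (2 : ℕ) ≠ 0) |>.1
      (h3 j (Finset.mem_erase.2 ⟨hj, Finset.mem_univ j⟩))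
  choose m hm1 hm0 using hone
  refine ⟨m i₀, c i₀ (m i₀), hm1 i₀, fun i j => ?_⟩
  obtain ⟨z, hz₀, hz⟩ : ∃ z, z ≠ m i₀ ∧ z ≠ m i := by
    have h1 : ({m i₀, m i} : Finset B).card < Fintype.card B :=
      lt_of_le_of_lt Finset.card_le_two (by omega)
    obtain ⟨z, -, hz⟩ := Finset.exists_mem_notMem_of_card_lt_card
      (t := (Finset.univ : Finset B)) (by simpa using h1)
    simp only [Finset.mem_insert, Finset.mem_singleton, not_or] at hz
    exact ⟨z, hz.1, hz.2⟩
  have hsame : c i j = c i₀ j := by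
    have := h.row_sub i i₀ j z
    rw [hm0 i z hz, hm0 i₀ z hz₀] at this
    linarith
  exact ⟨fun hj => by rw [hsame, hj], fun hj => by rw [hsame, hm0 i₀ j hj]⟩

/-- An additive table with constant rows. -/
theorem AdditiveAt.tableSq_of_const {c : A → B → ℤ} {i₀ : A} {j₀ : B} (h : AdditiveAt c i₀ j₀)
    (hG : ∀ j, c i₀ j = c i₀ j₀) :
    tableSq c = (Fintype.card B : ℤ) * ∑ i, c i j₀ ^ 2 := by
  rw [tableSq, Finset.mul_sum]
  refine Finset.sum_congr rfl fun i _ => ?_
  rw [Finset.sum_congr rfl fun j _ => by rw [h.col_const hG i j], Finset.sum_const, Finset.card_univ,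
    nsmul_eq_mul]

/-- Peterfalvi's classification: an additive table with `c i₀ j₀ = 1` and squares summing to at most
the number of rows either has constant rows or is the first column. -/
theorem AdditiveAt.classify_one {c : A → B → ℤ} {i₀ : A} {j₀ : B} (h : AdditiveAt c i₀ j₀)
    (hB : 3 ≤ Fintype.card B) (h1 : c i₀ j₀ = 1) (hsmall : tableSq c ≤ Fintype.card A) :
    (∀ i j, c i j = c i j₀) ∨
      (tableSq c = Fintype.card A ∧ ∀ i j, (j = j₀ → c i j = 1) ∧ (j ≠ j₀ → c i j = 0)) := by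
  by_cases hG : ∀ j, c i₀ j = c i₀ j₀
  · exact Or.inl (h.col_const hG)
  push Not at hG
  obtain ⟨hle, hcol⟩ := h.one_column hB hG
  obtain ⟨m, s, -, hc⟩ := hcol hsmall
  have hm : j₀ = m := by
    by_contra hm
    rw [(hc i₀ j₀).2 hm] at h1
    exact zero_ne_one h1
  subst hm
  rw [(hc i₀ j₀).1 rfl] at h1
  subst h1
  exact Or.inr ⟨le_antisymm hsmall hle, hc⟩

/-- With more columns than rows only the first column is possible. -/
theorem AdditiveAt.classify_one_lt {c : A → B → ℤ} {i₀ : A} {j₀ : B} (h : AdditiveAt c i₀ j₀)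
    (hB : 3 ≤ Fintype.card B) (hAB : Fintype.card A < Fintype.card B) (h1 : c i₀ j₀ = 1)
    (hsmall : tableSq c ≤ Fintype.card A) :
    tableSq c = Fintype.card A ∧ ∀ i j, (j = j₀ → c i j = 1) ∧ (j ≠ j₀ → c i j = 0) := by
  refine (h.classify_one hB h1 hsmall).resolve_left fun hG => ?_
  have h2 := h.tableSq_of_const (hG i₀)
  have h3 : (1 : ℤ) ≤ ∑ i, c i j₀ ^ 2 := by
    refine le_trans ?_ (Finset.single_le_sum (fun i _ => sq_nonneg (c i j₀)) (Finset.mem_univ i₀))
    simp [h1]
  have h4 : (Fintype.card B : ℤ) ≤ tableSq c := by rw [h2]; nlinarith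
  omega

/-- An additive table that vanishes at the base point and differs from a table with at most two
units of squares by a change `D` of the first row, `D` being `0` at `j₀` or taking at least three
values there. -/
theorem AdditiveAt.eq_zero_of_near {X D : A → B → ℤ} {i₀ : A} {j₀ : B}
    (h : AdditiveAt X i₀ j₀) (hA : 3 ≤ Fintype.card A) (hB : 3 ≤ Fintype.card B)
    (h0 : X i₀ j₀ = 0) (hD : ∀ i, i ≠ i₀ → ∀ j, D i j = 0)
    (hD0 : D i₀ j₀ ≠ 0 ∨ ∃ j₁ j₂, D i₀ j₁ ≠ D i₀ j₂ ∧ D i₀ j₁ ≠ 0 ∧ D i₀ j₂ ≠ 0)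
    (hsmall : tableSq (fun i j => X i j + D i j) ≤ 2) : ∀ i j, X i j = 0 := by
  classical
  set S : A → ℤ := fun i => ∑ j, (X i j + D i j) ^ 2 with hS
  have hSnn : ∀ i, 0 ≤ S i := fun i => Finset.sum_nonneg fun _ _ => sq_nonneg _
  have hsplit : S i₀ + ∑ i ∈ Finset.univ.erase i₀, S i ≤ 2 := by
    rw [Finset.add_sum_erase _ _ (Finset.mem_univ i₀)]
    exact hsmall
  have hSX : ∀ i ∈ Finset.univ.erase i₀, S i = ∑ j, X i j ^ 2 := fun i hi =>
    Finset.sum_congr rfl fun j _ => by rw [hD i (Finset.mem_erase.1 hi).1 j, add_zero]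
  have hcard : 2 ≤ (Finset.univ.erase i₀).card := by
    rw [Finset.card_erase_of_mem (Finset.mem_univ i₀), Finset.card_univ]
    omega
  by_cases hG : ∀ j, X i₀ j = X i₀ j₀
  · intro i j
    rw [h.col_const hG i j]
    by_cases hi : i = i₀
    · rw [hi, h0]
    by_contra hne
    have hmem : i ∈ Finset.univ.erase i₀ := Finset.mem_erase.2 ⟨hi, Finset.mem_univ i⟩
    have h1 : S i ≤ 2 := le_trans (Finset.single_le_sum (fun i _ => hSnn i) hmem)
      (by linarith [hSnn i₀])
    rw [hSX i hmem, Finset.sum_congr rfl fun j _ => by rw [h.col_const hG i j], Finset.sum_const,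
      Finset.card_univ, nsmul_eq_mul] at h1
    have h2 : (1 : ℤ) ≤ X i j₀ ^ 2 := by nlinarith [mul_self_pos.2 hne]
    have h3 : (3 : ℤ) ≤ Fintype.card B := by exact_mod_cast hB
    nlinarith
  push Not at hG
  obtain ⟨j₁, hj₁⟩ := hG
  have hge : ∀ i ∈ Finset.univ.erase i₀, 1 ≤ S i := fun i hi => by
    rw [hSX i hi]; exact h.sq_sum_row_ge_one hj₁ i
  have hge2 : 2 ≤ ∑ i ∈ Finset.univ.erase i₀, S i := by
    refine le_trans ?_ (Finset.sum_le_sum hge)
    simpa using hcard
  have hS0 : S i₀ = 0 := le_antisymm (by linarith) (hSnn i₀)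
  have hrow : ∀ j, D i₀ j = -X i₀ j := by
    intro j
    rw [hS, Finset.sum_eq_zero_iff_of_nonneg (fun _ _ => sq_nonneg _)] at hS0
    have := pow_eq_zero_iff (by norm_num : (2 : ℕ) ≠ 0) |>.1 (hS0 j (Finset.mem_univ j))
    linarith
  rcases hD0 with hD0 | ⟨k₁, k₂, hne, hk₁, hk₂⟩
  · exact absurd (by rw [hrow, h0, neg_zero]) hD0
  · exfalso
    have hone : ∀ i ∈ Finset.univ.erase i₀, S i = 1 := by
      intro i hi
      refine le_antisymm ?_ (hge i hi)
      by_contra hh
      push Not at hh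
      rw [← Finset.add_sum_erase _ _ hi] at hge2 hsplit
      have h5 : (1 : ℤ) ≤ ∑ k ∈ (Finset.univ.erase i₀).erase i, S k := by
        obtain ⟨k, hk⟩ : ((Finset.univ.erase i₀).erase i).Nonempty := by
          rw [← Finset.card_pos, Finset.card_erase_of_mem hi]
          omega
        exact le_trans (hge k (Finset.mem_of_mem_erase hk))
          (Finset.single_le_sum (fun k _ => hSnn k) hk)
      linarith [hSnn i₀]
    obtain ⟨i, hi⟩ := Finset.card_pos.1 (lt_of_lt_of_le (by norm_num) hcard)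
    -- three different values in the first row give two non-zero entries in row `i`
    have hval : ∀ j, X i j = X i j₀ + X i₀ j := fun j => by
      have := h i j; rw [h0] at this; linarith
    have hk1' : X i₀ k₁ ≠ 0 := fun e => hk₁ (by rw [hrow, e, neg_zero])
    have hk2' : X i₀ k₂ ≠ 0 := fun e => hk₂ (by rw [hrow, e, neg_zero])
    have hne' : X i₀ k₁ ≠ X i₀ k₂ := fun e => hne (by rw [hrow, hrow, e])
    obtain ⟨u, v, huv, hu, hv⟩ : ∃ u v, u ≠ v ∧ X i u ≠ 0 ∧ X i v ≠ 0 := by
      have d1 : k₁ ≠ j₀ := fun e => hk1' (e ▸ h0)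
      have d2 : k₂ ≠ j₀ := fun e => hk2' (e ▸ h0)
      have d3 : k₁ ≠ k₂ := fun e => hne' (e ▸ rfl)
      have e1 := hval k₁
      have e2 := hval k₂
      by_cases z0 : X i j₀ = 0
      · exact ⟨k₁, k₂, d3, by omega, by omega⟩
      by_cases z1 : X i k₁ = 0
      · exact ⟨j₀, k₂, d2.symm, z0, by omega⟩
      · exact ⟨j₀, k₁, d1.symm, z0, z1⟩
    have h6 : X i u ^ 2 + X i v ^ 2 ≤ S i := by
      rw [hSX i hi, ← Finset.sum_pair (f := fun j => X i j ^ 2) huv]
      exact Finset.sum_le_sum_of_subset_of_nonneg (Finset.subset_univ _) fun _ _ _ => sq_nonneg _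
    rw [hone i hi] at h6
    nlinarith [mul_self_pos.2 hu, mul_self_pos.2 hv]

/-- An additive table vanishing at the base point with squares summing to at most two is zero. -/
theorem AdditiveAt.eq_zero_of_small {X : A → B → ℤ} {i₀ : A} {j₀ : B} (h : AdditiveAt X i₀ j₀)
    (hA : 3 ≤ Fintype.card A) (hB : 3 ≤ Fintype.card B) (h0 : X i₀ j₀ = 0) (hsmall : tableSq X ≤ 2) :
    ∀ i j, X i j = 0 := by
  have hA' : (3 : ℤ) ≤ Fintype.card A := by exact_mod_cast hA
  have hB' : (3 : ℤ) ≤ Fintype.card B := by exact_mod_cast hB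
  by_cases hG : ∀ j, X i₀ j = X i₀ j₀
  · intro i j
    rw [h.col_const hG i j]
    by_contra hne
    have h1 := h.tableSq_of_const hG
    have h2 : (1 : ℤ) ≤ ∑ a, X a j₀ ^ 2 := le_trans (by nlinarith [mul_self_pos.2 hne])
      (Finset.single_le_sum (fun a _ => sq_nonneg (X a j₀)) (Finset.mem_univ i))
    nlinarith
  · push Not at hG
    have := (h.one_column hB hG).1
    omega

end

end CfsgLib.OddOrder
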