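import Cfsg.Agent.OddOrder.PF10.TopMass

/-!
# The subgroup over `N(U)` is not `H W₁` (Peterfalvi (14.x))

`TopSub` is a maximal subgroup over `N(U)` with what `TopGroup` gives on it. If its index over the
kernel were `q = |W₁|` then `τ (Ind 1 - ξ₀) = col 0 - f ξ₀`, and the mass of the first column off the
support would be at most `q / |H|`, against the lower bounds of `TopMass`.
-/

set_option autoImplicit false
set_option linter.style.haveILetI false
set_option linter.unusedSectionVars false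

namespace CfsgLib.OddOrder

open Cfsg CfsgLib.Characters CfsgLib.Coherence CfsgLib.OddOrderChar
open Subgroup (centralizer normalizer)

universe u

variable {G : Type u} [Group G]

/-- A maximal subgroup over `N(U)`: of Type I, Frobenius, with `U` in the kernel. -/
structure TopSub (S T W₁ U W₂ L : Subgroup G) : Prop where
  coatom : IsCoatom L
  typeI : IsTypeI L
  normalizer_le : normalizer (U : Set G) ≤ L
  notS : ∀ x : G, L ≠ S.map (MulAut.conj x).toMonoidHom
  notT : ∀ x : G, L ≠ T.map (MulAut.conj x).toMonoidHom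
  frob : ∀ x ∈ fittingHallOf L, x ≠ 1 → L ⊓ centralizer ({x} : Set G) ≤ fittingHallOf L
  U_le : U ≤ fittingHallOf L
  coprime₁ : (Nat.card (fittingHallOf L)).Coprime (Nat.card W₁)
  coprime₂ : (Nat.card (fittingHallOf L)).Coprime (Nat.card W₂)

variable [Fintype G] {S T W₁ U W₂ V L : Subgroup G}

namespace TopConfig

variable (h : TopConfig S T W₁ U W₂ V) (hG : IsMinSimpleOddOrder G) (F : FTFacts G)
include h hG F

/-- A subgroup as in `TopSub` exists. -/
theorem exists_topSub (hfr : ∀ M : Subgroup G, IsCoatom M → IsTypeI M →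
      ∀ x ∈ fittingHallOf M, x ≠ 1 → M ⊓ centralizer ({x} : Set G) ≤ fittingHallOf M) :
    ∃ L : Subgroup G, TopSub S T W₁ U W₂ L := by
  obtain ⟨L, hL, hN, hI, hS, hT⟩ := h.toFTPair.exists_top hG F h.cardT
  obtain ⟨h1, h2, h3⟩ := h.toFTPair.top_kernel hG F hL hI hN hS hT (hfr L hL hI)
  exact ⟨L, hL, hI, hN, hS, hT, hfr L hL hI, h1, h2, h3⟩

theorem card_S : Nat.card S = Nat.card (fittingHallOf S) * Nat.card U * Nat.card W₁ := by
  rw [compl_card h.dataS.U_compl, compl_card h.dataS.W₁_compl]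

theorem card_T : Nat.card T = Nat.card (fittingHallOf T) * Nat.card V * Nat.card W₂ := by
  rw [compl_card h.dataT.U_compl, compl_card h.dataT.W₁_compl]

/-- The gap used in the argument. -/
theorem G_large : 5 * Nat.card W₂ * Nat.card W₁ ≤ Nat.card S := by
  have hp := h.five_le_p hG F
  have hq := h.three_le_q hG F
  rw [h.card_S hG F, h.cardS]
  refine Nat.mul_le_mul_right _ ?_
  refine le_trans ?_ (Nat.le_mul_of_pos_right _ Nat.card_pos)
  calc 5 * Nat.card W₂ ≤ Nat.card W₂ * Nat.card W₂ := Nat.mul_le_mul_right _ hp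
    _ = Nat.card W₂ ^ 2 := (sq _).symm
    _ ≤ _ := Nat.pow_le_pow_right (by omega) (by omega)

variable (hL : TopSub S T W₁ U W₂ L)
include hL

theorem card_kernel : ∃ k, Odd k ∧ Nat.card (fittingHallOf L) = k * Nat.card U := by
  obtain ⟨k, hk⟩ := Subgroup.card_dvd_of_le hL.U_le
  refine ⟨k, ?_, hk.trans (mul_comm _ _)⟩
  exact Odd.of_dvd_nat (minSimple_odd_subgroup hG _) (hk ▸ dvd_mul_left k _)

theorem vBase_notMem_tilde (w : ↥(W₁ ⊔ W₂)) (h1 : (w : G) ∉ W₁) (h2 : (w : G) ∉ W₂) :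
    (w : G) ∉ tildeOf L (sigmaSet L) :=
  h.toFTPair.vConj_not_tilde hG F ⟨1, w, w.2, h1, h2, by group⟩ hL.coatom

/-- The index of the kernel is not `q`. -/
theorem index_ne_q : (fittingHallOf L).relIndex L ≠ Nat.card W₁ := by
  classical
  intro hidx
  letI : Fintype L := Fintype.ofFinite _
  letI : Fintype S := Fintype.ofFinite _
  letI : Fintype T := Fintype.ofFinite _
  obtain ⟨ξ₀, f, hK⟩ := F.exists_kSide hG hL.coatom hL.typeI hL.frob
  obtain ⟨hA, hsupp⟩ := F.frobenius_supp hL.coatom hL.typeI hL.frob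
  obtain ⟨χ, hχ, hcol⟩ := h.exists_col_mass hG F
  obtain ⟨hrel, -⟩ := kSide_frobenius_card (L := L)
  have hi : (fittingHall L).index = Nat.card W₁ := (index_fittingHall_eq L).trans hidx
  obtain ⟨hadd, h11, g, hg, hbd, hexp⟩ := hK.gamma_table hχ
    (fun w h1 h2 => hsupp ▸ h.vBase_notMem_tilde hG F hL w h1 h2)
  set c := coefT χ (dadeIsometry (supportA L) L (supportR L) hK.gamma) with hc
  rw [hrel, hi] at hbd
  have hqN := h.three_le_q hG F
  have hpN := h.five_le_p hG F
  have hHN : 2 * Nat.card W₁ + 1 < Nat.card (fittingHallOf L) :=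
    lt_of_lt_of_le (h.U_gt hG F) (Subgroup.card_le_of_le hL.U_le)
  have hq : (0 : ℝ) < Nat.card W₁ := by exact_mod_cast Nat.card_pos
  have ha : (2 : ℝ) < ((Nat.card (fittingHallOf L) : ℝ) - 1) / Nat.card W₁ := by
    rw [lt_div_iff₀ hq]
    have : (2 : ℝ) * Nat.card W₁ + 1 < Nat.card (fittingHallOf L) := by exact_mod_cast hHN
    linarith
  -- the table is the first column
  have hlt : Fintype.card (leftHat W₁ W₂) < Fintype.card (rightHat W₁ W₂) := by
    rw [hχ.card_left, hχ.card_right]; exact h.lt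
  have hnonneg : (0 : ℝ) ≤ (g : ℝ) ^ 2 * (((Nat.card (fittingHallOf L) : ℝ) - 1) / Nat.card W₁) -
      2 * g ∧ (g ≠ 0 → (0 : ℝ) < (g : ℝ) ^ 2 *
        (((Nat.card (fittingHallOf L) : ℝ) - 1) / Nat.card W₁) - 2 * g) := by
    have key : g ≠ 0 → (0 : ℝ) < (g : ℝ) ^ 2 *
        (((Nat.card (fittingHallOf L) : ℝ) - 1) / Nat.card W₁) - 2 * g := fun hg0 => by
      have h1 : (1 : ℝ) ≤ (g : ℝ) ^ 2 := by
        have : (1 : ℤ) ≤ g ^ 2 := by nlinarith [mul_self_pos.2 hg0]
        exact_mod_cast this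
      have h2 : (g : ℝ) ≤ (g : ℝ) ^ 2 := by
        have : g ≤ g ^ 2 := Int.le_self_sq g
        exact_mod_cast this
      nlinarith
    refine ⟨?_, key⟩
    rcases eq_or_ne g 0 with rfl | hg0
    · simp
    · exact (key hg0).le
  have hsmall : tableSq c ≤ (Fintype.card (leftHat W₁ W₂) : ℤ) := by
    rw [hχ.card_left]
    have : (tableSq c : ℝ) ≤ ((Nat.card W₁ : ℤ) : ℝ) := by push_cast; linarith [hnonneg.1]
    exact_mod_cast this
  obtain ⟨hsq, hcv⟩ := hadd.classify_one_lt hχ.three_le_right hlt h11 hsmall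
  rw [hχ.card_left] at hsq
  have hg0 : g = 0 := by
    by_contra hg0
    have h1 := hnonneg.2 hg0
    rw [hsq] at hbd
    push_cast at hbd
    linarith
  subst hg0
  have hY : dadeIsometry (supportA L) L (supportR L) hK.gamma = col χ 1 - f ξ₀ := by
    rw [hexp rfl (by rw [hi, hsq])]
    congr 1
    rw [col]
    refine Finset.sum_congr rfl fun k _ => ?_
    rw [Finset.sum_eq_single (1 : rightHat W₁ W₂)]
    · rw [(hcv k 1).1 rfl, Int.cast_one, one_smul]
    · intro l _ hl
      rw [(hcv k l).2 hl, Int.cast_zero, zero_smul]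
    · exact fun h' => absurd (Finset.mem_univ _) h'
  have hg' : classInner (dadeIsometry (supportA L) L (supportR L) hK.gamma) (f ξ₀) = -1 := by
    rw [hg]; simp
  have hdS : Disjoint (tildeOf S (sigmaSet S)) (tildeOf L (sigmaSet L)) :=
    Set.disjoint_iff_inter_eq_empty.2 (F.tilde_disjoint S L h.coatomS hL.coatom hL.notS)
  have hdR := h.toFTPair.rest_disjoint hG F hL.coatom hL.notS hL.notT
  have hdRS : Disjoint (tildeOf S (sigmaSet S)) (restRegion S T L) :=
    Set.disjoint_left.2 fun g' hgS ⟨N, hN, hgN⟩ => Set.eq_empty_iff_forall_notMem.1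
      (F.tilde_disjoint S N h.coatomS hN.1 hN.2.1) g' ⟨hgS, hgN⟩
  have hmass := hK.mass_le hY hg' (O := tildeOf S (sigmaSet S) ∪ restRegion S T L)
    (hsupp ▸ Set.disjoint_union_left.2 ⟨hdS, hdR⟩)
  rw [gMass_union hdRS, hrel, hi] at hmass
  have hrest := h.toFTPair.gMass_rest_col hG F hL.coatom hL.notS hL.notT hχ
  have hrest0 : 0 ≤ gMass (restRegion S T L) (fun _ => 1) := gMass_nonneg _ _
  -- first consequence: `H = U`
  have hu : (0 : ℝ) < Nat.card U := by exact_mod_cast Nat.card_pos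
  have hp : (5 : ℝ) ≤ Nat.card W₂ := by exact_mod_cast hpN
  obtain ⟨k, hkodd, hk⟩ := h.card_kernel hG F hL
  have hk1 : k = 1 := by
    by_contra hk1
    have hk3 : 3 ≤ k := by obtain ⟨a, rfl⟩ := hkodd; omega
    have h1 : (Nat.card W₁ : ℝ) * ((Nat.card W₂ : ℝ) - 1) / ((Nat.card U : ℝ) * Nat.card W₂) ≤
        (Nat.card W₁ : ℝ) / ((k : ℝ) * Nat.card U) := by
      rw [hk] at hmass
      push_cast at hmass
      linarith
    have hkR : (3 : ℝ) ≤ k := by exact_mod_cast hk3
    rw [div_le_div_iff₀ (by positivity) (by positivity)] at h1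
    have h2 : (Nat.card W₁ : ℝ) * Nat.card U * (((Nat.card W₂ : ℝ) - 1) * k - Nat.card W₂) ≤ 0 := by
      nlinarith
    have h3 : (0 : ℝ) < ((Nat.card W₂ : ℝ) - 1) * k - Nat.card W₂ := by nlinarith
    nlinarith [mul_pos (mul_pos hq hu) h3]
  subst hk1
  rw [one_mul] at hk
  rw [hk] at hmass
  -- second consequence: the rest is small
  have hX : gMass (restRegion S T L) (fun _ => 1) ≤
      (Nat.card W₁ : ℝ) / ((Nat.card U : ℝ) * Nat.card W₂) := by
    have e : (Nat.card W₁ : ℝ) / Nat.card U -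
        (Nat.card W₁ : ℝ) * ((Nat.card W₂ : ℝ) - 1) / ((Nat.card U : ℝ) * Nat.card W₂) =
        (Nat.card W₁ : ℝ) / ((Nat.card U : ℝ) * Nat.card W₂) := by
      field_simp; ring
    linarith
  rw [h.toFTPair.gMass_rest hG F hL.coatom hL.notS hL.notT, h.toFTPair.gMass_far hG F,
    ← F.typeI_kernel hL.coatom hL.typeI, hk, ← h.sigma_S hG F] at hX hrest0
  have hLc : Nat.card L = Nat.card U * Nat.card W₁ := by
    rw [← card_mul_relIndex (fittingHallOf_le L), hidx, hk]
  have hSc := h.card_S hG F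
  have hTc := h.card_T hG F
  have hP : (0 : ℝ) < Nat.card (fittingHallOf S) := by exact_mod_cast Nat.card_pos
  have hv : (0 : ℝ) < Nat.card V := by exact_mod_cast Nat.card_pos
  have hSbig : (5 : ℝ) * Nat.card W₂ * Nat.card W₁ ≤ Nat.card S := by
    exact_mod_cast h.G_large hG F
  have hSpos : (0 : ℝ) < Nat.card S := by exact_mod_cast Nat.card_pos
  have hS' : 1 / (Nat.card S : ℝ) ≤ 1 / (5 * ((Nat.card W₁ : ℝ) * Nat.card W₂)) :=
    one_div_le_one_div_of_le (by positivity) (by linarith)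
  have eid : 1 - ((Nat.card W₁ : ℝ) - 1) * ((Nat.card W₂ : ℝ) - 1) / (Nat.card W₁ * Nat.card W₂) =
      1 / Nat.card W₁ + 1 / Nat.card W₂ - 1 / ((Nat.card W₁ : ℝ) * Nat.card W₂) := by
    field_simp; ring
  have eS : ((Nat.card (fittingHallOf S) : ℝ) - 1) / Nat.card S =
      1 / ((Nat.card U : ℝ) * Nat.card W₁) - 1 / Nat.card S := by
    rw [hSc]; push_cast; field_simp
  have eL : ((Nat.card U : ℝ) - 1) / Nat.card L =
      1 / (Nat.card W₁ : ℝ) - 1 / ((Nat.card U : ℝ) * Nat.card W₁) := by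
    rw [hLc]; push_cast; field_simp
  rw [eS, eL] at hX hrest0
  have hG0 : (0 : ℝ) ≤ 1 / (Nat.card G : ℝ) := by positivity
  by_cases hII : IsOfTypeII T
  · rw [← ((h.toFTPair.swap hII).core_S hG F).1, h.cardT] at hX
    have eT : ((Nat.card W₁ ^ Nat.card W₂ : ℕ) - 1 : ℝ) / Nat.card T ≤
        1 / ((Nat.card V : ℝ) * Nat.card W₂) := by
      rw [hTc, h.cardT]
      push_cast
      rw [div_le_div_iff₀ (by positivity) (by positivity)]
      nlinarith [mul_pos hv (show (0 : ℝ) < Nat.card W₂ by linarith)]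
    have hVb : (11 : ℝ) ≤ Nat.card V := by
      have := h.toFTPair.V_card hG F h.typeT'
      exact_mod_cast (show 11 ≤ Nat.card V by omega)
    have hub : 2 * (Nat.card W₁ : ℝ) + 1 < Nat.card U := by exact_mod_cast h.U_gt hG F
    have hq3 : (3 : ℝ) ≤ Nat.card W₁ := by exact_mod_cast hqN
    have hGS : (Nat.card S : ℝ) ≤ Nat.card G := by
      exact_mod_cast Subgroup.card_le_card_group S
    have hG1 : (Nat.card W₂ : ℝ) / Nat.card G ≤ 1 / 15 := by
      rw [div_le_div_iff₀ (by linarith) (by norm_num)]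
      nlinarith
    have h1 : (1 / (Nat.card W₂ : ℝ)) * (1 - 1 / Nat.card W₁ - 1 / Nat.card V) -
        1 / (Nat.card G : ℝ) ≤ (Nat.card W₁ : ℝ) / ((Nat.card U : ℝ) * Nat.card W₂) := by
      have : (0 : ℝ) ≤ 1 / (Nat.card S : ℝ) := by positivity
      have e : (1 / (Nat.card W₂ : ℝ)) * (1 - 1 / Nat.card W₁ - 1 / Nat.card V) =
          1 / Nat.card W₂ - 1 / ((Nat.card W₁ : ℝ) * Nat.card W₂) -
            1 / ((Nat.card V : ℝ) * Nat.card W₂) := by field_simp
      linarith
    have h2 : 1 - 1 / (Nat.card W₁ : ℝ) - 1 / Nat.card V ≤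
        (Nat.card W₁ : ℝ) / Nat.card U + (Nat.card W₂ : ℝ) / Nat.card G := by
      have h3 := mul_le_mul_of_nonneg_right h1 (show (0 : ℝ) ≤ Nat.card W₂ by linarith)
      have e2 : ((1 / (Nat.card W₂ : ℝ)) * (1 - 1 / Nat.card W₁ - 1 / Nat.card V) -
          1 / (Nat.card G : ℝ)) * Nat.card W₂ =
          1 - 1 / Nat.card W₁ - 1 / Nat.card V - (Nat.card W₂ : ℝ) / Nat.card G := by field_simp
      have e3 : (Nat.card W₁ : ℝ) / ((Nat.card U : ℝ) * Nat.card W₂) * Nat.card W₂ =
          (Nat.card W₁ : ℝ) / Nat.card U := by field_simp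
      linarith
    have h4 : 1 / (Nat.card W₁ : ℝ) ≤ 1 / 3 := one_div_le_one_div_of_le (by norm_num) hq3
    have h5 : 1 / (Nat.card V : ℝ) ≤ 1 / 11 := one_div_le_one_div_of_le (by norm_num) hVb
    have h6 : (Nat.card W₁ : ℝ) / Nat.card U < 1 / 2 := by
      rw [div_lt_div_iff₀ hu (by norm_num)]; linarith
    linarith
  · obtain ⟨hd, -⟩ := F.data_not_II hG h.coatomT h.dataT hII
    rw [← hd] at hrest0
    have hTd : Nat.card T = Nat.card ↥⁅T, T⁆ * Nat.card W₂ := (compl_card h.dataT.W₁_compl).symm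
    have hTpos : (0 : ℝ) < Nat.card ↥⁅T, T⁆ := by exact_mod_cast Nat.card_pos
    have eT : ((Nat.card ↥⁅T, T⁆ : ℝ) - 1) / Nat.card T =
        1 / (Nat.card W₂ : ℝ) - 1 / Nat.card T := by
      rw [hTd]; push_cast; field_simp
    rw [eT] at hrest0
    have hTbig : 5 * (Nat.card W₁ * Nat.card W₂) ≤ Nat.card T := by
      rw [hTc, h.cardT]
      have h1 : 5 * Nat.card W₁ ≤ Nat.card W₁ ^ Nat.card W₂ := by
        calc 5 * Nat.card W₁ ≤ Nat.card W₁ ^ 2 * Nat.card W₁ := Nat.mul_le_mul_right _ (by nlinarith)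
          _ = Nat.card W₁ ^ 3 := by ring
          _ ≤ _ := Nat.pow_le_pow_right (by omega) (by omega)
      rw [← mul_assoc]
      exact Nat.mul_le_mul_right _ (h1.trans (Nat.le_mul_of_pos_right _ Nat.card_pos))
    have hT' : 1 / (Nat.card T : ℝ) ≤ 1 / (5 * ((Nat.card W₁ : ℝ) * Nat.card W₂)) :=
      one_div_le_one_div_of_le (by positivity) (by exact_mod_cast hTbig)
    have h7 : 1 / (5 * ((Nat.card W₁ : ℝ) * Nat.card W₂)) + 1 / (5 * ((Nat.card W₁ : ℝ) * Nat.card W₂)) <
        1 / ((Nat.card W₁ : ℝ) * Nat.card W₂) := by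
      rw [← one_div_mul_one_div]
      have : (0 : ℝ) < 1 / ((Nat.card W₁ : ℝ) * Nat.card W₂) := by positivity
      linarith
    linarith

end TopConfig

end CfsgLib.OddOrder
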