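import Cfsg.Agent.OddOrder.PF10.TopStructure

/-!
# The parity argument with a second side (Peterfalvi 14)

If `T` is not of Type II it is a second side, with index `p`; if it is, a maximal subgroup over `N(V)`
is one, with index dividing `p q`.  So that subgroup is conjugate to `L`, and then `|H|` is a multiple
of `|V|` greater than `|V|`.
-/

set_option autoImplicit false
set_option linter.style.haveILetI false
set_option linter.unusedSectionVars false

namespace CfsgLib.OddOrder

open Cfsg CfsgLib.Characters CfsgLib.Coherence CfsgLib.OddOrderChar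
open Subgroup (centralizer normalizer)

universe u

namespace Numeric

/-- `4 · 3 ^ (p - 4)` beats `p ^ 2 + p + 1` from `p = 7` on. -/
theorem four_mul_pow : ∀ p : ℕ, 7 ≤ p → p ^ 2 + p + 1 < 4 * 3 ^ (p - 4) := by
  intro p hp
  induction p, hp using Nat.le_induction with
  | base => norm_num
  | succ n hn ih =>
    rw [show n + 1 - 4 = n - 4 + 1 by omega, pow_succ (3 : ℕ)]
    nlinarith

theorem v_large {p q v : ℕ} (hq : q.Prime) (hq3 : 3 ≤ q) (hp : 7 ≤ p)
    (hv : v * (q - 1) = q ^ p - 1) : p * q * (p * q + 1) + 1 < v := by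
  have hv' : v = (q ^ p - 1) / (q - 1) :=
    Nat.eq_of_mul_eq_mul_right (by omega) (hv.trans (Singer.singer_mul hq).symm)
  have h1 : q ^ (p - 2) + q ^ (p - 1) ≤ v := by
    rw [hv', Singer.singer_eq_sum hq, ← Finset.sum_pair (f := fun k => q ^ k)
      (show p - 2 ≠ p - 1 by omega)]
    refine Finset.sum_le_sum_of_subset fun k hk => ?_
    simp only [Finset.mem_insert, Finset.mem_singleton] at hk
    exact Finset.mem_range.2 (by omega)
  have h2 : q ^ 2 * (4 * 3 ^ (p - 4)) ≤ q ^ (p - 2) + q ^ (p - 1) := by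
    have e1 : q ^ (p - 2) = q ^ 2 * q ^ (p - 4) := by rw [← pow_add]; congr 1; omega
    have e2 : q ^ (p - 1) = q * q ^ (p - 2) := by rw [← pow_succ']; congr 1; omega
    rw [e2, e1]
    have h3 : 3 ^ (p - 4) ≤ q ^ (p - 4) := Nat.pow_le_pow_left hq3 _
    nlinarith [Nat.mul_le_mul_left (q ^ 2) h3, Nat.zero_le (q ^ 2 * q ^ (p - 4))]
  have h3 := Nat.mul_lt_mul_of_pos_left (four_mul_pow p hp) (show 0 < q ^ 2 by positivity)
  have h4 : p * q ≤ p * q ^ 2 := Nat.mul_le_mul_left _ (Nat.le_self_pow two_ne_zero q)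
  have h5 : 1 ≤ q ^ 2 := Nat.one_le_pow _ _ (by omega)
  have e1 : p * q * (p * q + 1) + 1 = p ^ 2 * q ^ 2 + p * q + 1 := by ring
  have e2 : q ^ 2 * (p ^ 2 + p + 1) = p ^ 2 * q ^ 2 + p * q ^ 2 + q ^ 2 := by ring
  omega

theorem k_u_large {p q k u e : ℕ} (hp : p.Prime) (hq : 3 ≤ q) (hqo : Odd q) (hqp : q + 2 ≤ p)
    (hk : q * p + p ≤ k) (hu : u * e = (p ^ q - 1) / (p - 1))
    (he : e = 1 ∨ (e = q ∧ 2 * q + 1 ≤ p)) : p * q * (p * q + 1) + 1 < k * u := by
  refine lt_of_lt_of_le ?_ (Nat.mul_le_mul_right u hk)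
  have h1 : p ^ 2 + p + 1 ≤ u * e ∧ p ^ (q - 1) ≤ u * e := by
    refine ⟨?_, hu ▸ Singer.pow_pred_le_singer hp (by omega)⟩
    rw [hu, Singer.singer_eq_sum hp]
    refine le_trans (le_of_eq ?_) (Finset.sum_le_sum_of_subset (Finset.range_subset_range.2 hq))
    simp [Finset.sum_range_succ]
    ring
  rcases he with rfl | ⟨rfl, hp2⟩
  · rw [mul_one] at h1
    nlinarith [Nat.mul_le_mul_left (p * (q + 1)) h1.1, Nat.mul_le_mul_left (p * (q + 1)) hqp]
  · refine Nat.lt_of_mul_lt_mul_right (a := e) ?_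
    rw [mul_assoc _ u e]
    refine lt_of_lt_of_le ?_ (Nat.mul_le_mul_left _ (le_refl (u * e)))
    rcases Nat.eq_or_lt_of_le hq with h3 | h4
    · subst h3
      refine lt_of_lt_of_le ?_ (Nat.mul_le_mul_left _ h1.1)
      nlinarith
    · refine lt_of_lt_of_le ?_ (Nat.mul_le_mul_left _ h1.2)
      have h5 : p ^ 4 ≤ p ^ (e - 1) := Nat.pow_le_pow_right hp.pos (by
        obtain ⟨a, ha⟩ := hqo; omega)
      refine lt_of_lt_of_le ?_ (Nat.mul_le_mul_left _ h5)
      have h6 : e ^ 2 ≤ p * p := by nlinarith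
      have h7 : 2 ≤ p * p := by nlinarith
      have e1 : (e * p + p) * p ^ 4 = e * p ^ 5 + p ^ 5 := by ring
      have e2 : (p * e * (p * e + 1) + 1) * e = p * p * (e * e ^ 2) + p * e ^ 2 + e := by ring
      rw [e1, e2]
      have a1 : p * p * (e * e ^ 2) ≤ p * p * (e * (p * p)) := by
        exact Nat.mul_le_mul_left _ (Nat.mul_le_mul_left _ h6)
      have a2 : p * e ^ 2 ≤ p * (p * p) := Nat.mul_le_mul_left _ h6
      have a3 : p * p * (e * (p * p)) * 2 ≤ e * p ^ 5 := by
        calc p * p * (e * (p * p)) * 2 ≤ p * p * (e * (p * p)) * p := Nat.mul_le_mul_left _ hp.two_le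
          _ = e * p ^ 5 := by ring
      have a4 : p * (p * p) + e < p ^ 5 := by
        have b1 : p * (p * p) * 4 ≤ p ^ 5 := by
          calc p * (p * p) * 4 ≤ p * (p * p) * (p * p) :=
                Nat.mul_le_mul_left _ (by nlinarith [hp.two_le])
            _ = p ^ 5 := by ring
        have b2 : p ≤ p * (p * p) := Nat.le_mul_of_pos_right _ (by positivity)
        omega
      omega

end Numeric

variable {G : Type u} [Group G] [Fintype G] {S T W₁ U W₂ V L L' : Subgroup G}

namespace TopSub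

variable (hL : TopSub S T W₁ U W₂ L)
include hL

theorem exists_side (hG : IsMinSimpleOddOrder G) (F : FTFacts G) [Fintype L] :
    ∃ ξ₀ f, KSide L (fittingHall L) ⊥ (supportA L) (supportR L) ξ₀ f ∧
      dadeSupp (supportA L) (supportR L) = tildeOf L (sigmaSet L) := by
  obtain ⟨ξ₀, f, hK⟩ := F.exists_kSide hG hL.coatom hL.typeI hL.frob
  exact ⟨ξ₀, f, hK, (F.frobenius_supp hL.coatom hL.typeI hL.frob).2⟩

end TopSub

namespace TopConfig

variable (h : TopConfig S T W₁ U W₂ V) (hG : IsMinSimpleOddOrder G) (F : FTFacts G)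
include h hG F

variable (hL : TopSub S T W₁ U W₂ L)
include hL

theorem H_large : Nat.card W₂ * Nat.card W₁ * (Nat.card W₂ * Nat.card W₁ + 1) + 1 <
    Nat.card (fittingHallOf L) := by
  obtain ⟨k, e, hk, hkge, hu, he⟩ := h.kernel_large hG F hL
  rw [hk]
  exact Numeric.k_u_large (h.prime_p hG F) (h.three_le_q hG F) (minSimple_odd_subgroup hG W₁)
    (h.add_two_le hG F) hkge hu he

omit hL in
theorem v_bound : Nat.card W₂ * (Nat.card W₂ * Nat.card W₁ + 1) + 1 < Nat.card V ∧
    ((Nat.card W₁ = 3 ∧ Nat.card W₂ = 5 ∧ Nat.card V = 121) ∨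
      Nat.card W₂ * Nat.card W₁ * (Nat.card W₂ * Nat.card W₁ + 1) + 1 < Nat.card V) := by
  have hq := h.three_le_q hG F
  have h2 := h.add_two_le hG F
  rcases Nat.lt_or_ge (Nat.card W₂) 7 with hp | hp
  · obtain ⟨a, ha⟩ := minSimple_odd_subgroup hG W₂
    have e1 : Nat.card W₂ = 5 := by omega
    have e2 : Nat.card W₁ = 3 := by omega
    have e3 := h.fullT
    rw [e1, e2] at e3
    norm_num at e3
    have e4 : Nat.card V = 121 := by omega
    rw [e1, e2, e4]
    exact ⟨by norm_num, Or.inl ⟨rfl, rfl, rfl⟩⟩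
  · have h3 := Numeric.v_large (h.prime_q hG F) hq hp h.fullT
    refine ⟨lt_of_le_of_lt ?_ h3, Or.inr h3⟩
    exact Nat.add_le_add_right (Nat.mul_le_mul_right _ (Nat.le_mul_of_pos_right _ (by omega))) 1

/-- `T` is of Type II. -/
theorem typeII_T : IsOfTypeII T := by
  by_contra hII
  letI : Fintype L := Fintype.ofFinite _
  letI : Fintype T := Fintype.ofFinite _
  obtain ⟨ξ, f, hK, hsupp⟩ := hL.exists_side hG F
  obtain ⟨ξ', f', hK'⟩ := h.toFTPair.exists_kSide_T hG F hII
  have hd : Disjoint (dadeSupp (supportA L) (supportR L)) (dadeSupp (supportA T) (supportR T)) := by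
    rw [hsupp, h.toFTPair.dadeSupp_T hG F hII]
    exact (Set.disjoint_iff_inter_eq_empty.2
      (F.tilde_disjoint T L h.coatomT hL.coatom hL.notT)).symm
  obtain ⟨hidx, -⟩ := h.exists_conjW₂ hG F hL
  have hi : (fittingHall L).index = Nat.card W₁ * Nat.card W₂ := (index_fittingHall_eq L).trans hidx
  have hC : V ⊓ centralizer (fittingHallOf T : Set G) = ⊥ := by
    rw [eq_bot_iff, ← h.centralizer_V_W₁ hG F]
    exact inf_le_inf_left _ (Subgroup.centralizer_le h.toFTPair.W₁_le_kernelT)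
  have hM : (Nat.card V : ℝ) ≤ ((derDer T).relIndex (derIn T) : ℝ) := by
    exact_mod_cast h.toFTPair.relIndex_derDer_T hG F hII hC
  have hp3 : (Nat.card W₂ : ℝ) + 1 ≤ (Nat.card W₂ : ℝ) * Nat.card W₁ + 1 := by
    have : Nat.card W₂ ≤ Nat.card W₂ * Nat.card W₁ := Nat.le_mul_of_pos_right _ Nat.card_pos
    exact_mod_cast Nat.add_le_add_right this 1
  have h1 : (Nat.card W₂ : ℝ) * Nat.card W₁ * ((Nat.card W₂ : ℝ) * Nat.card W₁ + 1) + 1 <
      Nat.card (fittingHallOf L) := by exact_mod_cast h.H_large hG F hL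
  have h2 : (Nat.card W₂ : ℝ) * ((Nat.card W₂ : ℝ) * Nat.card W₁ + 1) + 1 < Nat.card V := by
    exact_mod_cast (h.v_bound hG F).1
  refine KSide.cross_false hK hK' hd ?_ ?_
  · rw [hi, h.toFTPair.index_derIn_T hG F hII, (kSide_frobenius_card (L := L)).1]
    push_cast
    nlinarith [mul_le_mul_of_nonneg_left hp3
      (show (0 : ℝ) ≤ (Nat.card W₂ : ℝ) * Nat.card W₁ by positivity)]
  · rw [hi, h.toFTPair.index_derIn_T hG F hII]
    push_cast
    rw [mul_comm (Nat.card W₁ : ℝ)]
    linarith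

/-- `U` acts without fixed points on `S_F`. -/
theorem U_fpf_S : ∀ x ∈ U, x ≠ 1 → fittingHallOf S ⊓ centralizer ({x} : Set G) = ⊥ := by
  rcases h.altS with ⟨hf, -⟩ | ⟨hq3, hu, -⟩
  · exact hf
  exfalso
  obtain ⟨k, e, -, -, hue, he⟩ := h.kernel_large hG F hL
  have hp := h.five_le_p hG F
  rw [hq3] at hue he
  have h1 : Nat.card W₂ ^ 2 + Nat.card W₂ + 1 = (Nat.card W₂ ^ 3 - 1) / (Nat.card W₂ - 1) := by
    rw [Singer.singer_eq_sum (h.prime_p hG F)]
    simp [Finset.sum_range_succ]
    ring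
  obtain ⟨c, hc⟩ := minSimple_odd_subgroup hG W₂
  have h2 : (Nat.card W₂ - 1) / 2 = c := by omega
  rw [h2] at hu
  rw [← h1, hu, hc] at hue
  rcases he with rfl | ⟨rfl, -⟩ <;> nlinarith

theorem centralizer_U_W₂ : U ⊓ centralizer (W₂ : Set G) = ⊥ := by
  obtain ⟨w, hw, hw1⟩ := (Subgroup.bot_or_exists_ne_one W₂).resolve_left h.dataT.W₁_ne
  rw [Subgroup.eq_bot_iff_forall]
  rintro x ⟨hx, hxc⟩
  by_contra hx1
  exact hw1 ((Subgroup.eq_bot_iff_forall _).1 (h.U_fpf_S hG F hL x hx hx1) w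
    ⟨h.toFTPair.W₂_le_kernelS hw,
      Subgroup.mem_centralizer_singleton_iff.2 (Subgroup.mem_centralizer_iff.1 hxc w hw)⟩)

omit hL in
/-- `V` is cyclic. -/
theorem V_cyclic : IsCyclic V := by
  have hVT : V ≤ T := h.dataT.U_compl.2.1.trans (derived_le_self T)
  set K := (fittingHallOf T).subgroupOf T with hK
  haveI : K.Normal := (Subgroup.normal_subgroupOf_iff_le_normalizer (fittingHallOf_le T)).2
    (le_normalizer_fittingHallOf T)
  have hK1 : K ≠ ⊥ := by
    intro e
    rw [hK, Subgroup.subgroupOf_eq_bot] at e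
    have h2 : Nat.card (fittingHallOf T) = 1 := by
      rw [← inf_eq_left.2 (fittingHallOf_le T), e.eq_bot, Subgroup.card_bot]
    rw [h.cardT] at h2
    have h3 := h.five_le_p hG F
    have := Nat.le_self_pow (n := Nat.card W₂) (by omega) (Nat.card W₁)
    have := h.three_le_q hG F
    omega
  haveI : IsZGroup (V.subgroupOf T) := by
    refine isZGroup_of_fpf_odd hK1 (fun x hx hx1 => ?_) ?_
    · rw [Subgroup.eq_bot_iff_forall]
      rintro k ⟨hk, hkc⟩
      refine Subtype.ext ((Subgroup.eq_bot_iff_forall _).1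
        (h.fpfT x hx (fun e => hx1 (Subtype.ext e))) k ⟨hk, ?_⟩)
      exact Subgroup.mem_centralizer_singleton_iff.2
        (congrArg Subtype.val (Subgroup.mem_centralizer_singleton_iff.1 hkc))
    · rw [Nat.card_congr (Subgroup.subgroupOfEquivOfLe hVT).toEquiv]
      exact minSimple_odd_subgroup hG V
  haveI : Group.IsNilpotent (V.subgroupOf T) :=
    haveI := h.dataT.U_nilpotent
    Group.nilpotent_of_mulEquiv (Subgroup.subgroupOfEquivOfLe hVT).symm
  exact isCyclic_of_surjective (Subgroup.subgroupOfEquivOfLe hVT).toMonoidHom (MulEquiv.surjective _)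

/-- A subgroup over `N(V)`. -/
theorem exists_topSub' (hfr : ∀ M : Subgroup G, IsCoatom M → IsTypeI M →
      ∀ x ∈ fittingHallOf M, x ≠ 1 → M ⊓ centralizer ({x} : Set G) ≤ fittingHallOf M) :
    ∃ L' : Subgroup G, TopSub T S W₂ V W₁ L' ∧
      ((fittingHallOf L').relIndex L' = Nat.card W₂ ∨
        ((fittingHallOf L').relIndex L' = Nat.card W₂ * Nat.card W₁ ∧
          ∃ y ∈ fittingHallOf S, W₁.map (MulAut.conj y).toMonoidHom ≤ L')) := by
  have hs := h.toFTPair.swap (h.typeII_T hG F hL)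
  obtain ⟨L', hM, hN, hI, hS, hT⟩ := hs.exists_top hG F h.cardS
  obtain ⟨h1, h2, h3⟩ := hs.top_kernel hG F hM hI hN hS hT (hfr L' hM hI)
  refine ⟨L', ⟨hM, hI, hN, hS, hT, hfr L' hM hI, h1, h2, h3⟩, ?_⟩
  obtain ⟨E, hE, -, hE'⟩ := hs.top_compl hG F (Or.inl h.typeII) h.elemS h.cardS
    (h.centralizer_U_W₂ hG F hL) hM hI (hs.dataS.U_normal.trans hN) h2 (hfr L' hM hI)
  have hc : Nat.card E = (fittingHallOf L').relIndex L' := by
    refine Nat.eq_of_mul_eq_mul_left (Nat.card_pos (α := fittingHallOf L')) ?_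
    rw [card_mul_relIndex (fittingHallOf_le L'), compl_card hE]
  rcases hE' with rfl | ⟨y, hy, rfl⟩
  · exact Or.inl hc.symm
  obtain ⟨e1, e2⟩ := card_conjW (W₂ := W₁) h.elemS.1 hy h.toFTPair.W₂_le_kernelS hs.snc
  exact Or.inr ⟨by rw [← hc, e1, e2], y, hy, le_sup_right.trans hE.2.1⟩

/-- The kernel of `L` is a proper odd multiple of a conjugate of `V`. -/
theorem kernel_v (hfr : ∀ M : Subgroup G, IsCoatom M → IsTypeI M →
      ∀ x ∈ fittingHallOf M, x ≠ 1 → M ⊓ centralizer ({x} : Set G) ≤ fittingHallOf M) :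
    ∃ k, 3 ≤ k ∧ Nat.card (fittingHallOf L) = k * Nat.card V := by
  obtain ⟨L', hL', hidx'⟩ := h.exists_topSub' hG F hL hfr
  by_cases hc : ∃ x : G, L' = L.map (MulAut.conj x).toMonoidHom
  · obtain ⟨x, rfl⟩ := hc
    have hV := hL'.U_le
    rw [fittingHallOf_map] at hV
    set W := V.map (MulAut.conj x⁻¹).toMonoidHom with hW
    have hWH : W ≤ fittingHallOf L := by
      have := Subgroup.map_mono (f := (MulAut.conj x⁻¹).toMonoidHom) hV
      rwa [map_conj_map_conj, inv_mul_cancel, map_conj_one] at this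
    obtain ⟨k, hk⟩ := Subgroup.card_dvd_of_le hWH
    rw [hW, card_map_conj] at hk
    refine ⟨k, ?_, hk.trans (mul_comm _ _)⟩
    have hkodd : Odd k := Odd.of_dvd_nat (minSimple_odd_subgroup hG _) (hk ▸ dvd_mul_left k _)
    have hk1 : k ≠ 1 := by
      rintro rfl
      refine h.kernel_not_cyclic hG F hL ?_
      haveI := h.V_cyclic hG F
      have e : W = fittingHallOf L := Subgroup.eq_of_le_of_card_ge hWH (by
        rw [hW, card_map_conj, hk, mul_one])
      rw [← e, hW]
      exact isCyclic_of_surjective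
        (Subgroup.equivMapOfInjective V _ (MulAut.conj x⁻¹).injective).toMonoidHom
        (MulEquiv.surjective _)
    obtain ⟨a, rfl⟩ := hkodd
    omega
  exfalso
  push Not at hc
  letI : Fintype L := Fintype.ofFinite _
  letI : Fintype L' := Fintype.ofFinite _
  obtain ⟨ξ, f, hK, hsupp⟩ := hL.exists_side hG F
  obtain ⟨ξ', f', hK', hsupp'⟩ := hL'.exists_side hG F
  have hd : Disjoint (dadeSupp (supportA L) (supportR L)) (dadeSupp (supportA L') (supportR L')) := by
    rw [hsupp, hsupp']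
    exact Set.disjoint_iff_inter_eq_empty.2 (F.tilde_disjoint L L' hL.coatom hL'.coatom hc)
  obtain ⟨hidx, -⟩ := h.exists_conjW₂ hG F hL
  have hi : (fittingHall L).index = Nat.card W₁ * Nat.card W₂ := (index_fittingHall_eq L).trans hidx
  have hi' : (fittingHall L').index ≤ Nat.card W₂ * Nat.card W₁ := by
    rw [index_fittingHall_eq]
    rcases hidx' with e | ⟨e, -⟩ <;> rw [e]
    exact Nat.le_mul_of_pos_right _ Nat.card_pos
  have hVH : Nat.card V ≤ Nat.card (fittingHallOf L') := Subgroup.card_le_of_le hL'.U_le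
  have hsmall : (fittingHall L').index * (Nat.card W₁ * Nat.card W₂ + 1) + 1 <
      Nat.card (fittingHallOf L') := by
    rcases (h.v_bound hG F).2 with ⟨e3, e5, e121⟩ | hbig
    · rw [e121] at hVH
      rw [index_fittingHall_eq, e3, e5]
      rcases hidx' with e | ⟨e, y, hy, hyle⟩ <;> rw [e, e5]
      · omega
      rw [e3]
      obtain ⟨k, hk⟩ := Subgroup.card_dvd_of_le hL'.U_le
      rw [e121] at hk
      have hodd := minSimple_odd_subgroup hG (fittingHallOf L')
      rw [hk] at hodd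
      obtain ⟨a, rfl⟩ := (Nat.odd_mul.1 hodd).2
      rcases Nat.eq_zero_or_pos a with rfl | ha
      · exfalso
        -- `V` cyclic of order `121` and a group of order `3` without fixed points
        rw [mul_zero, zero_add, mul_one] at hk
        have eV : fittingHallOf L' = V :=
          (Subgroup.eq_of_le_of_card_ge hL'.U_le (by rw [hk, e121])).symm
        haveI := h.V_cyclic hG F
        haveI := Fact.mk (show Nat.Prime 11 by norm_num)
        obtain ⟨⟨z, hz⟩, hzo⟩ := exists_prime_orderOf_dvd_card' (G := V) 11 (by rw [e121]; norm_num)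
        rw [Subgroup.orderOf_mk] at hzo
        set Z := Subgroup.zpowers z with hZ
        have hZV : Z ≤ V := Subgroup.zpowers_le.2 hz
        set W := W₁.map (MulAut.conj y).toMonoidHom with hW
        have hn : W ≤ normalizer (Z : Set G) := hyle.trans
          (le_normalizer_of_le_cyclic hZV (eV ▸ le_normalizer_fittingHallOf L'))
        have h3 := hL'.fpf_dvd (hZV.trans hL'.U_le) hyle (by
          rw [hW, card_map_conj]; exact hL'.coprime₂) hn
        rw [hW, card_map_conj, e3, hZ, Nat.card_zpowers, hzo] at h3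
        norm_num at h3
      · rw [hk]; omega
    · rw [mul_comm (Nat.card W₁)]
      have := Nat.mul_le_mul_right (Nat.card W₂ * Nat.card W₁ + 1) hi'
      omega
  have hlarge : Nat.card W₁ * Nat.card W₂ * ((fittingHall L').index + 1) + 1 <
      Nat.card (fittingHallOf L) := by
    have h1 := h.H_large hG F hL
    rw [mul_comm (Nat.card W₂)] at h1
    have h2 : (fittingHall L').index + 1 ≤ Nat.card W₁ * Nat.card W₂ + 1 := by
      rw [mul_comm]; omega
    have := Nat.mul_le_mul_left (Nat.card W₁ * Nat.card W₂) h2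
    omega
  have h1 : ((fittingHall L').index : ℝ) * ((Nat.card W₁ : ℝ) * Nat.card W₂ + 1) + 1 <
      Nat.card (fittingHallOf L') := by exact_mod_cast hsmall
  have h2 : (Nat.card W₁ : ℝ) * Nat.card W₂ * (((fittingHall L').index : ℝ) + 1) + 1 <
      Nat.card (fittingHallOf L) := by exact_mod_cast hlarge
  refine KSide.cross_false hK hK' hd ?_ ?_
  · rw [hi, (kSide_frobenius_card (L := L)).1]; push_cast; linarith
  · rw [hi, (kSide_frobenius_card (L := L')).1]; push_cast; linarith

end TopConfig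

end CfsgLib.OddOrder
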