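import Cfsg.Agent.OddOrder.PF10.Region
import Cfsg.Agent.OddOrder.PF10.Structure
import Cfsg.Agent.OddOrder.CN.Frobenius
import Cfsg.Agent.OddOrder.PF12.Results

/-!
# The maximal subgroup over the normalizer of `U` (Peterfalvi 14)

`normalizer_prime_of_fpf`: in a group of odd order acting without fixed points on a nilpotent group,
a subgroup of prime order is normal. `FTPair.exists_top`: a maximal subgroup over `N(U)` is of Type I
and conjugate neither to `S` nor to `T`. `FTPair.top_facts`: if it is a Frobenius group with kernel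
`H` then `U ≤ H` and it has a complement equal to `W₁` or to `W₁ W₂^y`.
-/

set_option autoImplicit false
set_option linter.style.haveILetI false
set_option linter.unusedSectionVars false

namespace CfsgLib.OddOrder

open Cfsg
open scoped Pointwise
open Subgroup (centralizer normalizer zpowers)
open CfsgLib.ConjFunctor (IsSylowIn)

universe u

section Fpf

/-- The subgroups of a cyclic normal subgroup are normal. -/
theorem conj_mem_of_le_cyclic {Y : Type*} [Group Y] [Finite Y] {D W : Subgroup Y} [D.Normal]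
    [IsCyclic D] (hWD : W ≤ D) {g n : Y} (hn : n ∈ W) : g * n * g⁻¹ ∈ W := by
  let d₁ : D := ⟨n, hWD hn⟩
  let d₂ : D := ⟨g * n * g⁻¹, (inferInstance : D.Normal).conj_mem n (hWD hn) g⟩
  have ho : orderOf d₂ = orderOf d₁ := by
    rw [Subgroup.orderOf_mk, Subgroup.orderOf_mk]
    exact orderOf_injective (MulAut.conj g).toMonoidHom (MulAut.conj g).injective n
  have he : zpowers d₂ = zpowers d₁ :=
    eq_of_card_eq_of_isCyclic (by rw [Nat.card_zpowers, Nat.card_zpowers, ho])
  obtain ⟨i, hi⟩ := Subgroup.mem_zpowers_iff.1 (he ▸ Subgroup.mem_zpowers d₂)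
  have h : n ^ i = g * n * g⁻¹ := congrArg Subtype.val hi
  exact h ▸ W.zpow_mem hn i

variable {X : Type*} [Group X] [Finite X] {K E W : Subgroup X} [K.Normal]

/-- A subgroup of prime order of a group of odd order acting without fixed points is normal. -/
theorem normalizer_prime_of_fpf (hKn : Group.IsNilpotent K) (hK : K ≠ ⊥)
    (hfpf : ∀ e ∈ E, e ≠ 1 → K ⊓ centralizer ({e} : Set X) = ⊥) (hodd : Odd (Nat.card E))
    (hW : W ≤ E) (hq : (Nat.card W).Prime) : E ≤ normalizer (W : Set X) := by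
  set V := (Subgroup.center K).map K.subtype with hV
  haveI : V.Normal := by rw [hV]; infer_instance
  have hVK : V ≤ K := Subgroup.map_subtype_le _
  have hV1 : V ≠ ⊥ := by
    haveI := hKn
    haveI := (Subgroup.nontrivial_iff_ne_bot K).mpr hK
    rw [hV, Ne, Subgroup.map_eq_bot_iff_of_injective _ K.subtype_injective]
    exact Group.IsNilpotent.center_ne_bot K
  have hVc : IsMulCommutative V := by rw [hV]; infer_instance
  have hcop := Solvable.coprime_card_of_fpf hfpf
  -- no Frobenius group inside `E`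
  have key : ∀ A R : Subgroup X, A ≤ E → R ≤ E → R ≤ normalizer (A : Set X) → R ≠ ⊥ →
      (∀ r ∈ R, r ≠ 1 → A ⊓ centralizer ({r} : Set X) = ⊥) → A = ⊥ := by
    intro A R hA hR hn hR1 hf
    obtain ⟨r, hr, hr1⟩ := R.bot_or_exists_ne_one.resolve_left hR1
    have hle := le_centralizer_of_frobenius_action hVc hn Subgroup.le_normalizer_of_normal
      (V := V) Subgroup.le_normalizer_of_normal hf
      ((hcop.coprime_dvd_left (Subgroup.card_dvd_of_le hA)).coprime_dvd_right
        (Subgroup.card_dvd_of_le hVK))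
      (by
        rw [eq_bot_iff, ← hfpf r (hR hr) hr1]
        exact inf_le_inf hVK (Subgroup.centralizer_le (Set.singleton_subset_iff.mpr hr)))
    rw [Subgroup.eq_bot_iff_forall]
    intro a ha
    by_contra ha1
    obtain ⟨v, hv, hv1⟩ := V.bot_or_exists_ne_one.resolve_left hV1
    refine hv1 ((Subgroup.eq_bot_iff_forall _).1 (hfpf a (hA ha) ha1) v ⟨hVK hv, ?_⟩)
    exact Subgroup.mem_centralizer_singleton_iff.2 (Subgroup.mem_centralizer_iff.1 (hle ha) v hv)
  haveI : IsZGroup E := isZGroup_of_fpf_odd hK hfpf hodd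
  haveI := IsZGroup.isCyclic_commutator E
  set D := commutator E with hD
  set W' := W.subgroupOf E with hW'
  have hWc : Nat.card W' = Nat.card W := Nat.card_congr (Subgroup.subgroupOfEquivOfLe hW).toEquiv
  suffices hsuff : ∀ g : E, ∀ n ∈ W', g * n * g⁻¹ ∈ W' by
    intro e he
    rw [Subgroup.mem_normalizer_iff]
    intro n
    refine ⟨fun hn => hsuff ⟨e, he⟩ ⟨n, hW hn⟩ hn, fun hn => ?_⟩
    have hnE : n ∈ E := by
      have := E.mul_mem (E.mul_mem (E.inv_mem he) (hW hn)) he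
      simpa [mul_assoc] using this
    have h := hsuff ⟨e, he⟩⁻¹ ⟨e * n * e⁻¹, hW hn⟩ hn
    simpa [hW', Subgroup.mem_subgroupOf, mul_assoc] using h
  intro g n hn
  by_cases hWD : W' ≤ D
  · exact conj_mem_of_le_cyclic hWD hn
  -- otherwise `W` centralises the commutator subgroup
  haveI := Fact.mk hq
  have hgen : ∀ w ∈ W', w ≠ 1 → zpowers w = W' := fun w hw hw1 => by
    refine Subgroup.eq_of_le_of_card_ge (Subgroup.zpowers_le.2 hw) ?_
    rw [Nat.card_zpowers, hWc]
    exact (((Nat.dvd_prime hq).1 (hWc ▸ Subgroup.orderOf_dvd_natCard _ hw)).resolve_left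
      fun h => hw1 (orderOf_eq_one_iff.1 h)).ge
  have hqD : ¬ Nat.card W ∣ Nat.card D := by
    obtain ⟨w, hw, hwD⟩ := SetLike.not_le_iff_exists.1 hWD
    have hw1 : w ≠ 1 := fun e => hwD (e ▸ one_mem D)
    have h1 : orderOf (QuotientGroup.mk' D w) = Nat.card W := by
      refine ((Nat.dvd_prime hq).1 ((orderOf_map_dvd _ w).trans
        (hWc ▸ Subgroup.orderOf_dvd_natCard _ hw))).resolve_left fun h => hwD ?_
      rw [orderOf_eq_one_iff] at h
      exact (QuotientGroup.eq_one_iff w).1 h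
    have h2 : Nat.card W ∣ D.index := h1 ▸ orderOf_dvd_natCard _
    exact fun h3 => hq.ne_one
      (Nat.eq_one_of_dvd_coprimes (IsZGroup.coprime_commutator_index (G := E)) h3 h2)
  have hcD : (Nat.card W').Coprime (Nat.card D) := by
    rw [hWc]; exact hq.coprime_iff_not_dvd.2 hqD
  have hcen : W' ≤ centralizer (D : Set E) := by
    refine Coprime.le_centralizer_of_forall_prime_order Subgroup.le_normalizer_of_normal hcD
      fun v hv hvp => ?_
    rw [Subgroup.mem_centralizer_iff]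
    intro w hw
    by_contra hwv
    have hw1 : w ≠ 1 := fun e => hwv (by rw [e, one_mul, mul_one])
    have hA : (zpowers v).map E.subtype = zpowers (v : X) := MonoidHom.map_zpowers E.subtype v
    refine hvp.ne_one (orderOf_eq_one_iff.2 (Subtype.ext (Subgroup.zpowers_eq_bot.1
      (key (zpowers (v : X)) W (Subgroup.zpowers_le.2 v.2) hW ?_ ?_ ?_))))
    · intro y hy
      rw [Subgroup.mem_normalizer_iff_map_conj_eq]
      rw [MonoidHom.map_zpowers]
      refine Subgroup.eq_of_le_of_card_ge (Subgroup.zpowers_le.2 ?_) ?_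
      · have h := conj_mem_of_le_cyclic (W := zpowers v) (g := (⟨y, hW hy⟩ : E))
          (Subgroup.zpowers_le.2 hv) (Subgroup.mem_zpowers v)
        rw [← hA]
        exact ⟨_, h, by simp⟩
      · rw [Nat.card_zpowers, Nat.card_zpowers]
        exact (orderOf_injective (MulAut.conj y).toMonoidHom (MulAut.conj y).injective _).ge
    · exact fun h => hw1 (Subtype.ext ((Subgroup.eq_bot_iff_forall _).1 h w hw))
    · intro r hr hr1
      rw [Subgroup.eq_bot_iff_forall]
      rintro a ⟨ha, hac⟩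
      by_contra ha1
      replace hac : a * r = r * a := Subgroup.mem_centralizer_singleton_iff.1 hac
      obtain ⟨i, hi⟩ := Subgroup.mem_zpowers_iff.1
        ((hgen ⟨r, hW hr⟩ hr fun e => hr1 (congrArg Subtype.val e)).ge hw)
      have hwa : (w : X) * a = a * w := by
        rw [← congrArg Subtype.val hi]
        exact ((show Commute r a from hac.symm).zpow_left i).eq
      have haz : zpowers a = zpowers (v : X) := by
        refine Subgroup.eq_of_le_of_card_ge (Subgroup.zpowers_le.2 ha) ?_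
        rw [Nat.card_zpowers, Nat.card_zpowers]
        refine (((Nat.dvd_prime (p := orderOf (v : X)) (by rwa [Subgroup.orderOf_coe])).1 ?_).resolve_left
          fun h => ha1 (orderOf_eq_one_iff.1 h)).ge
        rw [← Nat.card_zpowers (v : X)]
        exact Subgroup.orderOf_dvd_natCard _ ha
      obtain ⟨j, hj⟩ := Subgroup.mem_zpowers_iff.1 (haz.ge (Subgroup.mem_zpowers (v : X)))
      refine hwv (Subtype.ext ?_)
      show (w : X) * v = v * w
      rw [← hj]
      exact ((show Commute (w : X) a from hwa).zpow_right j).eq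
  -- so `W` is central
  set c := g * n * g⁻¹ * n⁻¹ with hc
  have hcDm : c ∈ D := by
    rw [hD, commutator_def]
    exact Subgroup.commutator_mem_commutator (Subgroup.mem_top g) (Subgroup.mem_top n)
  have hcomm : Commute c n := Subgroup.mem_centralizer_iff.1 (hcen hn) c hcDm
  have hpow : ∀ y : E, y ∈ W' → y ^ Nat.card W = 1 := fun y hy =>
    orderOf_dvd_iff_pow_eq_one.1 (hWc ▸ Subgroup.orderOf_dvd_natCard _ hy)
  have h1 : c ^ Nat.card W = 1 := by
    have h2 : (c * n) ^ Nat.card W = 1 := by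
      rw [show c * n = g * n * g⁻¹ from by rw [hc, inv_mul_cancel_right], conj_pow, hpow n hn]
      simp
    rwa [hcomm.mul_pow, hpow n hn, mul_one] at h2
  have hc1 : c = 1 := orderOf_eq_one_iff.1 (Nat.eq_one_of_dvd_coprimes hcD
    (hWc.symm ▸ orderOf_dvd_of_pow_eq_one h1) (Subgroup.orderOf_dvd_natCard _ hcDm))
  have he : g * n * g⁻¹ = n := by
    rw [← inv_mul_cancel_right (g * n * g⁻¹) n, ← hc, hc1, one_mul]
  rwa [he]

end Fpf

section Top

variable {G : Type u} [Group G] [Fintype G] {S T W₁ U W₂ V L : Subgroup G}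

/-- For a Frobenius maximal subgroup the elements outside the kernel fix nothing in it. -/
theorem frobenius_fpf
    (hfrob : ∀ x ∈ fittingHallOf L, x ≠ 1 → L ⊓ centralizer ({x} : Set G) ≤ fittingHallOf L)
    {e k : G} (he : e ∈ L) (hen : e ∉ fittingHallOf L) (hk : k ∈ fittingHallOf L)
    (hc : k * e = e * k) : k = 1 := by
  by_contra hk1
  exact hen (hfrob k hk hk1 ⟨he, Subgroup.mem_centralizer_singleton_iff.2 hc.symm⟩)

/-- A group whose action on the kernel of a Frobenius maximal subgroup is that of a Frobenius group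
has its own kernel inside it. -/
theorem le_fittingHallOf_of_frobenius_action (hH : fittingHallOf L ≠ ⊥)
    (hfrob : ∀ x ∈ fittingHallOf L, x ≠ 1 → L ⊓ centralizer ({x} : Set G) ≤ fittingHallOf L)
    {A R : Subgroup G} (hA : A ≤ L) (hR : R ≤ L) (hAn : Group.IsNilpotent A)
    (hn : R ≤ normalizer (A : Set G)) (hR1 : R ≠ ⊥) (hRH : R ⊓ fittingHallOf L = ⊥)
    (hfpf : ∀ r ∈ R, r ≠ 1 → A ⊓ centralizer ({r} : Set G) = ⊥) : A ≤ fittingHallOf L := by
  set K := fittingHallOf L with hKdef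
  refine le_fittingHallOf_of_primes hA fun r hr hrd => ?_
  by_contra hrK
  haveI := Fact.mk hr
  set B := piCoreOf ({r} : Set ℕ) A with hB
  have hBA : B ≤ A := piCoreOf_le _ _
  obtain ⟨⟨a, haA⟩, ha⟩ := exists_prime_orderOf_dvd_card' r hrd
  rw [Subgroup.orderOf_mk] at ha
  have haB : a ∈ B := nilpotent_le_piCoreOf hAn (Subgroup.zpowers_le.2 haA)
    (isPiSubgroup_of_isPGroup (IsPGroup.of_card (p := r) (n := 1) (by
      rw [Nat.card_zpowers, ha, pow_one])) (Set.mem_singleton r)) (Subgroup.mem_zpowers a)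
  have ha1 : a ≠ 1 := fun e => hr.ne_one (by rw [← ha, e, orderOf_one])
  set Z := (Subgroup.center K).map K.subtype with hZ
  have hZK : Z ≤ K := Subgroup.map_subtype_le _
  have hZc : IsMulCommutative Z := by rw [hZ]; infer_instance
  have hZn : L ≤ normalizer (Z : Set G) :=
    (le_normalizer_fittingHallOf L).trans (BG13.normalizer_le_normalizer_map_char _ _)
  obtain ⟨z, hz, hz1⟩ := (Subgroup.bot_or_exists_ne_one Z).resolve_left (by
    haveI : Group.IsNilpotent K := isNilpotent_fittingHallOf L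
    haveI := (Subgroup.nontrivial_iff_ne_bot K).mpr hH
    rw [hZ, Subgroup.map_eq_bot_iff_of_injective _ K.subtype_injective]
    exact Group.IsNilpotent.center_ne_bot K)
  have hle := le_centralizer_of_frobenius_action (K := B) (R := R) (V := Z) hZc
    (hn.trans (normalizer_le_normalizer_piCoreOf _ _)) ((hBA.trans hA).trans hZn) (hR.trans hZn)
    (fun x hx hx1 => eq_bot_iff.2 ((inf_le_inf_right _ hBA).trans (hfpf x hx hx1).le))
    (Nat.coprime_of_dvd fun s hs h1 h2 => hrK (by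
      have e := isPiSubgroup_piCoreOf ({r} : Set ℕ) A s hs h1
      rw [Set.mem_singleton_iff] at e
      exact e ▸ h2.trans (Subgroup.card_dvd_of_le hZK))) (by
    obtain ⟨x, hx, hx1⟩ := R.bot_or_exists_ne_one.resolve_left hR1
    rw [Subgroup.eq_bot_iff_forall]
    rintro k ⟨hk, hkc⟩
    refine frobenius_fpf hfrob (hR hx) (fun e => hx1 ?_) (hZK hk)
      (Subgroup.mem_centralizer_iff.1 hkc x hx).symm
    exact (Subgroup.eq_bot_iff_forall _).1 hRH x ⟨hx, e⟩)
  refine hz1 (frobenius_fpf hfrob (hA (hBA haB)) (fun e => hrK ?_) (hZK hz)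
    (Subgroup.mem_centralizer_iff.1 (hle haB) z hz))
  exact ha ▸ Subgroup.orderOf_dvd_natCard K e

namespace FTPair

variable (h : FTPair S T W₁ U W₂ V)
include h

theorem W₁_le_kernelT : W₁ ≤ fittingHallOf T := h.dataT.W₂_le.trans inf_le_left

theorem W₂_le_kernelS : W₂ ≤ fittingHallOf S := h.dataS.W₂_le.trans inf_le_left

variable (hG : IsMinSimpleOddOrder G) (F : FTFacts G)
include hG F

theorem U_not_normalizer_le : ¬ normalizer (U : Set G) ≤ S := by
  obtain ⟨A, B, C, hP, -, -, -, -, hn, -⟩ := h.typeII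
  obtain ⟨x, hx, hxU⟩ := TypeP.U_conj h.dataS hP
  intro hle
  refine hn fun g hg => ?_
  have hxS : x ∈ S := fittingHallOf_le S hx
  have hmap : B.map (MulAut.conj x).toMonoidHom = U := hxU
  have h1 : x * g * x⁻¹ ∈ normalizer (U : Set G) := by
    rw [← map_conj_eq_self_iff, ← hmap, map_conj_map_conj, inv_mul_cancel_right,
      ← map_conj_map_conj, map_conj_eq_self_iff.2 hg]
  simpa [mul_assoc] using S.mul_mem (S.mul_mem (S.inv_mem hxS) (hle h1)) hxS

theorem U_isHall : IsPiHallOf {r | r ∣ Nat.card U} U S := by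
  have hUS : U ≤ S := h.dataS.U_compl.2.1.trans (derived_le_self S)
  refine ⟨hUS, fun r _ hd => hd, fun r hr hd hd' => ?_⟩
  have h1 : U.relIndex S = Nat.card (fittingHallOf S) * Nat.card W₁ := by
    refine Nat.eq_of_mul_eq_mul_left (Nat.card_pos (α := U)) ?_
    rw [card_mul_relIndex hUS, ← compl_card h.dataS.W₁_compl, ← compl_card h.dataS.U_compl]
    ring
  rw [h1] at hd'
  rcases hr.dvd_mul.1 hd' with hd' | hd'
  · exact hr.ne_one (Nat.eq_one_of_dvd_coprimes (TypeP.coprime_U_H h.dataS) hd hd')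
  · exact hr.ne_one (Nat.eq_one_of_dvd_coprimes (TypeP.coprime_W₁_U h.dataS) hd' hd)

variable (hQc : Nat.card (fittingHallOf T) = Nat.card W₁ ^ Nat.card W₂)

include hQc in
/-- A maximal subgroup over `N(U)` has Type I. -/
theorem exists_top : ∃ L : Subgroup G, IsCoatom L ∧ normalizer (U : Set G) ≤ L ∧ IsTypeI L ∧
    (∀ x : G, L ≠ S.map (MulAut.conj x).toMonoidHom) ∧
    ∀ x : G, L ≠ T.map (MulAut.conj x).toMonoidHom := by
  have hU1 := h.U_ne hG F
  have hUS : U ≤ S := (h.U_isHall hG F).1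
  obtain ⟨L, hL, hNL⟩ := minSimple_exists_coatom hG
    (minSimple_normalizer_ne_top hG hU1 fun e => h.coatomS.1 (eq_top_iff.2 (e ▸ hUS)))
  have hUL : U ≤ L := Subgroup.le_normalizer.trans hNL
  have hS : ∀ g : G, L ≠ S.map (MulAut.conj g).toMonoidHom := by
    intro g hg
    have hU' : U.map (MulAut.conj g⁻¹).toMonoidHom ≤ S := by
      have := Subgroup.map_mono (f := (MulAut.conj g⁻¹).toMonoidHom) (hg ▸ hUL)
      rwa [map_conj_map_conj, inv_mul_cancel, map_conj_one] at this
    obtain ⟨m, hm, hle⟩ := exists_conj_le_isPiHallOf (minSimple_coatom_solvable hG h.coatomS) hU'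
      (fun r _ hd => show r ∣ Nat.card U by rwa [card_map_conj] at hd) (h.U_isHall hG F)
    rw [map_conj_map_conj] at hle
    have heq : U.map (MulAut.conj (m * g⁻¹)).toMonoidHom = U :=
      Subgroup.eq_of_le_of_card_ge hle (by rw [card_map_conj])
    have hmem : m * g⁻¹ ∈ S.map (MulAut.conj g).toMonoidHom := hg ▸ hNL (map_conj_eq_self_iff.1 heq)
    obtain ⟨s, hs, hse⟩ := hmem
    have hg' : m = g * s := mul_right_cancel hse.symm
    have hgS : g ∈ S := by
      have := S.mul_mem hm (S.inv_mem hs)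
      rwa [hg', mul_inv_cancel_right] at this
    rw [map_conj_eq_self_of_mem hgS] at hg
    exact h.U_not_normalizer_le hG F (hg ▸ hNL)
  have hT : ∀ g : G, L ≠ T.map (MulAut.conj g).toMonoidHom := by
    intro g hg
    have hWL : W₁ ≤ L := h.dataS.U_normal.trans hNL
    set Q := (fittingHallOf T).map (MulAut.conj g).toMonoidHom with hQ
    have hQL : fittingHallOf L = Q := by rw [hg, fittingHallOf_map]
    have hcQ : Nat.card Q = Nat.card W₁ ^ Nat.card W₂ := by rw [hQ, card_map_conj, hQc]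
    have hWQ : W₁ ≤ fittingHallOf L := le_fittingHallOf_of_primes hWL fun r _ hd => by
      rw [hQL, hQ, card_map_conj]
      exact hd.trans (Subgroup.card_dvd_of_le h.W₁_le_kernelT)
    obtain ⟨w, hw, hw1⟩ := (Subgroup.bot_or_exists_ne_one W₁).resolve_left h.dataS.W₁_ne
    obtain ⟨u, hu, hu1⟩ := (Subgroup.bot_or_exists_ne_one U).resolve_left hU1
    have hn := h.dataS.U_normal hw
    have hc1 : u * w * u⁻¹ * w⁻¹ ∈ U := by
      have := U.mul_mem hu ((Subgroup.mem_normalizer_iff.1 hn _).1 (U.inv_mem hu))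
      simpa [mul_assoc] using this
    have hc2 : u * w * u⁻¹ * w⁻¹ ∈ fittingHallOf L := (fittingHallOf L).mul_mem
      ((Subgroup.mem_normalizer_iff.1 (le_normalizer_fittingHallOf L (hUL hu)) _).1 (hWQ hw))
      ((fittingHallOf L).inv_mem (hWQ hw))
    have hcop : (Nat.card U).Coprime (Nat.card (fittingHallOf L)) := by
      rw [hQL, hcQ]
      exact ((TypeP.coprime_W₁_U h.dataS).symm).pow_right _
    have hone : u * w * u⁻¹ * w⁻¹ = 1 := (Subgroup.eq_bot_iff_forall _).1
      (Subgroup.inf_eq_bot_of_coprime hcop) _ ⟨hc1, hc2⟩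
    refine hu1 ((Subgroup.eq_bot_iff_forall _).1 (typeP_U_fpf h.dataS hw hw1) u
      ⟨hu, Subgroup.mem_centralizer_singleton_iff.2 ?_⟩)
    calc u * w = (u * w * u⁻¹ * w⁻¹) * (w * u) := by group
      _ = w * u := by rw [hone, one_mul]
  refine ⟨L, hL, hNL, ?_, hS, hT⟩
  exact (h.classes L hL).resolve_right fun ⟨g, hg⟩ => hg.elim (hS g) (hT g)

/-- The normalizer of `W₁` is `T_F W₂`. -/
theorem normalizer_W₁_le (hT : IsOfTypeII T ∨ IsOfTypeIII T ∨ IsOfTypeIV T)
    (hQab : IsMulCommutative (fittingHallOf T)) (hVW : V ⊓ centralizer (W₁ : Set G) = ⊥) :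
    normalizer (W₁ : Set G) ≤ fittingHallOf T ⊔ W₂ := by
  have hTI : IsTISubset (fittingOf T : Set G) := by
    rcases hT with ⟨_, _, _, -, -, -, ht, -⟩ | ⟨_, _, _, -, -, -, ht, -⟩ | ⟨_, _, _, -, -, -, ht, -⟩ <;>
      exact ht
  obtain ⟨w, hw, hw1⟩ := (Subgroup.bot_or_exists_ne_one W₁).resolve_left h.dataS.W₁_ne
  have hWF : W₁ ≤ fittingOf T := h.W₁_le_kernelT.trans (fittingHallOf_le_fittingOf T)
  intro g hg
  have hgT : g ∈ T := by
    rw [← minSimple_normalizer_eq_coatom_of_le hG h.coatomT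
      (fun e => hw1 (Subgroup.mem_bot.1 (e ▸ hWF hw))) (fittingOf_le T) (le_normalizer_fittingOf T)]
    by_contra hgn
    exact hw1 (hTI g hgn w (hWF hw) (hWF ((Subgroup.mem_normalizer_iff.1 hg w).1 hw)))
  obtain ⟨x, hx, b, hb, rfl⟩ := h.dataT.W₁_compl.2.2.2 g hgT
  obtain ⟨a, ha, v, hv, rfl⟩ := h.dataT.U_compl.2.2.2 x hx
  have hcW : ∀ {c : G}, (∀ y ∈ W₁, y * c = c * y) → c ∈ normalizer (W₁ : Set G) := fun hc =>
    Subgroup.centralizer_le_normalizer _ (Subgroup.mem_centralizer_iff.2 hc)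
  have han : a ∈ normalizer (W₁ : Set G) := hcW fun y hy =>
    setLike_mul_comm (s := fittingHallOf T) (h.W₁_le_kernelT hy) ha
  have hbn : b ∈ normalizer (W₁ : Set G) := hcW fun y hy => (h.snc.2.2.2.1 y hy b hb)
  have hvn : v ∈ normalizer (W₁ : Set G) := by
    have := mul_mem (mul_mem (inv_mem han) hg) (inv_mem hbn)
    simpa [mul_assoc] using this
  -- `b v b⁻¹ v⁻¹` centralises `W₁`
  have hvc : ∀ c ∈ W₂, c * v * c⁻¹ = v := by
    intro c hc
    have hcv : c * v * c⁻¹ * v⁻¹ ∈ V ⊓ centralizer (W₁ : Set G) := by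
      refine ⟨V.mul_mem ((Subgroup.mem_normalizer_iff.1 (h.dataT.U_normal hc) v).1 hv) (V.inv_mem hv),
        Subgroup.mem_centralizer_iff.2 fun y hy => ?_⟩
      have e1 : ∀ z ∈ W₁, c * z * c⁻¹ = z := fun z hz => by
        rw [← h.snc.2.2.2.1 z hz c hc, mul_inv_cancel_right]
      have hy' : v⁻¹ * y * v ∈ W₁ := (Subgroup.mem_normalizer_iff''.1 hvn y).1 hy
      have e2 : c⁻¹ * (v⁻¹ * y * v) * c = v⁻¹ * y * v := by
        conv_lhs => rw [← e1 _ hy']
        group
      have e3 : c * v * c⁻¹ * v⁻¹ * y * (c * v * c⁻¹ * v⁻¹)⁻¹ = y := by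
        calc c * v * c⁻¹ * v⁻¹ * y * (c * v * c⁻¹ * v⁻¹)⁻¹
            = c * v * (c⁻¹ * (v⁻¹ * y * v) * c) * v⁻¹ * c⁻¹ := by group
          _ = c * v * (v⁻¹ * y * v) * v⁻¹ * c⁻¹ := by rw [e2]
          _ = c * y * c⁻¹ := by group
          _ = y := e1 y hy
      exact (mul_inv_eq_iff_eq_mul.1 e3).symm
    rw [hVW, Subgroup.mem_bot] at hcv
    exact mul_inv_eq_one.1 hcv
  have hv1 : v = 1 := by
    obtain ⟨c, hc, hc1⟩ := (Subgroup.bot_or_exists_ne_one W₂).resolve_left h.dataT.W₁_ne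
    refine (Subgroup.eq_bot_iff_forall _).1 (typeP_U_fpf h.dataT hc hc1) v
      ⟨hv, Subgroup.mem_centralizer_singleton_iff.2 ?_⟩
    exact (mul_inv_eq_iff_eq_mul.1 (hvc c hc)).symm
  rw [hv1, mul_one]
  exact Subgroup.mul_mem_sup ha hb

theorem top_kernel (hL : IsCoatom L) (hI : IsTypeI L) (hNL : normalizer (U : Set G) ≤ L)
    (hS : ∀ x : G, L ≠ S.map (MulAut.conj x).toMonoidHom)
    (hT : ∀ x : G, L ≠ T.map (MulAut.conj x).toMonoidHom)
    (hfrob : ∀ x ∈ fittingHallOf L, x ≠ 1 → L ⊓ centralizer ({x} : Set G) ≤ fittingHallOf L) :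
    U ≤ fittingHallOf L ∧ (Nat.card (fittingHallOf L)).Coprime (Nat.card W₁) ∧
      (Nat.card (fittingHallOf L)).Coprime (Nat.card W₂) := by
  obtain ⟨c1, c2⟩ := h.coprime_sigma_W hG F hL hS hT
  have hd := Subgroup.card_dvd_of_le ((F.chain L hL).2.1)
  refine ⟨?_, c1.coprime_dvd_left hd, c2.coprime_dvd_left hd⟩
  exact le_fittingHallOf_of_frobenius_action ((F.chain L hL).1) hfrob
    (Subgroup.le_normalizer.trans hNL) (h.dataS.U_normal.trans hNL) h.dataS.U_nilpotent
    h.dataS.U_normal h.dataS.W₁_ne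
    (Subgroup.inf_eq_bot_of_coprime (c1.coprime_dvd_left hd).symm)
    fun r hr hr1 => typeP_U_fpf h.dataS hr hr1

/-- The complement of the kernel of `L` containing `W₁`. -/
theorem top_compl (hT : IsOfTypeII T ∨ IsOfTypeIII T ∨ IsOfTypeIV T)
    (hQe : IsElementaryAbelian (Nat.card W₁) (fittingHallOf T))
    (hQc : Nat.card (fittingHallOf T) = Nat.card W₁ ^ Nat.card W₂)
    (hVW : V ⊓ centralizer (W₁ : Set G) = ⊥)
    (hL : IsCoatom L) (hI : IsTypeI L) (hWL : W₁ ≤ L)
    (hcop : (Nat.card (fittingHallOf L)).Coprime (Nat.card W₁))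
    (hfrob : ∀ x ∈ fittingHallOf L, x ≠ 1 → L ⊓ centralizer ({x} : Set G) ≤ fittingHallOf L) :
    ∃ E : Subgroup G, IsComplIn (fittingHallOf L) E L ∧ W₁ ≤ E ∧
      (E = W₁ ∨ ∃ y ∈ fittingHallOf T, E = W₁ ⊔ W₂.map (MulAut.conj y).toMonoidHom) := by
  have hq := h.prime_W₁ hG F
  have hp := h.prime_W₂ hG F hT
  haveI := Fact.mk hq
  haveI := Fact.mk hp
  set q := Nat.card W₁ with hqdef
  set p := Nat.card W₂ with hpdef
  have hWq : IsPGroup q W₁ := IsPGroup.of_card (n := 1) (pow_one _).symm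
  obtain ⟨E₀, hE₀, -, -⟩ := exists_compl_typeI hI
  obtain ⟨P, hPE, hPL⟩ := exists_conj_le_compl (p := q) hE₀ fun hd =>
    hq.ne_one (Nat.eq_one_of_dvd_coprimes hcop hd dvd_rfl)
  obtain ⟨x, hxL, hx⟩ := hPL.exists_cj_le hWL hWq
  set E := E₀.map (MulAut.conj x⁻¹).toMonoidHom with hEdef
  have hE : IsComplIn (fittingHallOf L) E L := by
    have h1 := BG16.isComplIn_map_conj hE₀ x⁻¹
    rwa [← fittingHallOf_map, map_conj_eq_self_of_mem (inv_mem hxL)] at h1
  have hWE : W₁ ≤ E := fun w hw => ⟨x * w * x⁻¹, hPE.le (hx (ConjFunctor.conj_mem_cj x hw)), by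
    simp [mul_assoc]⟩
  refine ⟨E, hE, hWE, ?_⟩
  -- inside `L`
  have hEnK : ∀ e ∈ E, e ≠ 1 → e ∉ fittingHallOf L := fun e he he1 hK =>
    he1 ((Subgroup.eq_bot_iff_forall _).1 hE.2.2.1 e ⟨hK, he⟩)
  have hfpf : ∀ e ∈ E.subgroupOf L, e ≠ 1 →
      fittingHall L ⊓ centralizer ({e} : Set ↥L) = ⊥ := by
    intro e he he1
    rw [Subgroup.eq_bot_iff_forall]
    rintro k ⟨hk, hkc⟩
    refine Subtype.ext (frobenius_fpf hfrob e.2 (hEnK e he fun h => he1 (Subtype.ext h))
      ⟨k, hk, rfl⟩ ?_)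
    exact congrArg Subtype.val (Subgroup.mem_centralizer_singleton_iff.1 hkc)
  have hodd : Odd (Nat.card (E.subgroupOf L)) := by
    rw [Nat.card_congr (Subgroup.subgroupOfEquivOfLe hE.2.1).toEquiv]
    exact minSimple_odd_subgroup hG E
  have hK1 : fittingHall L ≠ ⊥ := hI.1.2.2.1
  have hKn : Group.IsNilpotent (fittingHall L) := CN.fittingHall_isNilpotent
  have hEn : E ≤ normalizer (W₁ : Set G) := by
    have hn := normalizer_prime_of_fpf (W := W₁.subgroupOf L) hKn hK1 hfpf hodd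
      (Subgroup.comap_mono hWE) (by
        rwa [Nat.card_congr (Subgroup.subgroupOfEquivOfLe hWL).toEquiv])
    intro e he
    rw [Subgroup.mem_normalizer_iff_map_conj_eq]
    refine Subgroup.eq_of_le_of_card_ge ?_
      (le_of_eq (Subgroup.card_map_of_injective (MulAut.conj e).injective).symm)
    rintro _ ⟨w, hw, rfl⟩
    exact (Subgroup.mem_normalizer_iff.1 (hn (x := ⟨e, hE.2.1 he⟩) he) ⟨w, hWL hw⟩).1 hw
  set Q := fittingHallOf T with hQdef
  haveI := hQe.1
  have hEQ : E ≤ Q ⊔ W₂ := hEn.trans (h.normalizer_W₁_le hG F hT hQe.1 hVW)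
  haveI hZ : IsZGroup (E.subgroupOf L) := isZGroup_of_fpf_odd hK1 hfpf hodd
  haveI : IsZGroup E := IsZGroup.of_injective
    (f := (Subgroup.subgroupOfEquivOfLe hE.2.1).symm.toMonoidHom) (MulEquiv.injective _)
  -- `E ⊓ Q = W₁`
  have hQp : IsPGroup q Q := IsPGroup.of_card hQc
  have hEQ1 : E ⊓ Q = W₁ := by
    refine (Subgroup.eq_of_le_of_card_ge (le_inf hWE h.W₁_le_kernelT) ?_).symm
    haveI : IsCyclic ↥((E ⊓ Q).subgroupOf E) :=
      (IsPGroup.of_equiv (hQp.to_le inf_le_right)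
        (Subgroup.subgroupOfEquivOfLe inf_le_left).symm).isCyclic_of_isZGroup
    haveI : IsCyclic ↥(E ⊓ Q : Subgroup G) := isCyclic_of_surjective
      (Subgroup.subgroupOfEquivOfLe (inf_le_left : E ⊓ Q ≤ E)).toMonoidHom (MulEquiv.surjective _)
    obtain ⟨⟨g, hg⟩, hgo⟩ := IsCyclic.exists_ofOrder_eq_natCard (α := ↥(E ⊓ Q : Subgroup G))
    rw [← hgo, Subgroup.orderOf_mk]
    exact Nat.le_of_dvd hq.pos (orderOf_dvd_of_pow_eq_one (hQe.2 g hg.2))
  have hW2n : W₂ ≤ normalizer (Q : Set G) :=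
    (TypeP.W₁_le h.dataT).trans (le_normalizer_fittingHallOf T)
  have hQW : Q ⊓ W₂ = ⊥ := Subgroup.inf_eq_bot_of_coprime
    ((TypeP.coprime_W₁_H h.dataT).symm)
  have hQr : Q.relIndex (Q ⊔ W₂) = p := by
    rw [relIndex_sup_of_normalizes hW2n, ← Subgroup.inf_relIndex_right, hQW,
      Subgroup.relIndex_bot_left]
  have hdvd : Q.relIndex E ∣ p := by
    haveI : (Q.subgroupOf (Q ⊔ W₂)).Normal :=
      (Subgroup.normal_subgroupOf_iff_le_normalizer le_sup_left).2
        (sup_le Subgroup.le_normalizer hW2n)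
    rw [← hQr, ← Subgroup.relIndex_subgroupOf hEQ]
    exact Subgroup.relIndex_dvd_index_of_normal _ _
  have hcE : Nat.card E = q * Q.relIndex E := by
    rw [← card_mul_relIndex (inf_le_left : E ⊓ Q ≤ E), hEQ1]
    congr 1
    rw [← hEQ1, Subgroup.inf_relIndex_left]
  rcases (Nat.dvd_prime hp).1 hdvd with h1 | h1
  · left
    rw [h1, mul_one] at hcE
    exact (Subgroup.eq_of_le_of_card_ge hWE hcE.le).symm
  · right
    rw [h1] at hcE
    obtain ⟨⟨z, hzE⟩, hz⟩ := exists_prime_orderOf_dvd_card' (G := E) p (hcE ▸ dvd_mul_left p q)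
    rw [Subgroup.orderOf_mk] at hz
    have hW2p : IsPGroup p W₂ := IsPGroup.of_card (n := 1) (pow_one _).symm
    have hsyl : IsSylowIn p W₂ (Q ⊔ W₂) := by
      refine ⟨le_sup_right, hW2p, fun hd => ?_⟩
      have hc : W₂.relIndex (Q ⊔ W₂) = Nat.card Q := by
        refine Nat.eq_of_mul_eq_mul_left (Nat.card_pos (α := W₂)) ?_
        rw [card_mul_relIndex le_sup_right, ← card_mul_relIndex (le_sup_left : Q ≤ Q ⊔ W₂), hQr,
          mul_comm]
      rw [hc, hQc] at hd
      exact hp.ne_one (Nat.eq_one_of_dvd_coprimes (h.coprime_W.symm) dvd_rfl (hp.dvd_of_dvd_pow hd))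
    obtain ⟨c, hc, hcle⟩ := hsyl.exists_cj_le (Subgroup.zpowers_le.2 (hEQ hzE))
      (IsPGroup.of_card (n := 1) (by rw [Nat.card_zpowers, hz, pow_one]))
    obtain ⟨b, hb, a, ha, rfl⟩ : ∃ b ∈ W₂, ∃ a ∈ Q, b * a = c := by
      obtain ⟨b, hb, a, ha, e⟩ := Set.mem_mul.1
        (show c ∈ (W₂ : Set G) * (Q : Set G) by
          rw [← Subgroup.coe_mul_of_left_le_normalizer_right _ _ hW2n, sup_comm]; exact hc)
      exact ⟨b, hb, a, ha, e⟩
    refine ⟨a⁻¹, Q.inv_mem ha, ?_⟩
    have hle : W₂.map (MulAut.conj a⁻¹).toMonoidHom ≤ E := by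
      have hzz : a * z * a⁻¹ ∈ W₂ := by
        have := W₂.mul_mem (W₂.mul_mem (W₂.inv_mem hb)
          (hcle (ConjFunctor.conj_mem_cj (b * a) (Subgroup.mem_zpowers z)))) hb
        simpa [mul_assoc] using this
      have he : zpowers (a * z * a⁻¹) = W₂ := by
        refine Subgroup.eq_of_le_of_card_ge (Subgroup.zpowers_le.2 hzz) ?_
        rw [Nat.card_zpowers]
        exact (((orderOf_injective (MulAut.conj a).toMonoidHom (MulAut.conj a).injective z).trans
          hz)).ge
      rw [← he, MonoidHom.map_zpowers, Subgroup.zpowers_le]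
      simpa [mul_assoc] using hzE
    refine (Subgroup.eq_of_le_of_card_ge (sup_le hWE hle) (Nat.le_of_dvd Nat.card_pos ?_)).symm
    rw [hcE]
    refine Nat.Coprime.mul_dvd_of_dvd_of_dvd h.coprime_W
      (Subgroup.card_dvd_of_le le_sup_left) ?_
    calc p = Nat.card (W₂.map (MulAut.conj a⁻¹).toMonoidHom) := (card_map_conj _ _).symm
      _ ∣ _ := Subgroup.card_dvd_of_le le_sup_right

end FTPair

end Top

end CfsgLib.OddOrder
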