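import Cfsg.Agent.OddOrder.PF10.TopSide
import Cfsg.Agent.OddOrder.PF10.TopGroup
import Cfsg.Agent.OddOrder.PF10.BadSide

/-!
# The two kinds of `KSide` in the final configuration

`FTFacts.kSide_frobenius` is a Frobenius maximal subgroup of Type I on `A(L) = M_F #`;
`FTPair.kSide_T` is the member `T` of the pair, not of Type II, on `A(T) = T' #`, with the characters
induced from the linear characters of `T'`.
-/

set_option autoImplicit false
set_option linter.style.haveILetI false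
set_option linter.unusedSectionVars false

namespace CfsgLib.OddOrder

open Cfsg CfsgLib.Characters CfsgLib.Coherence CfsgLib.OddOrderChar
open Subgroup (centralizer normalizer)

universe u

variable {G : Type u} [Group G] [Fintype G] {L : Subgroup G} [Fintype L]

noncomputable local instance fintypeSubTopMake (H : Subgroup ↥L) : Fintype H := Fintype.ofFinite H

/-- A Frobenius maximal subgroup of Type I gives a kernel side. -/
theorem exists_kSide_frobenius (hG : IsMinSimpleOddOrder G) (hL : IsCoatom L) (hI : IsTypeI L)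
    (hfrob : ∀ x ∈ fittingHallOf L, x ≠ 1 → L ⊓ centralizer ({x} : Set G) ≤ fittingHallOf L)
    (hD : DadeHypothesis (supportA L) L (supportR L)) :
    ∃ ξ₀ f, KSide L (fittingHall L) ⊥ (supportA L) (supportR L) ξ₀ f := by
  obtain ⟨hirr, -, τ₁, h₁, h₂⟩ := typeI_frobenius_coherent hG hL hI hfrob hD
  have hA : ∀ x : L, (x : G) ∈ supportA L ↔ x ∈ fittingHall L ∧ x ≠ 1 := by
    intro x
    rw [typeA_typeI_frobenius hI hfrob, Set.mem_sdiff, SetLike.mem_coe, Set.mem_singleton_iff,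
      fittingHallOf, ← OneMemClass.coe_one L, Subtype.coe_inj]
    rw [show (x : G) = L.subtype x from rfl, Subgroup.mem_map_iff_mem L.subtype_injective]
  have hsolv : Group.IsSolvable (fittingHall L) := by
    haveI := hI.1.1
    infer_instance
  obtain ⟨χ₀, hχ₀, hχ₁⟩ := exists_linear_mem (fittingHall L) hsolv ⊥
    (bot_lt_iff_ne_bot.2 hI.1.2.2.1)
  have hspan : ∀ {a : ↥L → ℂ}, a ∈ inducedIrrAbove (fittingHall L) ⊥ →
      a ∈ zspan (inducedIrrAbove (fittingHall L) ⊥) := fun h => mem_zspan_of_mem h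
  refine ⟨χ₀, τ₁, ⟨hD, hG.1, hA, hirr, fun φ hφ => Coherence.gen_norm_one (h₁.2.2.2 φ (hspan hφ)) ?_,
    fun φ hφ ψ hψ hne => ?_, fun φ hφ ψ hψ => ?_, hχ₀, hχ₁⟩⟩
  · rw [h₁.2.2.1 φ (hspan hφ) φ (hspan hφ), classInner_isIrr_self (hirr φ hφ)]
  · rw [h₁.2.2.1 φ (hspan hφ) ψ (hspan hψ), classInner_isIrr_ne (hirr φ hφ) (hirr ψ hψ) hne]
  · obtain ⟨a, -, ha⟩ := exists_degree_pos (hirr φ hφ)
    obtain ⟨b, -, hb⟩ := exists_degree_pos (hirr ψ hψ)
    have e : ∀ {H : Type u} (n : ℕ) (F : H → ℂ), (n : ℂ) • F = (n : ℤ) • F := fun n F => by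
      rw [← Int.cast_smul_eq_zsmul ℂ, Int.cast_natCast]
    have e1 : (b : ℂ) • φ - (a : ℂ) • ψ = (b : ℤ) • φ + (-(a : ℤ)) • ψ := by
      rw [e, e, neg_smul, sub_eq_add_neg]
    have e2 : (b : ℤ) • φ + (-(a : ℤ)) • ψ ∈ zspanOn (inducedIrrAbove (fittingHall L) ⊥) ({1}ᶜ : Set L) :=
      mem_zspanOn_one.2 ⟨Submodule.add_mem _ (Submodule.smul_mem _ _ (hspan hφ))
        (Submodule.smul_mem _ _ (hspan hψ)), by simp [ha, hb]; ring⟩
    rw [ha, hb, e1, ← h₂ _ e2, h₁.1 _ (Submodule.smul_mem _ _ (hspan hφ)) _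
      (Submodule.smul_mem _ _ (hspan hψ)), h₁.2.1 _ (hspan hφ), h₁.2.1 _ (hspan hψ), e, e, neg_smul,
      sub_eq_add_neg]

namespace FTFacts

variable (F : FTFacts G)
include F

/-- For Type I the kernel is `M_σ`. -/
theorem typeI_kernel (hL : IsCoatom L) (hI : IsTypeI L) : fittingHallOf L = sigmaCore L := by
  obtain ⟨K, U, hKU⟩ := F.toBG16Facts.exists_sigmaDecomposition hL
  by_contra hne
  exact ((F.typeI L K U hL hKU).1 hI).2 (F.fitting_sigma L K U hL hKU hne)

/-- The support of a Frobenius maximal subgroup of Type I. -/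
theorem frobenius_supp (hL : IsCoatom L) (hI : IsTypeI L)
    (hfrob : ∀ x ∈ fittingHallOf L, x ≠ 1 → L ⊓ centralizer ({x} : Set G) ≤ fittingHallOf L) :
    supportA L = sigmaSet L ∧ dadeSupp (supportA L) (supportR L) = tildeOf L (sigmaSet L) := by
  have e : supportA L = sigmaSet L := by
    rw [typeA_typeI_frobenius hI hfrob, F.typeI_kernel hL hI]
  exact ⟨e, by rw [e, dadeSupp_eq_tildeOf]⟩

/-- The kernel side of a maximal subgroup of Type I. -/
theorem exists_kSide (hG : IsMinSimpleOddOrder G) (hL : IsCoatom L) (hI : IsTypeI L)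
    (hfrob : ∀ x ∈ fittingHallOf L, x ≠ 1 → L ⊓ centralizer ({x} : Set G) ≤ fittingHallOf L) :
    ∃ ξ₀ f, KSide L (fittingHall L) ⊥ (supportA L) (supportR L) ξ₀ f :=
  exists_kSide_frobenius hG hL hI hfrob (F.toBG16Facts.dade hL (Or.inr (Or.inl rfl)))

end FTFacts

/-- The data of the kernel side. -/
theorem kSide_frobenius_card :
    (⊥ : Subgroup ↥L).relIndex (fittingHall L) = Nat.card (fittingHallOf L) ∧
      (fittingHall L).index * Nat.card (fittingHallOf L) = Nat.card L := by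
  rw [Subgroup.relIndex_bot_left, ← card_fittingHall_eq]
  exact ⟨rfl, Subgroup.index_mul_card _⟩

section SideT

variable {S T W₁ U W₂ V : Subgroup G} [Fintype T]

noncomputable local instance fintypeSubTopMakeT (H : Subgroup ↥T) : Fintype H := Fintype.ofFinite H

namespace FTPair

variable (h : FTPair S T W₁ U W₂ V) (hG : IsMinSimpleOddOrder G) (F : FTFacts G)
  (hII : ¬ IsOfTypeII T)
include h hG F hII

/-- The set `A(T)` is `T' #`. -/
theorem supportA_T_derived : supportA T = ((⁅T, T⁆ : Subgroup G) : Set G) \ {1} := by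
  rw [h.supportA_T hG F hII, (F.data_not_II hG h.coatomT h.dataT hII).1]

theorem dadeSupp_T : dadeSupp (supportA T) (supportR T) = tildeOf T (sigmaSet T) := by
  rw [h.supportA_T hG F hII, dadeSupp_eq_tildeOf]

/-- The kernel side of `T`. -/
theorem exists_kSide_T :
    ∃ ξ₀ f, KSide T (derIn T) (derDer T) (supportA T) (supportR T) ξ₀ f := by
  obtain ⟨χ, hχ⟩ := exists_tiData h.snc (h.odd_W hG)
  obtain ⟨μ, δ, hs⟩ :=
    exists_side hG F.toBG16Facts h.coatomT (h.notI_T hG F) h.dataT _ hχ.swap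
  have hb : BadSide T W₂ W₁ (swapFam χ) μ δ :=
    ⟨hs, h.prime_W₁ hG F, h.supportA_T_derived hG F hII⟩
  obtain ⟨g, hg⟩ := hb.exists_linExt
  obtain ⟨ζ, hζ⟩ := hb.linSet_nonempty
  have hA : ∀ x : ↥T, (x : G) ∈ supportA T ↔ x ∈ derIn T ∧ x ≠ 1 := by
    intro x
    rw [hb.core, Set.mem_sdiff, SetLike.mem_coe, Set.mem_singleton_iff, ← OneMemClass.coe_one T,
      Subtype.coe_inj]
    rfl
  have hD := F.toBG16Facts.dade h.coatomT (A := supportA0 T) (Or.inr (Or.inr rfl))
  have hD' := F.toBG16Facts.dade h.coatomT (A := supportA T) (Or.inr (Or.inl rfl))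
  refine ⟨ζ, g, ⟨hD', hG.1, hA, fun φ hφ => (hb.lin_irr hφ).1, fun φ hφ => hg.signed φ hφ,
    fun φ hφ ψ hψ hne => hg.inner φ hφ ψ hψ hne, fun φ hφ ψ hψ => ?_, hζ,
    (hb.lin_one hζ).trans (by rw [hb.base.index_derIn])⟩⟩
  have hcl : IsClassFunction ↥T (φ - ψ) := Coherence.isClassFunction_of_isGen (Coherence.isGen_sub
    (Coherence.isGen_of_isIrr (hb.lin_irr hφ).1) (Coherence.isGen_of_isIrr (hb.lin_irr hψ).1))
  have hs' : ∀ x : ↥T, (x : G) ∉ supportA T → (φ - ψ) x = 0 := by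
    intro x hx
    by_cases hxd : x ∈ derIn T
    · have hx1 : x = 1 := not_not.1 fun e => hx ((hA x).2 ⟨hxd, e⟩)
      rw [hx1, Pi.sub_apply, hb.lin_one hφ, hb.lin_one hψ, sub_self]
    · obtain ⟨a, -, -, -, rfl⟩ := hφ
      obtain ⟨b, -, -, -, rfl⟩ := hψ
      rw [Pi.sub_apply, indFun_normal_eq_zero _ _ hxd, indFun_normal_eq_zero _ _ hxd, sub_self]
  have h1 := hg.diff φ hφ ψ hψ
  rw [tauM, dade_restrict hD (fun _ ha => Or.inl ha) hD'.conj_mem hcl hs'] at h1
  rw [hb.lin_one hφ, hb.lin_one hψ, ← smul_sub, dade_smul, h1, smul_sub]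

theorem index_derIn_T : (derIn T).index = Nat.card W₂ :=
  (pBase_of_typePWith h.dataT).index_derIn

/-- `|T' : T''| ≥ v` if `C_V(T_F) = 1`. -/
theorem relIndex_derDer_T (hC : V ⊓ centralizer (fittingHallOf T : Set G) = ⊥) :
    Nat.card V ≤ (derDer T).relIndex (derIn T) := by
  have hfit : fittingOf T = fittingHallOf T := by
    rw [typeP_fitting_eq h.dataT, hC, sup_bot_eq]
  have hle : derDer T ≤ (fittingHallOf T).subgroupOf T := by
    refine Subgroup.map_le_iff_le_comap.1 ?_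
    rw [derDer, Subgroup.map_commutator]
    have : (derIn T).map T.subtype = ⁅T, T⁆ := by
      rw [derIn, Subgroup.map_subgroupOf_eq_of_le (derived_le_self T)]
    rw [this, ← hfit]
    exact TypeP.derived_derived_le h.dataT
  refine le_trans (le_of_eq ?_) (Nat.le_of_dvd (Nat.pos_of_ne_zero Subgroup.index_ne_zero_of_finite)
    (Subgroup.relIndex_dvd_of_le_left (derIn T) hle))
  rw [derIn, Subgroup.relIndex_subgroupOf (derived_le_self T)]
  have hc := card_mul_relIndex h.dataT.U_compl.1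
  rw [← compl_card h.dataT.U_compl] at hc
  exact (Nat.eq_of_mul_eq_mul_left Nat.card_pos hc).symm

end FTPair

end SideT

end CfsgLib.OddOrder
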