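import Cfsg.Agent.OddOrder.PF10.TopComplSmall
import Cfsg.Agent.OddOrder.PF10.Singer

/-!
# The structure of the subgroup over `N(U)` (Peterfalvi 14)

Its index over the kernel `H` is `p q`; `S` is full; no conjugate of `W₂` by an element of `T_F`
normalises `U`; so `H` is not cyclic and `|H| = k |U|` with `k ≥ p q + p`.
-/

set_option autoImplicit false
set_option linter.style.haveILetI false
set_option linter.unusedSectionVars false

namespace CfsgLib.OddOrder

open Cfsg
open Subgroup (centralizer normalizer zpowers)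

universe u

variable {G : Type u} [Group G] [Finite G]

/-- The subgroups of a cyclic group are normalized by its normalizer. -/
theorem le_normalizer_of_le_cyclic {H U L : Subgroup G} [IsCyclic H] (hUH : U ≤ H)
    (hL : L ≤ normalizer (H : Set G)) : L ≤ normalizer (U : Set G) := by
  intro g hg
  rw [← map_conj_eq_self_iff]
  have hle : U.map (MulAut.conj g).toMonoidHom ≤ H := by
    rintro _ ⟨n, hn, rfl⟩
    exact (Subgroup.mem_normalizer_iff.1 (hL hg) n).1 (hUH hn)
  have he : (U.map (MulAut.conj g).toMonoidHom).subgroupOf H = U.subgroupOf H :=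
    eq_of_card_eq_of_isCyclic (by
      rw [Nat.card_congr (Subgroup.subgroupOfEquivOfLe hle).toEquiv,
        Nat.card_congr (Subgroup.subgroupOfEquivOfLe hUH).toEquiv, card_map_conj])
  rwa [Subgroup.subgroupOf_inj, inf_eq_left.2 hle, inf_eq_left.2 hUH] at he

variable {S T W₁ U W₂ V L : Subgroup G}

/-- The conjugate of `W₁ W₂` by an element of `T_F` has order `p q`. -/
theorem card_conjW {y : G} (hc : IsMulCommutative (fittingHallOf T)) (hy : y ∈ fittingHallOf T)
    (hW : W₁ ≤ fittingHallOf T) (hsnc : IsSelfNormalizingCyclic W₁ W₂) :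
    W₁ ⊔ W₂.map (MulAut.conj y).toMonoidHom = (W₁ ⊔ W₂).map (MulAut.conj y).toMonoidHom ∧
      Nat.card ↥((W₁ ⊔ W₂).map (MulAut.conj y).toMonoidHom) = Nat.card W₁ * Nat.card W₂ := by
  constructor
  · rw [Subgroup.map_sup]
    congr 1
    refine (map_conj_eq_self_iff.2 ?_).symm
    haveI := hc
    exact Subgroup.centralizer_le_normalizer _ (Subgroup.mem_centralizer_iff.2 fun w hw =>
      setLike_mul_comm (s := fittingHallOf T) (hW hw) hy)
  · rw [card_map_conj]
    have hn : W₁ ≤ normalizer (W₂ : Set G) :=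
      (Subgroup.le_centralizer_iff.1 fun b hb => Subgroup.mem_centralizer_iff.2
        fun a ha => hsnc.2.2.2.1 a ha b hb).trans (Subgroup.centralizer_le_normalizer _)
    rw [sup_comm, Coprime.card_sup_eq hn (inf_comm W₁ W₂ ▸ hsnc.2.2.1), mul_comm]

namespace TopSub

variable {G : Type u} [Group G] [Fintype G] {S T W₁ U W₂ L : Subgroup G}
variable (hL : TopSub S T W₁ U W₂ L)
include hL

theorem kernel_ne : fittingHallOf L ≠ ⊥ := fun e => hL.typeI.1.2.2.1
  ((Subgroup.map_eq_bot_iff_of_injective _ L.subtype_injective).1 e)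

/-- A subgroup of `L` of order prime to `|H|` acts without fixed points on any invariant subgroup
of `H`. -/
theorem fpf_dvd {A W : Subgroup G} (hA : A ≤ fittingHallOf L) (hWL : W ≤ L)
    (hcop : (Nat.card (fittingHallOf L)).Coprime (Nat.card W))
    (hW : W ≤ normalizer (A : Set G)) : Nat.card W ∣ Nat.card A - 1 := by
  have hb : W ≤ normalizer ((⊥ : Subgroup G) : Set G) := Subgroup.le_normalizer_of_normal
  have h := card_dvd_relIndex_sub_one (W := W) (A := A) (B := ⊥) bot_le hW hb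
    (by simp) (fun w hw hw1 => ?_)
  · rwa [Subgroup.relIndex_bot_left] at h
  refine fun k hk => Subgroup.mem_bot.2 (frobenius_fpf hL.frob (hWL hw) (fun e => hw1 ?_) (hA hk.1)
    (Subgroup.mem_centralizer_singleton_iff.1 hk.2))
  exact (Subgroup.eq_bot_iff_forall _).1 (Subgroup.inf_eq_bot_of_coprime hcop) w ⟨e, hw⟩

end TopSub

end CfsgLib.OddOrder

namespace CfsgLib.OddOrder.TopConfig

open Cfsg
open Subgroup (centralizer normalizer zpowers)

universe u

variable {G : Type u} [Group G] [Fintype G] {S T W₁ U W₂ V L : Subgroup G}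
  (h : TopConfig S T W₁ U W₂ V) (hG : IsMinSimpleOddOrder G) (F : FTFacts G)
include h hG F

theorem centralizer_V_W₁ : V ⊓ centralizer (W₁ : Set G) = ⊥ := by
  obtain ⟨w, hw, hw1⟩ := (Subgroup.bot_or_exists_ne_one W₁).resolve_left h.dataS.W₁_ne
  rw [Subgroup.eq_bot_iff_forall]
  rintro x ⟨hx, hxc⟩
  by_contra hx1
  exact hw1 ((Subgroup.eq_bot_iff_forall _).1 (h.fpfT x hx hx1) w ⟨h.toFTPair.W₁_le_kernelT hw,
    Subgroup.mem_centralizer_singleton_iff.2 (Subgroup.mem_centralizer_iff.1 hxc w hw)⟩)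

theorem singerSetting : Singer.SingerSetting (fittingHallOf S) U W₁ W₂ where
  prime₁ := h.prime_q hG F
  prime₂ := h.prime_p hG F
  ne_two₁ := by have := h.three_le_q hG F; omega
  ne_two₂ := by have := h.five_le_p hG F; omega
  ne := h.lt.ne
  odd_U := minSimple_odd_subgroup hG U
  coprime_U := by
    have h1 := TypeP.coprime_U_H h.dataS
    rw [h.cardS] at h1
    exact (Nat.coprime_pow_right_iff (h.prime_q hG F).pos _ _).1 h1
  elem := h.elemS
  card_P := h.cardS
  normU := le_sup_left.trans (TypeP.U_sup_W₁_le_normalizer h.dataS)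
  norm₁ := le_sup_right.trans (TypeP.U_sup_W₁_le_normalizer h.dataS)
  norm₁U := h.dataS.U_normal
  fixed := (TypeP.inf_centralizer_W₁ h.dataS le_rfl).symm ▸ (inf_eq_right.2
    h.toFTPair.W₂_le_kernelS).symm
  free := TypeP.U_fpf h.dataS
  lt := TypeP.kernel_lt h.dataS (h.toFTPair.U_ne hG F)
  derived := (TypeP.derived_U_le_kernel h.dataS).trans inf_le_right

theorem singer_modEq : (Nat.card W₂ ^ Nat.card W₁ - 1) / (Nat.card W₂ - 1) ≡ 1 [MOD Nat.card W₂] := by
  rw [Singer.singer_eq_sum (h.prime_p hG F), ← ZMod.natCast_eq_natCast_iff, Nat.cast_sum]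
  rw [Finset.sum_eq_single 0]
  · simp
  · intro k _ hk
    rw [Nat.cast_pow, ZMod.natCast_self, zero_pow hk]
  · intro h0
    exact absurd (Finset.mem_range.2 (h.prime_q hG F).pos) h0

theorem u_mul {e : ℕ} (he : Nat.card U * e * (Nat.card W₂ - 1) = Nat.card W₂ ^ Nat.card W₁ - 1) :
    Nat.card U * e = (Nat.card W₂ ^ Nat.card W₁ - 1) / (Nat.card W₂ - 1) :=
  Nat.eq_of_mul_eq_mul_right (by have := h.five_le_p hG F; omega)
    (he.trans (Singer.singer_mul (h.prime_p hG F)).symm)

/-- `e = 1` unless `p ≡ 1` modulo `q`; conversely `p ≢ 1`. -/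
theorem e_cases {e : ℕ} (he' : e = 1 ∨ e = Nat.card W₁)
    (he : Nat.card U * e * (Nat.card W₂ - 1) = Nat.card W₂ ^ Nat.card W₁ - 1) :
    (e = 1 ∧ Nat.card W₂ % Nat.card W₁ ≠ 1) ∨ (e = Nat.card W₁ ∧ Nat.card W₂ % Nat.card W₁ = 1) := by
  have h1 := h.u_mul hG F he
  have hiff := Singer.dvd_singer_iff (h.prime_q hG F) (h.prime_p hG F)
  rw [← h1] at hiff
  rcases he' with rfl | rfl
  · refine Or.inl ⟨rfl, fun h2 => (h.prime_q hG F).ne_one ?_⟩
    exact Nat.eq_one_of_dvd_coprimes (TypeP.coprime_W₁_U h.dataS) dvd_rfl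
      (by simpa using hiff.2 h2)
  · exact Or.inr ⟨rfl, hiff.1 (dvd_mul_left _ _)⟩

variable (hL : TopSub S T W₁ U W₂ L)
include hL

/-- `L = H (W₁ W₂^y)`. -/
theorem exists_conjW₂ : (fittingHallOf L).relIndex L = Nat.card W₁ * Nat.card W₂ ∧
    ∃ y ∈ fittingHallOf T, W₁ ⊔ W₂.map (MulAut.conj y).toMonoidHom ≤ L := by
  have hWL : W₁ ≤ L := h.dataS.U_normal.trans hL.normalizer_le
  obtain ⟨E, hE, -, hE'⟩ := h.toFTPair.top_compl hG F h.typeT' h.elemT h.cardT
    (h.centralizer_V_W₁ hG F) hL.coatom hL.typeI hWL hL.coprime₁ hL.frob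
  have hc : Nat.card E = (fittingHallOf L).relIndex L := by
    refine Nat.eq_of_mul_eq_mul_left (Nat.card_pos (α := fittingHallOf L)) ?_
    rw [card_mul_relIndex (fittingHallOf_le L), compl_card hE]
  rcases hE' with rfl | ⟨y, hy, rfl⟩
  · exact absurd hc.symm (h.index_ne_q hG F hL)
  obtain ⟨e1, e2⟩ := card_conjW (W₂ := W₂) h.elemT.1 hy h.toFTPair.W₁_le_kernelT h.toFTPair.snc
  exact ⟨by rw [← hc, e1, e2], y, hy, hE.2.1⟩

/-- No such conjugate of `W₂` normalises `U`. -/
theorem not_le_normalizer_U {y : G} (hy : y ∈ fittingHallOf T) :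
    ¬ W₂.map (MulAut.conj y).toMonoidHom ≤ normalizer (U : Set G) := by
  intro hle
  have hcard : Nat.card (W₂.map (MulAut.conj y).toMonoidHom) = Nat.card W₂ := card_map_conj _ _
  have hd := hL.fpf_dvd hL.U_le (hle.trans hL.normalizer_le) (by rw [hcard]; exact hL.coprime₂) hle
  rw [hcard] at hd
  have hu1 : Nat.card U ≡ 1 [MOD Nat.card W₂] :=
    ((Nat.modEq_iff_dvd' Nat.card_pos).2 hd).symm
  rcases h.altS with ⟨-, e, he', he⟩ | ⟨hq3, hu, -⟩
  · rcases h.e_cases hG F he' he with ⟨rfl, hmod⟩ | ⟨rfl, -⟩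
    · rw [mul_one] at he
      haveI := h.elemT.1
      have := Singer.le_of_config (h.singerSetting hG F) h.centS he hmod (Q := fittingHallOf T)
        h.elemT.1 (by rw [h.cardT]; exact (h.toFTPair.coprime_W).pow_left _)
        ((TypeP.W₁_le h.dataT).trans (le_normalizer_fittingHallOf T)) hy hle
      exact absurd this (not_le.2 h.lt)
    · have h1 := h.singer_modEq hG F
      rw [← h.u_mul hG F he] at h1
      have h2 : Nat.card W₁ ≡ 1 [MOD Nat.card W₂] := by
        have h3 := hu1.mul_right (Nat.card W₁)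
        rw [one_mul] at h3
        exact h3.symm.trans h1
      have h4 := h.three_le_q hG F
      rw [Nat.ModEq, Nat.mod_eq_of_lt h.lt, Nat.mod_eq_of_lt (h.prime_p hG F).one_lt] at h2
      omega
  · obtain ⟨c, hc⟩ := minSimple_odd_subgroup hG W₂
    have h2 : (Nat.card W₂ - 1) / 2 = c := by omega
    rw [hu, h2] at hu1
    have h3 : ((c : ZMod (Nat.card W₂))) ^ 2 = 1 := by
      have := (ZMod.natCast_eq_natCast_iff _ _ _).2 hu1
      simpa using this
    have h4 : (2 : ZMod (Nat.card W₂)) * c = -1 := by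
      have h5 : ((2 * c + 1 : ℕ) : ZMod (Nat.card W₂)) = 0 := by rw [← hc, ZMod.natCast_self]
      push_cast at h5
      exact eq_neg_of_add_eq_zero_left h5
    have h6 : ((3 : ℕ) : ZMod (Nat.card W₂)) = 0 := by
      have : (2 * (c : ZMod (Nat.card W₂))) ^ 2 = 4 := by rw [mul_pow, h3]; norm_num
      rw [h4] at this
      push_cast
      linear_combination -this
    have := Nat.le_of_dvd (by norm_num) ((ZMod.natCast_eq_zero_iff _ _).1 h6)
    have := h.five_le_p hG F
    omega

/-- `H` is not cyclic. -/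
theorem kernel_not_cyclic : ¬ IsCyclic (fittingHallOf L) := fun hc => by
  obtain ⟨-, y, hy, hle⟩ := h.exists_conjW₂ hG F hL
  haveI := hc
  exact h.not_le_normalizer_U hG F hL hy ((le_sup_right.trans hle).trans
    (le_normalizer_of_le_cyclic hL.U_le (le_normalizer_fittingHallOf L)))

theorem kernel_ne_U : fittingHallOf L ≠ U := fun e => by
  obtain ⟨-, y, hy, hle⟩ := h.exists_conjW₂ hG F hL
  refine h.not_le_normalizer_U hG F hL hy ?_
  rw [← e]
  exact (le_sup_right.trans hle).trans (le_normalizer_fittingHallOf L)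

/-- `U` has no fixed points on `S_F`: the exceptional case does not occur. -/
theorem S_full : ∃ e, (e = 1 ∨ e = Nat.card W₁) ∧
    Nat.card U * e * (Nat.card W₂ - 1) = Nat.card W₂ ^ Nat.card W₁ - 1 := by
  rcases h.altS with ⟨-, he⟩ | ⟨hq3, hu, x, hx, hx1, hne⟩
  · exact he
  exfalso
  obtain ⟨s, ⟨hs, hsx⟩, hs1⟩ := (Subgroup.bot_or_exists_ne_one _).resolve_left hne
  set H := fittingHallOf L with hH
  have hp := h.prime_p hG F
  haveI := Fact.mk hp
  have hord : orderOf s = Nat.card W₂ :=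
    ((Nat.dvd_prime hp).1 (orderOf_dvd_of_pow_eq_one (h.elemS.2 s hs))).resolve_left fun e =>
      hs1 (orderOf_eq_one_iff.1 e)
  have hsH : s ∉ H := fun e => hp.ne_one (Nat.eq_one_of_dvd_coprimes hL.coprime₂
    (hord ▸ Subgroup.orderOf_dvd_natCard _ e) dvd_rfl)
  have hsx' : s * x = x * s := Subgroup.mem_centralizer_singleton_iff.1 hsx
  have hsL : s ∉ L := fun e => hsH
    (hL.frob x (hL.U_le hx) hx1 ⟨e, Subgroup.mem_centralizer_singleton_iff.2 hsx'⟩)
  have hN : normalizer (H : Set G) = L := minSimple_normalizer_eq_coatom_of_le hG hL.coatom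
    hL.kernel_ne (fittingHallOf_le L) (le_normalizer_fittingHallOf L)
  obtain ⟨-, y, hy, hle⟩ := h.exists_conjW₂ hG F hL
  set W := W₂.map (MulAut.conj y).toMonoidHom with hW
  have hcW : Nat.card W = Nat.card W₂ := card_map_conj _ _
  have hWL : W ≤ L := le_sup_right.trans hle
  obtain ⟨c, hc⟩ := minSimple_odd_subgroup hG W₂
  have h2 : (Nat.card W₂ - 1) / 2 = c := by omega
  -- a prime of `U`
  have hu1 : 1 < Nat.card U := (Subgroup.one_lt_card_iff_ne_bot U).2 (h.toFTPair.U_ne hG F)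
  obtain ⟨r, hr, hru⟩ := Nat.exists_prime_and_dvd hu1.ne'
  have hrH : r ∣ Nat.card H := hru.trans (Subgroup.card_dvd_of_le hL.U_le)
  have hrc : r ∣ c := hr.dvd_of_dvd_pow (h2 ▸ hu ▸ hru)
  have hc0 : 0 < c := by have := h.five_le_p hG F; omega
  have hrle : r ≤ c := Nat.le_of_dvd hc0 hrc
  have hr2 := hr.two_le
  rcases hL.typeI.2 with hTI | ⟨hab, hrank, -⟩ | ⟨hexp, -⟩
  · refine hx1 (hTI s (by rw [hN]; exact hsL) x (hL.U_le hx) ?_)
    rw [hsx', mul_inv_cancel_right]
    exact hL.U_le hx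
  · haveI := Fact.mk hr
    haveI : IsMulCommutative H := hab
    let A : Subgroup G :=
      { carrier := {z | z ∈ H ∧ z ^ r = 1}
        mul_mem' := fun {a b} ha hb => ⟨H.mul_mem ha.1 hb.1, by
          rw [(show Commute a b from setLike_mul_comm (s := H) ha.1 hb.1).mul_pow, ha.2, hb.2,
            one_mul]⟩
        one_mem' := ⟨H.one_mem, one_pow _⟩
        inv_mem' := fun {a} ha => ⟨H.inv_mem ha.1, by rw [inv_pow, ha.2, inv_one]⟩ }
    have hAH : A ≤ H := fun z hz => hz.1
    have hAn : W ≤ normalizer (A : Set G) := by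
      intro w hw
      rw [Subgroup.mem_normalizer_iff]
      intro z
      have hwn := Subgroup.mem_normalizer_iff.1 (le_normalizer_fittingHallOf L (hWL hw)) z
      show (z ∈ H ∧ z ^ r = 1) ↔ (w * z * w⁻¹ ∈ H ∧ (w * z * w⁻¹) ^ r = 1)
      rw [conj_pow, conj_eq_one_iff]
      exact and_congr_left fun _ => hwn
    have hd := hL.fpf_dvd hAH hWL (by rw [hcW]; exact hL.coprime₂) hAn
    rw [hcW] at hd
    have hA2 : Nat.card A ≤ r ^ 2 := by
      have h3 := hrank r hr (A.subgroupOf H)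
        ⟨⟨fun a b => Subtype.ext (Subtype.ext (setLike_mul_comm (s := H) (a : ↥H).2 (b : ↥H).2))⟩⟩
        fun a ha => Subtype.ext (by simpa using ha.2)
      rwa [Nat.card_congr (Subgroup.subgroupOfEquivOfLe hAH).toEquiv] at h3
    obtain ⟨n, hn⟩ : ∃ n, Nat.card A = r ^ n := IsPGroup.iff_card.1
      (show IsPGroup r A from fun a => ⟨1, Subtype.ext (by simpa using a.2.2)⟩)
    have hn1 : n ≠ 0 := by
      rintro rfl
      obtain ⟨⟨a, ha⟩, hao⟩ := exists_prime_orderOf_dvd_card' (G := H) r hrH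
      rw [Subgroup.orderOf_mk] at hao
      have haA : a ∈ A := ⟨ha, hao ▸ pow_orderOf_eq_one a⟩
      rw [pow_zero] at hn
      have := Subgroup.eq_bot_of_card_eq A hn
      rw [this, Subgroup.mem_bot] at haA
      rw [haA, orderOf_one] at hao
      exact hr.ne_one hao.symm
    rw [hn] at hd hA2
    have hn2 : n ≤ 2 := (Nat.pow_le_pow_iff_right hr.one_lt).1 hA2
    have hdvd : Nat.card W₂ ∣ r ^ 2 - 1 := by
      rcases (show n = 1 ∨ n = 2 by omega) with rfl | rfl
      · rw [pow_one] at hd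
        exact hd.trans (by rw [show r ^ 2 - 1 = (r + 1) * (r - 1) from by simpa using Nat.sq_sub_sq r 1]; exact dvd_mul_left _ _)
      · exact hd
    rw [show r ^ 2 - 1 = (r + 1) * (r - 1) from by
      simpa using Nat.sq_sub_sq r 1] at hdvd
    rcases hp.dvd_mul.1 hdvd with h3 | h3 <;> have := Nat.le_of_dvd (by omega) h3 <;> omega
  · have hz : ∃ z ∈ W, z ≠ 1 := (Subgroup.bot_or_exists_ne_one W).resolve_left fun e => by
      rw [e, Subgroup.card_bot] at hcW; exact hp.ne_one hcW.symm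
    obtain ⟨z, hz, hz1⟩ := hz
    have hzo : orderOf z = Nat.card W₂ :=
      ((Nat.dvd_prime hp).1 (hcW ▸ Subgroup.orderOf_dvd_natCard _ hz)).resolve_left fun e =>
        hz1 (orderOf_eq_one_iff.1 e)
    have hp1 : orderOf (QuotientGroup.mk' (fittingHall L) (⟨z, hWL hz⟩ : L)) = Nat.card W₂ := by
      refine ((Nat.dvd_prime hp).1 (hzo ▸ (orderOf_map_dvd _ _).trans
        (Subgroup.orderOf_mk _ _).dvd)).resolve_left fun e => hp.ne_one ?_
      rw [orderOf_eq_one_iff] at e
      refine Nat.eq_one_of_dvd_coprimes hL.coprime₂ ?_ dvd_rfl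
      rw [← hzo]
      exact Subgroup.orderOf_dvd_natCard _ ⟨_, (QuotientGroup.eq_one_iff _).1 e, rfl⟩
    have h3 : Nat.card W₂ ∣ r - 1 := (hp1 ▸ Monoid.order_dvd_exponent _).trans (hexp r hr hrH)
    have := Nat.le_of_dvd (by omega) h3
    omega

/-- `|H| = k |U|` with `k` large, and `|U| e = (p ^ q - 1) / (p - 1)`. -/
theorem kernel_large : ∃ k e, Nat.card (fittingHallOf L) = k * Nat.card U ∧
    Nat.card W₁ * Nat.card W₂ + Nat.card W₂ ≤ k ∧
    Nat.card U * e = (Nat.card W₂ ^ Nat.card W₁ - 1) / (Nat.card W₂ - 1) ∧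
    ((e = 1) ∨ (e = Nat.card W₁ ∧ 2 * Nat.card W₁ + 1 ≤ Nat.card W₂)) := by
  obtain ⟨k, hkodd, hk⟩ := h.card_kernel hG F hL
  obtain ⟨e, he', he⟩ := h.S_full hG F hL
  obtain ⟨-, y, hy, hle⟩ := h.exists_conjW₂ hG F hL
  set p := Nat.card W₂ with hpdef
  set q := Nat.card W₁ with hqdef
  have hp := h.prime_p hG F
  have hq := h.prime_q hG F
  have hq3 := h.three_le_q hG F
  have hp5 := h.five_le_p hG F
  have hlt := h.lt
  have hdq : q ∣ Nat.card (fittingHallOf L) - 1 := hL.fpf_dvd le_rfl (le_sup_left.trans hle)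
    hL.coprime₁ ((le_sup_left.trans hle).trans (le_normalizer_fittingHallOf L))
  have hdp : p ∣ Nat.card (fittingHallOf L) - 1 := by
    have hc : Nat.card (W₂.map (MulAut.conj y).toMonoidHom) = p := card_map_conj _ _
    have := hL.fpf_dvd le_rfl (le_sup_right.trans hle) (by rw [hc]; exact hL.coprime₂)
      ((le_sup_right.trans hle).trans (le_normalizer_fittingHallOf L))
    rwa [hc] at this
  have hHq : k * Nat.card U ≡ 1 [MOD q] := hk ▸ ((Nat.modEq_iff_dvd' Nat.card_pos).2 hdq).symm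
  have hHp : k * Nat.card U ≡ 1 [MOD p] := hk ▸ ((Nat.modEq_iff_dvd' Nat.card_pos).2 hdp).symm
  have huq : Nat.card U ≡ 1 [MOD q] :=
    Singer.card_modEq_one (h.singerSetting hG F) le_rfl h.dataS.U_normal
  have hkq : k ≡ 1 [MOD q] := by
    have := (huq.mul_left k).symm.trans hHq
    rwa [mul_one] at this
  have hup : Nat.card U * e ≡ 1 [MOD p] := h.u_mul hG F he ▸ h.singer_modEq hG F
  have hkp : k ≡ e [MOD p] := by
    have h1 : k * (Nat.card U * e) ≡ k * 1 [MOD p] := hup.mul_left k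
    have h2 : k * Nat.card U * e ≡ 1 * e [MOD p] := hHp.mul_right e
    rw [mul_one] at h1
    rw [one_mul, mul_assoc] at h2
    exact h1.symm.trans h2
  have hk1 : k ≠ 1 := fun e1 => h.kernel_ne_U hG F hL
    (Subgroup.eq_of_le_of_card_ge hL.U_le (by rw [hk, e1, one_mul])).symm
  refine ⟨k, e, hk, ?_, h.u_mul hG F he, ?_⟩
  · rcases h.e_cases hG F he' he with ⟨rfl, -⟩ | ⟨rfl, hmod⟩
    · have h1 : q * p ∣ k - 1 := ((Nat.coprime_primes hq hp).2 hlt.ne).mul_dvd_of_dvd_of_dvd
        ((Nat.modEq_iff_dvd' hkodd.pos).1 hkq.symm) ((Nat.modEq_iff_dvd' hkodd.pos).1 hkp.symm)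
      obtain ⟨m, hm⟩ := h1
      rcases m with _ | _ | m
      · have := hkodd.pos; simp at hm; omega
      · exfalso
        obtain ⟨a, ha⟩ := hkodd
        obtain ⟨b, hb⟩ := (hq.odd_of_ne_two (by omega)).mul (hp.odd_of_ne_two (by omega))
        rw [zero_add, mul_one] at hm
        change q * p = _ at hb
        omega
      · have : q * p * 2 ≤ q * p * (m + 1 + 1) := Nat.mul_le_mul_left _ (by omega)
        have : p ≤ q * p := Nat.le_mul_of_pos_left _ hq.pos
        omega
    · have hkge : q ≤ k := by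
        by_contra hcon
        push Not at hcon
        rw [Nat.ModEq, Nat.mod_eq_of_lt hlt, Nat.mod_eq_of_lt (hcon.trans hlt)] at hkp
        omega
      obtain ⟨m, hm⟩ := (Nat.modEq_iff_dvd' hkge).1 hkp.symm
      have hkm : k = q + p * m := by omega
      have hm1 : m % q = 1 := by
        have h3 : k % q = 1 := by rw [hkq]; exact Nat.mod_eq_of_lt hq.one_lt
        rw [hkm, Nat.add_mod_left, Nat.mul_mod, hmod, one_mul, Nat.mod_mod] at h3
        exact h3
      have hm2 : m ≠ 1 := by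
        rintro rfl
        obtain ⟨a, ha⟩ := hkodd
        obtain ⟨b, hb⟩ := hq.odd_of_ne_two (by omega : q ≠ 2)
        obtain ⟨c, hc⟩ := hp.odd_of_ne_two (by omega : p ≠ 2)
        rw [mul_one] at hkm
        omega
      have hm3 : q + 1 ≤ m := by
        by_contra hcon
        rcases Nat.lt_or_ge m q with h4 | h4
        · rw [Nat.mod_eq_of_lt h4] at hm1; exact hm2 hm1
        · rw [show m = q by omega, Nat.mod_self] at hm1; omega
      have : p * (q + 1) ≤ p * m := Nat.mul_le_mul_left _ hm3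
      have : p * (q + 1) = q * p + p := by ring
      omega
  · rcases h.e_cases hG F he' he with ⟨he1, -⟩ | ⟨he1, hmod⟩
    · exact Or.inl he1
    · refine Or.inr ⟨he1, ?_⟩
      obtain ⟨a, ha⟩ := hp.odd_of_ne_two (by omega : p ≠ 2)
      obtain ⟨b, hb⟩ := hq.odd_of_ne_two (by omega : q ≠ 2)
      have h1 := Nat.mod_add_div p q
      rw [hmod] at h1
      rcases hd : p / q with _ | _ | d
      · rw [hd] at h1; omega
      · rw [hd] at h1; omega
      · rw [hd] at h1
        have : q * 2 ≤ q * (d + 1 + 1) := Nat.mul_le_mul_left _ (by omega)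
        omega

end CfsgLib.OddOrder.TopConfig
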