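import Cfsg.Agent.OddOrder.PF10.BadTypeIII

/-!
# The second member of a pair is not of Type V (Peterfalvi (10.8), (11.8) for Type V)
-/

set_option autoImplicit false
set_option linter.style.haveILetI false
set_option linter.unusedSectionVars false

namespace CfsgLib.OddOrder

open Cfsg CfsgLib.Characters CfsgLib.Coherence CfsgLib.OddOrderChar
open Subgroup (centralizer normalizer)

universe u

variable {G : Type u} [Group G] [Fintype G]

theorem typeV_mass_absurd {p q u g : ℝ} (hp : 3 ≤ p) (hq : 3 ≤ q) (hu : 7 ≤ u)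
    (hg : p * q * u ≤ g)
    (h : 1 / p * (1 - 1 / q - 1 / u) - 1 / g ≤ q / (p * (2 * q + 1))) : False := by
  have hpqu : 0 < p * q * u := by positivity
  have h1 : 1 / g ≤ 1 / (p * q * u) := one_div_le_one_div_of_le hpqu hg
  have h2 : 1 / p * (1 - 1 / q - 1 / u) - 1 / (p * q * u) ≤ q / (p * (2 * q + 1)) := by linarith
  have h3 : 1 / p * (1 - 1 / q - 1 / u) - 1 / (p * q * u) = (q * u - u - q - 1) / (p * q * u) := by
    field_simp
  rw [h3, div_le_div_iff₀ hpqu (by positivity)] at h2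
  have h4 : (q * u - u - q - 1) * (2 * q + 1) ≤ q ^ 2 * u := by
    nlinarith [h2]
  nlinarith [mul_nonneg (mul_nonneg (sub_nonneg.2 hq) (sub_nonneg.2 hu)) (sub_nonneg.2 hq),
    mul_nonneg (sub_nonneg.2 hq) (sub_nonneg.2 hu), sub_nonneg.2 hq, sub_nonneg.2 hu]

/-- A subgroup of Type V is not of Type II. -/
theorem not_typeII_of_typeV {T : Subgroup G} (hsolv : Group.IsSolvable T) (hV : IsOfTypeV T) :
    ¬ IsOfTypeII T := by
  rintro ⟨A, B, C, hP, hB, -⟩
  obtain ⟨A', B', C', hP', hB', -⟩ := hV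
  refine hB ?_
  have h1 := compl_card hP.U_compl
  have h2 := compl_card hP'.U_compl
  rw [hB', Subgroup.card_bot, mul_one] at h2
  rw [← h2] at h1
  exact Subgroup.eq_bot_of_card_eq _
    (Nat.eq_of_mul_eq_mul_left Nat.card_pos (h1.trans (mul_one _).symm))

/-- With data of type P and `IsOfTypeV` the middle group is trivial. -/
theorem data_U_of_typeV {T A B C : Subgroup G} (hV : IsOfTypeV T) (hP : IsTypePWith T A B C) :
    B = ⊥ := by
  obtain ⟨A', B', C', hP', hB', -⟩ := hV
  have h1 := compl_card hP.U_compl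
  have h2 := compl_card hP'.U_compl
  rw [hB', Subgroup.card_bot, mul_one] at h2
  rw [← h2] at h1
  exact Subgroup.eq_bot_of_card_eq _
    (Nat.eq_of_mul_eq_mul_left Nat.card_pos (h1.trans (mul_one _).symm))

/-- The final count for Type V, given the mass bound. -/
theorem FTPair.not_typeV_of_mass {S T W₁ U W₂ V : Subgroup G} [Fintype T]
    (h : FTPair S T W₁ U W₂ V) (hG : IsMinSimpleOddOrder G) (F : FTFacts G)
    (hmass : ∀ (χ : (↥(W₂ ⊔ W₁) →* ℂˣ) → (G → ℂ))
      (μ : (↥(W₂ ⊔ W₁) →* ℂˣ) → (↥T → ℂ)) (δ : (↥(W₂ ⊔ W₁) →* ℂˣ) → ℤ),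
      BadSide T W₂ W₁ χ μ δ → IsTypePWith T W₂ ⊥ W₁ →
      ∀ O : Set G, Disjoint O (dadeSupp (supportA0 T) (supportR T)) →
        gMass O (col χ 1) ≤
          (Nat.card W₂ : ℝ) / (Nat.card W₁ * (2 * Nat.card W₂ + 1))) :
    ¬ IsOfTypeV T := by
  classical
  intro hV
  letI : Fintype S := Fintype.ofFinite _
  have hII := not_typeII_of_typeV (minSimple_coatom_solvable hG h.coatomT) hV
  have hP : IsTypePWith T W₂ ⊥ W₁ := data_U_of_typeV hV h.dataT ▸ h.dataT
  obtain ⟨χ, -, -, μ, δ, hs⟩ := h.exists_sides hG F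
  have h1 := hmass _ μ δ (h.badSide hG F hII hs) hP (farRegion S T)
    (h.far_disjoint_dadeSupp_A0_T hG F hII hs)
  have h2 := h.gMass_far_col hG F hs.ti (Or.inr rfl)
  have h3 := h.gMass_far_ge hG F
  have hp : 3 ≤ Nat.card W₁ := (snc_card_bounds hs.ti.snc hs.ti.odd).2.1
  have hq : 3 ≤ Nat.card W₂ := (snc_card_bounds hs.ti.snc hs.ti.odd).1
  have hU := h.U_card hG F
  have hg : Nat.card W₁ * Nat.card W₂ * Nat.card U ≤ Nat.card G := by
    refine le_trans ?_ (Subgroup.card_le_card_group S)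
    have hq' : Nat.card W₂ ≤ Nat.card (sigmaCore S) :=
      Subgroup.card_le_of_le (h.dataS.W₂_le.trans
        (inf_le_left.trans (F.chain S h.coatomS).2.1))
    rw [← compl_card h.dataS.W₁_compl, h.card_derived_S hG F]
    calc Nat.card W₁ * Nat.card W₂ * Nat.card U
        ≤ Nat.card W₁ * Nat.card (sigmaCore S) * Nat.card U :=
          Nat.mul_le_mul_right _ (Nat.mul_le_mul_left _ hq')
      _ = Nat.card (sigmaCore S) * Nat.card U * Nat.card W₁ := by ring
  refine typeV_mass_absurd (p := Nat.card W₁) (q := Nat.card W₂) (u := Nat.card U)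
    (g := Nat.card G) (by exact_mod_cast hp) (by exact_mod_cast hq)
    (by exact_mod_cast (show 7 ≤ Nat.card U by omega)) (by exact_mod_cast hg) ?_
  linarith

end CfsgLib.OddOrder
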