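import Cfsg.Agent.OddOrder.PF10.BadMass

/-!
# Type V: the coefficient `dev φ` and Bessel's inequality for a family with vanishing coefficients

For a character `φ` induced from `M'` of degree `e q` put
`dev φ = ⟨τ (φ - e ζ₀), f ζ₀⟩ + e`. If it vanishes on a set `Y` of irreducible such characters, then
`Γ φ = τ (φ - e ζ₀) + e f ζ₀` together with `f` is an orthonormal family, and Bessel's inequality
forces further coefficients to vanish as soon as `r + Σ e²` is large. This replaces coherence.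
-/

set_option autoImplicit false
set_option linter.style.haveILetI false
set_option linter.unusedSectionVars false

namespace CfsgLib.OddOrder

open Cfsg CfsgLib.Characters CfsgLib.Coherence CfsgLib.OddOrderChar
open scoped ComplexConjugate

universe u

variable {G : Type u} [Group G] [Fintype G] {M W₁ W₂ : Subgroup G} [Fintype M]

noncomputable local instance fintypeSubTypeVAux (H : Subgroup ↥M) : Fintype H := Fintype.ofFinite H

/-- Irreducible characters of `M` induced from non-linear characters of `M'`. -/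
def otherSet (M : Subgroup G) [Fintype M] : Set (↥M → ℂ) :=
  {φ | IsIrrCharacter ↥M φ ∧ φ ∈ inducedIrrAbove (derIn M) ⊥ ∧ φ ∉ linSet M}

/-- `φ(1) / |M : M'|`. -/
noncomputable def degK (W₁ : Subgroup G) (φ : ↥M → ℂ) : ℂ := φ 1 / (Nat.card W₁ : ℂ)

/-- The corrected coefficient of `φ` on `f ζ₀`. -/
noncomputable def devC (W₁ : Subgroup G) (f : (↥M → ℂ) → (G → ℂ)) (ζ₀ φ : ↥M → ℂ) : ℂ :=
  classInner (tauM M (φ - degK W₁ φ • ζ₀)) (f ζ₀) + degK W₁ φ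

theorem tableSq_nonneg' {A B : Type*} [Fintype A] [Fintype B] (c : A → B → ℤ) : 0 ≤ tableSq c :=
  Finset.sum_nonneg fun _ _ => Finset.sum_nonneg fun _ _ => sq_nonneg _

namespace BadCtx

variable {χ : (↥(W₁ ⊔ W₂) →* ℂˣ) → (G → ℂ)} {μ : (↥(W₁ ⊔ W₂) →* ℂˣ) → (↥M → ℂ)}
  {δ : (↥(W₁ ⊔ W₂) →* ℂˣ) → ℤ} {f : (↥M → ℂ) → (G → ℂ)} {s n : ℤ} {ζ₀ : ↥M → ℂ}
  (h : BadCtx M W₁ W₂ χ μ δ f s n ζ₀)
include h

theorem q_ne : (Nat.card W₁ : ℂ) ≠ 0 := Nat.cast_ne_zero.2 Nat.card_pos.ne'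

theorem degK_ind (θ : derIn M → ℂ) : degK W₁ (indFun (derIn M) θ) = θ 1 := by
  rw [degK, h.ind_one, mul_div_assoc, mul_comm, div_mul_cancel₀ _ h.q_ne]

/-- The restriction of `μ_l` is fixed by `M`, so what it induces is not irreducible. -/
theorem ind_res_norm (l : rightHat W₁ W₂) :
    classInner (indFun (derIn M) (fun x => μ l.1 x)) (indFun (derIn M) (fun x => μ l.1 x)) =
      (Nat.card W₁ : ℂ) := by
  rw [Coherence.ci_ind_self _ (h.pmu.res_irr h.base h.oddM l)]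
  have e : stabCard (derIn M) (fun x : derIn M => μ l.1 x) = Nat.card M := by
    rw [stabCard]
    exact Nat.card_congr (Equiv.subtypeUnivEquiv fun g => funext fun y =>
      isClassFunction_of_isIrr (h.pmu.irr l.1) (y : ↥M) g)
  rw [e, ← (derIn M).index_mul_card, h.base.index_derIn, Nat.cast_mul, mul_div_assoc,
    div_self natCard_ne_zero, mul_one]

/-- What is known of a member of `otherSet M`. -/
theorem other_facts {φ : ↥M → ℂ} (hφ : φ ∈ otherSet M) :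
    ∃ (θ : derIn M → ℂ) (e : ℕ), IsIrrCharacter ↥(derIn M) θ ∧ θ 1 = (e : ℂ) ∧ 0 < e ∧
      φ = indFun (derIn M) θ ∧ degK W₁ φ = (e : ℂ) ∧ φ 1 = (Nat.card W₁ : ℂ) * e ∧
      ∀ ω, φ ≠ μ ω := by
  obtain ⟨hirr, ⟨θ, hθ, -, -, rfl⟩, -⟩ := hφ
  obtain ⟨e, he0, he⟩ := exists_degree_pos hθ
  refine ⟨θ, e, hθ, he, he0, rfl, by rw [h.degK_ind, he], by rw [h.ind_one, he], ?_⟩
  refine (h.pmu.ind_irr' h.base h.oddM hθ fun l hl => ?_).2
  have h1 := h.ind_res_norm l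
  rw [← hl, classInner_isIrr_self hirr] at h1
  have h2 : (1 : ℕ) = Nat.card W₁ := by exact_mod_cast h1
  have := h.three_le_q
  omega

/-- Membership for an induced character. -/
theorem ind_mem_other {θ : derIn M → ℂ} (hθ : IsIrrCharacter ↥(derIn M) θ) (h1 : θ ≠ fun _ => 1)
    (hne : ∀ l : rightHat W₁ W₂, θ ≠ fun x : derIn M => μ l.1 x)
    (hlin : ¬ ∀ a : derIn M, (a : ↥M) ∈ derDer M → θ a = θ 1) :
    indFun (derIn M) θ ∈ otherSet M :=
  ⟨(h.pmu.ind_irr' h.base h.oddM hθ hne).1, (ind_mem_iff _ hθ).2 ⟨h1, fun a ha => by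
    rw [show a = 1 from Subtype.ext (Subgroup.mem_bot.1 ha)]⟩, fun hm => hlin ((ind_mem_iff _ hθ).1 hm).2⟩

/-- The function `φ - e ζ₀` of a member of `otherSet M`. -/
theorem phi_facts {φ : ↥M → ℂ} (hφ : φ ∈ otherSet M) {e : ℕ} (he : degK W₁ φ = (e : ℂ)) :
    IsGeneralizedCharacter ↥M (φ - (e : ℂ) • ζ₀) ∧
      (∀ x : ↥M, (x : G) ∉ supportA0 M → (φ - (e : ℂ) • ζ₀) x = 0) ∧
      sqNorm (φ - (e : ℂ) • ζ₀) = 1 + (e : ℝ) ^ 2 ∧
      classInner (φ - (e : ℂ) • ζ₀) ζ₀ = -(e : ℂ) ∧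
      (∀ ζ ∈ linSet M, ζ ≠ ζ₀ → classInner (φ - (e : ℂ) • ζ₀) ζ = 0) ∧
      ∀ ζ ∈ linSet M, classInner φ ζ = 0 := by
  obtain ⟨θ, e', hθ, hθ1, -, hφe, he', -, -⟩ := h.other_facts hφ
  obtain rfl : e = e' := by exact_mod_cast he.symm.trans he'
  have hζ := (h.lin_irr h.mem).1
  have hperp : ∀ ζ ∈ linSet M, classInner φ ζ = 0 := fun ζ hz =>
    classInner_isIrr_ne hφ.1 (h.lin_irr hz).1 fun e => hφ.2.2 (e ▸ hz)
  refine ⟨Coherence.isGen_sub (Coherence.isGen_of_isIrr hφ.1)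
    (Coherence.isGen_natCast_smul (Coherence.isGen_of_isIrr hζ) _), ?_, ?_, ?_, ?_, hperp⟩
  · intro x hx
    have := h.diff_supp hθ x hx
    rw [hθ1, ← hφe, Pi.sub_apply, sub_eq_zero] at this
    rw [Pi.sub_apply, sub_eq_zero, this]
  · rw [sqNorm, ci_sub_left, ci_sub_right, ci_sub_right, ci_smul_left, ci_smul_left, ci_smul_right,
      ci_smul_right, ← ci_conj φ ζ₀, hperp _ h.mem, map_zero, classInner_isIrr_self hφ.1,
      classInner_isIrr_self hζ, Complex.conj_natCast]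
    simp; ring
  · rw [ci_sub_left, ci_smul_left, hperp _ h.mem, classInner_isIrr_self hζ]; ring
  · intro ζ hz hne
    rw [ci_sub_left, ci_smul_left, hperp _ hz, classInner_isIrr_ne hζ (h.lin_irr hz).1 (Ne.symm hne)]
    ring

/-- The coefficient of a member of `otherSet M`. -/
theorem other_proj {φ : ↥M → ℂ} (hφ : φ ∈ otherSet M) {e : ℕ} (he : degK W₁ φ = (e : ℂ)) :
    ∃ x : ℤ, devC W₁ f ζ₀ φ = (x : ℂ) ∧
      classInner (tauM M (φ - (e : ℂ) • ζ₀)) (f ζ₀) = (x : ℂ) - (e : ℂ) ∧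
      (∀ ζ ∈ linSet M, ζ ≠ ζ₀ → classInner (tauM M (φ - (e : ℂ) • ζ₀)) (f ζ) = (x : ℂ)) ∧
      0 ≤ x ∧ (linNum M : ℤ) * x ^ 2 - 2 * e * x ≤ 1 := by
  classical
  obtain ⟨hgen, hs, hnorm, h0, hne, -⟩ := h.phi_facts hφ he
  obtain ⟨x, x0, xne, xle, -⟩ := h.proj hgen hs (m := (e : ℤ)) (by rw [h0, Int.cast_natCast]) hne
  rw [hnorm] at xle
  rw [Int.cast_natCast] at x0
  have hle : (linNum M : ℤ) * x ^ 2 - 2 * e * x ≤ 1 := by
    have h1 : (0 : ℝ) ≤ (tableSq (coefT χ (tauM M (φ - (e : ℂ) • ζ₀))) : ℤ) := by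
      exact_mod_cast tableSq_nonneg' _
    have : (((linNum M : ℤ) * x ^ 2 - 2 * e * x : ℤ) : ℝ) ≤ ((1 : ℤ) : ℝ) := by
      push_cast at xle ⊢; linarith
    exact_mod_cast this
  refine ⟨x, ?_, x0, xne, ?_, hle⟩
  · rw [devC, he, x0, sub_add_cancel]
  · by_contra hx
    have hr : (2 : ℤ) ≤ linNum M := by exact_mod_cast h.two_le_linNum
    have hx1 : (1 : ℤ) ≤ x ^ 2 := by nlinarith
    nlinarith [mul_le_mul_of_nonneg_right hr (sq_nonneg x), (show (0 : ℤ) ≤ e from by positivity)]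

/-- The coefficient `a`. -/
theorem alpha_a {l : rightHat W₁ W₂} (hl : l ≠ 1) :
    ∃ a : ℤ, classInner (tauM M (alphaB μ s n ζ₀ l)) (f ζ₀) = (a : ℂ) - n ∧
      (∀ ζ ∈ linSet M, ζ ≠ ζ₀ → classInner (tauM M (alphaB μ s n ζ₀ l)) (f ζ) = (a : ℂ)) ∧
      0 ≤ a ∧ (linNum M : ℤ) * a ^ 2 - 2 * n * a ≤ 2 := by
  obtain ⟨a, a0, ane, ale, -, -, -⟩ := h.alpha_table hl
  have h1 := tableSq_nonneg' (coefT χ (tauM M (alphaB μ s n ζ₀ l)))
  have hle : (linNum M : ℤ) * a ^ 2 - 2 * n * a ≤ 2 := by linarith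
  refine ⟨a, a0, ane, ?_, hle⟩
  by_contra ha
  have hr : (2 : ℤ) ≤ linNum M := by exact_mod_cast h.two_le_linNum
  have := h.two_le
  nlinarith [mul_le_mul_of_nonneg_right hr (sq_nonneg a)]

/-- The coefficient `g` is at most `|W₁| / 2`. -/
theorem gamma_g : ∃ g : ℤ, classInner (tauM M (gammaB M ζ₀)) (f ζ₀) = (g : ℂ) - 1 ∧
    (∀ ζ ∈ linSet M, ζ ≠ ζ₀ → classInner (tauM M (gammaB M ζ₀)) (f ζ) = (g : ℂ)) ∧
    2 * |g| ≤ (Nat.card W₁ : ℤ) := by
  obtain ⟨g, g0, gne, -, h00, gle, -⟩ := h.gamma_table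
  refine ⟨g, g0, gne, ?_⟩
  have h1 : (1 : ℤ) ≤ tableSq (coefT χ (tauM M (gammaB M ζ₀))) := by
    refine le_trans ?_ (Finset.single_le_sum (fun _ _ => Finset.sum_nonneg fun _ _ => sq_nonneg _)
      (Finset.mem_univ (1 : leftHat W₁ W₂)))
    refine le_trans ?_ (Finset.single_le_sum (fun _ _ => sq_nonneg _) (Finset.mem_univ (1 : rightHat W₁ W₂)))
    rw [h00]; norm_num
  have hr : (2 : ℤ) ≤ linNum M := by exact_mod_cast h.two_le_linNum
  have hq : (3 : ℤ) ≤ Nat.card W₁ := by exact_mod_cast h.three_le_q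
  by_contra hg
  push Not at hg
  rcases abs_cases g with ⟨e, hge⟩ | ⟨e, hge⟩ <;> rw [e] at hg <;>
    nlinarith [mul_le_mul_of_nonneg_right hr (sq_nonneg g)]

/-- The coefficient of `Σ_k μ_kl`. -/
theorem devC_mu {l : rightHat W₁ W₂} (hl : l ≠ 1) {a g : ℤ}
    (ha : classInner (tauM M (alphaB μ s n ζ₀ l)) (f ζ₀) = (a : ℂ) - n)
    (hg : classInner (tauM M (gammaB M ζ₀)) (f ζ₀) = (g : ℂ) - 1) :
    devC W₁ f ζ₀ (indFun (derIn M) (fun x => μ l.1 x)) =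
      (Nat.card W₁ : ℂ) * a + (s : ℂ) * g := by
  classical
  obtain ⟨hd, hdeg⟩ := h.mu_deg l hl
  have hss : (s : ℂ) * (s : ℂ) = 1 := by rcases h.sign with e | e <;> rw [e] <;> norm_num
  have hdec : ∑ k : leftHat W₁ W₂, μ (k.1 * l.1) - μ l.1 1 • ζ₀ =
      (Nat.card W₁ : ℂ) • alphaB μ s n ζ₀ l + (s : ℂ) • gammaB M ζ₀ +
        (s : ℂ) • ∑ k : leftHat W₁ W₂, indW M W₁ W₂ (tiAlpha k.1 l.1) := by
    have hones : indFun (derIn M) (fun _ => 1) = ∑ k : leftHat W₁ W₂, μ k.1 := by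
      rw [← h.base.sum_liftHat]
      exact Finset.sum_congr rfl fun k _ => ((h.pmu.left h.base h.oddM k).1).symm
    have hW : ∀ k : leftHat W₁ W₂, (s : ℂ) • indW M W₁ W₂ (tiAlpha k.1 l.1) =
        μ (k.1 * l.1) - μ l.1 - (s : ℂ) • μ k.1 + (s : ℂ) • (fun _ => (1 : ℂ)) := fun k => by
      rw [h.pmu.indW_tiAlpha h.base h.oddM k l, hd, smul_sub, smul_smul, hss, one_smul, smul_sub]
      abel
    rw [Finset.smul_sum, Finset.sum_congr rfl fun k _ => hW k, Finset.sum_add_distrib,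
      Finset.sum_sub_distrib, Finset.sum_sub_distrib, ← Finset.smul_sum, ← hones, Finset.sum_const,
      Finset.sum_const, Finset.card_univ, h.ti.card_left, ← Nat.cast_smul_eq_nsmul ℂ,
      ← Nat.cast_smul_eq_nsmul ℂ, hdeg]
    simp only [alphaB, gammaB]
    module
  rw [devC, h.degK_ind, h.pmu.ind_res h.base h.oddM l, OneMemClass.coe_one, hdec, tauM, dade_add, dade_add, dade_smul,
    dade_smul, dade_smul, dade_sum, ci_add_left, ci_add_left, ci_smul_left, ci_smul_left,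
    ci_smul_left, ci_sum_left]
  change (Nat.card W₁ : ℂ) * classInner (tauM M (alphaB μ s n ζ₀ l)) (f ζ₀) +
    (s : ℂ) * classInner (tauM M (gammaB M ζ₀)) (f ζ₀) +
    (s : ℂ) * ∑ k : leftHat W₁ W₂, classInner (tauM M (indW M W₁ W₂ (tiAlpha k.1 l.1))) (f ζ₀) +
      μ l.1 1 = _
  rw [ha, hg, Finset.sum_eq_zero (fun k _ => ?_), hdeg]
  · ring
  by_cases hk : k = 1
  · subst hk
    rw [h.pmu.indW_tiAlpha h.base h.oddM 1 l, leftHat_coe_one, (h.pmu.one h.base h.oddM).1,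
      show (1 : ↥(W₁ ⊔ W₂) →* ℂˣ) * l.1 = l.1 from MonoidHom.ext fun w => one_mul _, sub_self,
      sub_self, smul_zero, sub_zero, tauM, dade_zero]
    simp [classInner]
  · rw [h.toSide.tau_tiAlpha k l hk hl]
    have hfun : (fun g => 1 - eta χ k 1 g - eta χ 1 l g + eta χ k l g) =
        eta χ 1 1 - eta χ k 1 - eta χ 1 l + eta χ k l := by
      funext g
      simp [eta_one_one h.ti]
    rw [hfun, ci_add_left, ci_sub_left, ci_sub_left, h.eta_f _ _ h.mem, h.eta_f _ _ h.mem,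
      h.eta_f _ _ h.mem, h.eta_f _ _ h.mem]
    ring

/-! ### The family -/

/-- `r + Σ e²` over a family. -/
noncomputable def famWeight (_h : BadCtx M W₁ W₂ χ μ δ f s n ζ₀) (Y : Finset (↥M → ℂ)) : ℝ :=
  (linNum M : ℝ) + ∑ φ ∈ Y, (degK W₁ φ).re ^ 2

/-- Bessel's inequality for `f` and the family `Γ`. -/
theorem family_bessel {Y : Finset (↥M → ℂ)} (hY : ∀ φ ∈ Y, φ ∈ otherSet M ∧ devC W₁ f ζ₀ φ = 0)
    {β : ↥M → ℂ} (hβ : IsGeneralizedCharacter ↥M β)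
    (hs : ∀ x : ↥M, (x : G) ∉ supportA0 M → β x = 0) {m x : ℤ}
    (hm : classInner β ζ₀ = -(m : ℂ)) (hperp : ∀ φ ∈ Y, classInner β φ = 0)
    (h0 : classInner (tauM M β) (f ζ₀) = (x : ℂ) - m)
    (hne : ∀ ζ ∈ linSet M, ζ ≠ ζ₀ → classInner (tauM M β) (f ζ) = (x : ℂ)) :
    h.famWeight Y * x ^ 2 - 2 * m * x + m ^ 2 ≤ sqNorm β := by
  classical
  have hcl := Coherence.isClassFunction_of_isGen hβ
  have he : ∀ φ ∈ Y, ∃ e : ℕ, degK W₁ φ = (e : ℂ) := fun φ hφ => by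
    obtain ⟨-, e, -, -, -, -, he, -, -⟩ := h.other_facts (hY φ hφ).1
    exact ⟨e, he⟩
  choose! e he using he
  set Γ : (↥M → ℂ) → (G → ℂ) := fun φ => tauM M (φ - (e φ : ℂ) • ζ₀) + (e φ : ℂ) • f ζ₀ with hΓ
  set V : G → ℂ := ∑ ζ ∈ linFin M, f ζ + ∑ φ ∈ Y, (e φ : ℂ) • Γ φ with hV
  have hu : classInner (f ζ₀) (f ζ₀) = 1 := signed_self (h.ext.signed _ h.mem)
  have hx : ∀ φ ∈ Y, classInner (tauM M (φ - (e φ : ℂ) • ζ₀)) (f ζ₀) = -(e φ : ℂ) ∧
      ∀ ζ ∈ linSet M, ζ ≠ ζ₀ → classInner (tauM M (φ - (e φ : ℂ) • ζ₀)) (f ζ) = 0 := fun φ hφ => by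
    obtain ⟨y, y1, y2, y3, -⟩ := h.other_proj (hY φ hφ).1 (he φ hφ)
    rw [(hY φ hφ).2] at y1
    rw [← y1, zero_sub] at y2
    exact ⟨y2, fun ζ hζ hz => by rw [y3 ζ hζ hz, ← y1]⟩
  have hΓf : ∀ φ ∈ Y, ∀ ζ ∈ linSet M, classInner (Γ φ) (f ζ) = 0 := fun φ hφ ζ hζ => by
    rw [hΓ, ci_add_left, ci_smul_left]
    by_cases hz : ζ = ζ₀
    · subst hz; rw [(hx φ hφ).1, hu]; ring
    · rw [(hx φ hφ).2 ζ hζ hz, h.ext.inner _ h.mem _ hζ (Ne.symm hz)]; ring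
  have hΓΓ : ∀ φ ∈ Y, ∀ ψ ∈ Y, classInner (Γ φ) (Γ ψ) = if φ = ψ then 1 else 0 := by
    intro φ hφ ψ hψ
    obtain ⟨hg, hgs, -, -, -, hp⟩ := h.phi_facts (hY φ hφ).1 (he φ hφ)
    obtain ⟨hg', hgs', -, -, -, hp'⟩ := h.phi_facts (hY ψ hψ).1 (he ψ hψ)
    rw [hΓ, ci_add_left, ci_add_right, ci_add_right, ci_smul_left, ci_smul_left, ci_smul_right,
      ci_smul_right, h.tau_ci (Coherence.isClassFunction_of_isGen hg) hgs
        (Coherence.isClassFunction_of_isGen hg') hgs',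
      ← ci_conj (tauM M (ψ - (e ψ : ℂ) • ζ₀)) (f ζ₀), (hx φ hφ).1, (hx ψ hψ).1, hu, ci_sub_left,
      ci_sub_right, ci_sub_right, ci_smul_left, ci_smul_left, ci_smul_right, ci_smul_right,
      hp _ h.mem, ← ci_conj ψ ζ₀, hp' _ h.mem, ci_irr (hY φ hφ).1.1 (hY ψ hψ).1.1,
      classInner_isIrr_self (h.lin_irr h.mem).1]
    simp only [map_neg, map_zero, Complex.conj_natCast]
    ring
  have hβΓ : ∀ φ ∈ Y, classInner (tauM M β) (Γ φ) = (e φ : ℂ) * x := fun φ hφ => by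
    obtain ⟨hg, hgs, -, -, -, -⟩ := h.phi_facts (hY φ hφ).1 (he φ hφ)
    rw [hΓ, ci_add_right, ci_smul_right, h.tau_ci hcl hs (Coherence.isClassFunction_of_isGen hg) hgs,
      h0, ci_sub_right, ci_smul_right, hperp φ hφ, hm, Complex.conj_natCast]
    ring
  have hW : ((h.famWeight Y : ℝ) : ℂ) = (linNum M : ℂ) + ∑ φ ∈ Y, (e φ : ℂ) ^ 2 := by
    rw [famWeight]
    push_cast
    rw [Finset.sum_congr rfl fun φ hφ => by rw [he φ hφ, Complex.natCast_re, Complex.ofReal_natCast]]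
  have hfV : ∀ ζ ∈ linSet M, classInner (f ζ) V = 1 := fun ζ hζ => by
    rw [hV, ci_add_right, ci_sum_right, ci_sum_right,
      Finset.sum_eq_zero (s := Y) fun φ hφ => by rw [ci_smul_right, ← ci_conj (Γ φ), hΓf φ hφ ζ hζ,
        map_zero, mul_zero],
      Finset.sum_eq_single ζ (fun z hz hne => h.ext.inner _ hζ _ (mem_linFin.1 hz) (Ne.symm hne))
        fun hn => absurd (mem_linFin.2 hζ) hn, signed_self (h.ext.signed _ hζ), add_zero]
  have hVV : classInner V V = ((h.famWeight Y : ℝ) : ℂ) := by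
    rw [hW]
    conv_lhs => arg 1; rw [hV]
    rw [ci_add_left, ci_sum_left, ci_sum_left,
      Finset.sum_congr rfl fun ζ hζ => hfV ζ (mem_linFin.1 hζ), Finset.sum_const, nsmul_one, linNum]
    refine congrArg _ (Finset.sum_congr rfl fun φ hφ => ?_)
    rw [ci_smul_left, hV, ci_add_right, ci_sum_right, ci_sum_right,
      Finset.sum_eq_zero (s := linFin M) fun ζ hζ => hΓf φ hφ ζ (mem_linFin.1 hζ),
      Finset.sum_eq_single φ (fun ψ hψ hne => by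
        rw [ci_smul_right, hΓΓ φ hφ ψ hψ, if_neg (Ne.symm hne), mul_zero]) (fun hn => absurd hφ hn),
      ci_smul_right, hΓΓ φ hφ φ hφ, if_pos rfl, Complex.conj_natCast]
    ring
  have hβV : classInner (tauM M β) V = (x : ℂ) * (h.famWeight Y : ℝ) - m := by
    have e1 : ∑ ζ ∈ (linFin M).erase ζ₀, classInner (tauM M β) (f ζ) =
        ∑ _ζ ∈ (linFin M).erase ζ₀, (x : ℂ) := Finset.sum_congr rfl fun ζ hζ =>
      hne ζ (mem_linFin.1 (Finset.mem_of_mem_erase hζ)) (Finset.mem_erase.1 hζ).1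
    have e2 : ∑ φ ∈ Y, classInner (tauM M β) ((e φ : ℂ) • Γ φ) = ∑ φ ∈ Y, (x : ℂ) * (e φ : ℂ) ^ 2 :=
      Finset.sum_congr rfl fun φ hφ => by
        rw [ci_smul_right, hβΓ φ hφ, Complex.conj_natCast]; ring
    rw [hW, hV, ci_add_right, ci_sum_right, ci_sum_right, e2,
      ← Finset.add_sum_erase _ _ (mem_linFin.2 h.mem), h0, e1,
      Finset.sum_const, Finset.card_erase_of_mem (mem_linFin.2 h.mem), nsmul_eq_mul,
      Nat.cast_sub (Finset.card_pos.2 ⟨_, mem_linFin.2 h.mem⟩), ← Finset.mul_sum, linNum]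
    push_cast
    ring
  set U : G → ℂ := (x : ℂ) • V - (m : ℂ) • f ζ₀ with hU
  have key := sqNorm_nonneg (tauM M β - U)
  have hval : classInner (tauM M β - U) (tauM M β - U) = ((sqNorm β -
      (h.famWeight Y * x ^ 2 - 2 * m * x + m ^ 2) : ℝ) : ℂ) := by
    rw [ci_sub_left, ci_sub_right, ci_sub_right, h.tau_ci hcl hs hcl hs, ci_self_eq_sqNorm β, hU]
    simp only [ci_sub_left, ci_sub_right, ci_smul_left, ci_smul_right, map_intCast]
    rw [← ci_conj (tauM M β) V, hβV, ← ci_conj (tauM M β) (f ζ₀), h0, ← ci_conj (f ζ₀) V, hfV _ h.mem,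
      hVV, hu]
    simp only [map_sub, map_mul, map_intCast, Complex.conj_ofReal, map_one]
    push_cast
    ring
  rw [sqNorm, hval, Complex.ofReal_re] at key
  linarith

/-- Extending the set where the coefficient vanishes. -/
theorem dev_zero_of_weight {Y : Finset (↥M → ℂ)} (hY : ∀ φ ∈ Y, φ ∈ otherSet M ∧ devC W₁ f ζ₀ φ = 0)
    {φ : ↥M → ℂ} (hφ : φ ∈ otherSet M) {e : ℕ} (he : degK W₁ φ = (e : ℂ))
    (hw : 2 * (e : ℝ) + 1 < h.famWeight Y) : devC W₁ f ζ₀ φ = 0 := by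
  by_cases hφY : φ ∈ Y
  · exact (hY φ hφY).2
  obtain ⟨x, x1, x2, x3, hx0, -⟩ := h.other_proj hφ he
  obtain ⟨hg, hgs, hnorm, h0, -, -⟩ := h.phi_facts hφ he
  have hb := h.family_bessel hY hg hgs (m := (e : ℤ)) (x := x) (by rw [h0, Int.cast_natCast])
    (fun ψ hψ => by
      obtain ⟨-, -, -, -, -, hp⟩ := h.phi_facts (hY ψ hψ).1 (e := _) (h.other_facts (hY ψ hψ).1).choose_spec.choose_spec.2.2.2.2.1
      rw [ci_sub_left, ci_smul_left, classInner_isIrr_ne hφ.1 (hY ψ hψ).1.1 (fun e => hφY (e ▸ hψ)),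
        ← ci_conj ψ ζ₀, hp _ h.mem, map_zero, mul_zero, sub_zero])
    (by rw [x2, Int.cast_natCast]) x3
  rw [hnorm] at hb
  push_cast at hb
  have hx : x = 0 := by
    by_contra hne
    have h1 : (1 : ℝ) ≤ x := by exact_mod_cast (show (1 : ℤ) ≤ x by omega)
    have he0 : (0 : ℝ) ≤ e := by positivity
    nlinarith [mul_le_mul_of_nonneg_left h1 (show (0 : ℝ) ≤ x by linarith)]
  rw [x1, hx, Int.cast_zero]

/-- `a = 0` once the weight exceeds `2 n + 2`. -/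
theorem aZero_of_weight {Y : Finset (↥M → ℂ)} (hY : ∀ φ ∈ Y, φ ∈ otherSet M ∧ devC W₁ f ζ₀ φ = 0)
    (hw : 2 * (n : ℝ) + 2 < h.famWeight Y) : AZero M W₁ W₂ μ f s n ζ₀ := by
  obtain ⟨l, hl⟩ := Fintype.exists_ne_of_one_lt_card
    (by have := h.ti.three_le_right; omega) (1 : rightHat W₁ W₂)
  obtain ⟨a, a0, ane, ha0, -⟩ := h.alpha_a hl
  obtain ⟨hgen, hs, hnorm, h1, hm, -⟩ := h.alpha_facts h.mem hl
  have hb := h.family_bessel hY hgen hs (m := n) (x := a) hm (fun ψ hψ => by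
    obtain ⟨-, e, -, -, -, -, he, -, hμ⟩ := h.other_facts (hY ψ hψ).1
    obtain ⟨-, -, -, -, -, hp⟩ := h.phi_facts (hY ψ hψ).1 he
    have hψ1 : classInner (fun _ : ↥M => (1 : ℂ)) ψ = 0 := by
      rw [← (h.pmu.one h.base h.oddM).1]
      exact classInner_isIrr_ne (h.pmu.irr _) (hY ψ hψ).1.1 (Ne.symm (hμ 1))
    rw [alphaB, ci_sub_left, ci_sub_left, ci_smul_left, ci_smul_left, ← ci_conj ψ ζ₀, hp _ h.mem,
      map_zero, hψ1, classInner_isIrr_ne (h.pmu.irr _) (hY ψ hψ).1.1 (Ne.symm (hμ _))]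
    ring) a0 ane
  rw [hnorm] at hb
  refine h.aZero_iff hl ?_
  have ha : a = 0 := by
    by_contra hne
    have h2 : (1 : ℝ) ≤ a := by exact_mod_cast (show (1 : ℤ) ≤ a by omega)
    have h3 : (0 : ℝ) ≤ n := by exact_mod_cast (show (0 : ℤ) ≤ n by linarith [h.two_le])
    nlinarith [mul_le_mul_of_nonneg_left h2 (show (0 : ℝ) ≤ a by linarith)]
  rw [a0, ha, Int.cast_zero, zero_sub]

end BadCtx

end CfsgLib.OddOrder
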