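import Cfsg.Agent.OddOrder.PF10.TypeVAux
import Cfsg.Agent.Coherence.Chief

/-!
# Type V: the inequality on `M' #` for a T.I. kernel

With trivial Dade subgroups the mass of `f ζ₀` on `M' #` is at most one. For the integers
`dev θ = ⟨τ (Ind θ - θ(1) ζ₀), f ζ₀⟩ + θ(1)` this says that outside the linear characters
`Σ (dev θ - t θ(1))² ≤ q (2 t - r t²)` for a real `t`.
-/

set_option autoImplicit false
set_option linter.style.haveILetI false
set_option linter.unusedSectionVars false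

namespace CfsgLib.OddOrder

open Cfsg CfsgLib.Characters CfsgLib.Coherence CfsgLib.OddOrderChar
open scoped ComplexConjugate

universe u

variable {G : Type u} [Group G] [Fintype G] {M W₁ W₂ : Subgroup G} [Fintype M]

noncomputable local instance fintypeSubTypeVBudget (H : Subgroup ↥M) : Fintype H := Fintype.ofFinite H

/-- `dev` of `Ind θ` as a real number. -/
noncomputable def devR (W₁ : Subgroup G) (f : (↥M → ℂ) → (G → ℂ)) (ζ₀ : ↥M → ℂ) (θ : derIn M → ℂ) : ℝ :=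
  (devC W₁ f ζ₀ (indFun (derIn M) θ)).re

/-- The parameter `t`. -/
noncomputable def tPar (f : (↥M → ℂ) → (G → ℂ)) (ζ₀ : ↥M → ℂ) : ℝ :=
  (f ζ₀ 1).re / Nat.card ↥(derIn M) - ((classInner ζ₀ (fun x : ↥M => f ζ₀ x)).re - 1)

namespace BadCtx

variable {χ : (↥(W₁ ⊔ W₂) →* ℂˣ) → (G → ℂ)} {μ : (↥(W₁ ⊔ W₂) →* ℂˣ) → (↥M → ℂ)}
  {δ : (↥(W₁ ⊔ W₂) →* ℂˣ) → ℤ} {f : (↥M → ℂ) → (G → ℂ)} {s n : ℤ} {ζ₀ : ↥M → ℂ}
  (h : BadCtx M W₁ W₂ χ μ δ f s n ζ₀)
include h

/-- An irreducible induced character comes from `|W₁|` characters. -/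
theorem fiber_card [DecidableEq (↥M → ℂ)] {θ : derIn M → ℂ}
    (hθ : IsIrrCharacter ↥(derIn M) θ) (hI : IsIrrCharacter ↥M (indFun (derIn M) θ)) :
    ((Finset.univ : Finset (IrrCharacter ↥(derIn M))).filter
      fun η => indFun (derIn M) η.1 = indFun (derIn M) θ).card = Nat.card W₁ := by
  classical
  have hmap : ((Finset.univ : Finset (IrrCharacter ↥(derIn M))).filter
      fun η => indFun (derIn M) η.1 = indFun (derIn M) θ).map
        ⟨Subtype.val, Subtype.val_injective⟩ = conjOrbit (derIn M) θ := by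
    ext η
    simp only [Finset.mem_map, Finset.mem_filter, Finset.mem_univ, true_and,
      Function.Embedding.coeFn_mk]
    refine ⟨fun ⟨η', he, hη'⟩ => hη' ▸ conjOrbit_eq_of_ind_eq (derIn M) hθ η'.2 he, fun hη => ?_⟩
    obtain ⟨g, rfl⟩ := (mem_conjOrbit (derIn M)).1 hη
    exact ⟨⟨_, isIrr_conjBy (derIn M) hθ g⟩, indFun_conjBy (derIn M) θ g, rfl⟩
  rw [← Finset.card_map ⟨Subtype.val, Subtype.val_injective⟩, hmap]
  have h1 := Coherence.ci_ind_self (derIn M) hθ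
  rw [classInner_isIrr_self hI, eq_div_iff natCard_ne_zero, one_mul] at h1
  have hst : stabCard (derIn M) θ = Nat.card ↥(derIn M) := (Nat.cast_injective h1).symm
  have h2 := card_orbit_mul_stab (derIn M) θ
  rw [hst, ← (derIn M).index_mul_card, h.base.index_derIn] at h2
  exact Nat.eq_of_mul_eq_mul_right Nat.card_pos h2

/-- Reciprocity when all Dade subgroups are trivial. -/
theorem tau_res (hR : ∀ x ∈ supportA0 M, supportR M x = ⊥) {α : ↥M → ℂ}
    (hα : IsClassFunction ↥M α) (hs : ∀ x : ↥M, (x : G) ∉ supportA0 M → α x = 0) :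
    classInner (tauM M α) (f ζ₀) = classInner α (fun x : ↥M => f ζ₀ x) :=
  classInner_dade_res h.dade hα hs (fun _ hx _ => hR _ hx)
    (Coherence.isClassFunction_of_isGen (h.f_gen h.mem))

/-- The coefficients of the restriction of `f ζ₀` to `M'`. -/
theorem res_coef (hR : ∀ x ∈ supportA0 M, supportR M x = ⊥) {θ : derIn M → ℂ}
    (hθ : IsIrrCharacter ↥(derIn M) θ) {e : ℕ} (he : θ 1 = (e : ℂ)) :
    ∃ c ρ x : ℤ, classInner (fun y : derIn M => f ζ₀ ((y : ↥M) : G)) θ = (c : ℂ) ∧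
      classInner ζ₀ (fun x : ↥M => f ζ₀ x) = (ρ : ℂ) ∧
      devC W₁ f ζ₀ (indFun (derIn M) θ) = (x : ℂ) ∧ c = x + (ρ - 1) * e := by
  classical
  have hgen : IsGeneralizedCharacter ↥M (fun x : ↥M => f ζ₀ x) :=
    Characters.isGen_restrict M (h.f_gen h.mem)
  obtain ⟨ρ, hρ⟩ := ci_int (Coherence.isGen_of_isIrr (h.lin_irr h.mem).1) hgen
  obtain ⟨c, hc⟩ := ci_int (a := fun y : derIn M => f ζ₀ ((y : ↥M) : G))
    (Characters.isGen_restrict (derIn M) hgen) (Coherence.isGen_of_isIrr hθ)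
  refine ⟨c, ρ, c - (ρ - 1) * e, hc, hρ, ?_, by ring⟩
  have hind : classInner (indFun (derIn M) θ) (fun x : ↥M => f ζ₀ x) = (c : ℂ) := by
    rw [OddOrderChar.classInner_indFun_left (derIn M) θ (Coherence.isClassFunction_of_isGen hgen),
      ← ci_conj, hc, map_intCast]
  have hs := h.diff_supp hθ
  rw [devC, h.degK_ind, he, h.tau_res hR (fun a b => ?_) (fun x hx => ?_), ci_sub_left,
    ci_smul_left, hind, hρ]
  · push_cast; ring
  · simp only [Pi.sub_apply, Pi.smul_apply, OddOrderChar.isClassFunction_ind (derIn M) θ a b,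
      isClassFunction_of_isIrr (h.lin_irr h.mem).1 a b]
  · have h0 := hs x hx
    rw [he, Pi.sub_apply, sub_eq_zero] at h0
    rw [Pi.sub_apply, h0, sub_self]

theorem devR_spec (hR : ∀ x ∈ supportA0 M, supportR M x = ⊥) (θ : IrrCharacter ↥(derIn M)) :
    ∃ x : ℤ, devC W₁ f ζ₀ (indFun (derIn M) θ.1) = (x : ℂ) ∧ devR W₁ f ζ₀ θ.1 = (x : ℝ) := by
  obtain ⟨e, -, he⟩ := exists_degree_pos θ.2
  obtain ⟨-, -, x, -, -, hx, -⟩ := h.res_coef hR θ.2 he
  exact ⟨x, hx, by rw [devR, hx, Complex.intCast_re]⟩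

theorem res_coef_real (hR : ∀ x ∈ supportA0 M, supportR M x = ⊥) (θ : IrrCharacter ↥(derIn M)) :
    classInner (fun y : derIn M => f ζ₀ ((y : ↥M) : G)) θ.1 =
      ((devR W₁ f ζ₀ θ.1 + ((classInner ζ₀ (fun x : ↥M => f ζ₀ x)).re - 1) * (θ.1 1).re : ℝ) : ℂ) := by
  obtain ⟨e, -, he⟩ := exists_degree_pos θ.2
  obtain ⟨c, ρ, x, hc, hρ, hx, hcx⟩ := h.res_coef hR θ.2 he
  rw [hc, devR, hx, hρ, he, hcx, Complex.intCast_re, Complex.intCast_re, Complex.natCast_re]
  push_cast; ring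

/-- The variance of the coefficients is the mass on `M' #`. -/
theorem variance_le (hR : ∀ x ∈ supportA0 M, supportR M x = ⊥) :
    ∑ θ : IrrCharacter ↥(derIn M), (devR W₁ f ζ₀ θ.1 - tPar f ζ₀ * (θ.1 1).re) ^ 2 ≤
      (Nat.card W₁ : ℝ) := by
  classical
  set K := derIn M with hK
  set F : K → ℂ := fun y => f ζ₀ ((y : ↥M) : G) with hF
  set ρ := (classInner ζ₀ (fun x : ↥M => f ζ₀ x)).re with hρ
  set c : IrrCharacter ↥K → ℝ := fun θ => devR W₁ f ζ₀ θ.1 + (ρ - 1) * (θ.1 1).re with hc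
  have hcoef : ∀ θ : IrrCharacter ↥K, classInner F θ.1 = (c θ : ℂ) := fun θ => h.res_coef_real hR θ
  have hcl : IsClassFunction ↥K F := Coherence.isClassFunction_of_isGen
    (Characters.isGen_restrict K (Characters.isGen_restrict M (h.f_gen h.mem)))
  obtain ⟨z, hz⟩ := gen_one_isInt (h.f_gen h.mem)
  -- the value at one
  have hone : (f ζ₀ 1).re = ∑ θ : IrrCharacter ↥K, c θ * (θ.1 1).re := by
    have h1 := congrFun (classFunction_expansion hcl) 1
    simp only [hF, Finset.sum_apply, Pi.smul_apply, smul_eq_mul, OneMemClass.coe_one] at h1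
    rw [h1, Complex.re_sum]
    refine Finset.sum_congr rfl fun θ _ => ?_
    rw [show classInner (fun y : K => f ζ₀ ((y : ↥M) : G)) θ.1 = (c θ : ℂ) from hcoef θ,
      Complex.re_ofReal_mul]
  have hsq : ∑ θ : IrrCharacter ↥K, (θ.1 1).re ^ 2 = (Nat.card ↥K : ℝ) := by
    have h1 := congrArg Complex.re (sum_degree_sq (G := ↥K))
    rw [Complex.re_sum, Complex.natCast_re] at h1
    rw [← h1]
    refine Finset.sum_congr rfl fun θ _ => ?_
    obtain ⟨e, -, he⟩ := exists_degree_pos θ.2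
    rw [he]; simp [pow_two]
  have hnorm : ∑ θ : IrrCharacter ↥K, c θ ^ 2 =
      (Nat.card ↥K : ℝ)⁻¹ * ∑ y : K, Complex.normSq (F y) := by
    have h1 : classInner F F = ((∑ θ : IrrCharacter ↥K, c θ ^ 2 : ℝ) : ℂ) := by
      rw [Characters.classInner_eq_sum hcl]
      push_cast
      exact Finset.sum_congr rfl fun θ _ => by rw [hcoef, Complex.conj_ofReal, sq]
    have h2 : classInner F F = (((Nat.card ↥K : ℝ)⁻¹ * ∑ y : K, Complex.normSq (F y) : ℝ) : ℂ) := by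
      rw [classInner]
      push_cast
      exact congrArg _ (Finset.sum_congr rfl fun y _ => Complex.mul_conj _)
    exact_mod_cast h1.symm.trans h2
  -- the mass
  have hmass : ∑ y ∈ (Finset.univ : Finset K).erase 1, Complex.normSq (F y) ≤
      (Nat.card W₁ : ℝ) * Nat.card ↥K := by
    set B : Set G := ((⁅M, M⁆ : Subgroup G) : Set G) \ {1}
    have hBA : B ⊆ supportA0 M := fun x hx => Or.inl (h.core ▸ hx)
    have hD := dade_subset h.dade hBA (fun x hx b hb =>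
      ⟨derived_conj_mem M hx hb.1, fun e => hb.2 (conj_eq_one_iff.1 e)⟩)
    have h1 := gMass_dadeSupp hD (Coherence.isClassFunction_of_isGen (h.f_gen h.mem))
    have h2 : gMass (dadeSupp B (supportR M)) (f ζ₀) ≤ 1 := by
      refine (gMass_mono (Set.subset_univ _) _).trans (le_of_eq ?_)
      rw [gMass_univ, sqNorm, signed_self (h.ext.signed _ h.mem), Complex.one_re]
    rw [h1, finsum_mem_eq_finite_toFinset_sum _ (Set.toFinite _),
      inv_mul_le_iff₀ (Nat.cast_pos.2 Nat.card_pos), mul_one] at h2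
    refine le_trans (le_of_eq ?_) (h2.trans (le_of_eq ?_))
    · refine Finset.sum_bij (fun y _ => (y : ↥M)) (fun y hy => ?_)
        (fun a _ b _ e => Subtype.ext e) (fun a ha => ?_) (fun y hy => ?_)
      · rw [Set.Finite.mem_toFinset]
        exact ⟨mem_derIn.1 y.2, fun e => (Finset.mem_erase.1 hy).1 (Subtype.ext (Subtype.ext e))⟩
      · rw [Set.Finite.mem_toFinset] at ha
        exact ⟨⟨a, mem_derIn.2 ha.1⟩, Finset.mem_erase.2 ⟨fun e => ha.2
          (congrArg (fun z : derIn M => ((z : ↥M) : G)) e), Finset.mem_univ _⟩, rfl⟩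
      · have hb : ((y : ↥M) : G) ∈ B :=
          ⟨mem_derIn.1 y.2, fun e => (Finset.mem_erase.1 hy).1 (Subtype.ext (Subtype.ext e))⟩
        rw [hR _ (hBA hb)]
        simp [hF]
    · have h3 := (derIn M).index_mul_card
      rw [h.base.index_derIn] at h3
      exact_mod_cast h3.symm
  rw [Finset.sum_congr rfl (g := fun θ : IrrCharacter ↥K => c θ ^ 2 -
      2 * ((f ζ₀ 1).re / Nat.card ↥K) * (c θ * (θ.1 1).re) +
      ((f ζ₀ 1).re / Nat.card ↥K) ^ 2 * (θ.1 1).re ^ 2) (fun θ _ => by rw [hc, tPar, hρ]; ring),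
    Finset.sum_add_distrib, Finset.sum_sub_distrib, ← Finset.mul_sum, ← Finset.mul_sum, ← hone, hsq,
    hnorm, ← Finset.add_sum_erase _ _ (Finset.mem_univ (1 : K))]
  have hpos : (0 : ℝ) < Nat.card ↥K := Nat.cast_pos.2 Nat.card_pos
  have hF1 : Complex.normSq (F 1) = (f ζ₀ 1).re ^ 2 := by
    show Complex.normSq (f ζ₀ ((((1 : K)) : ↥M) : G)) = _
    rw [OneMemClass.coe_one, OneMemClass.coe_one, hz, Complex.normSq_intCast, Complex.intCast_re]
    ring
  rw [hF1]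
  have h4 : (Nat.card ↥K : ℝ)⁻¹ * (((f ζ₀ 1).re) ^ 2 +
      ∑ y ∈ (Finset.univ : Finset K).erase 1, Complex.normSq (F y)) ≤
      (Nat.card ↥K : ℝ)⁻¹ * ((f ζ₀ 1).re ^ 2 + (Nat.card W₁ : ℝ) * Nat.card ↥K) :=
    mul_le_mul_of_nonneg_left (by linarith) (le_of_lt (inv_pos.2 hpos))
  have h5 : (Nat.card ↥K : ℝ)⁻¹ * ((f ζ₀ 1).re ^ 2 + (Nat.card W₁ : ℝ) * Nat.card ↥K) -
      2 * ((f ζ₀ 1).re / Nat.card ↥K) * (f ζ₀ 1).re +
      ((f ζ₀ 1).re / Nat.card ↥K) ^ 2 * Nat.card ↥K = (Nat.card W₁ : ℝ) := by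
    field_simp; ring
  linarith

/-- The linear part of the variance, and the inequality for the rest. -/
theorem budget (hR : ∀ x ∈ supportA0 M, supportR M x = ⊥) (Θ : Finset (IrrCharacter ↥(derIn M)))
    (hΘ : ∀ θ ∈ Θ, indFun (derIn M) θ.1 ∉ linSet M) :
    ∑ θ ∈ Θ, (devR W₁ f ζ₀ θ.1 - tPar f ζ₀ * (θ.1 1).re) ^ 2 ≤
      (Nat.card W₁ : ℝ) * (2 * tPar f ζ₀ - linNum M * tPar f ζ₀ ^ 2) := by
  classical
  set t := tPar f ζ₀ with ht
  set Λ := (Finset.univ : Finset (IrrCharacter ↥(derIn M))).filter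
    fun θ => indFun (derIn M) θ.1 ∈ linFin M with hΛ
  have hdisj : Disjoint Θ Λ := Finset.disjoint_left.2 fun θ h1 h2 =>
    hΘ θ h1 (mem_linFin.1 (Finset.mem_filter.1 h2).2)
  have hv := h.variance_le hR
  have hle := (Finset.sum_le_sum_of_subset_of_nonneg (Finset.subset_univ (Θ ∪ Λ))
    fun θ _ _ => sq_nonneg (devR W₁ f ζ₀ θ.1 - t * (θ.1 1).re)).trans hv
  rw [Finset.sum_union hdisj] at hle
  have hΛsum : ∑ θ ∈ Λ, (devR W₁ f ζ₀ θ.1 - t * (θ.1 1).re) ^ 2 =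
      (Nat.card W₁ : ℝ) * (1 - (2 * t - linNum M * t ^ 2)) := by
    rw [← Finset.sum_fiberwise_of_maps_to (t := linFin M) (g := fun θ : IrrCharacter ↥(derIn M) =>
      indFun (derIn M) θ.1) fun θ hθ => (Finset.mem_filter.1 hθ).2]
    rw [Finset.sum_congr rfl (g := fun ζ => (Nat.card W₁ : ℝ) * ((if ζ = ζ₀ then 1 else 0) - t) ^ 2)
      fun ζ hζ => ?_, ← Finset.mul_sum, ← Finset.add_sum_erase _ _ (mem_linFin.2 h.mem),
      Finset.sum_congr rfl (s₁ := (linFin M).erase ζ₀) (g := fun _ => t ^ 2) (fun ζ hζ => by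
        rw [if_neg (Finset.mem_erase.1 hζ).1, zero_sub, neg_sq]),
      Finset.sum_const, Finset.card_erase_of_mem (mem_linFin.2 h.mem), if_pos rfl, nsmul_eq_mul,
      Nat.cast_sub (Finset.card_pos.2 ⟨_, mem_linFin.2 h.mem⟩), ← linNum]
    · push_cast; ring
    obtain ⟨φ, hφ, hφ1, -, -, hζe, -⟩ := h.lin_facts (mem_linFin.1 hζ)
    have hfib : (Λ.filter fun θ => indFun (derIn M) θ.1 = ζ) =
        (Finset.univ : Finset (IrrCharacter ↥(derIn M))).filter
          fun η => indFun (derIn M) η.1 = indFun (derIn M) φ := by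
      ext θ
      simp only [hΛ, Finset.mem_filter, Finset.mem_univ, true_and, ← hζe, and_iff_right_iff_imp]
      exact fun e => e ▸ hζ
    rw [hfib, Finset.sum_congr rfl (g := fun _ => ((if ζ = ζ₀ then (1 : ℝ) else 0) - t) ^ 2)
      (fun θ hθ => ?_), Finset.sum_const,
      h.fiber_card hφ (hζe ▸ (h.lin_irr (mem_linFin.1 hζ)).1), nsmul_eq_mul]
    have he : indFun (derIn M) θ.1 = ζ := (Finset.mem_filter.1 hθ).2.trans hζe.symm
    have hθ1 : θ.1 1 = 1 := by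
      obtain ⟨g, hg⟩ := (mem_conjOrbit (derIn M)).1
        (conjOrbit_eq_of_ind_eq (derIn M) hφ θ.2 (he.trans hζe))
      rw [← hg, Coherence.conjBy_one_apply, hφ1]
    rw [devR, he, hθ1, Complex.one_re, mul_one]
    congr 2
    have hdeg : degK W₁ ζ = 1 := by rw [← he, h.degK_ind, hθ1]
    rw [devC, hdeg, one_smul]
    by_cases hz : ζ = ζ₀
    · subst hz
      simp [tauM, dade_zero, classInner]
    · rw [if_neg hz, h.ext.diff _ (mem_linFin.1 hζ) _ h.mem, ci_sub_left,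
        h.ext.inner _ (mem_linFin.1 hζ) _ h.mem hz, signed_self (h.ext.signed _ h.mem)]
      simp
  rw [hΛsum] at hle
  linarith

/-- `0 ≤ t ≤ 2 / r`. -/
theorem tPar_range (hR : ∀ x ∈ supportA0 M, supportR M x = ⊥) :
    0 ≤ tPar f ζ₀ ∧ (linNum M : ℝ) * tPar f ζ₀ ≤ 2 ∧
      0 ≤ 2 * tPar f ζ₀ - linNum M * tPar f ζ₀ ^ 2 ∧
      (linNum M : ℝ) * (2 * tPar f ζ₀ - linNum M * tPar f ζ₀ ^ 2) ≤ 1 := by
  have h0 := h.budget hR ∅ (by simp)
  rw [Finset.sum_empty] at h0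
  have hq : (0 : ℝ) < Nat.card W₁ := Nat.cast_pos.2 Nat.card_pos
  have h1 : 0 ≤ 2 * tPar f ζ₀ - linNum M * tPar f ζ₀ ^ 2 := by
    by_contra hn; nlinarith
  have hr : (2 : ℝ) ≤ linNum M := by exact_mod_cast h.two_le_linNum
  have ht : 0 ≤ tPar f ζ₀ := by
    by_contra hn; nlinarith [sq_nonneg (tPar f ζ₀)]
  refine ⟨ht, ?_, h1, by nlinarith [sq_nonneg ((linNum M : ℝ) * tPar f ζ₀ - 1)]⟩
  by_contra hn
  nlinarith

end BadCtx

end CfsgLib.OddOrder
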