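import Cfsg.Agent.OddOrder.PF10.TypeVMu
import Cfsg.Agent.OddOrder.PF10.TypeVBudget
import Cfsg.Agent.Coherence.TI

/-!
# Type V: a central subgroup `Z ≤ M''` on which `f ζ₀` is constant

If `M'` is a Sylow `p`-subgroup whose non-identity elements form a T.I. set and `f ζ₀` is constant
on `Z #`, then `f ζ₀ 1 ≡ f ζ₀ z` modulo `|M'|`, so `Σ θ(1) dev θ = β (|M'| - |M' : Z|)` over the `θ`
non-trivial on `Z` with an integer `β`. The inequality on `M' #` leaves `β = 0`, or `β = 1` and `r = 2`;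
in the last case the other extension has `β = 0`.
-/

set_option autoImplicit false
set_option linter.style.haveILetI false
set_option linter.unusedSectionVars false

open scoped commutatorElement

namespace CfsgLib.OddOrder

open Cfsg CfsgLib.Characters CfsgLib.Coherence CfsgLib.OddOrderChar
open scoped ComplexConjugate

universe u

variable {G : Type u} [Group G] [Fintype G] {M W₁ W₂ : Subgroup G} [Fintype M]

noncomputable local instance fintypeSubTypeVCentral (H : Subgroup ↥M) : Fintype H := Fintype.ofFinite H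

open Classical in
/-- The irreducible characters of `M'` non-trivial on `Z`. -/
noncomputable def nontrivSet (Z : Subgroup ↥M) : Finset (IrrCharacter ↥(derIn M)) :=
  Finset.univ.filter fun θ => ¬ TrivOn M Z θ.1

theorem mem_nontrivSet {Z : Subgroup ↥M} {θ : IrrCharacter ↥(derIn M)} :
    θ ∈ nontrivSet Z ↔ ¬ TrivOn M Z θ.1 := by simp [nontrivSet]

/-- An irreducible character is multiplicative up to its degree against central elements. -/
theorem irr_central_mul {L : Type u} [Group L] {θ : L → ℂ} (hθ : IsIrrCharacter L θ) {z : L}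
    (hz : z ∈ Subgroup.center L) (y : L) : θ (z * y) * θ 1 = θ z * θ y := by
  obtain ⟨m, ρ, hρ, rfl⟩ := hθ
  haveI := hρ
  obtain ⟨c, hc⟩ := central_scalar ρ hz
  simp only [Representation.character, map_mul, hc, map_one]
  rw [show (c • (LinearMap.id : (Fin m → ℂ) →ₗ[ℂ] _)) * ρ y = c • ρ y from by
    ext x; simp]
  simp only [map_smul, smul_eq_mul, show (LinearMap.id : (Fin m → ℂ) →ₗ[ℂ] _) = 1 from rfl]
  ring

/-- The numerical form of the dichotomy. -/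
theorem beta_cases_real {β : ℤ} {t r q L : ℝ} (hr : 2 ≤ r) (hq : 0 < q) (ht0 : 0 ≤ t)
    (htr : r * t ≤ 2) (hrle : r * (2 * t - r * t ^ 2) ≤ 1) (hL : 2 * (r * q) ≤ L)
    (hd : ((β : ℝ) - t) ^ 2 * L ≤ q * (2 * t - r * t ^ 2)) :
    β = 0 ∨ (β = 1 ∧ r < 4) := by
  set x := (β : ℝ) - t with hx
  have h1 : x ^ 2 * (2 * (r * q)) * r ≤ q := by
    calc x ^ 2 * (2 * (r * q)) * r ≤ x ^ 2 * L * r :=
          mul_le_mul_of_nonneg_right (mul_le_mul_of_nonneg_left hL (sq_nonneg x)) (by linarith)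
      _ ≤ q * (2 * t - r * t ^ 2) * r := mul_le_mul_of_nonneg_right hd (by linarith)
      _ = q * (r * (2 * t - r * t ^ 2)) := by ring
      _ ≤ q := mul_le_of_le_one_right hq.le hrle
  have h2 : x ^ 2 ≤ 1 / 8 := by
    have h4 : (4 : ℝ) ≤ r * r := mul_le_mul hr hr (by norm_num) (by linarith) |>.trans' (by norm_num)
    have h5 : x ^ 2 * (8 * q) ≤ x ^ 2 * (2 * (r * q)) * r := by
      nlinarith [mul_nonneg (sq_nonneg x) hq.le]
    nlinarith
  have h3 : x < 1 / 2 := by nlinarith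
  have h4 : -(1 / 2) < x := by nlinarith
  have h5 : t ≤ 1 := by nlinarith
  have hlo : (-1 : ℤ) < β := by
    have : (-1 : ℝ) < β := by linarith
    exact_mod_cast this
  have hhi : β < 2 := by
    have : (β : ℝ) < 2 := by linarith
    exact_mod_cast this
  rcases (show β = 0 ∨ β = 1 by omega) with e | e
  · exact Or.inl e
  · refine Or.inr ⟨e, ?_⟩
    rw [e, Int.cast_one] at hx
    nlinarith

namespace BadCtx

variable {χ : (↥(W₁ ⊔ W₂) →* ℂˣ) → (G → ℂ)} {μ : (↥(W₁ ⊔ W₂) →* ℂˣ) → (↥M → ℂ)}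
  {δ : (↥(W₁ ⊔ W₂) →* ℂˣ) → ℤ} {f : (↥M → ℂ) → (G → ℂ)} {s n : ℤ} {ζ₀ : ↥M → ℂ}
  (h : BadCtx M W₁ W₂ χ μ δ f s n ζ₀)
include h

theorem even_linNum : Even (linNum M) := by
  have h1 := h.linNum_mul
  have hodd : Odd ((derDer M).relIndex (derIn M)) :=
    h.oddM.of_dvd_nat ((Subgroup.index_dvd_card _).trans (derIn M).card_subgroup_dvd_card)
  obtain ⟨i, hi⟩ := hodd
  obtain ⟨j, hj⟩ := h.odd_q
  rw [hi, hj] at h1
  by_contra he
  obtain ⟨k, hk⟩ := Nat.not_even_iff_odd.1 he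
  rw [hk] at h1
  push_cast at h1
  have h2 : (2 : ℤ) * (2 * k * j + k + j - i) = -1 := by linarith
  omega

/-- With two characters in `linSet M` the extension may be exchanged. -/
theorem swap_ctx (hr2 : linNum M = 2) :
    BadCtx M W₁ W₂ χ μ δ (fun ζ => -f (conjFun ζ)) s n ζ₀ := by
  classical
  obtain ⟨hcm, hcne⟩ := h.lin_conj h.mem
  have hpair : linFin M = {ζ₀, conjFun ζ₀} := (Finset.eq_of_subset_of_card_le (by
      intro x hx
      rcases Finset.mem_insert.1 hx with rfl | hx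
      · exact mem_linFin.2 h.mem
      · rw [Finset.mem_singleton.1 hx]; exact mem_linFin.2 hcm)
    (by rw [Finset.card_pair (Ne.symm hcne)]; exact hr2.le)).symm
  refine { h with ext := ⟨fun ζ hζ => ?_, fun ζ hζ ζ' hζ' hne => ?_,
    fun ζ hζ ζ' hζ' => ?_, fun ζ hζ k l => ?_⟩ }
  · rcases h.ext.signed _ (h.lin_conj hζ).1 with e | e
    · exact Or.inr (by rwa [neg_neg])
    · exact Or.inl e
  · rw [ci_neg_left, ci_neg_right, neg_neg]
    refine h.ext.inner _ (h.lin_conj hζ).1 _ (h.lin_conj hζ').1 fun e => hne ?_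
    rw [← conjFun_conjFun ζ, e, conjFun_conjFun]
  · rcases eq_or_ne ζ ζ' with rfl | hne
    · rw [sub_self, sub_self, tauM, dade_zero]
    rw [h.ext.diff ζ hζ ζ' hζ']
    have hz : ∀ z ∈ linSet M, z = ζ₀ ∨ z = conjFun ζ₀ := fun z hz => by
      simpa [hpair] using mem_linFin.2 hz
    rcases hz ζ hζ with rfl | rfl <;> rcases hz ζ' hζ' with rfl | rfl
    · exact absurd rfl hne
    · rw [conjFun_conjFun]; abel
    · rw [conjFun_conjFun]; abel
    · exact absurd rfl hne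
  · rw [ci_neg_left, h.ext.eta_orth _ (h.lin_conj hζ).1, neg_zero]

variable {Z : Subgroup ↥M}

theorem nontriv_facts (hZ : Z ≤ derDer M) {θ : IrrCharacter ↥(derIn M)} (hθ : θ ∈ nontrivSet Z) :
    θ.1 ≠ (fun _ => 1) ∧ ¬ TrivOn M (derDer M) θ.1 ∧ indFun (derIn M) θ.1 ∉ linSet M := by
  rw [mem_nontrivSet] at hθ
  refine ⟨fun e => hθ fun x _ => by rw [e], fun ht => hθ (trivOn_mono hZ ht), fun hl => hθ ?_⟩
  exact trivOn_mono hZ ((ind_mem_iff (derIn M) θ.2).1 hl).2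

/-- `Σ θ(1)²` over the characters non-trivial on `Z`. -/
theorem nontriv_sq [Z.Normal] :
    ∑ θ ∈ nontrivSet Z, (θ.1 1).re ^ 2 =
      (Nat.card ↥(derIn M) : ℝ) - (Z.relIndex (derIn M) : ℝ) := by
  classical
  have hC : ∀ θ : IrrCharacter ↥(derIn M), θ.1 1 ^ 2 = (((θ.1 1).re ^ 2 : ℝ) : ℂ) := fun θ => by
    obtain ⟨e, -, he⟩ := exists_degree_pos θ.2
    rw [he]; simp
  have h1 := Finset.sum_filter_add_sum_filter_not (Finset.univ : Finset (IrrCharacter ↥(derIn M)))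
    (fun θ => TrivOn M Z θ.1) (fun θ => θ.1 1 ^ 2)
  rw [sum_degree_sq] at h1
  have h2 : (∑ θ ∈ (Finset.univ : Finset (IrrCharacter ↥(derIn M))).filter
      (fun θ => TrivOn M Z θ.1), θ.1 1 ^ 2) = (Z.relIndex (derIn M) : ℂ) := by
    unfold TrivOn; convert sum_sq_trivialOn (derIn M) Z
  rw [h2, Finset.sum_congr rfl fun θ _ => hC θ, ← Complex.ofReal_sum] at h1
  have h3 := congrArg Complex.re h1
  rw [Complex.add_re, Complex.natCast_re, Complex.ofReal_re, Complex.natCast_re] at h3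
  show ∑ θ ∈ Finset.univ.filter (fun θ : IrrCharacter ↥(derIn M) => ¬ TrivOn M Z θ.1), _ = _
  linarith

omit h in
/-- A character non-trivial on a central subgroup sums to zero over it. -/
theorem nontriv_sum_zero (hZK : Z ≤ derIn M) (hZc : ∀ z ∈ Z, ∀ k ∈ derIn M, z * k = k * z)
    {θ : IrrCharacter ↥(derIn M)} (hθ : θ ∈ nontrivSet Z) :
    ∑ z : ↥(Z.subgroupOf (derIn M)), θ.1 (z : derIn M) = 0 := by
  classical
  rw [mem_nontrivSet, TrivOn] at hθ
  push Not at hθ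
  obtain ⟨z₀, hz₀, hne⟩ := hθ
  have hcen : z₀ ∈ Subgroup.center ↥(derIn M) := Subgroup.mem_center_iff.2 fun k =>
    Subtype.ext (hZc _ hz₀ k k.2).symm
  have _ := hZK
  set S := ∑ z : ↥(Z.subgroupOf (derIn M)), θ.1 (z : derIn M) with hS
  have h1 : S * θ.1 1 = θ.1 z₀ * S := by
    rw [hS]
    conv_lhs => rw [← Equiv.sum_comp (Equiv.mulLeft (⟨z₀, hz₀⟩ : ↥(Z.subgroupOf (derIn M))))]
    rw [Finset.sum_mul, Finset.mul_sum]
    exact Finset.sum_congr rfl fun z _ => irr_central_mul θ.2 hcen _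
  have h2 : (θ.1 1 - θ.1 z₀) * S = 0 := by linear_combination h1
  exact (mul_eq_zero.1 h2).resolve_left (sub_ne_zero.2 (Ne.symm hne))

theorem res_expansion (hR : ∀ x ∈ supportA0 M, supportR M x = ⊥) (y : derIn M) :
    f ζ₀ ((y : ↥M) : G) = ∑ θ : IrrCharacter ↥(derIn M),
      ((devR W₁ f ζ₀ θ.1 + ((classInner ζ₀ (fun x : ↥M => f ζ₀ x)).re - 1) * (θ.1 1).re : ℝ) : ℂ) *
        θ.1 y := by
  classical
  have h1 := congrFun (classFunction_expansion (θ := fun y : derIn M => f ζ₀ ((y : ↥M) : G))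
    (Coherence.isClassFunction_of_isGen (Characters.isGen_restrict (derIn M)
      (Characters.isGen_restrict M (h.f_gen h.mem))))) y
  simp only [Finset.sum_apply, Pi.smul_apply, smul_eq_mul] at h1
  rw [h1]
  exact Finset.sum_congr rfl fun θ _ => by rw [← h.res_coef_real hR θ]

/-- Only the characters non-trivial on `Z` count in `f ζ₀ 1 - f ζ₀ z`. -/
theorem value_sub (hR : ∀ x ∈ supportA0 M, supportR M x = ⊥) {z : derIn M} (hz : (z : ↥M) ∈ Z) :
    f ζ₀ 1 - f ζ₀ ((z : ↥M) : G) = ∑ θ ∈ nontrivSet Z,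
      ((devR W₁ f ζ₀ θ.1 + ((classInner ζ₀ (fun x : ↥M => f ζ₀ x)).re - 1) * (θ.1 1).re : ℝ) : ℂ) *
        (θ.1 1 - θ.1 z) := by
  classical
  have h1 := h.res_expansion hR 1
  rw [OneMemClass.coe_one, OneMemClass.coe_one] at h1
  rw [h1, h.res_expansion hR z, ← Finset.sum_sub_distrib]
  rw [← Finset.sum_subset (Finset.subset_univ (nontrivSet Z)) fun θ _ hθ => ?_]
  · exact Finset.sum_congr rfl fun θ _ => by ring
  · rw [mem_nontrivSet, not_not] at hθ
    rw [hθ z hz, sub_self]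

/-- The congruence: `f ζ₀ 1 - f ζ₀ z` is `|M'|` times an integer. -/
theorem congruence_of_const [Z.Normal] {p : ℕ} [Fact p.Prime]
    (hTI : IsTISubset ((⁅M, M⁆ : Subgroup G) : Set G))
    (hN : Subgroup.normalizer ((⁅M, M⁆ : Subgroup G) : Set G) = M)
    (P : Sylow p G) (hP : (P : Subgroup G) = ⁅M, M⁆)
    (hZK : Z ≤ derIn M) (hZc : ∀ z ∈ Z, ∀ k ∈ derIn M, z * k = k * z) (hZne : Z ≠ ⊥)
    (hCL : ∀ z ∈ Z, ∀ z' ∈ Z, z ≠ 1 → z' ≠ 1 →
      Nat.card ↥(M ⊓ Subgroup.centralizer ({(z : G)} : Set G)) =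
        Nat.card ↥(M ⊓ Subgroup.centralizer ({(z' : G)} : Set G)))
    (hconst : ∀ z ∈ Z, ∀ z' ∈ Z, z ≠ 1 → z' ≠ 1 → f ζ₀ (z : G) = f ζ₀ (z' : G)) :
    ∃ j : ℤ, ∀ z ∈ Z, z ≠ 1 →
      f ζ₀ 1 - f ζ₀ (z : G) = (Nat.card ↥(derIn M) : ℂ) * j := by
  obtain ⟨ε, hε, ψ, hψ, hψu⟩ : ∃ ε : ℤ, (ε = 1 ∨ ε = -1) ∧ ∃ ψ, IsIrrCharacter G ψ ∧
      f ζ₀ = (ε : ℂ) • ψ := by
    rcases h.ext.signed _ h.mem with e | e
    · exact ⟨1, Or.inl rfl, _, e, by simp⟩
    · exact ⟨-1, Or.inr rfl, _, e, by simp⟩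
  have hε0 : (ε : ℂ) ≠ 0 := by rcases hε with rfl | rfl <;> norm_num
  obtain ⟨z₀, hz₀, hz₀1⟩ := (Subgroup.bot_or_exists_ne_one Z).resolve_left hZne
  have hin : ∀ z ∈ Z.map M.subtype, z ≠ 1 → ∃ z' ∈ Z, z' ≠ 1 ∧ (z' : G) = z := by
    rintro z ⟨z', hz', rfl⟩ h1
    exact ⟨z', hz', fun e => h1 (by rw [e, map_one]), rfl⟩
  have hNP : Subgroup.normalizer ((P : Subgroup G) : Set G) = M := by rw [hP, hN]
  obtain ⟨a, d, ha, hd, j, hj⟩ := constant_irr_mod_sylow p P (hP ▸ hTI) (by rw [hNP]; exact h.oddM)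
    (Z.map M.subtype) (by rintro _ ⟨z, hz, rfl⟩; rw [hP]; exact hZK hz)
    (fun x hx z hz => by
      rw [hNP] at hx
      obtain ⟨z, hz', rfl⟩ := hz
      exact ⟨_, (inferInstance : Z.Normal).conj_mem z hz' ⟨x, hx⟩, rfl⟩)
    (fun z hz y hy => by
      obtain ⟨z, hz', rfl⟩ := hz
      rw [hP] at hy
      exact congrArg Subtype.val (hZc z hz' ⟨y, h.base.derived_le hy⟩ (mem_derIn.2 hy)))
    (fun z hz z' hz' h1 h1' => by
      obtain ⟨y, hy, hy1, rfl⟩ := hin z hz h1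
      obtain ⟨y', hy', hy1', rfl⟩ := hin z' hz' h1'
      rw [hNP]; exact hCL y hy y' hy' hy1 hy1')
    hψ (fun z hz z' hz' h1 h1' => by
      obtain ⟨y, hy, hy1, rfl⟩ := hin z hz h1
      obtain ⟨y', hy', hy1', rfl⟩ := hin z' hz' h1'
      have := hconst y hy y' hy' hy1 hy1'
      rw [hψu, Pi.smul_apply, Pi.smul_apply, smul_eq_mul, smul_eq_mul] at this
      exact mul_left_cancel₀ hε0 this)
    (z := (z₀ : G)) (Subgroup.mem_map_of_mem _ hz₀) (fun e => hz₀1 (Subtype.ext e))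
  refine ⟨ε * j, fun z hz hz1 => ?_⟩
  rw [hconst z hz z₀ hz₀ hz1 hz₀1, hψu, Pi.smul_apply, Pi.smul_apply, smul_eq_mul, smul_eq_mul, hd, ha,
    h.base.card_derIn]
  rw [hP] at hj
  have hj' : (d : ℂ) - a = (Nat.card ↥⁅M, M⁆ : ℂ) * j := by exact_mod_cast hj
  push_cast
  linear_combination (ε : ℂ) * hj'

/-- Some extension has `Σ θ(1) dev θ = 0` over the characters non-trivial on `Z`. -/
theorem exists_sum_zero [Z.Normal] (hR : ∀ x ∈ supportA0 M, supportR M x = ⊥)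
    (hZ : Z ≤ derDer M) (hZc : ∀ z ∈ Z, ∀ k ∈ derIn M, z * k = k * z) (hZne : Z ≠ ⊥)
    (hcong : ∃ j : ℤ, ∀ z ∈ Z, z ≠ 1 →
      f ζ₀ 1 - f ζ₀ (z : G) = (Nat.card ↥(derIn M) : ℂ) * j) :
    ∃ f', BadCtx M W₁ W₂ χ μ δ f' s n ζ₀ ∧
      ∑ θ ∈ nontrivSet Z, devR W₁ f' ζ₀ θ.1 * (θ.1 1).re = 0 := by
  classical
  obtain ⟨j, hj⟩ := hcong
  have hZK : Z ≤ derIn M := hZ.trans (derDer_le M)
  obtain ⟨ρ, hρ⟩ := ci_int (Coherence.isGen_of_isIrr (h.lin_irr h.mem).1)
    (Characters.isGen_restrict M (h.f_gen h.mem))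
  set D : ℝ := (Z.relIndex (derIn M) : ℝ) with hD
  set L : ℝ := (Nat.card ↥(derIn M) : ℝ) - D with hL
  set c : IrrCharacter ↥(derIn M) → ℝ := fun θ => devR W₁ f ζ₀ θ.1 +
    ((classInner ζ₀ (fun x : ↥M => f ζ₀ x)).re - 1) * (θ.1 1).re with hc
  set z' : ℕ := Nat.card ↥(Z.subgroupOf (derIn M))
  have hcard : (Nat.card ↥(derIn M) : ℝ) = (z' : ℝ) * D := by
    rw [hD, Subgroup.relIndex, ← Nat.cast_mul, mul_comm, Subgroup.index_mul_card]
  -- sum the congruence over `Z`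
  have hsum : ∑ θ ∈ nontrivSet Z, c θ * (θ.1 1).re = L * j := by
    have h1 : ∑ z : ↥(Z.subgroupOf (derIn M)), (f ζ₀ 1 - f ζ₀ (((z : derIn M) : ↥M) : G)) =
        (z' : ℂ) * ∑ θ ∈ nontrivSet Z, (c θ : ℂ) * θ.1 1 := by
      rw [Finset.sum_congr rfl fun z _ => h.value_sub hR (Subgroup.mem_subgroupOf.1 z.2),
        Finset.sum_comm, Finset.mul_sum]
      refine Finset.sum_congr rfl fun θ hθ => ?_
      rw [← Finset.mul_sum, Finset.sum_sub_distrib, nontriv_sum_zero hZK hZc hθ, Finset.sum_const,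
        Finset.card_univ, Fintype.card_eq_nat_card, nsmul_eq_mul, sub_zero, hc]
      ring
    have h2 : ∑ z : ↥(Z.subgroupOf (derIn M)), (f ζ₀ 1 - f ζ₀ (((z : derIn M) : ↥M) : G)) =
        ((z' : ℂ) - 1) * ((Nat.card ↥(derIn M) : ℂ) * j) := by
      rw [← Finset.add_sum_erase _ _ (Finset.mem_univ (1 : ↥(Z.subgroupOf (derIn M)))),
        Finset.sum_congr rfl (s₁ := Finset.univ.erase _)
          (g := fun _ => (Nat.card ↥(derIn M) : ℂ) * j) (fun z hz => by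
            refine hj _ (Subgroup.mem_subgroupOf.1 z.2) fun e => (Finset.mem_erase.1 hz).1 ?_
            exact Subtype.ext (Subtype.ext e)),
        Finset.sum_const, Finset.card_erase_of_mem (Finset.mem_univ _), Finset.card_univ,
        Fintype.card_eq_nat_card, nsmul_eq_mul, Nat.cast_sub Nat.card_pos, OneMemClass.coe_one,
        OneMemClass.coe_one, OneMemClass.coe_one, sub_self, zero_add]
      push_cast
      ring
    have h3 : (z' : ℝ) * ∑ θ ∈ nontrivSet Z, c θ * (θ.1 1).re =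
        ((z' : ℝ) - 1) * ((Nat.card ↥(derIn M) : ℝ) * j) := by
      have := congrArg Complex.re (h1.symm.trans h2)
      have e1 : (∑ θ ∈ nontrivSet Z, (c θ : ℂ) * θ.1 1).re =
          ∑ θ ∈ nontrivSet Z, c θ * (θ.1 1).re := by
        rw [Complex.re_sum]; exact Finset.sum_congr rfl fun θ _ => Complex.re_ofReal_mul _ _
      rw [show ((z' : ℂ) - 1) * ((Nat.card ↥(derIn M) : ℂ) * j) =
        ((((z' : ℝ) - 1) * ((Nat.card ↥(derIn M) : ℝ) * j) : ℝ) : ℂ) by push_cast; ring,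
        Complex.ofReal_re, ← Complex.ofReal_natCast, Complex.re_ofReal_mul, e1] at this
      exact this
    refine mul_left_cancel₀ (Nat.cast_ne_zero.2 Nat.card_pos.ne' : (z' : ℝ) ≠ 0) ?_
    rw [h3, hL, hcard]; ring
  -- the integer `β`
  set β : ℤ := j - (ρ - 1)
  have hβ : ∑ θ ∈ nontrivSet Z, devR W₁ f ζ₀ θ.1 * (θ.1 1).re = (β : ℝ) * L := by
    have e1 : ∀ θ ∈ nontrivSet Z, devR W₁ f ζ₀ θ.1 * (θ.1 1).re =
        c θ * (θ.1 1).re - ((ρ : ℝ) - 1) * (θ.1 1).re ^ 2 := fun θ _ => by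
      rw [hc, hρ, Complex.intCast_re]; ring
    rw [Finset.sum_congr rfl e1, Finset.sum_sub_distrib, ← Finset.mul_sum, h.nontriv_sq, hsum]
    push_cast [β]
    ring
  -- the possible values
  set t := tPar f ζ₀ with htdef
  obtain ⟨ht0, htr, hnn, hrle⟩ := h.tPar_range hR
  rw [← htdef] at ht0 htr hnn hrle
  have hcs : (∑ θ ∈ nontrivSet Z, (devR W₁ f ζ₀ θ.1 - t * (θ.1 1).re) * (θ.1 1).re) ^ 2 ≤
      (∑ θ ∈ nontrivSet Z, (devR W₁ f ζ₀ θ.1 - t * (θ.1 1).re) ^ 2) *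
        ∑ θ ∈ nontrivSet Z, (θ.1 1).re ^ 2 := Finset.sum_mul_sq_le_sq_mul_sq _ _ _
  have hlin : ∑ θ ∈ nontrivSet Z, (devR W₁ f ζ₀ θ.1 - t * (θ.1 1).re) * (θ.1 1).re =
      ((β : ℝ) - t) * L := by
    rw [sub_mul, ← hβ, hL, hD, ← h.nontriv_sq, Finset.mul_sum, ← Finset.sum_sub_distrib]
    exact Finset.sum_congr rfl fun θ _ => by ring
  have hb := h.budget hR (nontrivSet Z) fun θ hθ => (h.nontriv_facts hZ hθ).2.2
  rw [← htdef] at hb
  rw [hlin, h.nontriv_sq, ← hD, ← hL] at hcs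
  have hr : (2 : ℝ) ≤ linNum M := by exact_mod_cast h.two_le_linNum
  have hq : (3 : ℝ) ≤ Nat.card W₁ := by exact_mod_cast h.three_le_q
  have hLN : 2 * ((linNum M : ℝ) * Nat.card W₁) ≤ L := by
    have hN1 : (linNum M : ℝ) * Nat.card W₁ ≤ D := by
      have h1 := h.linNum_mul
      have h2 : (derDer M).relIndex (derIn M) ≤ Z.relIndex (derIn M) := Nat.le_of_dvd
        (Nat.pos_of_ne_zero Subgroup.index_ne_zero_of_finite) (Subgroup.relIndex_dvd_of_le_left _ hZ)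
      have h3 : ((linNum M * Nat.card W₁ : ℕ) : ℤ) ≤ (Z.relIndex (derIn M) : ℤ) := by
        push_cast
        have : ((derDer M).relIndex (derIn M) : ℤ) ≤ (Z.relIndex (derIn M) : ℤ) := by exact_mod_cast h2
        linarith
      rw [hD]
      exact_mod_cast h3
    have hz3 : (3 : ℕ) ≤ z' := by
      have hne1 : z' ≠ 1 := fun e => hZne (by
        have := Subgroup.eq_bot_of_card_eq _ e
        rw [Subgroup.subgroupOf_eq_bot] at this
        exact disjoint_self.1 (this.mono_right hZK))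
      have hodd : Odd z' := h.oddM.of_dvd_nat
        ((Subgroup.card_subgroup_dvd_card _).trans (derIn M).card_subgroup_dvd_card)
      obtain ⟨i, hi⟩ := hodd
      omega
    have hz3' : (3 : ℝ) ≤ z' := by exact_mod_cast hz3
    have hD0 : 0 ≤ D := by rw [hD]; positivity
    rw [hL, hcard]
    nlinarith [mul_le_mul_of_nonneg_right hz3' hD0]
  have hLpos : 0 < L := by nlinarith
  have hdist : ((β : ℝ) - t) ^ 2 * L ≤ (Nat.card W₁ : ℝ) * (2 * t - linNum M * t ^ 2) := by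
    refine le_of_mul_le_mul_right ?_ hLpos
    calc ((β : ℝ) - t) ^ 2 * L * L = (((β : ℝ) - t) * L) ^ 2 := by ring
      _ ≤ _ := hcs.trans (mul_le_mul_of_nonneg_right hb hLpos.le)
  rcases beta_cases_real hr (show (0 : ℝ) < Nat.card W₁ by linarith) ht0 htr hrle hLN hdist with
    hb0 | ⟨hb1, h4⟩
  · exact ⟨f, h, by rw [hβ, hb0, Int.cast_zero, zero_mul]⟩
  have hr2 : linNum M = 2 := by
    have h4' : linNum M < 4 := by exact_mod_cast h4
    obtain ⟨i, hi⟩ := h.even_linNum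
    have := h.two_le_linNum
    omega
  refine ⟨fun ζ => -f (conjFun ζ), h.swap_ctx hr2, ?_⟩
  have hdev : ∀ θ ∈ nontrivSet Z, devR W₁ (fun ζ => -f (conjFun ζ)) ζ₀ θ.1 =
      (θ.1 1).re - devR W₁ f ζ₀ θ.1 := by
    intro θ hθ
    obtain ⟨e, -, he⟩ := exists_degree_pos θ.2
    obtain ⟨-, -, hnl⟩ := h.nontriv_facts hZ hθ
    obtain ⟨hcm, hcne⟩ := h.lin_conj h.mem
    have hperp : ∀ ζ ∈ linSet M, classInner (indFun (derIn M) θ.1) ζ = 0 := fun ζ hζ => by
      obtain ⟨φ, hφ, hφ1, hA, -, rfl, -⟩ := h.lin_facts hζ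
      refine classInner_ind_ind_eq_zero (derIn M) hφ θ.2 fun g e => hnl ?_
      rw [e, indFun_conjBy]
      exact hζ
    have hsub : IsClassFunction ↥M (indFun (derIn M) θ.1 - (e : ℂ) • ζ₀) := fun a b => by
      simp only [Pi.sub_apply, Pi.smul_apply, OddOrderChar.isClassFunction_ind (derIn M) θ.1 a b,
        isClassFunction_of_isIrr (h.lin_irr h.mem).1 a b]
    have hsupp : ∀ x : ↥M, (x : G) ∉ supportA0 M → (indFun (derIn M) θ.1 - (e : ℂ) • ζ₀) x = 0 :=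
      fun x hx => by
        have h0 := h.diff_supp θ.2 x hx
        rw [he, Pi.sub_apply, sub_eq_zero] at h0
        rw [Pi.sub_apply, h0, sub_self]
    have key : classInner (tauM M (indFun (derIn M) θ.1 - (e : ℂ) • ζ₀)) (f (conjFun ζ₀)) =
        classInner (tauM M (indFun (derIn M) θ.1 - (e : ℂ) • ζ₀)) (f ζ₀) + (e : ℂ) := by
      have e1 : f (conjFun ζ₀) = f ζ₀ + tauM M (conjFun ζ₀ - ζ₀) := by
        rw [h.ext.diff _ hcm _ h.mem]; abel
      rw [e1, ci_add_right, h.tau_ci hsub hsupp (Coherence.isClassFunction_of_isGen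
        (Coherence.isGen_sub (Coherence.isGen_of_isIrr (h.lin_irr hcm).1)
          (Coherence.isGen_of_isIrr (h.lin_irr h.mem).1))) (h.sub_supp hcm h.mem), ci_sub_left,
        ci_sub_right, ci_sub_right, ci_smul_left, ci_smul_left, hperp _ hcm, hperp _ h.mem,
        classInner_isIrr_self (h.lin_irr h.mem).1,
        classInner_isIrr_ne (h.lin_irr h.mem).1 (h.lin_irr hcm).1 (Ne.symm hcne)]
      ring
    simp only [devR, devC, h.degK_ind, he, ci_neg_right, key]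
    simp only [Complex.add_re, Complex.neg_re, Complex.natCast_re]
    ring
  rw [Finset.sum_congr rfl (g := fun θ => (θ.1 1).re ^ 2 - devR W₁ f ζ₀ θ.1 * (θ.1 1).re)
    (fun θ hθ => by rw [hdev θ hθ]; ring), Finset.sum_sub_distrib, hβ, hb1, h.nontriv_sq, hL, hD]
  simp

end BadCtx

end CfsgLib.OddOrder
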