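import Cfsg.Agent.OddOrder.PF10.TypeVSmall
import Cfsg.Agent.OddOrder.PF10.BadGood

/-!
# Type V: the mass of the principal column

`gMass O col₀ ≤ q / (p (2q + 1))` on a side of Type V data. Either `[M' : M'']` is large and the
linear characters suffice, or `M'` is a `p`-group, `a = 0`, and the characters trivial on
`[M'', M']` have degree at most `n q + 1`.
-/

set_option autoImplicit false
set_option linter.style.haveILetI false
set_option linter.unusedSectionVars false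

namespace CfsgLib.OddOrder

open Cfsg CfsgLib.Characters CfsgLib.Coherence CfsgLib.OddOrderChar
open scoped ComplexConjugate

universe u

variable {G : Type u} [Group G] [Fintype G] {M W₁ W₂ : Subgroup G} [Fintype M]

noncomputable local instance fintypeSubTypeVMass (H : Subgroup ↥M) : Fintype H := Fintype.ofFinite H

namespace BadCtx

variable {χ : (↥(W₁ ⊔ W₂) →* ℂˣ) → (G → ℂ)} {μ : (↥(W₁ ⊔ W₂) →* ℂˣ) → (↥M → ℂ)}
  {δ : (↥(W₁ ⊔ W₂) →* ℂˣ) → ℤ} {f : (↥M → ℂ) → (G → ℂ)} {s n : ℤ} {ζ₀ : ↥M → ℂ}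
  (h : BadCtx M W₁ W₂ χ μ δ f s n ζ₀)
include h

/-- The bound from the linear characters. -/
theorem mass_of_index (hgood : GoodExt M W₁ W₂ χ f ζ₀)
    (hN : Nat.card W₂ * (2 * Nat.card W₁ + 1) ≤ (derDer M).relIndex (derIn M)) {O : Set G}
    (hO : Disjoint O (dadeSupp (supportA0 M) (supportR M))) :
    gMass O (col χ 1) ≤ (Nat.card W₁ : ℝ) / (Nat.card W₂ * (2 * Nat.card W₁ + 1)) := by
  refine (h.gMass_col_le_lin hgood hO).trans (div_le_div_of_nonneg_left (Nat.cast_nonneg _) ?_ ?_)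
  · have : (0 : ℝ) < Nat.card W₂ := Nat.cast_pos.2 Nat.card_pos
    positivity
  · exact_mod_cast hN

/-- The bound from the characters trivial on `[M'', M']`. -/
theorem mass_of_section (hP : Cfsg.IsTypePWith M W₁ ⊥ W₂) (hgood : GoodExt M W₁ W₂ χ f ζ₀)
    (ha : AZero M W₁ W₂ μ f s n ζ₀) {m i : ℕ} (hm : Nat.card ↥(derIn M) = Nat.card W₂ ^ m)
    (hi : (derDer M).relIndex (derIn M) = Nat.card W₂ ^ i) (hi2 : 2 ≤ i)
    (hdeg : ∀ e : ℕ, e ^ 2 ≤ (derDer M).relIndex (derIn M) → (e : ℤ) ≤ n * Nat.card W₁ + 1)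
    {O : Set G} (hO : Disjoint O (dadeSupp (supportA0 M) (supportR M))) :
    gMass O (col χ 1) ≤ (Nat.card W₁ : ℝ) / (Nat.card W₂ * (2 * Nat.card W₁ + 1)) := by
  classical
  haveI hnil := TypeV.nilpotent hP
  set p := Nat.card W₂ with hpdef
  set q := Nat.card W₁ with hqdef
  set X : Subgroup ↥M := ⁅derDer M, derIn M⁆ with hX
  have hXD : X ≤ derDer M := Subgroup.commutator_le_left _ _
  have hc : ∀ x ∈ derDer M, ∀ y ∈ derIn M, x * y * x⁻¹ * y⁻¹ ∈ X := fun x hx y hy =>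
    Subgroup.commutator_mem_commutator hx hy
  have hbot : (⊥ : Subgroup ↥M) < derDer M := bot_lt_iff_ne_bot.2 fun e => by
    have h1 := Subgroup.card_dvd_of_le (TypeV.W₂_le hP)
    rw [e, Subgroup.card_bot, TypeV.card_W₂In hP, Nat.dvd_one] at h1
    exact h.prime₂.ne_one h1
  haveI : ((⊥ : Subgroup ↥M).subgroupOf (derIn M)).Normal :=
    Subgroup.Normal.subgroupOf inferInstance _
  have hXne : X ≠ derDer M := by
    have := commutator_sup_ne (H := derIn M) (M := (⊥ : Subgroup ↥M)) (A := ⊥) (A' := derDer M)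
      inferInstance le_rfl hbot (derDer_le M)
    rwa [sup_bot_eq] at this
  obtain ⟨j, -, hj⟩ : ∃ j ≤ m, X.relIndex (derDer M) = p ^ j :=
    (Nat.dvd_prime_pow h.prime₂).1 (hm ▸ (Subgroup.index_dvd_card _).trans
      (Subgroup.card_dvd_of_le (derDer_le M)))
  have hj0 : j ≠ 0 := by
    rintro rfl
    rw [pow_zero, Subgroup.relIndex_eq_one] at hj
    exact hXne (le_antisymm hXD hj)
  set Θ := (((Finset.univ : Finset (IrrCharacter ↥(derIn M))).filter
    fun θ => ∀ a : derIn M, (a : ↥M) ∈ X → θ.1 a = θ.1 1)).image Subtype.val with hΘ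
  have hmem : ∀ θ, θ ∈ Θ ↔ IsIrrCharacter ↥(derIn M) θ ∧
      ∀ a : derIn M, (a : ↥M) ∈ X → θ a = θ 1 := by
    intro θ
    simp only [hΘ, Finset.mem_image, Finset.mem_filter, Finset.mem_univ, true_and]
    exact ⟨fun ⟨φ, hφ, e⟩ => e ▸ ⟨φ.2, hφ⟩, fun ⟨h1, h2⟩ => ⟨⟨θ, h1⟩, h2, rfl⟩⟩
  obtain ⟨θ₀, hθ₀, -, -, hA, he, -⟩ := h.lin_facts h.mem
  refine (h.gMass_col_le hgood (Θ := Θ) (θ₀ := θ₀) (fun θ hθ => ((hmem θ).1 hθ).1)
    (fun θ hθ g => (hmem _).2 ⟨isIrr_conjBy _ ((hmem θ).1 hθ).1 g,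
      trivialOn_conjBy _ ((hmem θ).1 hθ).2 g⟩)
    ((hmem θ₀).2 ⟨hθ₀, fun a haX => hA a (hXD haX)⟩) he.symm (fun θ hθ => ?_)
    (fun _ _ _ _ _ => ha) hO).trans ?_
  · obtain ⟨hi', hX'⟩ := (hmem θ).1 hθ
    obtain ⟨e, -, he⟩ := exists_degree_pos hi'
    by_cases h1 : θ = fun _ => 1
    · exact Or.inl h1
    exact h.massTerm_of_small hgood ha hi' he
      (hdeg e (h.deg_sq_le hXD (derDer_le M) hc hi' h1 hX' he))
  have hsum : ∑ θ ∈ Θ, (θ 1).re ^ 2 = (X.relIndex (derIn M) : ℝ) := by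
    have h2 := sum_sq_trivialOn (K := derIn M) X
    rw [hΘ, Finset.sum_image (fun a _ b _ e => Subtype.ext e)]
    have hre : ∀ θ : IrrCharacter ↥(derIn M), θ.1 1 ^ 2 = (((θ.1 1).re ^ 2 : ℝ) : ℂ) := fun θ => by
      obtain ⟨d, -, hd⟩ := exists_degree_pos θ.2
      rw [hd]; simp
    rw [Finset.sum_congr rfl fun θ _ => hre θ, ← Complex.ofReal_sum] at h2
    exact_mod_cast h2
  rw [hsum]
  have hNmod := big_of_odd_one_mod h.odd_q (h.oddM.of_dvd_nat ((Subgroup.index_dvd_card _).trans (derIn M).card_subgroup_dvd_card))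
    (TypeV.derDer_mod hP) (by show 1 < (derDer M).relIndex (derIn M); rw [hi]; exact Nat.one_lt_pow (show i ≠ 0 by omega) h.prime₂.one_lt)
  have hbig : p * (2 * q + 1) ≤ X.relIndex (derIn M) := by
    rw [← Subgroup.relIndex_mul_relIndex X _ _ hXD (derDer_le M), hj]
    exact Nat.mul_le_mul (Nat.le_self_pow hj0 p) hNmod
  refine div_le_div_of_nonneg_left (Nat.cast_nonneg _) ?_ (by exact_mod_cast hbig)
  have : (0 : ℝ) < p := Nat.cast_pos.2 Nat.card_pos
  positivity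

end BadCtx

/-- The mass of the principal column on a side of Type V data. -/
theorem BadSide.typeV_mass {χ : (↥(W₁ ⊔ W₂) →* ℂˣ) → (G → ℂ)}
    {μ : (↥(W₁ ⊔ W₂) →* ℂˣ) → (↥M → ℂ)} {δ : (↥(W₁ ⊔ W₂) →* ℂˣ) → ℤ}
    (h : BadSide M W₁ W₂ χ μ δ) (hP : Cfsg.IsTypePWith M W₁ ⊥ W₂)
    (hTI : Nat.card W₂ < Nat.card W₁ →
      IsTISubset ((⁅M, M⁆ : Subgroup G) : Set G) ∧
        Subgroup.normalizer ((⁅M, M⁆ : Subgroup G) : Set G) = M ∧
        (∀ x ∈ supportA0 M, supportR M x = ⊥) ∧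
        ∀ m, Nat.card ↥⁅M, M⁆ = Nat.card W₂ ^ m →
          ∃ P : Sylow (Nat.card W₂) G, (P : Subgroup G) = ⁅M, M⁆)
    {O : Set G} (hO : Disjoint O (dadeSupp (supportA0 M) (supportR M))) :
    gMass O (col χ 1) ≤ (Nat.card W₁ : ℝ) / (Nat.card W₂ * (2 * Nat.card W₁ + 1)) := by
  obtain ⟨f, s, n, ζ₀, hc⟩ := h.exists_ctx
  have hp := h.prime₂
  haveI : Fact (Nat.card W₂).Prime := ⟨hp⟩
  set p := Nat.card W₂ with hpdef
  set q := Nat.card W₁ with hqdef
  have hq3 : 3 ≤ q := hc.three_le_q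
  have hp2 := hp.two_le
  set N := (derDer M).relIndex (derIn M) with hNdef
  rcases lt_trichotomy q p with hlt | heq | hlt
  · -- `q < p`
    obtain ⟨f', hc', hgood⟩ := hc.exists_good_of_lt hlt
    by_cases hN : p * (2 * q + 1) ≤ N
    · exact hc'.mass_of_index hgood hN hO
    obtain ⟨m, hm⟩ : ∃ m, Nat.card ↥(derIn M) = p ^ m := by
      by_contra hnp
      push Not at hnp
      exact hN (TypeV.index_not_pgroup hP hp h.oddM hnp).1
    obtain ⟨i, hi2, hi⟩ := TypeV.pgroup_index hP hp hm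
    have hpp : 2 * q + 1 ≤ p * p := le_trans (by omega) (Nat.mul_le_mul_right p hp2)
    have hieq : i = 2 := by
      by_contra hne
      refine hN ?_
      rw [hNdef, hi]
      calc p * (2 * q + 1) ≤ p * (p * p) := Nat.mul_le_mul_left p hpp
        _ = p ^ 3 := by ring
        _ ≤ p ^ i := Nat.pow_le_pow_right hp.pos (by omega)
    subst hieq
    have hnp : ¬ q ∣ p - 1 := fun hd => by
      have h1 := big_of_odd_one_mod hc.odd_q (hp.odd_of_ne_two (by omega)) hd hp.one_lt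
      refine hN ?_
      rw [hNdef, hi, sq]
      exact Nat.mul_le_mul_left p h1
    obtain ⟨ha, hpn⟩ := hc'.aZero_of_lt hP hgood hlt hi hnp
    refine hc'.mass_of_section hP hgood ha hm hi le_rfl (fun e he => ?_) hO
    rw [hi] at he
    have : (e : ℤ) ≤ (p : ℤ) := by exact_mod_cast (Nat.pow_le_pow_iff_left (by norm_num)).1 he
    exact this.trans hpn
  · exfalso
    have h1 : Nat.gcd q p = 1 := (hc.coprime_derIn hP).coprime_dvd_right (TypeV.W₂_dvd hP)
    rw [heq, Nat.gcd_self] at h1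
    exact hp.ne_one h1
  · -- `p < q`
    have hsq : p * (2 * q + 1) ≤ (2 * q + 1) * (2 * q + 1) :=
      Nat.mul_le_mul_right _ (by omega)
    by_cases hN : (2 * q + 1) * (2 * q + 1) ≤ N
    · exact hc.mass_of_index (hc.good_of_aZero (hc.aZero_of_large hP hlt hN)) (hsq.trans hN) hO
    obtain ⟨m, hm⟩ : ∃ m, Nat.card ↥(derIn M) = p ^ m := by
      by_contra hnp
      push Not at hnp
      exact hN (TypeV.index_not_pgroup hP hp h.oddM hnp).2
    obtain ⟨hT, hNM, hR, hS⟩ := hTI hlt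
    obtain ⟨P, hPeq⟩ := hS m (by rw [← hc.base.card_derIn]; exact hm)
    obtain ⟨f', hc', ha⟩ := hc.exists_aZero_small hP hlt hR hT hNM P hPeq hm
    by_cases hN' : p * (2 * q + 1) ≤ N
    · exact hc'.mass_of_index (hc'.good_of_aZero ha) hN' hO
    obtain ⟨i, hi2, hi⟩ := TypeV.pgroup_index hP hp hm
    refine hc'.mass_of_section hP (hc'.good_of_aZero ha) ha hm hi hi2 (fun e he => ?_) hO
    have h1 : e < 2 * q + 1 := by
      have : e ^ 2 < (2 * q + 1) ^ 2 := lt_of_le_of_lt he (by rw [sq]; omega)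
      exact lt_of_pow_lt_pow_left' 2 this
    have h2 : (2 * (Nat.card W₁ : ℤ)) ≤ n * (Nat.card W₁ : ℤ) :=
      mul_le_mul_of_nonneg_right hc.two_le (Nat.cast_nonneg _)
    omega

end CfsgLib.OddOrder
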