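import Cfsg.Agent.OddOrder.PF10.TypeVGroup
import Cfsg.Agent.OddOrder.PF10.Pair

/-!
# Type V with `|W₂| < |W₁|`: the derived subgroup is TI

In the two alternatives of Type V other than TI the prime `r` with `|W₁| ∣ r ± 1` is not `p = |W₂|`,
so the Sylow `p`-subgroup of `M'` is abelian, against `W₂ ≤ M''`.
-/

set_option autoImplicit false
set_option linter.style.haveILetI false
set_option linter.unusedSectionVars false

namespace CfsgLib.OddOrder

open Cfsg
open Subgroup (centralizer normalizer)

universe u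

/-- In a nilpotent group with `O_{r'}` cyclic the derived subgroup has order prime to every prime
other than `r`. -/
theorem not_dvd_card_commutator_of_isCyclic_pPrimeCore {K : Type u} [Group K] [Finite K]
    [hK : Group.IsNilpotent K] {p r : ℕ} [hp : Fact p.Prime] (hr : r.Prime) (hne : p ≠ r)
    (hcyc : IsCyclic (pPrimeCore r K)) : ¬ p ∣ Nat.card (commutator K) := by
  classical
  intro hd
  have h : p ∣ Nat.card K := hd.trans (commutator K).card_subgroup_dvd_card
  have hn : ∀ {r : ℕ} [Fact r.Prime] (P : Sylow r K), (P : Subgroup K).Normal := fun P =>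
    Sylow.normal_of_normalizerCondition Group.normalizerCondition_of_isNilpotent P
  let e := Sylow.directProductOfNormal (G := K) fun {r hr} P => hn P
  obtain ⟨P⟩ : Nonempty (Sylow p K) := inferInstance
  have hmem : p ∈ (Nat.card K).primeFactors :=
    Nat.mem_primeFactors.2 ⟨hp.out, h, Nat.card_pos.ne'⟩
  let ev : K →* ↥(P : Subgroup K) :=
    (Pi.evalMonoidHom (fun Q : Sylow p K => ↥(Q : Subgroup K)) P).comp
      ((Pi.evalMonoidHom (fun r : (Nat.card K).primeFactors => ∀ Q : Sylow r K, ↥(Q : Subgroup K))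
        ⟨p, hmem⟩).comp e.symm.toMonoidHom)
  have hsurj : Function.Surjective ev := fun y =>
    ⟨e (Function.update 1 ⟨p, hmem⟩ (Function.update 1 P y)), by simp [ev]⟩
  -- the Sylow `p`-subgroup lies in the cyclic `O_{r'}`
  have hPle : (P : Subgroup K) ≤ pPrimeCore r K := le_sSup ⟨hn P, by
    rw [P.card_eq_multiplicity]
    exact ((Nat.coprime_primes hp.out hr).2 hne).pow_left _⟩
  haveI := hcyc
  haveI : IsCyclic ↥(P : Subgroup K) :=
    isCyclic_of_injective (Subgroup.inclusion hPle) (Subgroup.inclusion_injective hPle)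
  have hle : commutator K ≤ ev.ker := by
    rw [commutator_def, Subgroup.commutator_le]
    intro a _ b _
    rw [MonoidHom.mem_ker, map_commutatorElement, commutatorElement_eq_one_iff_mul_comm]
    exact IsCyclic.commGroup.mul_comm _ _
  have hcard : Nat.card ev.ker = (P : Subgroup K).index := by
    have h1 := ev.ker.card_mul_index
    rw [Subgroup.index_ker, MonoidHom.range_eq_top.2 hsurj, Subgroup.card_top] at h1
    rw [← (P : Subgroup K).card_mul_index, mul_comm (Nat.card ↥(P : Subgroup K))] at h1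
    exact Nat.eq_of_mul_eq_mul_right Nat.card_pos h1
  exact P.not_dvd_index (hcard ▸ hd.trans (Subgroup.card_dvd_of_le hle))

/-- A Type V subgroup with `|W₂| < |W₁|`. -/
theorem TypeV.ti_of_lt {G : Type u} [Group G] [Fintype G] {M W₁ W₂ : Subgroup G}
    (hG : IsMinSimpleOddOrder G) (hM : IsCoatom M) (hP : IsTypePWith M W₁ ⊥ W₂)
    (hI : ¬ IsTypeI M) (hV : IsOfTypeV M) (hp : (Nat.card W₂).Prime)
    (hlt : Nat.card W₂ < Nat.card W₁) :
    IsTISubset ((⁅M, M⁆ : Subgroup G) : Set G) ∧
      Subgroup.normalizer ((⁅M, M⁆ : Subgroup G) : Set G) = M ∧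
      (∀ x ∈ supportA0 M, supportR M x = ⊥) ∧
      ∀ m, Nat.card ↥⁅M, M⁆ = Nat.card W₂ ^ m →
        ∃ P : Sylow (Nat.card W₂) G, (P : Subgroup G) = ⁅M, M⁆ := by
  haveI := Fact.mk hp
  have hHeq := TypeV.derived_eq hP
  have hW₂H : W₂ ≤ fittingHallOf M := TypeP.W₂_le_H hP
  have hodd : Odd (Nat.card W₁) := minSimple_odd_subgroup hG W₁
  have h2 : 2 ≤ Nat.card W₂ := hp.two_le
  have hpH' : Nat.card W₂ ∣ Nat.card (commutator ↥(fittingHallOf M)) := by
    have h := Subgroup.card_dvd_of_le (TypeP.W₂_le_derived_of_trivial hP rfl)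
    rwa [← Subgroup.map_subtype_commutator,
      Subgroup.card_map_of_injective (fittingHallOf M).subtype_injective] at h
  haveI := TypeP.H_nilpotent hP
  obtain ⟨A, B, C, hP', -, hor⟩ := hV
  have hA : Nat.card W₁ = Nat.card A := by
    refine Nat.eq_of_mul_eq_mul_left Nat.card_pos
      ((compl_card hP.W₁_compl).trans (compl_card hP'.W₁_compl).symm)
  have hTI : IsTISubset ((⁅M, M⁆ : Subgroup G) : Set G) := by
    rw [hHeq]
    rcases hor with h | ⟨r, hr, -, hd, hc⟩ | ⟨r, hr, -, -, hd, hc⟩
    · exact h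
    · refine absurd hpH' (not_dvd_card_commutator_of_isCyclic_pPrimeCore hr ?_ hc)
      intro e
      rw [← hA, ← e] at hd
      have := Nat.le_of_dvd (by omega) hd
      omega
    · refine absurd hpH' (not_dvd_card_commutator_of_isCyclic_pPrimeCore hr ?_ hc)
      intro e
      rw [← hA, ← e] at hd
      have := Nat.le_of_dvd (by omega) hd
      obtain ⟨i, hi⟩ := hodd
      obtain ⟨j, hj⟩ : Odd (Nat.card W₂) := minSimple_odd_subgroup hG W₂
      omega
  have hne : ⁅M, M⁆ ≠ ⊥ := fun e => hp.ne_one (Subgroup.card_eq_one.2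
    (le_bot_iff.1 (e ▸ hHeq ▸ hW₂H)))
  have hN : normalizer ((⁅M, M⁆ : Subgroup G) : Set G) = M := by
    have hle : M ≤ normalizer ((⁅M, M⁆ : Subgroup G) : Set G) :=
      le_normalizer_commutator Subgroup.le_normalizer Subgroup.le_normalizer
    exact (hM.le_iff.1 hle).resolve_left (minSimple_normalizer_ne_top hG hne
      (ne_top_of_le_ne_top hM.1 M.commutator_le_self))
  refine ⟨hTI, hN, fun x hx => supportR_eq_bot ?_, fun m hm => ?_⟩
  · -- centralisers of the elements of `A₀(M)`
    rcases hx with hx | ⟨-, A', B', C', hP'', m, hm, w, hw, h1, h2', rfl⟩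
    · rw [supportA, if_neg hI] at hx
      obtain ⟨ha, ha1, -⟩ := hx
      intro c hc
      rw [Subgroup.mem_centralizer_singleton_iff] at hc
      have hcx : c * x * c⁻¹ = x := by rw [hc, mul_inv_cancel_right]
      by_contra hcM
      exact ha1 (hTI c (fun h => hcM (hN ▸ h)) x ha (hcx.symm ▸ ha))
    · intro c hc
      rw [Subgroup.mem_centralizer_singleton_iff] at hc
      have hc' : m⁻¹ * c * m ∈ A' ⊔ C' := by
        refine CfsgLib.OddOrderChar.snc_normalizer_single hP''.selfNormalizing hw h1 h2' ?_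
        calc m⁻¹ * c * m * w * (m⁻¹ * c * m)⁻¹ = m⁻¹ * (c * (m * w * m⁻¹)) * c⁻¹ * m := by group
          _ = m⁻¹ * (m * w * m⁻¹ * c) * c⁻¹ * m := by rw [hc]
          _ = w := by group
      have hle : A' ⊔ C' ≤ M :=
        sup_le (TypeP.W₁_le hP'') ((TypeP.W₂_le_H hP'').trans (fittingHallOf_le M))
      have := M.mul_mem (M.mul_mem hm (hle hc')) (M.inv_mem hm)
      simpa [mul_assoc] using this
  · -- the Sylow subgroup
    set p := Nat.card W₂
    set H := ⁅M, M⁆
    have hm0 : m ≠ 0 := by
      intro h0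
      exact hne (Subgroup.card_eq_one.1 (by rw [hm, h0, pow_zero]))
    have hfact : (Nat.card G).factorization p = m := by
      refine le_antisymm (not_lt.1 fun h => ?_)
        ((hp.pow_dvd_iff_le_factorization Nat.card_pos.ne').1 (hm ▸ H.card_subgroup_dvd_card))
      have h1 : p ∣ (H.subgroupOf (normalizer (H : Set G))).index :=
        Sylow.prime_dvd_card_quotient_normalizer
          ((hp.pow_dvd_iff_le_factorization Nat.card_pos.ne').2 h) hm
      rw [hN] at h1
      have h2 : H.relIndex M = Nat.card W₁ := by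
        have h3 := compl_card hP.W₁_compl
        rw [← card_mul_relIndex M.commutator_le_self] at h3
        exact (Nat.eq_of_mul_eq_mul_left Nat.card_pos h3).symm
      exact hp.not_dvd_one ((TypeP.coprime_W₁_derived hP).gcd_eq_one ▸
        Nat.dvd_gcd (h2 ▸ h1) (hm ▸ dvd_pow_self p hm0))
    exact ⟨Sylow.ofCard H (by rw [hm, hfact]), rfl⟩

end CfsgLib.OddOrder
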