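import Cfsg.Agent.OddOrder.PF10.TypeV
import Cfsg.Agent.OddOrder.PF10.TypeVMass
import Cfsg.Agent.OddOrder.PF10.TypeVTI

/-!
# The second member of a pair is not of Type V
-/

set_option autoImplicit false

namespace CfsgLib.OddOrder

open Cfsg CfsgLib.Characters CfsgLib.Coherence CfsgLib.OddOrderChar

universe u

variable {G : Type u} [Group G] [Fintype G]

theorem FTPair.not_typeV {S T W₁ U W₂ V : Subgroup G}
    (h : FTPair S T W₁ U W₂ V) (hG : IsMinSimpleOddOrder G) (F : FTFacts G) :
    ¬ IsOfTypeV T := by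
  classical
  let _ : Fintype T := Fintype.ofFinite _
  intro hV
  exact h.not_typeV_of_mass hG F (fun χ μ δ hs hP O hO =>
    hs.typeV_mass hP (fun hlt => TypeV.ti_of_lt hG h.coatomT hP (h.notI_T hG F) hV hs.prime₂ hlt) hO) hV

end CfsgLib.OddOrder
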