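import Cfsg.Agent.OddOrder.PF10.Structure
import Cfsg.Agent.OddOrder.PF10.BadSide

/-!
# The group theory of a subgroup with data of Type V, inside the subgroup

For data `(W₁, ⊥, W₂)` of type P write `K = M'` (nilpotent), `N = [K : K']`, `p = |W₂|`, `q = |W₁|`.
-/

set_option autoImplicit false
set_option linter.style.haveILetI false
set_option linter.unusedSectionVars false

open scoped commutatorElement

namespace CfsgLib.OddOrder

open Cfsg CfsgLib.Coherence

universe u

/-- A group of class two with abelianisation of order `p²` has commutator subgroup of order dividing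
`p`. -/
theorem card_commutator_dvd {Q : Type u} [Group Q] [Finite Q] {p : ℕ} [hp : Fact p.Prime]
    (hc : commutator Q ≤ Subgroup.center Q) (hN : (commutator Q).index = p ^ 2) :
    Nat.card (commutator Q) ∣ p := by
  classical
  have hcard : Nat.card (Q ⧸ commutator Q) = p ^ 2 := hN
  obtain ⟨xb, hxb⟩ := exists_prime_orderOf_dvd_card' (G := Q ⧸ commutator Q) p
    (hcard ▸ dvd_pow_self p two_ne_zero)
  set π := QuotientGroup.mk' (commutator Q) with hπ
  have hπs : Function.Surjective π := QuotientGroup.mk'_surjective _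
  obtain ⟨x, rfl⟩ := hπs xb
  set H := (Subgroup.zpowers (π x)).comap π with hH
  have hQH : commutator Q ≤ H := fun y hy => by
    rw [hH, Subgroup.mem_comap, show π y = 1 from (QuotientGroup.eq_one_iff y).2 hy]
    exact one_mem _
  have hidx : H.index = p := by
    rw [hH, Subgroup.index_comap_of_surjective _ hπs]
    have h1 := (Subgroup.zpowers (π x)).index_mul_card
    rw [Nat.card_zpowers, hxb, hcard, pow_two] at h1
    exact Nat.eq_of_mul_eq_mul_right hp.out.pos h1
  have hrel : (commutator Q).relIndex H = p := by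
    have h1 := Subgroup.relIndex_mul_index hQH
    rw [hidx, hN, pow_two] at h1
    exact Nat.eq_of_mul_eq_mul_right hp.out.pos h1
  have hHab : ∀ a ∈ H, ∀ b ∈ H, a * b = b * a := by
    have hdec : ∀ a ∈ H, ∃ (i : ℤ) (z : Q), z ∈ Subgroup.center Q ∧ a = x ^ i * z := by
      intro a ha
      obtain ⟨i, hi⟩ := Subgroup.mem_zpowers_iff.1 (Subgroup.mem_comap.1 ha)
      refine ⟨i, (x ^ i)⁻¹ * a, hc ((QuotientGroup.eq_one_iff _).1 ?_),
        (mul_inv_cancel_left _ _).symm⟩
      show π ((x ^ i)⁻¹ * a) = 1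
      rw [map_mul, map_inv, map_zpow, hi, inv_mul_cancel]
    intro a ha b hb
    obtain ⟨i, y, hy, rfl⟩ := hdec a ha
    obtain ⟨j, z, hz, rfl⟩ := hdec b hb
    have cy : ∀ g, Commute y g := fun g => ((Subgroup.mem_center_iff.1 hy) g).symm
    have cz : ∀ g, Commute z g := fun g => ((Subgroup.mem_center_iff.1 hz) g).symm
    exact (((Commute.zpow_zpow_self x i j).mul_right (cz _).symm).mul_left (cy _)).eq
  obtain ⟨g, -, hg⟩ := SetLike.exists_of_lt (lt_top_iff_ne_top.2 fun e : H = ⊤ => hp.out.ne_one (by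
    rw [← hidx, e, Subgroup.index_top]))
  let f : ↥H →* ↥(commutator Q) :=
    { toFun := fun a => ⟨⁅g, (a : Q)⁆, Subgroup.commutator_mem_commutator (Subgroup.mem_top _)
        (Subgroup.mem_top _)⟩
      map_one' := Subtype.ext (by simp [commutatorElement_def])
      map_mul' := fun a b => Subtype.ext (by
        have hz : ∀ w, w * ⁅g, (b : Q)⁆ = ⁅g, (b : Q)⁆ * w := fun w =>
          Subgroup.mem_center_iff.1 (hc (Subgroup.commutator_mem_commutator (Subgroup.mem_top _)
            (Subgroup.mem_top _))) w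
        show ⁅g, (a : Q) * b⁆ = ⁅g, (a : Q)⁆ * ⁅g, (b : Q)⁆
        calc ⁅g, (a : Q) * b⁆ = ⁅g, (a : Q)⁆ * ((a : Q) * ⁅g, (b : Q)⁆ * (a : Q)⁻¹) := by
              simp [commutatorElement_def, mul_assoc]
          _ = _ := by rw [hz, mul_inv_cancel_right]) }
  have hker : (commutator Q).subgroupOf H ≤ f.ker := fun a ha => MonoidHom.mem_ker.2 (Subtype.ext
    (commutatorElement_eq_one_iff_mul_comm.2
      (Subgroup.mem_center_iff.1 (hc (Subgroup.mem_subgroupOf.1 ha)) g)))
  have hdvd : Nat.card f.range ∣ p := by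
    rw [← Subgroup.index_ker f, ← hrel]
    exact Subgroup.index_dvd_of_le hker
  set R := f.range.map (commutator Q).subtype with hR
  have hRc : R ≤ Subgroup.center Q := (Subgroup.map_subtype_le _).trans hc
  haveI : R.Normal := ⟨fun r hr w => by
    rwa [(Subgroup.mem_center_iff.1 (hRc hr)) w, mul_inv_cancel_right]⟩
  set ρ := QuotientGroup.mk' R with hρ
  have hgh : ∀ a ∈ H, Commute (ρ g) (ρ a) := fun a ha => by
    rw [← commutatorElement_eq_one_iff_commute, ← map_commutatorElement]
    exact (QuotientGroup.eq_one_iff _).2 ⟨f ⟨a, ha⟩, ⟨⟨a, ha⟩, rfl⟩, rfl⟩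
  have hgH : Subgroup.zpowers g ⊔ H = ⊤ := by
    have h1 : (Subgroup.zpowers g ⊔ H).index ∣ p :=
      hidx ▸ Subgroup.index_dvd_of_le le_sup_right
    rcases (Nat.dvd_prime hp.out).1 h1 with e | e
    · exact Subgroup.index_eq_one.1 e
    · exfalso
      have h2 := Subgroup.relIndex_mul_index (le_sup_right : H ≤ Subgroup.zpowers g ⊔ H)
      rw [e, hidx] at h2
      have h3 : H.relIndex (Subgroup.zpowers g ⊔ H) = 1 :=
        Nat.eq_of_mul_eq_mul_right hp.out.pos (h2.trans (one_mul p).symm)
      exact hg (Subgroup.relIndex_eq_one.1 h3 (Subgroup.mem_sup_left (Subgroup.mem_zpowers g)))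
  have hall : ∀ a b : Q, Commute (ρ a) (ρ b) := by
    have hC : ∀ a : Q, (Commute (ρ a) (ρ g) ∧ ∀ h ∈ H, Commute (ρ a) (ρ h)) →
        ∀ b, Commute (ρ a) (ρ b) := fun a ha b => by
      have hle : Subgroup.zpowers g ⊔ H ≤ (Subgroup.centralizer ({ρ a} : Set _)).comap ρ := by
        refine sup_le ?_ fun h hh => ?_
        · rw [Subgroup.zpowers_le]
          exact Subgroup.mem_centralizer_singleton_iff.2 ha.1.eq.symm
        · exact Subgroup.mem_centralizer_singleton_iff.2 (ha.2 h hh).eq.symm
      exact (Subgroup.mem_centralizer_singleton_iff.1 (hle (hgH ▸ Subgroup.mem_top b))).symm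
    intro a b
    exact hC a ⟨(hC g ⟨Commute.refl _, hgh⟩ a).symm, fun h hh =>
      (hC h ⟨(hgh h hh).symm, fun k hk => Commute.map (show Commute h k from hHab h hh k hk) ρ⟩ a).symm⟩ b
  have hle : commutator Q ≤ R := by
    rw [commutator_def, Subgroup.commutator_le]
    intro a _ b _
    refine (QuotientGroup.eq_one_iff _).1 ?_
    show ρ ⁅a, b⁆ = 1
    rw [map_commutatorElement, commutatorElement_eq_one_iff_commute]
    exact hall a b
  refine (Subgroup.card_dvd_of_le hle).trans ?_
  rw [hR, Subgroup.card_map_of_injective (commutator Q).subtype_injective]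
  exact hdvd

/-- Every prime divisor of the order of a nilpotent group divides that of its abelianisation. -/
theorem dvd_commutator_index {K : Type u} [Group K] [Finite K] [hK : Group.IsNilpotent K] {p : ℕ}
    [hp : Fact p.Prime] (h : p ∣ Nat.card K) : p ∣ (commutator K).index := by
  classical
  have hn : ∀ {r : ℕ} [Fact r.Prime] (P : Sylow r K), (P : Subgroup K).Normal := fun P =>
    Sylow.normal_of_normalizerCondition Group.normalizerCondition_of_isNilpotent P
  let e := Sylow.directProductOfNormal (G := K) fun {r hr} P => hn P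
  obtain ⟨P⟩ : Nonempty (Sylow p K) := inferInstance
  have hmem : p ∈ (Nat.card K).primeFactors :=
    Nat.mem_primeFactors.2 ⟨hp.out, h, Nat.card_pos.ne'⟩
  let ev : K →* ↥(P : Subgroup K) :=
    (Pi.evalMonoidHom (fun Q : Sylow p K => ↥(Q : Subgroup K)) P).comp
      ((Pi.evalMonoidHom (fun r : (Nat.card K).primeFactors => ∀ Q : Sylow r K, ↥(Q : Subgroup K))
        ⟨p, hmem⟩).comp e.symm.toMonoidHom)
  have hsurj : Function.Surjective ev := fun y =>
    ⟨e (Function.update 1 ⟨p, hmem⟩ (Function.update 1 P y)), by simp [ev]⟩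
  have hd : (commutator ↥(P : Subgroup K)).index ∣ (commutator K).index := by
    have hmap : (commutator K).map ev = commutator _ := by
      rw [commutator_def, commutator_def, Subgroup.map_commutator,
        Subgroup.map_top_of_surjective _ hsurj]
    rw [← hmap]
    exact Subgroup.index_map_dvd _ hsurj
  refine dvd_trans ?_ hd
  haveI : Nontrivial ↥(P : Subgroup K) := (Subgroup.nontrivial_iff_ne_bot _).2 (P.ne_bot_of_dvd_card h)
  haveI : Group.IsNilpotent ↥(P : Subgroup K) := P.isPGroup'.isNilpotent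
  obtain ⟨j, -, hj⟩ := (Nat.dvd_prime_pow hp.out).1
    (P.card_eq_multiplicity ▸ (commutator ↥(P : Subgroup K)).index_dvd_card)
  refine hj ▸ dvd_pow_self p ?_
  rintro rfl
  rw [pow_zero, Subgroup.index_eq_one] at hj
  exact (Group.IsSolvable.commutator_lt_top_of_nontrivial ↥(P : Subgroup K)).ne hj

namespace TypeV

variable {G : Type u} [Group G] [Fintype G] {M W₁ W₂ : Subgroup G}
  (hP : Cfsg.IsTypePWith M W₁ ⊥ W₂)
include hP

omit [Fintype G] in
theorem derived_eq : ⁅M, M⁆ = fittingHallOf M := TypeP.derived_eq_of_trivial hP rfl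

theorem nilpotent : Group.IsNilpotent ↥(derIn M) := by
  have h : Group.IsNilpotent ↥⁅M, M⁆ := derived_eq hP ▸ TypeP.H_nilpotent hP
  exact (Group.isNilpotent_congr (Subgroup.subgroupOfEquivOfLe M.commutator_le_self)).2 h

omit [Fintype G] in
/-- `W₂` inside `M` lies in `M''`. -/
theorem W₂_le : W₂.subgroupOf M ≤ derDer M := by
  intro x hx
  have h := TypeP.W₂_le_derived_of_trivial hP rfl (Subgroup.mem_subgroupOf.1 hx)
  rw [← derived_eq hP] at h
  rw [← Subgroup.mem_map_iff_mem M.subtype_injective (x := x), derDer, Subgroup.map_commutator,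
    derIn, Subgroup.map_subgroupOf_eq_of_le M.commutator_le_self]
  exact h

/-- Sections of `M'` avoiding the image of `W₂` have order `≡ 1` modulo `|W₁|`. -/
theorem section_mod (B A : Subgroup ↥M) [B.Normal] [A.Normal] (hBA : B ≤ A) (hA : A ≤ derIn M)
    (hW : W₂.subgroupOf M ⊓ A ≤ B) : Nat.card W₁ ∣ B.relIndex A - 1 := by
  have hn : ∀ C : Subgroup ↥M, C.Normal → W₁ ≤ Subgroup.normalizer ((C.map M.subtype : Subgroup G) : Set G) := by
    intro C hC
    refine (TypeP.W₁_le hP).trans fun m hm => ?_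
    refine Subgroup.mem_normalizer_fintype fun x hx => ?_
    obtain ⟨y, hy, rfl⟩ := hx
    exact ⟨⟨m, hm⟩ * y * ⟨m, hm⟩⁻¹, hC.conj_mem y hy _, rfl⟩
  have h := TypeP.semiregular hP (A := A.map M.subtype) (B := B.map M.subtype) (Subgroup.map_mono hBA)
    (fun x hx => by
      obtain ⟨y, hy, rfl⟩ := hx
      rw [← derived_eq hP]
      exact Subgroup.mem_subgroupOf.1 (hA hy))
    (hn A inferInstance) (hn B inferInstance) (fun x hx => by
      obtain ⟨hx2, y, hy, rfl⟩ := hx
      exact Subgroup.mem_map_of_mem _ (hW ⟨hx2, hy⟩))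
  rwa [Subgroup.relIndex_map_map_of_injective _ _ M.subtype_injective] at h

theorem card_W₂In : Nat.card ↥(W₂.subgroupOf M) = Nat.card W₂ :=
  Nat.card_congr (Subgroup.subgroupOfEquivOfLe
    ((TypeP.W₂_le_H hP).trans (fittingHallOf_le M))).toEquiv

theorem derDer_index : (derDer M).relIndex (derIn M) = (commutator ↥(derIn M)).index := by
  rw [Subgroup.relIndex]
  congr 1
  rw [derDer, ← Subgroup.map_subtype_commutator, Subgroup.subgroupOf,
    Subgroup.comap_map_eq_self_of_injective (derIn M).subtype_injective]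

theorem card_dvd_derDer {p : ℕ} (hp : p.Prime) (h : p ∣ Nat.card ↥(derIn M)) :
    p ∣ (derDer M).relIndex (derIn M) := by
  haveI := Fact.mk hp
  haveI := nilpotent hP
  exact derDer_index hP ▸ dvd_commutator_index h

theorem W₂_dvd : Nat.card W₂ ∣ Nat.card ↥(derIn M) :=
  card_W₂In hP ▸ Subgroup.card_dvd_of_le ((W₂_le hP).trans (derDer_le M))

theorem derDer_mod : Nat.card W₁ ∣ (derDer M).relIndex (derIn M) - 1 :=
  section_mod hP (derDer M) (derIn M) (derDer_le M) le_rfl (inf_le_left.trans (W₂_le hP))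

/-- For a `p`-group `[K : K']` is a power of `p` with exponent at least two. -/
theorem pgroup_index (hp : (Nat.card W₂).Prime) {m : ℕ}
    (hm : Nat.card ↥(derIn M) = Nat.card W₂ ^ m) :
    ∃ i, 2 ≤ i ∧ (derDer M).relIndex (derIn M) = Nat.card W₂ ^ i := by
  classical
  set p := Nat.card W₂ with hpdef
  haveI := Fact.mk hp
  haveI := nilpotent hP
  obtain ⟨i, -, hi⟩ := (Nat.dvd_prime_pow hp).1 (hm ▸ (commutator ↥(derIn M)).index_dvd_card)
  refine ⟨i, ?_, (derDer_index hP).trans hi⟩
  by_contra hlt
  have hcyc : IsCyclic (↥(derIn M) ⧸ commutator ↥(derIn M)) := by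
    have hc : Nat.card (↥(derIn M) ⧸ commutator ↥(derIn M)) = p ^ i := hi
    interval_cases i
    · rw [pow_zero] at hc
      haveI := (Nat.card_eq_one_iff_unique.1 hc).1
      infer_instance
    · exact isCyclic_of_prime_card (p := p) (hc.trans (pow_one p))
  obtain ⟨y, hy⟩ := hcyc.exists_generator
  obtain ⟨x, rfl⟩ := QuotientGroup.mk'_surjective _ y
  have hgen : Subgroup.zpowers x ⊔ commutator ↥(derIn M) = ⊤ := by
    refine eq_top_iff.2 fun a _ => ?_
    obtain ⟨k, hk⟩ := Subgroup.mem_zpowers_iff.1 (hy (QuotientGroup.mk' _ a))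
    rw [← mul_inv_cancel_left (x ^ k) a]
    refine Subgroup.mul_mem_sup (Subgroup.zpow_mem _ (Subgroup.mem_zpowers x) k)
      ((QuotientGroup.eq_one_iff _).1 ?_)
    show QuotientGroup.mk' _ ((x ^ k)⁻¹ * a) = 1
    rw [map_mul, map_inv, map_zpow, hk, inv_mul_cancel]
  have hab := isMulCommutative_of_sup_zpowers hgen
  have hbot : derDer M = ⊥ := le_bot_iff.1 (Subgroup.commutator_le.2 fun a ha b hb => by
    rw [Subgroup.mem_bot, commutatorElement_eq_one_iff_mul_comm]
    exact congrArg Subtype.val (hab ⟨a, ha⟩ ⟨b, hb⟩))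
  have h1 := Subgroup.card_dvd_of_le (W₂_le hP)
  rw [hbot, Subgroup.card_bot, card_W₂In hP, Nat.dvd_one] at h1
  exact hp.ne_one h1

theorem odd_relIndex (hodd : Odd (Nat.card M)) (A B : Subgroup ↥M) : Odd (A.relIndex B) :=
  hodd.of_dvd_nat ((Subgroup.index_dvd_card (A.subgroupOf B)).trans B.card_subgroup_dvd_card)

/-- `[K : K']` when `K` is not a `p`-group. -/
theorem index_not_pgroup (hp : (Nat.card W₂).Prime) (hodd : Odd (Nat.card M))
    (hnp : ∀ m, Nat.card ↥(derIn M) ≠ Nat.card W₂ ^ m) :
    Nat.card W₂ * (2 * Nat.card W₁ + 1) ≤ (derDer M).relIndex (derIn M) ∧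
      (2 * Nat.card W₁ + 1) * (2 * Nat.card W₁ + 1) ≤ (derDer M).relIndex (derIn M) := by
  classical
  set p := Nat.card W₂ with hpdef
  set q := Nat.card W₁ with hqdef
  have hq : Odd q := by
    refine hodd.of_dvd_nat ?_
    rw [hqdef, ← Nat.card_congr (Subgroup.subgroupOfEquivOfLe (TypeP.W₁_le hP)).toEquiv]
    exact Subgroup.card_subgroup_dvd_card _
  haveI := Fact.mk hp
  haveI := nilpotent hP
  set K := derIn M
  obtain ⟨P⟩ : Nonempty (Sylow p ↥K) := inferInstance
  haveI hPn : (P : Subgroup ↥K).Normal :=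
    Sylow.normal_of_normalizerCondition Group.normalizerCondition_of_isNilpotent P
  haveI hPc : (P : Subgroup ↥K).Characteristic := Sylow.characteristic_of_normal P hPn
  set L := derDer M ⊔ (P : Subgroup ↥K).map K.subtype with hL
  haveI : L.Normal := Subgroup.sup_normal _ _
  have hKL : derDer M ≤ L := le_sup_left
  have hLK : L ≤ K := sup_le (derDer_le M) (Subgroup.map_subtype_le _)
  have hmul := Subgroup.relIndex_mul_relIndex (derDer M) L K hKL hLK
  have h1 := section_mod hP (derDer M) L hKL hLK (inf_le_left.trans (W₂_le hP))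
  have h2 := section_mod hP L K hLK le_rfl
    ((inf_le_left.trans (W₂_le hP)).trans hKL)
  have hpN := card_dvd_derDer hP hp (W₂_dvd hP)
  -- the index of `L` in `K` is prime to `p`
  have hcop : ¬ p ∣ L.relIndex K := by
    intro hd
    have h3 : L.relIndex K ∣ ((P : Subgroup ↥K).map K.subtype).relIndex K :=
      Subgroup.relIndex_dvd_of_le_left K le_sup_right
    have e : ((P : Subgroup ↥K).map K.subtype).relIndex K = (P : Subgroup ↥K).index :=
      congrArg Subgroup.index (Subgroup.comap_map_eq_self_of_injective K.subtype_injective _)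
    rw [e] at h3
    exact P.not_dvd_index (hd.trans h3)
  have hp1 : p ∣ (derDer M).relIndex L := by
    rw [← hmul] at hpN
    exact (hp.dvd_mul.1 hpN).resolve_right hcop
  have hne : L.relIndex K ≠ 1 := by
    intro h3
    have h4 : (derDer M).relIndex K = (derDer M).relIndex L := by rw [← hmul, h3, mul_one]
    have hpow : (derDer M).relIndex L ∣ Nat.card ↥(P : Subgroup ↥K) := by
      rw [hL, relIndex_sup_of_normalizes Subgroup.le_normalizer_of_normal,
        ← Subgroup.card_map_of_injective (f := K.subtype) (K := (P : Subgroup ↥K)) K.subtype_injective]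
      exact Subgroup.index_dvd_card _
    rw [P.card_eq_multiplicity, ← h4] at hpow
    obtain ⟨i, -, hi⟩ := (Nat.dvd_prime_pow hp).1 hpow
    obtain ⟨m, hm⟩ := card_eq_pow_of_commutator_index (P := ↥K) (p := p) (d := i)
      (by rw [← derDer_index hP]; exact hi)
    exact hnp m hm
  have hne0 : L.relIndex K ≠ 0 := Subgroup.index_ne_zero_of_finite
  have hbig : 2 * q + 1 ≤ L.relIndex K :=
    big_of_odd_one_mod hq (odd_relIndex hP hodd L K) h2 (by omega)
  have ha0 : (derDer M).relIndex L ≠ 0 := Subgroup.index_ne_zero_of_finite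
  have hpa : p ≤ (derDer M).relIndex L := Nat.le_of_dvd (by omega) hp1
  have hqa : 2 * q + 1 ≤ (derDer M).relIndex L :=
    big_of_odd_one_mod hq (odd_relIndex hP hodd _ L) h1 (by have := hp.two_le; omega)
  rw [← hmul]
  exact ⟨Nat.mul_le_mul hpa hbig, Nat.mul_le_mul hqa hbig⟩

/-- The third term of the lower central series of `M'` in the case `[K : K'] = p²`. -/
theorem exists_class_two (hp : (Nat.card W₂).Prime)
    (hN : (derDer M).relIndex (derIn M) = Nat.card W₂ ^ 2) :
    ∃ X : Subgroup ↥M, X.Normal ∧ X ≤ derDer M ∧ ⁅derDer M, derIn M⁆ ≤ X ∧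
      X.relIndex (derIn M) = Nat.card W₂ * (derDer M).relIndex (derIn M) := by
  classical
  set p := Nat.card W₂ with hpdef
  haveI := Fact.mk hp
  set K := derIn M
  set X := ⁅derDer M, K⁆ with hX
  have hXD : X ≤ derDer M := Subgroup.commutator_le_left _ _
  haveI : (X.subgroupOf K).Normal := Subgroup.Normal.subgroupOf inferInstance K
  letI := Fintype.ofFinite ↥K
  have hD : (derDer M).subgroupOf K = commutator ↥K := by
    rw [derDer, ← Subgroup.map_subtype_commutator]
    exact Subgroup.comap_map_eq_self_of_injective K.subtype_injective _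
  have hcomm : ((derDer M).subgroupOf K).map (QuotientGroup.mk' (X.subgroupOf K)) =
      commutator (↥K ⧸ X.subgroupOf K) := by
    rw [hD, commutator_def, commutator_def, Subgroup.map_commutator,
      Subgroup.map_top_of_surjective _ (QuotientGroup.mk'_surjective _)]
  have hdvd : X.relIndex (derDer M) ∣ p := by
    have h := card_commutator_dvd (Q := ↥K ⧸ X.subgroupOf K) (p := p) (fun z hz => by
        rw [← hcomm] at hz
        obtain ⟨a, ha, rfl⟩ := hz
        refine Subgroup.mem_center_iff.2 fun b => ?_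
        obtain ⟨b, rfl⟩ := QuotientGroup.mk'_surjective _ b
        refine (commutatorElement_eq_one_iff_mul_comm.1 ?_).symm
        rw [← map_commutatorElement]
        refine (QuotientGroup.eq_one_iff _).2 (Subgroup.mem_subgroupOf.2 ?_)
        exact Subgroup.commutator_mem_commutator (Subgroup.mem_subgroupOf.1 ha) b.2)
      (by
        rw [← hcomm, Subgroup.index_map_eq _ (QuotientGroup.mk'_surjective _)
          (by rw [QuotientGroup.ker_mk']; exact fun a ha => hXD ha)]
        exact hN)
    rwa [← hcomm, card_map_mk, Subgroup.relIndex_subgroupOf (derDer_le M)] at h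
  rcases (Nat.dvd_prime hp).1 hdvd with h | h
  · exfalso
    -- then `K' = [K', K]`, so `K' = 1`
    haveI : ((⊥ : Subgroup ↥M).subgroupOf K).Normal := Subgroup.Normal.subgroupOf inferInstance K
    haveI := nilpotent hP
    by_cases hbot : derDer M = ⊥
    · have h1 := Subgroup.card_dvd_of_le (W₂_le hP)
      rw [hbot, Subgroup.card_bot, card_W₂In hP, Nat.dvd_one] at h1
      exact hp.ne_one h1
    refine commutator_sup_ne (H := K) (M := ⊥) (A := ⊥) inferInstance le_rfl (bot_lt_iff_ne_bot.2 hbot)
      (derDer_le M) ?_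
    rw [sup_bot_eq]
    exact le_antisymm hXD (Subgroup.relIndex_eq_one.1 h)
  · exact ⟨X, inferInstance, hXD, le_rfl, by rw [← Subgroup.relIndex_mul_relIndex X (derDer M) K hXD (derDer_le M), h]⟩

end TypeV

end CfsgLib.OddOrder
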