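import Cfsg.Agent.OddOrder.PF10.TypeVAux
import Cfsg.Agent.OddOrder.PF10.TypeVGroup

/-!
# Type V: the kernels of the `μ`, and `a = 0` when `[M' : M'']` is large
-/

set_option autoImplicit false
set_option linter.style.haveILetI false
set_option linter.unusedSectionVars false

open scoped commutatorElement

namespace CfsgLib.OddOrder

open Cfsg CfsgLib.Characters CfsgLib.Coherence CfsgLib.OddOrderChar
open scoped ComplexConjugate

universe u

variable {G : Type u} [Group G] [Fintype G] {M W₁ W₂ : Subgroup G} [Fintype M]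

noncomputable local instance fintypeSubTypeVMu (H : Subgroup ↥M) : Fintype H := Fintype.ofFinite H

/-- `θ` is trivial on `B`. -/
def TrivOn (M : Subgroup G) (B : Subgroup ↥M) (θ : derIn M → ℂ) : Prop :=
  ∀ x : derIn M, (x : ↥M) ∈ B → θ x = θ 1

theorem trivOn_mono {B D : Subgroup ↥M} (hBD : B ≤ D) {θ : derIn M → ℂ} (hθ : TrivOn M D θ) :
    TrivOn M B θ := fun x hx => hθ x (hBD hx)

namespace BadCtx

variable {χ : (↥(W₁ ⊔ W₂) →* ℂˣ) → (G → ℂ)} {μ : (↥(W₁ ⊔ W₂) →* ℂˣ) → (↥M → ℂ)}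
  {δ : (↥(W₁ ⊔ W₂) →* ℂˣ) → ℤ} {f : (↥M → ℂ) → (G → ℂ)} {s n : ℤ} {ζ₀ : ↥M → ℂ}
  (h : BadCtx M W₁ W₂ χ μ δ f s n ζ₀)
include h

theorem odd_q : Odd (Nat.card W₁) := by
  refine h.oddM.of_dvd_nat ?_
  rw [← h.base.card_W₁In]
  exact Subgroup.card_subgroup_dvd_card _

/-- Any two `μ_l`, `l ≠ 1`, are Galois conjugate. -/
theorem exists_galHom {l l' : rightHat W₁ W₂} (hl : l ≠ 1) (hl' : l' ≠ 1) :
    ∃ σ : ℂ ≃+* ℂ, galHom σ l.1 = l'.1 := by
  classical
  have hp := h.prime₂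
  have hfac := h.base.factor
  haveI := hfac.cyclic
  letI : CommGroup ↥(W₁ ⊔ W₂) := IsCyclic.commGroup
  have hcard : Nat.card (rightHat W₁ W₂) = Nat.card W₂ := hfac.card_rightHat
  let S : Subgroup (↥(W₁ ⊔ W₂) →* ℂˣ) :=
    { carrier := {ω | ∀ w : ↥(W₁ ⊔ W₂), (w : G) ∈ W₁ → ω w = 1}
      one_mem' := fun _ _ => rfl
      mul_mem' := fun {a b} ha hb w hw => by rw [MonoidHom.mul_apply, ha w hw, hb w hw, mul_one]
      inv_mem' := fun {a} ha w hw => by rw [MonoidHom.inv_apply, ha w hw, inv_one] }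
  have hS : Nat.card S = Nat.card W₂ := hcard
  haveI : Fact (Nat.card W₂).Prime := ⟨hp⟩
  have hlS : (⟨l.1, l.2⟩ : S) ≠ 1 := fun e => hl (Subtype.ext (congrArg Subtype.val e))
  obtain ⟨j, hj⟩ : ∃ j : ℕ, (⟨l.1, l.2⟩ : S) ^ j = ⟨l'.1, l'.2⟩ :=
    mem_powers_iff_mem_zpowers.2 (mem_zpowers_of_prime_card hS hlS)
  set p := Nat.card W₂ with hpdef
  have hpw : ∀ (z : S) (i : ℕ) (w : ↥(W₁ ⊔ W₂)), (z ^ i).1 w = z.1 w ^ i := by
    intro z i w
    induction i with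
    | zero => rw [pow_zero, pow_zero]; rfl
    | succ i ih => rw [pow_succ, pow_succ, ← ih]; rfl
  have hlp : ∀ w, l.1 w ^ p = 1 := fun w => by
    have h0 := congrArg (fun z : S => z.1 w) (pow_card_eq_one' (x := (⟨l.1, l.2⟩ : S)))
    simp only [hpw, hS] at h0
    exact h0
  have hjw : ∀ w, l'.1 w = l.1 w ^ j := fun w => by
    have h0 := congrArg (fun z : S => z.1 w) hj
    simp only [hpw] at h0
    exact h0.symm
  have hcopp : Nat.Coprime j p := by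
    refine ((hp.coprime_iff_not_dvd).2 fun hd => hl' (Subtype.ext (MonoidHom.ext fun w => ?_))).symm
    obtain ⟨t, ht⟩ := hd
    rw [hjw w, ht, pow_mul, hlp, one_pow]
    rfl
  haveI : NeZero p := ⟨hp.ne_zero⟩
  obtain ⟨σ, hσ⟩ := GaloisConj.exists_ringEquiv_pow _ j hcopp
  refine ⟨σ, MonoidHom.ext fun w => Units.ext ?_⟩
  rw [galHom_apply, hσ _ (by rw [← Units.val_pow_eq_pow_val, hlp, Units.val_one]), hjw,
    Units.val_pow_eq_pow_val]

theorem mu_trivOn_transfer {l l' : rightHat W₁ W₂} (hl : l ≠ 1) (hl' : l' ≠ 1) {B : Subgroup ↥M}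
    (ht : TrivOn M B (fun x : derIn M => μ l.1 x)) : TrivOn M B (fun x : derIn M => μ l'.1 x) := by
  obtain ⟨σ, hσ⟩ := h.exists_galHom hl hl'
  obtain ⟨h1, -⟩ := h.pmu.galois h.base h.oddM σ l.1
  rw [hσ] at h1
  intro x hx
  show μ l'.1 (x : ↥M) = μ l'.1 ((1 : derIn M) : ↥M)
  rw [h1]
  exact congrArg σ (ht x hx)

omit h in
/-- The finite set of characters induced from characters trivial on `B`. -/
theorem indAbove_finite (B : Subgroup ↥M) : (inducedIrrAbove (derIn M) B).Finite := by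
  refine (Set.finite_range fun θ : IrrCharacter ↥(derIn M) => indFun (derIn M) (θ : _ → ℂ)).subset ?_
  rintro φ ⟨θ, hθ, -, -, rfl⟩
  exact ⟨⟨θ, hθ⟩, rfl⟩

/-- Degrees of characters trivial on `B` are bounded by a section central over `B`. -/
theorem deg_sq_le {B D : Subgroup ↥M} [B.Normal] (hBD : B ≤ D) (hD : D ≤ derIn M)
    (hc : ∀ x ∈ D, ∀ y ∈ derIn M, x * y * x⁻¹ * y⁻¹ ∈ B) {θ : derIn M → ℂ}
    (hθ : IsIrrCharacter ↥(derIn M) θ) (h1 : θ ≠ fun _ => 1) (hB : TrivOn M B θ) {e : ℕ}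
    (he : θ 1 = (e : ℂ)) : e ^ 2 ≤ D.relIndex (derIn M) := by
  have hb := ind_degree_bound (derIn M) hBD hD le_rfl hc ((ind_mem_iff (derIn M) hθ).2 ⟨h1, hB⟩)
  rw [h.ind_one, he, ← Nat.cast_mul, Complex.natCast_re, h.base.index_derIn] at hb
  have hq : (0 : ℝ) < (Nat.card W₁ : ℝ) ^ 2 := pow_pos (Nat.cast_pos.2 Nat.card_pos) 2
  push_cast at hb
  rw [mul_pow] at hb
  exact_mod_cast le_of_mul_le_mul_left hb hq

theorem mu_res_one {l : rightHat W₁ W₂} : (fun x : derIn M => μ l.1 x) = (fun _ => 1) → l = 1 := by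
  intro e
  refine h.pmu.res_inj h.base h.oddM (l := l) (l' := 1) ?_
  rw [e, rightHat_coe_one, (h.pmu.one h.base h.oddM).1]

theorem mu_degree {l : rightHat W₁ W₂} (hl : l ≠ 1) :
    ∃ d : ℕ, μ l.1 1 = (d : ℂ) ∧ (d : ℤ) = s + n * Nat.card W₁ ∧ 5 ≤ d := by
  obtain ⟨-, hdeg⟩ := h.mu_deg l hl
  obtain ⟨d, -, hd⟩ := exists_degree_pos (h.pmu.irr l.1)
  have h2 : (d : ℤ) = s + n * Nat.card W₁ := by
    have : (((d : ℤ)) : ℂ) = ((s + n * Nat.card W₁ : ℤ) : ℂ) := by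
      push_cast; rw [← hd, hdeg]
    exact_mod_cast this
  refine ⟨d, hd, h2, ?_⟩
  have hn := h.two_le
  have hq : (3 : ℤ) ≤ Nat.card W₁ := by exact_mod_cast h.three_le_q
  have : (5 : ℤ) ≤ d := by
    rcases h.sign with e | e <;> rw [h2, e] <;> nlinarith
  exact_mod_cast this

/-- Some `μ_l` is trivial on `X` and not on `A` when `|A : X| = p` and `q ∤ p - 1`. -/
theorem exists_mu_between {X A : Subgroup ↥M} [X.Normal] [A.Normal] (hXA : X ≤ A)
    (hA : A ≤ derIn M) (hidx : X.relIndex A = Nat.card W₂)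
    (hmod : Nat.card W₁ ∣ A.relIndex (derIn M) - 1) (hnp : ¬ Nat.card W₁ ∣ Nat.card W₂ - 1) :
    ∃ l : rightHat W₁ W₂, l ≠ 1 ∧ TrivOn M X (fun x : derIn M => μ l.1 x) ∧
      ¬ TrivOn M A (fun x : derIn M => μ l.1 x) := by
  classical
  by_contra hno
  push Not at hno
  set F := (indAbove_finite (M := M) X).toFinset with hFdef
  set F' := (indAbove_finite (M := M) A).toFinset with hF'def
  have hF : (↑F : Set (↥M → ℂ)) = inducedIrrAbove (derIn M) X := Set.Finite.coe_toFinset _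
  have hF' : (↑F' : Set (↥M → ℂ)) = inducedIrrAbove (derIn M) A := Set.Finite.coe_toFinset _
  have hsub : F' ⊆ F := fun φ hφ => by
    rw [← Finset.mem_coe, hF]
    rw [← Finset.mem_coe, hF'] at hφ
    exact inducedIrrAbove_mono (derIn M) hXA hφ
  have h1 := sum_deg_sq_div (derIn M) X F hF
  rw [← Finset.sum_sdiff hsub, sum_deg_sq_div (derIn M) A F' hF', h.base.index_derIn] at h1
  set q := Nat.card W₁ with hqdef
  have hterm : ∀ φ ∈ F \ F', ∃ e : ℕ, φ 1 ^ 2 / classInner φ φ = ((q * q * (e * e) : ℕ) : ℂ) := by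
    intro φ hφ
    obtain ⟨h2, h3⟩ := Finset.mem_sdiff.1 hφ
    rw [← Finset.mem_coe, hF] at h2
    rw [← Finset.mem_coe, hF'] at h3
    obtain ⟨θ, hθ, hθ1, hθX, rfl⟩ := h2
    have hnA : ¬ TrivOn M A θ := fun ht => h3 ⟨θ, hθ, hθ1, ht, rfl⟩
    have hne : ∀ l : rightHat W₁ W₂, θ ≠ fun x : derIn M => μ l.1 x := by
      intro l e
      subst e
      by_cases hl : l = 1
      · exact hθ1 (by subst hl; rw [rightHat_coe_one, (h.pmu.one h.base h.oddM).1])
      · exact hnA (hno l hl hθX)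
    obtain ⟨e, -, he⟩ := exists_degree_pos hθ
    refine ⟨e, ?_⟩
    rw [classInner_isIrr_self (h.pmu.ind_irr' h.base h.oddM hθ hne).1, h.ind_one, he]
    push_cast; ring
  choose! e he using hterm
  rw [Finset.sum_congr rfl he, ← Nat.cast_sum, ← Finset.mul_sum] at h1
  set S := ∑ φ ∈ F \ F', e φ * e φ
  have hXK : X.relIndex (derIn M) = Nat.card W₂ * A.relIndex (derIn M) := by
    rw [← Subgroup.relIndex_mul_relIndex X A (derIn M) hXA hA, hidx]
  rw [hXK] at h1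
  set N := A.relIndex (derIn M) with hN
  have h2 : q * S + N = Nat.card W₂ * N := by
    have : ((q * S + N : ℕ) : ℂ) = ((Nat.card W₂ * N : ℕ) : ℂ) := by
      refine mul_left_cancel₀ (h.q_ne) ?_
      push_cast at h1 ⊢
      linear_combination h1
    exact_mod_cast this
  refine hnp (Nat.Coprime.dvd_of_dvd_mul_right (n := N) ?_ ⟨S, ?_⟩)
  · refine Nat.coprime_of_dvd fun k hk hkq hkN => hk.not_dvd_one ?_
    have h3 : 1 ≤ N := Nat.one_le_iff_ne_zero.2 Subgroup.index_ne_zero_of_finite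
    have h4 := Nat.dvd_sub hkN (hkq.trans hmod)
    rwa [show N - (N - 1) = 1 by omega] at h4
  · rw [Nat.sub_mul, one_mul, ← h2, Nat.add_sub_cancel]

/-- The weight of the members of `otherSet M` trivial on `B`. -/
theorem famWeight_above {B : Subgroup ↥M} [B.Normal] (hB : B ≤ derDer M)
    (hne : ∀ l : rightHat W₁ W₂, l ≠ 1 → ¬ TrivOn M B (fun x : derIn M => μ l.1 x)) :
    ∃ Y : Finset (↥M → ℂ), (∀ φ, φ ∈ Y ↔ φ ∈ inducedIrrAbove (derIn M) B ∧ φ ∉ linSet M) ∧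
      (∀ φ ∈ Y, φ ∈ otherSet M) ∧
      h.famWeight Y * (Nat.card W₁ : ℝ) = (B.relIndex (derIn M) : ℝ) - 1 := by
  classical
  set F := (indAbove_finite (M := M) B).toFinset with hFdef
  have hF : (↑F : Set (↥M → ℂ)) = inducedIrrAbove (derIn M) B := Set.Finite.coe_toFinset _
  have hlin : linFin M ⊆ F := fun φ hφ => by
    rw [← Finset.mem_coe, hF]
    exact inducedIrrAbove_mono (derIn M) hB (mem_linFin.1 hφ)
  have hYmem : ∀ φ, φ ∈ F \ linFin M ↔ φ ∈ inducedIrrAbove (derIn M) B ∧ φ ∉ linSet M := fun φ => by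
    rw [Finset.mem_sdiff, mem_linFin, ← Finset.mem_coe, hF]
  have hoth : ∀ φ ∈ F \ linFin M, φ ∈ otherSet M := by
    intro φ hφ
    obtain ⟨⟨θ, hθ, hθ1, hθB, rfl⟩, hnl⟩ := (hYmem φ).1 hφ
    refine h.ind_mem_other hθ hθ1 (fun l e => ?_) fun ht => hnl ⟨θ, hθ, hθ1, ht, rfl⟩
    by_cases hl : l = 1
    · exact hθ1 (by subst hl; rw [e, rightHat_coe_one, (h.pmu.one h.base h.oddM).1])
    · exact hne l hl (e ▸ hθB)
  refine ⟨F \ linFin M, hYmem, hoth, ?_⟩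
  have h1 := sum_deg_sq_div (derIn M) B F hF
  rw [← Finset.sum_sdiff hlin, Finset.sum_congr rfl (s₁ := linFin M)
      (g := fun _ => (Nat.card W₁ : ℂ) ^ 2) (fun φ hφ => by
        rw [h.lin_one (mem_linFin.1 hφ), classInner_isIrr_self (h.lin_irr (mem_linFin.1 hφ)).1, div_one]),
    Finset.sum_const, nsmul_eq_mul, h.base.index_derIn,
    Finset.sum_congr rfl (g := fun φ => (Nat.card W₁ : ℂ) ^ 2 * (((degK W₁ φ).re ^ 2 : ℝ) : ℂ))
      (fun φ hφ => by
        obtain ⟨-, e, -, -, -, -, he, he1, -⟩ := h.other_facts (hoth φ hφ)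
        rw [he1, classInner_isIrr_self (hoth φ hφ).1, he, Complex.natCast_re]
        push_cast; ring),
    ← Finset.mul_sum, ← Complex.ofReal_sum] at h1
  have h2 : ((h.famWeight (F \ linFin M) * (Nat.card W₁ : ℝ) : ℝ) : ℂ) =
      (((B.relIndex (derIn M) : ℝ) - 1 : ℝ) : ℂ) := by
    refine mul_left_cancel₀ h.q_ne ?_
    rw [famWeight, linNum]
    push_cast at h1 ⊢
    linear_combination h1
  exact_mod_cast h2

omit h in
/-- A minimal normal section above `B` inside `M''` is central in `M'`. -/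
theorem exists_central_step (hnil : Group.IsNilpotent ↥(derIn M)) {B : Subgroup ↥M} [B.Normal]
    (hlt : B < derDer M) :
    ∃ B' : Subgroup ↥M, B'.Normal ∧ B < B' ∧ B' ≤ derDer M ∧
      ∀ x ∈ B', ∀ y ∈ derIn M, x * y * x⁻¹ * y⁻¹ ∈ B := by
  classical
  set S : Set (Subgroup ↥M) := {B' | B'.Normal ∧ B < B' ∧ B' ≤ derDer M}
  obtain ⟨B', hB'⟩ := S.toFinite.exists_minimal ⟨derDer M, inferInstance, hlt, le_rfl⟩
  obtain ⟨hn, hBB', hB'D⟩ := hB'.prop
  refine ⟨B', hn, hBB', hB'D, fun x hx y hy => ?_⟩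
  have hB'K := hB'D.trans (derDer_le M)
  suffices hle : ⁅B', derIn M⁆ ≤ B from hle (Subgroup.commutator_mem_commutator hx hy)
  by_contra hle
  haveI := hnil
  haveI : ((⊥ : Subgroup ↥M).subgroupOf (derIn M)).Normal :=
    Subgroup.Normal.subgroupOf inferInstance _
  have hne := commutator_sup_ne (H := derIn M) (M := (⊥ : Subgroup ↥M)) inferInstance bot_le hBB' hB'K
  have h1 : ⁅B', derIn M⁆ ⊔ B ≤ B' := sup_le (Subgroup.commutator_le_left B' (derIn M)) hBB'.le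
  have h2 : B < ⁅B', derIn M⁆ ⊔ B :=
    lt_of_le_of_ne le_sup_right fun e => hle (le_sup_left.trans e.ge)
  exact hne (le_antisymm h1 (hB'.le_of_le ⟨inferInstance, h2, h1.trans hB'D⟩ h1))

/-- `a = 0` when `[M' : M''] ≥ (2q + 1)²` and `p < q`. -/
theorem aZero_of_large (hP : Cfsg.IsTypePWith M W₁ ⊥ W₂) (hlt : Nat.card W₂ < Nat.card W₁)
    (hN : (2 * Nat.card W₁ + 1) * (2 * Nat.card W₁ + 1) ≤ (derDer M).relIndex (derIn M)) :
    AZero M W₁ W₂ μ f s n ζ₀ := by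
  classical
  haveI hnil := TypeV.nilpotent hP
  have hp := h.prime₂
  set K := derIn M with hK
  set Wb := W₂.subgroupOf M with hWb
  have hWle : Wb ≤ derDer M := TypeV.W₂_le hP
  have hWcard : Nat.card Wb = Nat.card W₂ := TypeV.card_W₂In hP
  have hWne : Wb ≠ ⊥ := fun e => by
    rw [e, Subgroup.card_bot] at hWcard
    exact hp.ne_one hWcard.symm
  -- `X` maximal avoiding `W₂`
  set S : Set (Subgroup ↥M) := {X | X.Normal ∧ X ≤ derDer M ∧ X ⊓ Wb = ⊥}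
  obtain ⟨X, hX⟩ := S.toFinite.exists_maximal ⟨⊥, inferInstance, bot_le, bot_inf_eq _⟩
  obtain ⟨hXn, hXD, hXW⟩ := hX.prop
  have hXlt : X < derDer M := lt_of_le_of_ne hXD fun e => hWne (by
    rw [← hXW, e, inf_eq_right.2 hWle])
  obtain ⟨A', hA'n, hXA', hA'D, hcen⟩ := exists_central_step hnil hXlt
  have hWA' : Wb ≤ A' := by
    have h1 : A' ⊓ Wb ≠ ⊥ := fun e => hXA'.not_ge (hX.le_of_ge ⟨hA'n, hA'D, e⟩ hXA'.le)
    have h2 : Nat.card ↥(A' ⊓ Wb) = Nat.card W₂ := by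
      rcases (Nat.dvd_prime hp).1 (hWcard ▸ Subgroup.card_dvd_of_le (inf_le_right : A' ⊓ Wb ≤ Wb)) with
        e | e
      · exact absurd (Subgroup.eq_bot_of_card_eq _ e) h1
      · exact e
    exact (Subgroup.eq_of_le_of_card_ge inf_le_right (by rw [h2, hWcard])).ge.trans inf_le_left
  set A := X ⊔ Wb with hAdef
  have hAA' : A ≤ A' := sup_le hXA'.le hWA'
  have hAD : A ≤ derDer M := sup_le hXD hWle
  have hAK : A ≤ K := hAD.trans (derDer_le M)
  have hXA : X ≤ A := le_sup_left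
  haveI hAn : A.Normal := ⟨fun x hx g => by
    obtain ⟨y, hy, w, hw, rfl⟩ := Subgroup.mem_sup_of_normal_left.1 hx
    rw [show g * (y * w) * g⁻¹ = (g * y * g⁻¹) * (g * w * g⁻¹) by group]
    refine mul_mem (Subgroup.mem_sup_left (hXn.conj_mem y hy g)) ?_
    obtain ⟨a, ha, b, hb, hab⟩ := h.base.cover g g.2
    have hbM : b ∈ M := h.base.le₁ hb
    have ha' : a ∈ M := h.base.derived_le ha
    have e1 : g = ⟨a, ha'⟩ * ⟨b, hbM⟩ := Subtype.ext hab
    have e2 : (⟨b, hbM⟩ : ↥M) * w * (⟨b, hbM⟩ : ↥M)⁻¹ = w := by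
      refine Subtype.ext ?_
      show b * (w : G) * b⁻¹ = w
      rw [h.base.snc.2.2.2.1 b hb w (Subgroup.mem_subgroupOf.1 hw), mul_inv_cancel_right]
    rw [e1, mul_inv_rev, show (⟨a, ha'⟩ : ↥M) * ⟨b, hbM⟩ * w * ((⟨b, hbM⟩ : ↥M)⁻¹ * (⟨a, ha'⟩ : ↥M)⁻¹) =
      (w * (⟨a, ha'⟩ : ↥M) * w⁻¹ * (⟨a, ha'⟩ : ↥M)⁻¹)⁻¹ *
        w by
      conv_rhs => rw [← e2]
      group]
    exact mul_mem (inv_mem (Subgroup.mem_sup_left (hcen w (hWA' hw) _ (mem_derIn.2 ha))))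
      (Subgroup.mem_sup_right hw)⟩
  have hidx : X.relIndex A = Nat.card W₂ := by
    rw [hAdef, relIndex_sup_of_normalizes Subgroup.le_normalizer_of_normal, ← Subgroup.inf_relIndex_right,
      hXW, Subgroup.relIndex_bot_left, hWcard]
  have hmod : Nat.card W₁ ∣ A.relIndex K - 1 :=
    TypeV.section_mod hP A K hAK le_rfl (inf_le_left.trans le_sup_right)
  have hnp : ¬ Nat.card W₁ ∣ Nat.card W₂ - 1 := fun hd => by
    have := Nat.le_of_dvd (by have := hp.two_le; omega) hd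
    omega
  obtain ⟨l₀, hl₀, hX0, hA0⟩ := h.exists_mu_between hXA hAK hidx hmod hnp
  have hμA : ∀ l : rightHat W₁ W₂, l ≠ 1 → ¬ TrivOn M A (fun x : derIn M => μ l.1 x) :=
    fun l hl ht => hA0 (h.mu_trivOn_transfer hl hl₀ ht)
  set q := Nat.card W₁ with hqdef
  have hbig : ∀ B : Subgroup ↥M, B ≤ derDer M → (2 * q + 1) * (2 * q + 1) ≤ B.relIndex K := fun B hB =>
    hN.trans (Nat.le_of_dvd (Nat.pos_of_ne_zero Subgroup.index_ne_zero_of_finite)
      (Subgroup.relIndex_dvd_of_le_left K hB))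
  have hqR : (3 : ℝ) ≤ q := by exact_mod_cast h.three_le_q
  -- the coefficients vanish on characters trivial on `A`
  have hdev : ∀ φ ∈ inducedIrrAbove K A, φ ∉ linSet M → devC W₁ f ζ₀ φ = 0 := by
    by_contra hno
    set bad : Set (Subgroup ↥M) := {B | B.Normal ∧ A ≤ B ∧ B ≤ derDer M ∧
      ¬ ∀ φ ∈ inducedIrrAbove K B, φ ∉ linSet M → devC W₁ f ζ₀ φ = 0}
    obtain ⟨B, hB⟩ := bad.toFinite.exists_maximal ⟨A, hAn, le_rfl, hAD, hno⟩
    obtain ⟨hBn, hAB, hBD, hBbad⟩ := hB.prop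
    have hBlt : B < derDer M := lt_of_le_of_ne hBD fun e => hBbad fun φ hφ hl => by
      subst e; exact absurd hφ hl
    obtain ⟨B', hB'n, hBB', hB'D, hcB⟩ := exists_central_step hnil hBlt
    have hgood : ∀ φ ∈ inducedIrrAbove K B', φ ∉ linSet M → devC W₁ f ζ₀ φ = 0 := by
      by_contra hc
      exact hBB'.not_ge (hB.le_of_ge ⟨hB'n, hAB.trans hBB'.le, hB'D, hc⟩ hBB'.le)
    haveI := hB'n
    obtain ⟨Y, hY1, hY2, hY3⟩ := h.famWeight_above hB'D fun l hl ht =>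
      hμA l hl (trivOn_mono (hAB.trans hBB'.le) ht)
    refine hBbad fun φ hφ hl => ?_
    obtain ⟨θ, hθ, hθ1, hθB, rfl⟩ := hφ
    have hoth : indFun K θ ∈ otherSet M := h.ind_mem_other hθ hθ1 (fun l' e => by
      by_cases hl' : l' = 1
      · exact hθ1 (by subst hl'; rw [e, rightHat_coe_one, (h.pmu.one h.base h.oddM).1])
      · exact hμA l' hl' (trivOn_mono hAB (e ▸ hθB))) fun ht => hl ⟨θ, hθ, hθ1, ht, rfl⟩
    obtain ⟨e, -, he⟩ := exists_degree_pos hθ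
    have hdeg := h.deg_sq_le hBB'.le (hB'D.trans (derDer_le M)) hcB hθ hθ1 hθB he
    refine h.dev_zero_of_weight (fun ψ hψ => ⟨hY2 ψ hψ, hgood ψ ((hY1 ψ).1 hψ).1 ((hY1 ψ).1 hψ).2⟩)
      hoth (by rw [h.degK_ind, he]) ?_
    have hm : ((2 * q + 1) * (2 * q + 1) : ℝ) ≤ (B'.relIndex K : ℝ) := by exact_mod_cast hbig B' hB'D
    have he2 : (e : ℝ) ^ 2 ≤ (B'.relIndex K : ℝ) := by exact_mod_cast hdeg
    refine lt_of_mul_lt_mul_right ?_ (show (0 : ℝ) ≤ q by linarith)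
    rw [hY3]
    rcases le_or_gt (e : ℝ) (2 * q + 1) with hle | hgt
    · nlinarith [mul_le_mul_of_nonneg_right hle (show (0 : ℝ) ≤ q by linarith)]
    · nlinarith [mul_le_mul_of_nonneg_left hgt.le (show (0 : ℝ) ≤ e by positivity)]
  obtain ⟨Y, hY1, hY2, hY3⟩ := h.famWeight_above hAD hμA
  refine h.aZero_of_weight (fun ψ hψ => ⟨hY2 ψ hψ, hdev ψ ((hY1 ψ).1 hψ).1 ((hY1 ψ).1 hψ).2⟩) ?_
  obtain ⟨d, hd, hd2, -⟩ := h.mu_degree hl₀
  have hd2' : (d : ℝ) = (s : ℝ) + (n : ℝ) * (q : ℝ) := by exact_mod_cast hd2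
  have hdsq : (d : ℝ) ^ 2 ≤ (A.relIndex K : ℝ) := by
    exact_mod_cast h.deg_sq_le hXA hAK (fun x hx y hy => hcen x (hAA' hx) y hy)
      (h.pmu.res_irr h.base h.oddM l₀) (fun e => hl₀ (h.mu_res_one e)) hX0 (e := d) hd
  have hm : ((2 * q + 1) * (2 * q + 1) : ℝ) ≤ (A.relIndex K : ℝ) := by exact_mod_cast hbig A hAD
  have hs : (-1 : ℝ) ≤ (s : ℝ) := by rcases h.sign with e | e <;> rw [e] <;> norm_num
  refine lt_of_mul_lt_mul_right ?_ (show (0 : ℝ) ≤ q by linarith)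
  rw [hY3]
  rcases le_or_gt (d : ℝ) (2 * q + 1) with hle | hgt
  · nlinarith
  · nlinarith [mul_le_mul_of_nonneg_left hgt.le (show (0 : ℝ) ≤ d by positivity)]

/-- The case `q < p`, `[M' : M''] = p²`, `q ∤ p - 1`. -/
theorem aZero_of_lt (hP : Cfsg.IsTypePWith M W₁ ⊥ W₂) (hgood : GoodExt M W₁ W₂ χ f ζ₀)
    (hlt : Nat.card W₁ < Nat.card W₂) (hN : (derDer M).relIndex (derIn M) = Nat.card W₂ ^ 2)
    (hnp : ¬ Nat.card W₁ ∣ Nat.card W₂ - 1) :
    AZero M W₁ W₂ μ f s n ζ₀ ∧ (Nat.card W₂ : ℤ) ≤ n * Nat.card W₁ + 1 := by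
  classical
  have hp := h.prime₂
  haveI := Fact.mk hp
  haveI hnil := TypeV.nilpotent hP
  obtain ⟨X, hXn, hXD, hXc, hXK⟩ := TypeV.exists_class_two hP hp hN
  set p := Nat.card W₂ with hpdef
  set q := Nat.card W₁ with hqdef
  have hidx : X.relIndex (derDer M) = p := by
    have h1 := Subgroup.relIndex_mul_relIndex X (derDer M) (derIn M) hXD (derDer_le M)
    rw [hXK] at h1
    exact Nat.eq_of_mul_eq_mul_right (Nat.pos_of_ne_zero Subgroup.index_ne_zero_of_finite) h1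
  obtain ⟨l, hl, hX0, -⟩ := h.exists_mu_between hXD (derDer_le M) hidx (TypeV.derDer_mod hP) hnp
  obtain ⟨d, hd, hd2, hd5⟩ := h.mu_degree hl
  have hdsq : d ^ 2 ≤ p ^ 2 := hN ▸ h.deg_sq_le hXD (derDer_le M)
    (fun x hx y hy => hXc (Subgroup.commutator_mem_commutator hx hy))
    (h.pmu.res_irr h.base h.oddM l) (fun e => hl (h.mu_res_one e)) hX0 (e := d) hd
  obtain ⟨m, hm⟩ := card_eq_pow_of_commutator_index (P := ↥(derIn M)) (p := p) (d := 2)
    (by rw [← TypeV.derDer_index hP]; exact hN)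
  have hdvd : d ∣ p ^ m :=
    hm ▸ degree_dvd_card (h.pmu.res_irr h.base h.oddM l) (φ := fun x : derIn M => μ l.1 x) hd
  have hle : d ≤ p := (Nat.pow_le_pow_iff_left two_ne_zero).1 hdsq
  obtain ⟨i, -, hi⟩ := (Nat.dvd_prime_pow hp).1 hdvd
  have hdp : d = p := by
    rcases Nat.eq_zero_or_pos i with rfl | hpos
    · rw [pow_zero] at hi; omega
    · refine le_antisymm hle ?_
      rw [hi]
      exact Nat.le_self_pow hpos.ne' p
  have hs : s = 1 ∨ s = -1 := h.sign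
  have hnq : n * (q : ℤ) ≤ (p : ℤ) + 1 := by
    rw [← hdp]; rcases hs with e | e <;> subst e <;> linarith
  refine ⟨h.aZero_of_good hgood ?_, by rw [← hdp]; rcases hs with e | e <;> subst e <;> linarith⟩
  have hr := h.linNum_mul
  rw [hN] at hr
  push_cast at hr
  have hp3 : (3 : ℤ) ≤ p := by exact_mod_cast h.three_le_p
  have hq3 : (3 : ℤ) ≤ q := by exact_mod_cast h.three_le_q
  refine le_of_mul_le_mul_right ?_ (show (0 : ℤ) < q by linarith)
  rw [hr]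
  nlinarith

end BadCtx

end CfsgLib.OddOrder
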