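import Cfsg.Agent.OddOrder.PF10.TypeVCentral
import Cfsg.Agent.Solvable.Nilpotent

/-!
# Type V with `p < q` and `M'` a `p`-group: an extension with `a = 0`

Some non-trivial subgroup `Z ≤ M''` is central in `M'` and `f ζ₀` is constant on `Z #`. Either
`Z = W₂`, where constancy comes from the Galois action, or `Z` avoids `W₂`; then all `μ_l` are
trivial on `Z` and the inequality on `M' #` makes `dev θ` proportional to `θ(1)` over the characters
non-trivial on `Z`. The congruence leaves `Σ θ(1) dev θ = 0`, whence `a = 0`.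
-/

set_option autoImplicit false
set_option linter.style.haveILetI false
set_option linter.unusedSectionVars false

open scoped commutatorElement

namespace CfsgLib.OddOrder

open Cfsg CfsgLib.Characters CfsgLib.Coherence CfsgLib.OddOrderChar
open scoped ComplexConjugate

universe u

variable {G : Type u} [Group G] [Fintype G] {M W₁ W₂ : Subgroup G} [Fintype M]

noncomputable local instance fintypeSubTypeVSmall (H : Subgroup ↥M) : Fintype H := Fintype.ofFinite H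

/-- The numerical step of the proportionality: `u² S + q (u b + δ)² < q / 2` forces `δ = 0`. -/
theorem prop_step_real {u b δ S q A : ℝ} (hq : 0 < q) (hS : q * b ^ 2 ≤ S)
    (hle : u ^ 2 * S + q * (u * b + δ) ^ 2 ≤ A) (hA : 2 * A < q) : δ ^ 2 < 1 := by
  have h1 : u ^ 2 * (q * b ^ 2) ≤ u ^ 2 * S := mul_le_mul_of_nonneg_left hS (sq_nonneg u)
  have h2 : q * δ ^ 2 ≤ 2 * A := by
    nlinarith [mul_nonneg hq.le (sq_nonneg (2 * u * b + δ))]
  by_contra hc
  push Not at hc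
  nlinarith [mul_le_mul_of_nonneg_left hc hq.le]

/-- The strict bound on the variance. -/
theorem strict_real {A x t r q : ℝ} (hq : 0 < q) (_hA : 0 ≤ A) (hr : 2 ≤ r)
    (hnn : 0 ≤ 2 * t - r * t ^ 2) (h : A + (x - t) ^ 2 ≤ q * (2 * t - r * t ^ 2))
    (hne : ¬ (x = t ∧ r * t = 1)) : 2 * A < q := by
  have h1 : 2 * (q * (2 * t - r * t ^ 2)) ≤ q * (1 - (r * t - 1) ^ 2) := by
    nlinarith [mul_nonneg (mul_nonneg hq.le hnn) (by linarith : (0 : ℝ) ≤ r - 2)]
  by_contra hc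
  push Not at hc
  have h2 : (x - t) ^ 2 ≤ 0 := by nlinarith [mul_nonneg hq.le (sq_nonneg (r * t - 1))]
  have h3 : q * (r * t - 1) ^ 2 ≤ 0 := by nlinarith [sq_nonneg (x - t)]
  refine hne ⟨?_, ?_⟩
  · nlinarith [sq_nonneg (x - t)]
  · have h4 : (r * t - 1) ^ 2 ≤ 0 := nonpos_of_mul_nonpos_right h3 hq
    nlinarith [sq_nonneg (r * t - 1)]

namespace BadCtx

variable {χ : (↥(W₁ ⊔ W₂) →* ℂˣ) → (G → ℂ)} {μ : (↥(W₁ ⊔ W₂) →* ℂˣ) → (↥M → ℂ)}
  {δ : (↥(W₁ ⊔ W₂) →* ℂˣ) → ℤ} {f : (↥M → ℂ) → (G → ℂ)} {s n : ℤ} {ζ₀ : ↥M → ℂ}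
  (h : BadCtx M W₁ W₂ χ μ δ f s n ζ₀)
include h

/-- `f ζ₀` takes the same value at all non-identity elements of `W₂`. -/
theorem const_W₂ (hP : Cfsg.IsTypePWith M W₁ ⊥ W₂) :
    ∀ z ∈ W₂.subgroupOf M, ∀ z' ∈ W₂.subgroupOf M, z ≠ 1 → z' ≠ 1 →
      f ζ₀ (z : G) = f ζ₀ (z' : G) := by
  classical
  intro z hz z' hz' hz1 hz1'
  set p := Nat.card W₂ with hpdef
  haveI : Fact p.Prime := ⟨h.prime₂⟩
  have hWD : W₂.subgroupOf M ≤ derDer M := TypeV.W₂_le hP
  have hzD : ∀ y ∈ W₂.subgroupOf M, y ∈ derDer M := fun y hy => hWD hy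
  obtain ⟨k, hk⟩ : ∃ k : ℕ, (⟨(z : G), Subgroup.mem_subgroupOf.1 hz⟩ : W₂) ^ k =
      ⟨(z' : G), Subgroup.mem_subgroupOf.1 hz'⟩ :=
    mem_powers_iff_mem_zpowers.2 (mem_zpowers_of_prime_card rfl fun e =>
      hz1 (Subtype.ext (congrArg (Subtype.val : W₂ → G) e)))
  have hkG : (z : G) ^ k = (z' : G) := congrArg (Subtype.val : W₂ → G) hk
  have hcop : Nat.Coprime k p := by
    refine ((h.prime₂.coprime_iff_not_dvd).2 fun hd => hz1' (Subtype.ext ?_)).symm
    obtain ⟨t, ht⟩ := hd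
    have := congrArg (Subtype.val : W₂ → G)
      (pow_card_eq_one' (x := (⟨(z : G), Subgroup.mem_subgroupOf.1 hz⟩ : W₂)))
    rw [← hkG, ht, pow_mul]
    simp only [← hpdef, SubmonoidClass.coe_pow, OneMemClass.coe_one] at this
    rw [this, one_pow]
    rfl
  haveI : NeZero p := ⟨h.prime₂.ne_zero⟩
  obtain ⟨σ, hσ⟩ := GaloisConj.exists_ringEquiv_pow p k hcop
  obtain ⟨ε, hε, ψ, hψ, hψu⟩ : ∃ ε : ℤ, (ε = 1 ∨ ε = -1) ∧ ∃ ψ, IsIrrCharacter G ψ ∧
      f ζ₀ = (ε : ℂ) • ψ := by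
    rcases h.ext.signed _ h.mem with e | e
    · exact ⟨1, Or.inl rfl, _, e, by simp⟩
    · exact ⟨-1, Or.inr rfl, _, e, by simp⟩
  have hgal : σ (f ζ₀ (z : G)) = f ζ₀ (z' : G) := by
    have h1 := GaloisConj.map_character_eq_pow (G := W₂) (σ := σ) (k := k) (fun w hw => hσ w hw)
      (isCharacter_comp W₂.subtype (isCharacter_of_isIrr hψ))
      ⟨(z : G), Subgroup.mem_subgroupOf.1 hz⟩
    rw [hk] at h1
    simp only [Subgroup.coe_subtype] at h1
    rw [hψu, Pi.smul_apply, Pi.smul_apply, smul_eq_mul, smul_eq_mul, map_mul, map_intCast]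
    exact congrArg _ h1
  -- `σ` permutes `linSet M` and commutes with `τ`
  have hperm : ∀ ζ ∈ linSet M, (fun x => σ (ζ x)) ∈ linSet M := by
    intro ζ hζ
    obtain ⟨φ, hφ, hφ1, hφne, hφD, rfl, -⟩ := h.lin_facts hζ
    have e : (fun x => σ (indFun (derIn M) φ x)) = indFun (derIn M) (fun y => σ (φ y)) := by
      funext g
      simp only [Cfsg.indFun, map_mul, map_inv₀, map_natCast, map_sum]
      congr 1
      refine Finset.sum_congr rfl fun x _ => ?_
      by_cases hx : x⁻¹ * g * x ∈ derIn M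
      · rw [CfsgLib.Characters.extendByZero_of_mem _ _ hx, CfsgLib.Characters.extendByZero_of_mem _ _ hx]
      · rw [CfsgLib.Characters.extendByZero_of_not_mem _ _ hx, CfsgLib.Characters.extendByZero_of_not_mem _ _ hx, map_zero]
    rw [e]
    refine (ind_mem_iff (derIn M) (GaloisConj.isIrrCharacter_comp σ hφ)).2
      ⟨fun e => hφne ?_, fun a ha => congrArg σ (hφD a ha)⟩
    funext y
    exact σ.injective (by rw [map_one]; exact congrFun e y)
  have htau : ∀ α : ↥M → ℂ, tauM M (fun x => σ (α x)) = fun g => σ (tauM M α g) := by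
    intro α
    funext g
    by_cases hg : ∃ a : ↥M, (a : G) ∈ supportA0 M ∧
        ∃ x : G, ∃ u ∈ supportR M (a : G), x * g * x⁻¹ = (a : G) * u
    · simp only [tauM, dadeIsometry, dif_pos hg]
    · simp only [tauM, dadeIsometry, dif_neg hg, map_zero]
  obtain ⟨hcm, hcne⟩ := h.lin_conj h.mem
  set ζa : ↥M → ℂ := fun x => σ (ζ₀ x) with hζa
  set ζb : ↥M → ℂ := fun x => σ (conjFun ζ₀ x) with hζb
  have ha : ζa ∈ linSet M := hperm _ h.mem
  have hb : ζb ∈ linSet M := hperm _ hcm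
  set u : G → ℂ := fun g => σ (f ζ₀ g) with hu
  set u' : G → ℂ := fun g => σ (f (conjFun ζ₀) g) with hu'
  have hsig : ∀ {v : G → ℂ}, IsSignedIrr v → IsSignedIrr (fun g => σ (v g)) := by
    intro v hv
    rcases hv with e | e
    · exact Or.inl (GaloisConj.isIrrCharacter_comp σ e)
    · refine Or.inr ?_
      have := GaloisConj.isIrrCharacter_comp σ e
      simp only [Pi.neg_apply, map_neg] at this
      exact this
  have hus : IsSignedIrr u := hsig (h.ext.signed _ h.mem)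
  have hus' : IsSignedIrr u' := hsig (h.ext.signed _ hcm)
  have horth : classInner u' u = 0 := by
    by_contra hne
    obtain ⟨e, he, hee⟩ := classInner_signed hus' hus hne
    have h1 : f ζ₀ = (e : ℂ) • f (conjFun ζ₀) := by
      funext g
      refine σ.injective ?_
      rw [Pi.smul_apply, smul_eq_mul, map_mul, map_intCast]
      exact congrFun hee g
    have h2 := h.ext.inner _ h.mem _ hcm (Ne.symm hcne)
    rw [h1, ci_smul_left, signed_self (h.ext.signed _ hcm), mul_one] at h2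
    rcases he with rfl | rfl <;> norm_num at h2
  have hdiff : f ζa - f ζb = u - u' := by
    rw [← h.ext.diff _ ha _ hb]
    have e : ζa - ζb = fun x => σ ((ζ₀ - conjFun ζ₀) x) := by
      funext x; simp only [hζa, hζb, Pi.sub_apply, map_sub]
    rw [e, htau, h.ext.diff _ h.mem _ hcm]
    funext g
    simp only [hu, hu', Pi.sub_apply, map_sub]
  have hkey : classInner (f ζa) u - classInner (f ζb) u = 1 := by
    rw [← ci_sub_left, hdiff, ci_sub_left, signed_self hus, horth, sub_zero]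
  obtain ⟨ζ, hζ, e, he, hue⟩ : ∃ ζ ∈ linSet M, ∃ e : ℤ, (e = 1 ∨ e = -1) ∧ u = (e : ℂ) • f ζ := by
    by_cases h0 : classInner (f ζa) u = 0
    · refine ⟨ζb, hb, classInner_signed (h.ext.signed _ hb) hus fun e0 => ?_⟩
      rw [h0, e0, sub_zero] at hkey
      exact zero_ne_one hkey
    · exact ⟨ζa, ha, classInner_signed (h.ext.signed _ ha) hus h0⟩
  have hd1 : f ζ 1 = f ζ₀ 1 := by
    have h1 := congrFun (h.ext.diff _ hζ _ h.mem) 1
    rw [tauM, dade_apply_one h.dade, Pi.sub_apply] at h1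
    exact sub_eq_zero.1 h1.symm
  have hdz : f ζ (z : G) = f ζ₀ (z : G) := by
    have hzA : (z : G) ∈ supportA0 M := by
      refine Or.inl ?_
      rw [h.core, Set.mem_sdiff, SetLike.mem_coe, Set.mem_singleton_iff]
      exact ⟨mem_derIn.1 (derDer_le M (hzD z hz)), fun e => hz1 (Subtype.ext e)⟩
    have hcl : IsClassFunction ↥M (ζ - ζ₀) := fun a b => by
      simp only [Pi.sub_apply, isClassFunction_of_isIrr (h.lin_irr hζ).1 a b,
        isClassFunction_of_isIrr (h.lin_irr h.mem).1 a b]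
    have h1 := congrFun (h.ext.diff _ hζ _ h.mem) (z : G)
    rw [tauM, dade_apply_mem h.dade hcl z hzA, Pi.sub_apply] at h1
    have h2 : ∀ x ∈ linSet M, x z = (Nat.card W₁ : ℂ) := fun x hx => by
      obtain ⟨φ, hφ, hφ1, -, hφD, rfl, -⟩ := h.lin_facts hx
      rw [← h.lin_one hx]
      have hzK : z ∈ derIn M := derDer_le M (hzD z hz)
      rw [show indFun (derIn M) φ z = _ from indFun_normal_apply (derIn M) φ ⟨z, hzK⟩,
        show indFun (derIn M) φ 1 = _ from indFun_normal_apply (derIn M) φ 1]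
      congr 1
      refine Finset.sum_congr rfl fun g _ => ?_
      exact trivialOn_conjBy (derIn M) hφD g ⟨z, hzK⟩ (hzD z hz)
    rw [Pi.sub_apply, h2 _ hζ, h2 _ h.mem, sub_self] at h1
    exact sub_eq_zero.1 h1.symm
  have he1 : (e : ℂ) = 1 := by
    have h1 := congrFun hue 1
    rw [Pi.smul_apply, smul_eq_mul, hd1, hu] at h1
    obtain ⟨d, hd0, hd⟩ := exists_degree_pos hψ
    simp only [hψu, Pi.smul_apply, smul_eq_mul, map_mul, map_intCast, hd, map_natCast] at h1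
    have hne : (ε : ℂ) * (d : ℂ) ≠ 0 := mul_ne_zero (by rcases hε with rfl | rfl <;> norm_num)
      (Nat.cast_ne_zero.2 hd0.ne')
    exact mul_right_cancel₀ hne (by rw [one_mul]; exact h1.symm)
  have h1 := congrFun hue (z : G)
  rw [Pi.smul_apply, smul_eq_mul, hdz, he1, one_mul, hu] at h1
  exact h1.symm.trans hgal

omit h in
/-- The principal character of `M'`. -/
noncomputable def prinK (M : Subgroup G) : IrrCharacter ↥(derIn M) := ⟨fun _ => 1, isIrr_one⟩

variable {Z : Subgroup ↥M}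

/-- For `Z` avoiding the `μ_l` the characters non-trivial on `Z` induce irreducibly. -/
theorem nontriv_other (hZ : Z ≤ derDer M)
    (hmu : ∀ l : rightHat W₁ W₂, l ≠ 1 → TrivOn M Z (fun x : derIn M => μ l.1 x))
    {θ : IrrCharacter ↥(derIn M)} (hθ : θ ∈ nontrivSet Z) :
    indFun (derIn M) θ.1 ∈ otherSet M := by
  obtain ⟨h1, h2, -⟩ := h.nontriv_facts hZ hθ
  refine h.ind_mem_other θ.2 h1 (fun l e => ?_) h2
  by_cases hl : l = 1
  · exact h1 (by subst hl; rw [e, rightHat_coe_one, (h.pmu.one h.base h.oddM).1])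
  · exact mem_nontrivSet.1 hθ (e ▸ hmu l hl)

omit h in
theorem nontriv_fiber [Z.Normal] {θ η : IrrCharacter ↥(derIn M)} (hθ : θ ∈ nontrivSet Z)
    (he : indFun (derIn M) η.1 = indFun (derIn M) θ.1) : η ∈ nontrivSet Z := by
  rw [mem_nontrivSet] at hθ ⊢
  obtain ⟨g, hg⟩ := (mem_conjOrbit (derIn M)).1 (conjOrbit_eq_of_ind_eq (derIn M) η.2 θ.2 he.symm)
  exact fun ht => hθ (hg ▸ trivialOn_conjBy (derIn M) ht g)

/-- A sum over a union of fibres of `Ind`. -/
theorem fiber_sum {A : Type*} [AddCommMonoid A] (Θ : Finset (IrrCharacter ↥(derIn M)))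
    (hI : ∀ θ ∈ Θ, IsIrrCharacter ↥M (indFun (derIn M) θ.1))
    (hcl : ∀ θ ∈ Θ, ∀ η : IrrCharacter ↥(derIn M),
      indFun (derIn M) η.1 = indFun (derIn M) θ.1 → η ∈ Θ)
    [DecidableEq (↥M → ℂ)] (g : (↥M → ℂ) → A) :
    ∑ θ ∈ Θ, g (indFun (derIn M) θ.1) =
      Nat.card W₁ • ∑ φ ∈ Θ.image (fun θ => indFun (derIn M) θ.1), g φ := by
  rw [← Finset.sum_nsmul, ← Finset.sum_fiberwise_of_maps_to
    (fun θ hθ => Finset.mem_image_of_mem (fun θ : IrrCharacter ↥(derIn M) => indFun (derIn M) θ.1) hθ)]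
  refine Finset.sum_congr rfl fun φ hφ => ?_
  obtain ⟨θ, hθ, rfl⟩ := Finset.mem_image.1 hφ
  have e : (Θ.filter fun η => indFun (derIn M) η.1 = indFun (derIn M) θ.1) =
      (Finset.univ : Finset (IrrCharacter ↥(derIn M))).filter
        fun η => indFun (derIn M) η.1 = indFun (derIn M) θ.1 := by
    ext η
    simp only [Finset.mem_filter, Finset.mem_univ, true_and, and_iff_right_iff_imp]
    exact hcl θ hθ η
  rw [e, Finset.sum_congr rfl (g := fun _ => g (indFun (derIn M) θ.1))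
    (fun η hη => by rw [(Finset.mem_filter.1 hη).2]), Finset.sum_const, h.fiber_card θ.2 (hI θ hθ)]

/-- The strict bound on `Σ (dev θ - t θ(1))²`. -/
theorem tight (hR : ∀ x ∈ supportA0 M, supportR M x = ⊥) (hZ : Z ≤ derDer M) :
    2 * ∑ θ ∈ nontrivSet Z, (devR W₁ f ζ₀ θ.1 - tPar f ζ₀ * (θ.1 1).re) ^ 2 < Nat.card W₁ := by
  classical
  have hP1 : prinK M ∉ nontrivSet Z := fun hm => (h.nontriv_facts hZ hm).1 rfl
  have hb := h.budget hR (insert (prinK M) (nontrivSet Z)) fun θ hθ => by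
    rcases Finset.mem_insert.1 hθ with rfl | hθ
    · exact fun hl => ((ind_mem_iff (derIn M) (prinK M).2).1 hl).1 rfl
    · exact (h.nontriv_facts hZ hθ).2.2
  rw [Finset.sum_insert hP1] at hb
  obtain ⟨x, -, hx⟩ := h.devR_spec hR (prinK M)
  obtain ⟨-, -, hnn, -⟩ := h.tPar_range hR
  rw [hx, show ((prinK M).1 1).re = 1 by simp [prinK], mul_one] at hb
  refine strict_real (x := (x : ℝ)) (Nat.cast_pos.2 Nat.card_pos)
    (Finset.sum_nonneg fun θ _ => sq_nonneg _) (by exact_mod_cast h.two_le_linNum) hnn (by linarith)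
    fun ⟨e1, e2⟩ => ?_
  rw [← e1] at e2
  have e3 : (linNum M : ℤ) * x = 1 := by exact_mod_cast e2
  have := h.two_le_linNum
  rcases Int.eq_one_or_neg_one_of_mul_eq_one e3 with e | e <;> omega

variable [Z.Normal] {p m : ℕ}

/-- `dev θ` is proportional to `θ(1)` on the characters non-trivial on `Z`. -/
theorem dev_prop (hR : ∀ x ∈ supportA0 M, supportR M x = ⊥) (hp : p.Prime)
    (hqp : Nat.Coprime (Nat.card W₁) p) (hm : Nat.card ↥(derIn M) = p ^ m)
    (hZ : Z ≤ derDer M) (hZc : ∀ z ∈ Z, ∀ k ∈ derIn M, z * k = k * z)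
    (hmu : ∀ l : rightHat W₁ W₂, l ≠ 1 → TrivOn M Z (fun x : derIn M => μ l.1 x)) :
    ∃ τ : ℝ, ∀ θ ∈ nontrivSet Z, devR W₁ f ζ₀ θ.1 = τ * (θ.1 1).re := by
  classical
  set Θ := nontrivSet Z with hΘ
  by_cases hne : Θ.Nonempty
  swap
  · exact ⟨0, fun θ hθ => absurd ⟨θ, hθ⟩ hne⟩
  choose e he0 he using fun θ : IrrCharacter ↥(derIn M) => exists_degree_pos θ.2
  have here : ∀ θ, (θ.1 1).re = (e θ : ℝ) := fun θ => by rw [he, Complex.natCast_re]
  simp only [here]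
  obtain ⟨a, ha, hmin⟩ := Finset.exists_min_image Θ e hne
  have hoth := fun θ (hθ : θ ∈ Θ) => h.nontriv_other hZ hmu hθ
  have hpow : ∀ θ : IrrCharacter ↥(derIn M), ∃ i, e θ = p ^ i := fun θ => by
    obtain ⟨i, -, hi⟩ := (Nat.dvd_prime_pow hp).1 (hm ▸ degree_dvd_card θ.2 (he θ))
    exact ⟨i, hi⟩
  have hdiv : ∀ θ η, e θ ≤ e η → e θ ∣ e η := fun θ η hle => by
    obtain ⟨i, hi⟩ := hpow θ
    obtain ⟨j, hj⟩ := hpow η
    rw [hi, hj] at hle ⊢
    exact Nat.pow_dvd_pow p ((Nat.pow_le_pow_iff_right hp.one_lt).1 hle)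
  have hsame : ∀ θ η : IrrCharacter ↥(derIn M), indFun (derIn M) η.1 = indFun (derIn M) θ.1 →
      e η = e θ ∧ devR W₁ f ζ₀ η.1 = devR W₁ f ζ₀ θ.1 := fun θ η hh => by
    refine ⟨?_, by rw [devR, devR, hh]⟩
    have := congrArg (fun φ => degK W₁ φ) hh
    simp only [h.degK_ind, he] at this
    exact_mod_cast this
  set τ : ℝ := devR W₁ f ζ₀ a.1 / (e a : ℝ) with hτ
  have hea : (e a : ℝ) ≠ 0 := Nat.cast_ne_zero.2 (he0 a).ne'
  refine ⟨τ, fun θ hθ => ?_⟩
  induction hb : e θ using Nat.strong_induction_on generalizing θ with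
  | _ b ih =>
  by_cases hfib : indFun (derIn M) θ.1 = indFun (derIn M) a.1
  · obtain ⟨h1, h2⟩ := hsame a θ hfib
    rw [h2, ← hb, h1, hτ]
    field_simp
  set Y : Finset (IrrCharacter ↥(derIn M)) := if b = e a then
      Θ.filter fun η => indFun (derIn M) η.1 = indFun (derIn M) a.1
    else Θ.filter fun η => e η < b with hY
  set F : Finset (IrrCharacter ↥(derIn M)) :=
    Θ.filter fun η => indFun (derIn M) η.1 = indFun (derIn M) θ.1 with hF
  have hYΘ : Y ⊆ Θ := by rw [hY]; split_ifs <;> exact Finset.filter_subset _ _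
  have hYdev : ∀ η ∈ Y, devR W₁ f ζ₀ η.1 = τ * e η := by
    intro η hη
    rw [hY] at hη
    split_ifs at hη with hbe
    · obtain ⟨h1, h2⟩ := hsame a η (Finset.mem_filter.1 hη).2
      rw [h2, h1, hτ]
      field_simp
    · exact ih _ (Finset.mem_filter.1 hη).2 η (Finset.mem_filter.1 hη).1 rfl
  have hcard : ∀ φ ∈ Θ, (Θ.filter fun η => indFun (derIn M) η.1 = indFun (derIn M) φ.1).card =
      Nat.card W₁ := fun φ hφ => by
    rw [← h.fiber_card φ.2 (hoth φ hφ).1]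
    congr 1
    ext η
    simp only [Finset.mem_filter, Finset.mem_univ, true_and, and_iff_right_iff_imp]
    exact fun hh => nontriv_fiber hφ hh
  have hdisj : Disjoint Y F := Finset.disjoint_left.2 fun η h1 h2 => by
    have h2' := (Finset.mem_filter.1 h2).2
    rw [hY] at h1
    split_ifs at h1 with hbe
    · exact hfib (h2'.symm.trans (Finset.mem_filter.1 h1).2)
    · exact absurd (Finset.mem_filter.1 h1).2 (by rw [(hsame θ η h2').1, hb]; exact lt_irrefl b)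
  set S : ℕ := ∑ η ∈ Y, e η ^ 2 with hS
  have hSb : Nat.card W₁ * b ^ 2 ≤ S := by
    rw [hS, hY]
    split_ifs with hbe
    · rw [Finset.sum_congr rfl (g := fun _ => b ^ 2) (fun η hη => by
        rw [(hsame a η (Finset.mem_filter.1 hη).2).1, hbe]), Finset.sum_const, hcard a ha,
        smul_eq_mul]
    refine Nat.le_of_dvd ?_ ?_
    · refine Finset.sum_pos (fun η _ => by have := he0 η; positivity) ⟨a, Finset.mem_filter.2 ⟨ha, ?_⟩⟩
      exact lt_of_le_of_ne (hb ▸ hmin θ hθ) fun e' => hbe e'.symm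
    refine Nat.Coprime.mul_dvd_of_dvd_of_dvd ?_ ?_ ?_
    · obtain ⟨i, hi⟩ := hpow θ
      rw [← hb, hi, ← pow_mul]
      exact hqp.pow_right _
    · have h1 := h.fiber_sum (Θ.filter fun η => e η < b)
        (fun η hη => (hoth η (Finset.mem_filter.1 hη).1).1)
        (fun η hη η' hh => Finset.mem_filter.2 ⟨nontriv_fiber (Finset.mem_filter.1 hη).1 hh, by
          rw [(hsame η η' hh).1]; exact (Finset.mem_filter.1 hη).2⟩)
        (fun φ => ⌊(degK W₁ φ).re⌋₊ ^ 2)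
      rw [Finset.sum_congr rfl (g := fun η => e η ^ 2) (fun η _ => by
        rw [h.degK_ind, he, Complex.natCast_re, Nat.floor_natCast]), smul_eq_mul] at h1
      exact ⟨_, h1⟩
    · set D := Z.relIndex (derIn M) with hD
      have hmul : Nat.card ↥(Z.subgroupOf (derIn M)) * D = Nat.card ↥(derIn M) := by
        rw [hD, Subgroup.relIndex, mul_comm, Subgroup.index_mul_card]
      have hbD : b ^ 2 ∣ D := by
        have hle : e θ ^ 2 ≤ D := h.deg_sq_le (B := ⊥) bot_le (hZ.trans (derDer_le M))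
          (fun x hx y hy => by
            rw [Subgroup.mem_bot, hZc x hx y hy]; group)
          θ.2 (h.nontriv_facts hZ hθ).1
          (fun x hx => by rw [show x = 1 from Subtype.ext (Subgroup.mem_bot.1 hx)]) (he θ)
        obtain ⟨i, hi⟩ := hpow θ
        obtain ⟨j, -, hj⟩ := (Nat.dvd_prime_pow hp).1 (hm ▸ hmul ▸ Dvd.intro_left _ rfl : D ∣ p ^ m)
        rw [hi, hj, ← pow_mul] at hle
        rw [← hb, hi, hj, ← pow_mul]
        exact Nat.pow_dvd_pow p ((Nat.pow_le_pow_iff_right hp.one_lt).1 hle)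
      have htot : (∑ η ∈ Θ, e η ^ 2) + D = Nat.card ↥(derIn M) := by
        have h1 := h.nontriv_sq (Z := Z)
        simp only [here, ← hD, ← hΘ] at h1
        have h2 : ((∑ η ∈ Θ, e η ^ 2 : ℕ) : ℝ) + (D : ℝ) = (Nat.card ↥(derIn M) : ℝ) := by
          push_cast; linarith
        exact_mod_cast h2
      have hsplit := Finset.sum_filter_add_sum_filter_not Θ (fun η => e η < b) (fun η => e η ^ 2)
      have hbig : b ^ 2 ∣ ∑ η ∈ Θ.filter (fun η => ¬ e η < b), e η ^ 2 :=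
        Finset.dvd_sum fun η hη => by
          rw [← hb]
          exact pow_dvd_pow_of_dvd (hdiv θ η (hb.symm ▸ not_lt.1 (Finset.mem_filter.1 hη).2)) 2
      refine (Nat.dvd_add_left hbig).1 ?_
      rw [hsplit]
      refine (Nat.dvd_add_left hbD).1 ?_
      rw [htot, ← hmul]
      exact hbD.mul_left _
  -- the inequality
  obtain ⟨x, -, hx⟩ := h.devR_spec hR θ
  have hle := Finset.sum_le_sum_of_subset_of_nonneg (s := Y ∪ F) (t := Θ)
    (Finset.union_subset hYΘ (Finset.filter_subset _ _))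
    (fun η _ _ => sq_nonneg (devR W₁ f ζ₀ η.1 - tPar f ζ₀ * (η.1 1).re))
  rw [Finset.sum_union hdisj] at hle
  have htight := h.tight hR hZ
  rw [← hΘ] at htight
  set t := tPar f ζ₀
  set A := ∑ η ∈ Θ, (devR W₁ f ζ₀ η.1 - t * (η.1 1).re) ^ 2
  have hYsum : ∑ η ∈ Y, (devR W₁ f ζ₀ η.1 - t * (η.1 1).re) ^ 2 = (τ - t) ^ 2 * (S : ℝ) := by
    rw [hS, Nat.cast_sum, Finset.mul_sum]
    exact Finset.sum_congr rfl fun η hη => by rw [hYdev η hη, here]; push_cast; ring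
  have hFsum : ∑ η ∈ F, (devR W₁ f ζ₀ η.1 - t * (η.1 1).re) ^ 2 =
      (Nat.card W₁ : ℝ) * ((τ - t) * b + ((x : ℝ) - τ * b)) ^ 2 := by
    rw [Finset.sum_congr rfl (g := fun _ => ((τ - t) * (b : ℝ) + ((x : ℝ) - τ * b)) ^ 2)
      (fun η hη => by
        obtain ⟨h1, h2⟩ := hsame θ η (Finset.mem_filter.1 hη).2
        rw [here, h1, h2, hb, hx]; ring), Finset.sum_const, hcard θ hθ, nsmul_eq_mul]
  rw [hYsum, hFsum] at hle
  have hδ := prop_step_real (u := τ - t) (b := (b : ℝ)) (δ := (x : ℝ) - τ * b) (S := (S : ℝ))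
    (Nat.cast_pos.2 (Nat.card_pos (α := W₁))) (by exact_mod_cast hSb) hle htight
  obtain ⟨xa, -, hxa⟩ := h.devR_spec hR a
  obtain ⟨c, hc⟩ := hdiv a θ (hmin θ hθ)
  have hτb : τ * (b : ℝ) = ((xa * c : ℤ) : ℝ) := by
    rw [hτ, hxa, ← hb, hc]
    push_cast
    field_simp
  rw [hτb, ← Int.cast_sub] at hδ
  have hz : x - xa * c = 0 := by
    have h1 : (x - xa * c) ^ 2 < 1 := by exact_mod_cast hδ
    have h2 := (sq_lt_one_iff_abs_lt_one (x - xa * c)).1 h1
    exact abs_eq_zero.1 (by have := abs_nonneg (x - xa * c); omega)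
  rw [hx, hτb, sub_eq_zero.1 hz]

/-- Proportional deviations make `f ζ₀` constant on `Z #`. -/
theorem const_of_prop (hR : ∀ x ∈ supportA0 M, supportR M x = ⊥) (hZ : Z ≤ derDer M) {τ : ℝ}
    (hτ : ∀ θ ∈ nontrivSet Z, devR W₁ f ζ₀ θ.1 = τ * (θ.1 1).re) :
    ∀ z ∈ Z, ∀ z' ∈ Z, z ≠ 1 → z' ≠ 1 → f ζ₀ (z : G) = f ζ₀ (z' : G) := by
  classical
  set c : ℝ := τ + ((classInner ζ₀ (fun x : ↥M => f ζ₀ x)).re - 1) with hc
  suffices H : ∀ z ∈ Z, z ≠ 1 → f ζ₀ 1 - f ζ₀ (z : G) = (c : ℂ) * (Nat.card ↥(derIn M) : ℂ) by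
    intro z hz z' hz' h1 h1'
    linear_combination H z' hz' h1' - H z hz h1
  intro z hz hz1
  set y : derIn M := ⟨z, hZ.trans (derDer_le M) hz⟩ with hy
  rw [show (z : G) = ((y : ↥M) : G) from rfl, h.value_sub hR (z := y) (Z := Z) hz]
  have hC : ∀ θ : IrrCharacter ↥(derIn M), θ.1 1 = (((θ.1 1).re : ℝ) : ℂ) := fun θ => by
    obtain ⟨e, -, he⟩ := exists_degree_pos θ.2
    rw [he]; simp
  rw [Finset.sum_congr rfl (g := fun θ => (c : ℂ) * (θ.1 1 ^ 2 - θ.1 1 * θ.1 y)) (fun θ hθ => by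
    rw [hτ θ hθ, hc]
    push_cast
    rw [← hC θ]
    ring), ← Finset.mul_sum, Finset.sum_sub_distrib]
  congr 1
  have hy1 : y ≠ 1 := fun e => hz1 (congrArg (Subtype.val : derIn M → ↥M) e)
  have h1 := sum_degree_mul y
  rw [if_neg hy1, ← Finset.sum_filter_add_sum_filter_not Finset.univ (fun θ => TrivOn M Z θ.1),
    Finset.sum_congr rfl (s₁ := Finset.univ.filter fun θ : IrrCharacter ↥(derIn M) => TrivOn M Z θ.1)
      (g := fun θ => θ.1 1 ^ 2) (fun θ hθ => by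
        rw [(Finset.mem_filter.1 hθ).2 y hz, sq])] at h1
  have h2 := sum_degree_sq (G := ↥(derIn M))
  rw [← Finset.sum_filter_add_sum_filter_not Finset.univ (fun θ => TrivOn M Z θ.1)] at h2
  simp only [nontrivSet]
  linear_combination h2 - h1

/-- With `Z` avoiding `W₂` the deviations that sum to zero vanish, and the family is large. -/
theorem aZero_of_avoid (hR : ∀ x ∈ supportA0 M, supportR M x = ⊥) (hZ : Z ≤ derDer M)
    (hZc : ∀ z ∈ Z, ∀ k ∈ derIn M, z * k = k * z) (hZne : Z ≠ ⊥)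
    (hdvd : Nat.card W₁ ∣ (⊥ : Subgroup ↥M).relIndex Z - 1)
    (hmu : ∀ l : rightHat W₁ W₂, l ≠ 1 → TrivOn M Z (fun x : derIn M => μ l.1 x))
    (hsum : ∑ θ ∈ nontrivSet Z, devR W₁ f ζ₀ θ.1 * (θ.1 1).re = 0) :
    AZero M W₁ W₂ μ f s n ζ₀ := by
  classical
  set Θ := nontrivSet Z with hΘ
  have hoth := fun θ (hθ : θ ∈ Θ) => h.nontriv_other hZ hmu hθ
  have hdev : ∀ θ ∈ Θ, devC W₁ f ζ₀ (indFun (derIn M) θ.1) = 0 := by
    intro θ hθ
    obtain ⟨e, he0, he⟩ := exists_degree_pos θ.2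
    have hn : ∀ η ∈ Θ, 0 ≤ devR W₁ f ζ₀ η.1 * (η.1 1).re := fun η hη => by
      obtain ⟨d, -, hd⟩ := exists_degree_pos η.2
      obtain ⟨x, hx, -, -, hx0, -⟩ := h.other_proj (hoth η hη) (e := d) (by rw [h.degK_ind, hd])
      rw [devR, hx, Complex.intCast_re, hd, Complex.natCast_re]
      exact mul_nonneg (Int.cast_nonneg hx0) (Nat.cast_nonneg d)
    obtain ⟨x, hx, hxr⟩ := h.devR_spec hR θ
    have h0 := (Finset.sum_eq_zero_iff_of_nonneg hn).1 hsum θ hθ
    rw [hxr, he, Complex.natCast_re, mul_eq_zero, or_iff_left (Nat.cast_ne_zero.2 he0.ne')] at h0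
    rw [hx, Int.cast_eq_zero.1 h0, Int.cast_zero]
  set Y := Θ.image (fun θ => indFun (derIn M) θ.1) with hY
  refine h.aZero_of_weight (Y := Y) (fun φ hφ => ?_) ?_
  · obtain ⟨θ, hθ, rfl⟩ := Finset.mem_image.1 hφ
    exact ⟨hoth θ hθ, hdev θ hθ⟩
  have hfs := h.fiber_sum Θ (fun θ hθ => (hoth θ hθ).1) (fun θ hθ η e => nontriv_fiber hθ e)
    (fun φ => (degK W₁ φ).re ^ 2)
  rw [Finset.sum_congr rfl (g := fun θ => (θ.1 1).re ^ 2) (fun θ _ => by rw [h.degK_ind]),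
    hΘ, h.nontriv_sq, nsmul_eq_mul, ← hΘ, ← hY] at hfs
  set q := Nat.card W₁ with hq
  set D := Z.relIndex (derIn M) with hD
  have hK : (⊥ : Subgroup ↥M).relIndex Z * D = Nat.card ↥(derIn M) := by
    rw [hD, Subgroup.relIndex_mul_relIndex _ _ _ bot_le (hZ.trans (derDer_le M)),
      Subgroup.relIndex_bot_left]
  have hz : 2 * q + 1 ≤ (⊥ : Subgroup ↥M).relIndex Z := by
    refine Coherence.big_of_odd_one_mod h.odd_q (h.oddM.of_dvd_nat ((Subgroup.index_dvd_card _).trans Z.card_subgroup_dvd_card)) hdvd ?_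
    rw [Subgroup.relIndex_bot_left]
    exact (Subgroup.one_lt_card_iff_ne_bot Z).2 hZne
  have hq3 := h.three_le_q
  have hD1 : 1 ≤ D := Nat.one_le_iff_ne_zero.2 Subgroup.index_ne_zero_of_finite
  -- `μ_l` is trivial on `Z`, so its degree is at most `√D`
  obtain ⟨l, hl⟩ : ∃ l : rightHat W₁ W₂, l ≠ 1 := by
    haveI : Finite (rightHat W₁ W₂) := Nat.finite_of_card_ne_zero (by
      rw [h.base.factor.card_rightHat]; exact Nat.card_pos.ne')
    haveI : Nontrivial (rightHat W₁ W₂) := Finite.one_lt_card_iff_nontrivial.1 (by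
      rw [h.base.factor.card_rightHat]; exact h.prime₂.one_lt)
    exact exists_ne 1
  obtain ⟨d, hd, hdn, hd5⟩ := h.mu_degree hl
  have hdD : d ^ 2 ≤ D := by
    refine h.deg_sq_le (B := ⊥) bot_le (hZ.trans (derDer_le M))
      (fun x hx y hy => by rw [Subgroup.mem_bot, hZc x hx y hy]; group)
      (h.pmu.res_irr h.base h.oddM l) (fun e => hl (h.mu_res_one e))
      (fun x hx => by rw [show x = 1 from Subtype.ext (Subgroup.mem_bot.1 hx)]) hd
  have hnb : (n : ℤ) + 1 < D := by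
    have h3 : n * 3 ≤ n * (Nat.card W₁ : ℤ) := mul_le_mul_of_nonneg_left (by exact_mod_cast hq3) (by
      linarith [h.two_le])
    have h2 := h.two_le
    have hs : -1 ≤ s := by rcases h.sign with e | e <;> omega
    have h4 : (d : ℤ) * 5 ≤ D := by
      have : d * 5 ≤ D := le_trans (by rw [sq]; exact Nat.mul_le_mul_left d hd5) hdD
      exact_mod_cast this
    omega
  have hnR : (n : ℝ) + 1 < D := by exact_mod_cast hnb
  have hL : 2 * (q : ℝ) * D ≤ (Nat.card ↥(derIn M) : ℝ) - D := by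
    rw [← hK]
    have hz' : 2 * (q : ℝ) + 1 ≤ ((⊥ : Subgroup ↥M).relIndex Z : ℝ) := by exact_mod_cast hz
    push_cast
    nlinarith [mul_le_mul_of_nonneg_right hz' (Nat.cast_nonneg (α := ℝ) D)]
  have hS : 2 * (D : ℝ) ≤ ∑ φ ∈ Y, (degK W₁ φ).re ^ 2 :=
    le_of_mul_le_mul_left (by linarith) (Nat.cast_pos.2 (Nat.card_pos (α := W₁)) : (0 : ℝ) < q)
  rw [famWeight]
  have : (2 : ℝ) ≤ linNum M := by exact_mod_cast h.two_le_linNum
  linarith

end BadCtx

namespace BadCtx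

variable {χ : (↥(W₁ ⊔ W₂) →* ℂˣ) → (G → ℂ)} {μ : (↥(W₁ ⊔ W₂) →* ℂˣ) → (↥M → ℂ)}
  {δ : (↥(W₁ ⊔ W₂) →* ℂˣ) → ℤ} {f : (↥M → ℂ) → (G → ℂ)} {s n : ℤ} {ζ₀ : ↥M → ℂ}
  (h : BadCtx M W₁ W₂ χ μ δ f s n ζ₀)
include h

/-- `q` is prime to the order of `M'`. -/
theorem coprime_derIn (hP : Cfsg.IsTypePWith M W₁ ⊥ W₂) :
    Nat.Coprime (Nat.card W₁) (Nat.card ↥(derIn M)) := by
  have h1 := compl_card hP.W₁_compl
  have h2 : Nat.card W₁ * W₁.relIndex M = Nat.card M := by
    have := Subgroup.relIndex_mul_relIndex (⊥ : Subgroup G) W₁ M bot_le hP.W₁_compl.2.1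
    rwa [Subgroup.relIndex_bot_left, Subgroup.relIndex_bot_left] at this
  have h3 : W₁.relIndex M = Nat.card ↥⁅M, M⁆ := by
    refine Nat.eq_of_mul_eq_mul_left (Nat.card_pos (α := W₁)) ?_
    rw [h2, ← h1, mul_comm]
  rw [h.base.card_derIn, ← h3]
  exact hP.W₁_hall

/-- Each `μ_l` is trivial on a normal central subgroup of `M'` that avoids `W₂`. -/
theorem mu_triv_of_avoid (hP : Cfsg.IsTypePWith M W₁ ⊥ W₂) {Z : Subgroup ↥M} [Z.Normal]
    (hZK : Z ≤ derIn M) (hZc : ∀ z ∈ Z, ∀ k ∈ derIn M, z * k = k * z)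
    (hZW : Z ⊓ W₂.subgroupOf M = ⊥) {l : rightHat W₁ W₂} :
    TrivOn M Z (fun x : derIn M => μ l.1 x) := by
  classical
  obtain ⟨w, hw, hw1⟩ := (Subgroup.bot_or_exists_ne_one W₁).resolve_left hP.W₁_ne
  set v : ↥M := ⟨w, hP.W₁_compl.2.1 hw⟩ with hv
  set T : ↥Z → ↥Z := fun y => ⟨v * y * v⁻¹ * (y : ↥M)⁻¹,
    mul_mem ((inferInstance : Z.Normal).conj_mem _ y.2 v) (inv_mem y.2)⟩ with hT
  have hinj : Function.Injective T := by
    intro a b hab
    have h1 : v * (a : ↥M) * v⁻¹ * (a : ↥M)⁻¹ = v * (b : ↥M) * v⁻¹ * (b : ↥M)⁻¹ :=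
      congrArg Subtype.val hab
    have h2 : v * ((b : ↥M)⁻¹ * a) * v⁻¹ = (b : ↥M)⁻¹ * a := by
      calc v * ((b : ↥M)⁻¹ * a) * v⁻¹
          = (v * (b : ↥M) * v⁻¹)⁻¹ * (v * (a : ↥M) * v⁻¹ * (a : ↥M)⁻¹) * a := by group
        _ = (v * (b : ↥M) * v⁻¹)⁻¹ * (v * (b : ↥M) * v⁻¹ * (b : ↥M)⁻¹) * a := by rw [h1]
        _ = (b : ↥M)⁻¹ * a := by group
    have hmem : (b : ↥M)⁻¹ * a ∈ Z ⊓ W₂.subgroupOf M := by
      refine ⟨Z.mul_mem (Z.inv_mem b.2) a.2, Subgroup.mem_subgroupOf.2 ?_⟩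
      rw [← hP.W₂_centralizer w hw hw1]
      refine ⟨mem_derIn.1 (hZK (mul_mem (inv_mem b.2) a.2)), Subgroup.mem_centralizer_singleton_iff.2 ?_⟩
      exact congrArg Subtype.val (mul_inv_eq_iff_eq_mul.1 h2).symm
    rw [hZW, Subgroup.mem_bot] at hmem
    exact Subtype.ext (inv_mul_eq_one.1 hmem).symm
  intro x hx
  obtain ⟨y, hy⟩ := (Finite.injective_iff_surjective.1 hinj) ⟨x, hx⟩
  have hy' : v * (y : ↥M) * v⁻¹ * (y : ↥M)⁻¹ = (x : ↥M) := congrArg Subtype.val hy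
  set a : derIn M := ⟨v * (y : ↥M) * v⁻¹,
    (inferInstance : (derIn M).Normal).conj_mem _ (hZK y.2) v⟩ with ha
  set b : derIn M := ⟨(y : ↥M)⁻¹, inv_mem (hZK y.2)⟩ with hb
  have hxab : x = a * b := Subtype.ext hy'.symm
  have hθ := h.pmu.res_irr h.base h.oddM l
  have hcen : ∀ c : derIn M, (c : ↥M) ∈ Z → c ∈ Subgroup.center ↥(derIn M) := fun c hc =>
    Subgroup.mem_center_iff.2 fun k => Subtype.ext (hZc _ hc k k.2).symm
  have hcl := isClassFunction_of_isIrr (h.pmu.irr l.1)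
  have e1 := irr_central_mul hθ (hcen a ((inferInstance : Z.Normal).conj_mem _ y.2 v)) b
  have e2 := irr_central_mul hθ (hcen b⁻¹ (by rw [hb]; simp)) b
  have e3 : μ l.1 ((a : derIn M) : ↥M) = μ l.1 (((b⁻¹ : derIn M)) : ↥M) := by
    simp only [ha, hb, InvMemClass.coe_inv, inv_inv]
    exact hcl _ _
  rw [inv_mul_cancel] at e2
  rw [e3, ← e2, ← hxab] at e1
  obtain ⟨d, hd0, hd⟩ := exists_degree_pos hθ
  have hne : μ l.1 ((1 : derIn M) : ↥M) ≠ 0 := by
    rw [hd]; exact Nat.cast_ne_zero.2 hd0.ne'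
  exact mul_right_cancel₀ hne e1

/-- An extension with `a = 0`, when `M'` is a `p`-group and `p < q`. -/
theorem exists_aZero_small (hP : Cfsg.IsTypePWith M W₁ ⊥ W₂) (hlt : Nat.card W₂ < Nat.card W₁)
    (hR : ∀ x ∈ supportA0 M, supportR M x = ⊥)
    (hTI : IsTISubset ((⁅M, M⁆ : Subgroup G) : Set G))
    (hN : Subgroup.normalizer ((⁅M, M⁆ : Subgroup G) : Set G) = M)
    (P : Sylow (Nat.card W₂) G) (hPeq : (P : Subgroup G) = ⁅M, M⁆) {m : ℕ}
    (hm : Nat.card ↥(derIn M) = Nat.card W₂ ^ m) :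
    ∃ f', BadCtx M W₁ W₂ χ μ δ f' s n ζ₀ ∧ AZero M W₁ W₂ μ f' s n ζ₀ := by
  classical
  haveI : Fact (Nat.card W₂).Prime := ⟨h.prime₂⟩
  haveI := TypeV.nilpotent hP
  set K := derIn M with hK
  set Wb := W₂.subgroupOf M with hWbdef
  have hWle : Wb ≤ derDer M := TypeV.W₂_le hP
  have hWcard : Nat.card Wb = Nat.card W₂ := TypeV.card_W₂In hP
  have hWne : Wb ≠ ⊥ := fun e => by
    rw [e, Subgroup.card_bot] at hWcard
    exact h.prime₂.ne_one hWcard.symm
  have hqp : Nat.Coprime (Nat.card W₁) (Nat.card W₂) :=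
    (h.coprime_derIn hP).coprime_dvd_right (TypeV.W₂_dvd hP)
  set Z₀ : Subgroup ↥M := derDer M ⊓ Subgroup.centralizer (K : Set ↥M) with hZ₀
  have hc₀ : ∀ z ∈ Z₀, ∀ k ∈ K, z * k = k * z := fun z hz k hk =>
    (Subgroup.mem_centralizer_iff.1 hz.2 k hk).symm
  haveI hZ₀n : Z₀.Normal := by
    refine ⟨fun z hz g => ⟨(inferInstance : (derDer M).Normal).conj_mem z hz.1 g,
      Subgroup.mem_centralizer_iff.2 fun k hk => ?_⟩⟩
    have hk' : g⁻¹ * k * g ∈ K := by
      simpa using (inferInstance : K.Normal).conj_mem k hk g⁻¹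
    calc k * (g * z * g⁻¹) = g * ((g⁻¹ * k * g) * z) * g⁻¹ := by group
      _ = g * (z * (g⁻¹ * k * g)) * g⁻¹ := by rw [hc₀ z hz _ hk']
      _ = g * z * g⁻¹ * k := by group
  have hZ₀ne : Z₀ ≠ ⊥ := by
    intro e
    have hne : (derDer M).subgroupOf K ≠ ⊥ := fun e0 => hWne (by
      rw [Subgroup.subgroupOf_eq_bot] at e0
      exact le_bot_iff.1 (hWle.trans (disjoint_self.1 (e0.mono_right (derDer_le M))).le))
    obtain ⟨z, hz, hz1⟩ := (Subgroup.bot_or_exists_ne_one _).resolve_left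
      (CfsgLib.Solvable.inf_center_ne_bot hne)
    refine hz1 (Subtype.ext ?_)
    have : (z : ↥M) ∈ Z₀ := ⟨hz.1, Subgroup.mem_centralizer_iff.2 fun k hk =>
      congrArg Subtype.val (Subgroup.mem_center_iff.1 hz.2 ⟨k, hk⟩)⟩
    rwa [e, Subgroup.mem_bot] at this
  have hmap : ∀ z : ↥M, z ∈ K → (z : G) ∈ ⁅M, M⁆ := fun z hz => mem_derIn.1 hz
  by_cases hZW : Z₀ ⊓ Wb = ⊥
  · -- `Z₀` avoids `W₂`
    have hmu : ∀ l : rightHat W₁ W₂, l ≠ 1 → TrivOn M Z₀ (fun x : derIn M => μ l.1 x) := fun l _ =>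
      h.mu_triv_of_avoid hP (inf_le_left.trans (derDer_le M)) hc₀ hZW
    obtain ⟨τ, hτ⟩ := h.dev_prop hR h.prime₂ hqp hm inf_le_left hc₀ hmu
    have hCL : ∀ z ∈ Z₀, z ≠ 1 → M ⊓ Subgroup.centralizer ({(z : G)} : Set G) = ⁅M, M⁆ := by
      intro z hz hz1
      refine le_antisymm ?_ fun x hx => ⟨h.base.derived_le hx, Subgroup.mem_centralizer_singleton_iff.2
        (congrArg Subtype.val (hc₀ z hz ⟨x, h.base.derived_le hx⟩ (mem_derIn.2 hx))).symm⟩
      rintro x ⟨hxM, hxc⟩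
      obtain ⟨a, ha, b, hb, rfl⟩ := hP.W₁_compl.2.2.2 x hxM
      have haz : a * (z : G) = (z : G) * a :=
        (congrArg Subtype.val (hc₀ z hz ⟨a, h.base.derived_le ha⟩ (mem_derIn.2 ha))).symm
      have hxz := Subgroup.mem_centralizer_singleton_iff.1 hxc
      have hbz : b * (z : G) = (z : G) * b := mul_left_cancel (a := a) (by
        rw [← mul_assoc a b, hxz, ← mul_assoc, ← haz, mul_assoc])
      rcases eq_or_ne b 1 with rfl | hb1
      · rwa [mul_one]
      refine absurd ?_ hz1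
      have : z ∈ Z₀ ⊓ Wb := ⟨hz, Subgroup.mem_subgroupOf.2 ((hP.W₂_centralizer b hb hb1).le
        ⟨hmap z (derDer_le M hz.1), Subgroup.mem_centralizer_singleton_iff.2 hbz.symm⟩)⟩
      rwa [hZW, Subgroup.mem_bot] at this
    have hcong := h.congruence_of_const hTI hN P hPeq (inf_le_left.trans (derDer_le M)) hc₀ hZ₀ne
      (fun z hz z' hz' h1 h1' => by rw [hCL z hz h1, hCL z' hz' h1'])
      (h.const_of_prop hR inf_le_left hτ)
    obtain ⟨f', h', hsum⟩ := h.exists_sum_zero hR inf_le_left hc₀ hZ₀ne hcong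
    refine ⟨f', h', h'.aZero_of_avoid hR inf_le_left hc₀ hZ₀ne ?_ hmu hsum⟩
    exact TypeV.section_mod hP ⊥ Z₀ bot_le (inf_le_left.trans (derDer_le M))
      (by rw [inf_comm]; exact hZW.le)
  · -- `W₂` is central in `M`
    have hWZ : Wb ≤ Z₀ := by
      obtain ⟨w, hw, hw1⟩ := (Subgroup.bot_or_exists_ne_one _).resolve_left hZW
      intro x hx
      have := mem_zpowers_of_prime_card (G := Wb) hWcard (g := ⟨w, hw.2⟩) (g' := ⟨x, hx⟩)
        (fun e => hw1 (congrArg Subtype.val e))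
      obtain ⟨i, hi⟩ := this
      have hxi : w ^ i = x := congrArg Subtype.val hi
      exact hxi ▸ Z₀.zpow_mem hw.1 i
    have hcK : ∀ z ∈ Wb, ∀ k ∈ K, z * k = k * z := fun z hz => hc₀ z (hWZ hz)
    have hcM : ∀ z ∈ Wb, ∀ g : ↥M, z * g = g * z := by
      intro z hz g
      obtain ⟨a, ha, b, hb, hab⟩ := hP.W₁_compl.2.2.2 g g.2
      have h1 : (z : G) * a = a * (z : G) :=
        congrArg Subtype.val (hcK z hz ⟨a, h.base.derived_le ha⟩ (mem_derIn.2 ha))
      have h2 : (z : G) * b = b * (z : G) := by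
        rcases eq_or_ne b 1 with rfl | hb1
        · rw [mul_one, one_mul]
        exact Subgroup.mem_centralizer_singleton_iff.1
          ((hP.W₂_centralizer b hb hb1).ge (Subgroup.mem_subgroupOf.1 hz)).2
      refine Subtype.ext ?_
      show (z : G) * (g : G) = (g : G) * (z : G)
      rw [hab, ← mul_assoc, h1, mul_assoc, h2, mul_assoc]
    haveI : Wb.Normal := ⟨fun z hz g => by rw [← hcM z hz g, mul_inv_cancel_right]; exact hz⟩
    have hCL : ∀ z ∈ Wb, M ⊓ Subgroup.centralizer ({(z : G)} : Set G) = M := fun z hz =>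
      inf_eq_left.2 fun g hg => Subgroup.mem_centralizer_singleton_iff.2
        (congrArg Subtype.val (hcM z hz ⟨g, hg⟩)).symm
    have hcong := h.congruence_of_const hTI hN P hPeq (hWle.trans (derDer_le M)) hcK hWne
      (fun z hz z' hz' _ _ => by rw [hCL z hz, hCL z' hz']) (h.const_W₂ hP)
    obtain ⟨f', h', hsum⟩ := h.exists_sum_zero hR hWle hcK hWne hcong
    refine ⟨f', h', ?_⟩
    by_contra hA
    -- some `μ_l` is non-trivial on `W₂`
    obtain ⟨l, hl, -, hlW⟩ := h'.exists_mu_between (X := ⊥) (A := Wb) bot_le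
      (hWle.trans (derDer_le M)) (by rw [Subgroup.relIndex_bot_left, hWcard])
      (TypeV.section_mod hP Wb K (hWle.trans (derDer_le M)) le_rfl inf_le_left)
      (fun hd => by
        have h1 := h.prime₂.two_le
        have := Nat.le_of_dvd (by omega) hd
        omega)
    have hpos : ∀ l : rightHat W₁ W₂, l ≠ 1 →
        0 < devR W₁ f' ζ₀ (fun x : derIn M => μ l.1 x) := by
      intro l hl
      obtain ⟨a, ha, -, ha0, -⟩ := h'.alpha_a hl
      obtain ⟨g, hg, -, hg2⟩ := h'.gamma_g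
      have hane : a ≠ 0 := fun e => hA (h'.aZero_iff hl (by rw [ha, e, Int.cast_zero, zero_sub]))
      rw [devR, h'.devC_mu hl ha hg]
      have hd : 0 < (Nat.card W₁ : ℤ) * a + s * g := by
        have h1 : (Nat.card W₁ : ℤ) * 1 ≤ (Nat.card W₁ : ℤ) * a :=
          mul_le_mul_of_nonneg_left (by omega) (Nat.cast_nonneg _)
        have h3 := h.three_le_q
        rcases h.sign with rfl | rfl
        · cases abs_cases g <;> omega
        · cases abs_cases g <;> omega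
      have : ((Nat.card W₁ : ℂ) * a + (s : ℂ) * g).re = (((Nat.card W₁ : ℤ) * a + s * g : ℤ) : ℝ) := by
        simp
      rw [this]
      exact_mod_cast hd
    have hnn : ∀ θ ∈ nontrivSet Wb, 0 ≤ devR W₁ f' ζ₀ θ.1 * (θ.1 1).re := by
      intro θ hθ
      obtain ⟨d, -, hd⟩ := exists_degree_pos θ.2
      rw [hd, Complex.natCast_re]
      refine mul_nonneg ?_ (Nat.cast_nonneg d)
      obtain ⟨h1, h2, -⟩ := h'.nontriv_facts hWle hθ
      by_cases hμ : ∃ j : rightHat W₁ W₂, θ.1 = fun x : derIn M => μ j.1 x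
      · obtain ⟨j, hj⟩ := hμ
        rw [hj]
        refine (hpos j fun e => h1 ?_).le
        rw [hj, e, rightHat_coe_one, (h.pmu.one h.base h.oddM).1]
      push Not at hμ
      obtain ⟨x, hx, -, -, hx0, -⟩ := h'.other_proj (h'.ind_mem_other θ.2 h1 hμ h2) (e := d)
        (by rw [h'.degK_ind, hd])
      rw [devR, hx, Complex.intCast_re]
      exact Int.cast_nonneg hx0
    have hθ : (⟨fun x : derIn M => μ l.1 x, h.pmu.res_irr h.base h.oddM l⟩ :
        IrrCharacter ↥(derIn M)) ∈ nontrivSet Wb := mem_nontrivSet.2 hlW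
    have h0 := (Finset.sum_eq_zero_iff_of_nonneg hnn).1 hsum _ hθ
    obtain ⟨d, hd0, hd⟩ := exists_degree_pos (h.pmu.res_irr h.base h.oddM l)
    dsimp only at h0 hd
    rw [hd, Complex.natCast_re] at h0
    exact (mul_pos (hpos l hl) (Nat.cast_pos.2 hd0)).ne' h0

end BadCtx

end CfsgLib.OddOrder
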